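import Cfsg.Agent.DCoset.HN.Table

/-! Generated by tools/dcoset/emit.py: upper bounds for the stabilisers. -/

set_option Elab.async false

namespace Cfsg.Agent.DCoset.HNLow

open Cfsg.Agent.DCoset Cfsg.Agent.CosetCert

def cJS : Store := (.leaf 0x1f001c00150013000f000a000800030000)

noncomputable def cJ : Nat → Nat := get16 cJS

def cKS : Store := (.leaf 0x600030003000200030006000300060000)

noncomputable def cK : Nat → Nat := get16 cKS

def cNGS : Store := (.leaf 0x10001000300030003000500000000000000000001000200020000000000000000000100010001000000000000000000000001000100000000000000000001000200030000000100010001000300050006000000000000000000010002000300000001000100010003000400040000000000000000000000000000)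

noncomputable def cNG : Nat → Nat := get16 cNGS

def cGWS_1 : Store := (.node 11 (.node 5 (.node 2 (.node 1 (.leaf 0x0) (.leaf 0x0)) (.node 3 (.leaf 0x0) (.node 4 (.leaf 0x0) (.leaf 0x0)))) (.node 8 (.node 6 (.leaf 0x0) (.node 7 (.leaf 0x0) (.leaf 0x0))) (.node 9 (.leaf 0x0) (.node 10 (.leaf 0x0) (.leaf 0x0))))) (.node 17 (.node 14 (.node 12 (.leaf 0x0) (.node 13 (.leaf 0x0) (.leaf 0x0))) (.node 15 (.leaf 0x0) (.node 16 (.leaf 0x0) (.leaf 0x0)))) (.node 20 (.node 18 (.leaf 0x0) (.node 19 (.leaf 0x0) (.leaf 0x0))) (.node 21 (.leaf 0x0) (.node 22 (.leaf 0x0) (.leaf 0x0))))))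

def cGWS_2 : Store := (.node 35 (.node 29 (.node 26 (.node 24 (.leaf 0x0) (.node 25 (.leaf 0x0) (.leaf 0x0))) (.node 27 (.leaf 0x0) (.node 28 (.leaf 0x0) (.leaf 0x0)))) (.node 32 (.node 30 (.leaf 0x0) (.node 31 (.leaf 0x0) (.leaf 0x0))) (.node 33 (.leaf 0x0) (.node 34 (.leaf 0x0) (.leaf 0x0))))) (.node 41 (.node 38 (.node 36 (.leaf 0x0) (.node 37 (.leaf 0x0) (.leaf 0x0))) (.node 39 (.leaf 0x0) (.node 40 (.leaf 0x0) (.leaf 0x0)))) (.node 44 (.node 42 (.leaf 0x0) (.node 43 (.leaf 0x20201020002000300030003000200020002000300030002000019) (.leaf 0x2020103030002020002000200030300020003000014))) (.node 45 (.leaf 0x202020002000303000300030300020200020002020003000019) (.node 46 (.leaf 0x1020002000300030002020002020002020003030014) (.leaf 0x0))))))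

def cGWS_3 : Store := (.node 23 cGWS_1 cGWS_2)

def cGWS_4 : Store := (.node 58 (.node 52 (.node 49 (.node 48 (.leaf 0x0) (.leaf 0x30002020002020002000200020003000011)) (.node 50 (.leaf 0x3000300020002000202020003000202000012) (.node 51 (.leaf 0x20200020002000200030003030002000011) (.leaf 0x3030002000202020003000300020002000012)))) (.node 55 (.node 53 (.leaf 0x0) (.node 54 (.leaf 0x0) (.leaf 0x10300020200020202000303000200000f))) (.node 56 (.leaf 0x10200020202000303000300020200030010) (.node 57 (.leaf 0x20103030002000202000202020003000010) (.leaf 0x0))))) (.node 64 (.node 61 (.node 59 (.leaf 0x0) (.node 60 (.leaf 0x0) (.leaf 0x20003000300020002000300030002000010))) (.node 62 (.leaf 0x0) (.node 63 (.leaf 0x0) (.leaf 0x0)))) (.node 67 (.node 65 (.leaf 0x0) (.node 66 (.leaf 0x0) (.leaf 0x20003000300020002000300030002000010))) (.node 68 (.leaf 0x0) (.node 69 (.leaf 0x0) (.leaf 0x0))))))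

def cGWS_5 : Store := (.node 82 (.node 76 (.node 73 (.node 71 (.leaf 0x0) (.node 72 (.leaf 0x0) (.leaf 0x20003000300020002000300030002000010))) (.node 74 (.leaf 0x0) (.node 75 (.leaf 0x0) (.leaf 0x0)))) (.node 79 (.node 77 (.leaf 0x0) (.node 78 (.leaf 0x0) (.leaf 0x0))) (.node 80 (.leaf 0x0) (.node 81 (.leaf 0x0) (.leaf 0x0))))) (.node 88 (.node 85 (.node 83 (.leaf 0x0) (.node 84 (.leaf 0x0) (.leaf 0x10303000300030003000200000c))) (.node 86 (.leaf 0x20102000202000202000200030300030300020003030016) (.node 87 (.leaf 0x20201030002020002020003000303000303000300030016) (.leaf 0x0)))) (.node 91 (.node 89 (.leaf 0x0) (.node 90 (.leaf 0x0) (.leaf 0x10303000300030003000200000c))) (.node 92 (.leaf 0x30102000200020202000300030002000f) (.node 93 (.leaf 0x0) (.leaf 0x0))))))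

def cGWS_6 : Store := (.node 70 cGWS_4 cGWS_5)

def cGWS_7 : Store := (.node 47 cGWS_3 cGWS_6)

def cGWS_8 : Store := (.node 105 (.node 99 (.node 96 (.node 95 (.leaf 0x0) (.leaf 0x0)) (.node 97 (.leaf 0x30003000200020003000300020002000010) (.node 98 (.leaf 0x0) (.leaf 0x0)))) (.node 102 (.node 100 (.leaf 0x0) (.node 101 (.leaf 0x0) (.leaf 0x0))) (.node 103 (.leaf 0x0) (.node 104 (.leaf 0x0) (.leaf 0x0))))) (.node 111 (.node 108 (.node 106 (.leaf 0x0) (.node 107 (.leaf 0x0) (.leaf 0x0))) (.node 109 (.leaf 0x0) (.node 110 (.leaf 0x0) (.leaf 0x0)))) (.node 114 (.node 112 (.leaf 0x0) (.node 113 (.leaf 0x0) (.leaf 0x0))) (.node 115 (.leaf 0x0) (.node 116 (.leaf 0x0) (.leaf 0x0))))))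

def cGWS_9 : Store := (.node 129 (.node 123 (.node 120 (.node 118 (.leaf 0x0) (.node 119 (.leaf 0x0) (.leaf 0x0))) (.node 121 (.leaf 0x0) (.node 122 (.leaf 0x0) (.leaf 0x0)))) (.node 126 (.node 124 (.leaf 0x0) (.node 125 (.leaf 0x0) (.leaf 0x0))) (.node 127 (.leaf 0x20003000300020002000300030002000010) (.node 128 (.leaf 0x3030102020200020200020002000202000303000300030017) (.leaf 0x10300020200020202000303000200000f))))) (.node 135 (.node 132 (.node 130 (.leaf 0x30300020002000202000303000200030300030014) (.node 131 (.leaf 0x2010200020200030300030003000303000202020002020017) (.leaf 0x2000202000300020200030300030003000202000014))) (.node 133 (.leaf 0x3000300030003000008) (.node 134 (.leaf 0x301020003030003000303000200000e) (.leaf 0x10300020200020202000303000200000f)))) (.node 138 (.node 136 (.leaf 0x30300020002000202000303000200030300030014) (.node 137 (.leaf 0x2000202000300020200030300030003000202000014)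 (.leaf 0x0))) (.node 139 (.leaf 0x3000300030003000008) (.node 140 (.leaf 0x301020003030003000303000200000e) (.leaf 0x10300020200020202000303000200000f))))))

def cGWS_10 : Store := (.node 117 cGWS_8 cGWS_9)

def cGWS_11 : Store := (.node 153 (.node 147 (.node 144 (.node 142 (.leaf 0x0) (.node 143 (.leaf 0x0) (.leaf 0x0))) (.node 145 (.leaf 0x20003000300020002000300030002000010) (.node 146 (.leaf 0x0) (.leaf 0x0)))) (.node 150 (.node 148 (.leaf 0x0) (.node 149 (.leaf 0x0) (.leaf 0x0))) (.node 151 (.leaf 0x20003000300020002000300030002000010) (.node 152 (.leaf 0x0) (.leaf 0x0))))) (.node 159 (.node 156 (.node 154 (.leaf 0x0) (.node 155 (.leaf 0x0) (.leaf 0x0))) (.node 157 (.leaf 0x20003000300020002000300030002000010) (.node 158 (.leaf 0x0) (.leaf 0x0)))) (.node 162 (.node 160 (.leaf 0x0) (.node 161 (.leaf 0x0) (.leaf 0x0))) (.node 163 (.leaf 0x0) (.node 164 (.leaf 0x0) (.leaf 0x0))))))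

def cGWS_12 : Store := (.node 177 (.node 171 (.node 168 (.node 166 (.leaf 0x0) (.node 167 (.leaf 0x0) (.leaf 0x0))) (.node 169 (.leaf 0x20102000202000202000200030300030300020003030016) (.node 170 (.leaf 0x1030300030002000200030003000200020002000014) (.leaf 0x20201030002020002020003000303000303000300030016)))) (.node 174 (.node 172 (.leaf 0x0) (.node 173 (.leaf 0x0) (.leaf 0x0))) (.node 175 (.leaf 0x30003000200020003000300020002000010) (.node 176 (.leaf 0x1030300030002000200030003000200020002000014) (.leaf 0x0))))) (.node 183 (.node 180 (.node 178 (.leaf 0x0) (.node 179 (.leaf 0x0) (.leaf 0x0))) (.node 181 (.leaf 0x30003000200020003000300020002000010) (.node 182 (.leaf 0x0) (.leaf 0x0)))) (.node 186 (.node 184 (.leaf 0x0) (.node 185 (.leaf 0x0) (.leaf 0x0))) (.node 187 (.leaf 0x0) (.node 188 (.leaf 0x0) (.leaf 0x0))))))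

def cGWS_13 : Store := (.node 165 cGWS_11 cGWS_12)

def cGWS_14 : Store := (.node 141 cGWS_10 cGWS_13)

def cGWS_15 : Store := (.node 94 cGWS_7 cGWS_14)

def cGWS_16 : Store := (.node 200 (.node 194 (.node 191 (.node 190 (.leaf 0x0) (.leaf 0x0)) (.node 192 (.leaf 0x0) (.node 193 (.leaf 0x0) (.leaf 0x0)))) (.node 197 (.node 195 (.leaf 0x0) (.node 196 (.leaf 0x0) (.leaf 0x0))) (.node 198 (.leaf 0x0) (.node 199 (.leaf 0x0) (.leaf 0x0))))) (.node 206 (.node 203 (.node 201 (.leaf 0x0) (.node 202 (.leaf 0x0) (.leaf 0x0))) (.node 204 (.leaf 0x0) (.node 205 (.leaf 0x0) (.leaf 0x0)))) (.node 209 (.node 207 (.leaf 0x0) (.node 208 (.leaf 0x0) (.leaf 0x0))) (.node 210 (.leaf 0x0) (.node 211 (.leaf 0x1020003000300030002020002000202000303000202000017) (.leaf 0x0))))))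

def cGWS_17 : Store := (.node 224 (.node 218 (.node 215 (.node 213 (.leaf 0x0) (.node 214 (.leaf 0x0) (.leaf 0x0))) (.node 216 (.leaf 0x0) (.node 217 (.leaf 0x1020003000300030002020002000202000303000202000017) (.leaf 0x0)))) (.node 221 (.node 219 (.leaf 0x0) (.node 220 (.leaf 0x0) (.leaf 0x0))) (.node 222 (.leaf 0x0) (.node 223 (.leaf 0x0) (.leaf 0x0))))) (.node 230 (.node 227 (.node 225 (.leaf 0x0) (.node 226 (.leaf 0x0) (.leaf 0x0))) (.node 228 (.leaf 0x0) (.node 229 (.leaf 0x0) (.leaf 0x0)))) (.node 233 (.node 231 (.leaf 0x0) (.node 232 (.leaf 0x0) (.leaf 0x0))) (.node 234 (.leaf 0x0) (.node 235 (.leaf 0x0) (.leaf 0x0))))))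

def cGWS_18 : Store := (.node 212 cGWS_16 cGWS_17)

def cGWS_19 : Store := (.node 247 (.node 241 (.node 238 (.node 237 (.leaf 0x0) (.leaf 0x0)) (.node 239 (.leaf 0x0) (.node 240 (.leaf 0x0) (.leaf 0x0)))) (.node 244 (.node 242 (.leaf 0x0) (.node 243 (.leaf 0x0) (.leaf 0x0))) (.node 245 (.leaf 0x0) (.node 246 (.leaf 0x0) (.leaf 0x0))))) (.node 253 (.node 250 (.node 248 (.leaf 0x0) (.node 249 (.leaf 0x0) (.leaf 0x0))) (.node 251 (.leaf 0x0) (.node 252 (.leaf 0x0) (.leaf 0x30003000200020003000300020002000010)))) (.node 256 (.node 254 (.leaf 0x0) (.node 255 (.leaf 0x0) (.leaf 0x0))) (.node 257 (.leaf 0x0) (.node 258 (.leaf 0x0) (.leaf 0x30003000200020003000300020002000010))))))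

def cGWS_20 : Store := (.node 271 (.node 265 (.node 262 (.node 260 (.leaf 0x0) (.node 261 (.leaf 0x0) (.leaf 0x0))) (.node 263 (.leaf 0x0) (.node 264 (.leaf 0x0) (.leaf 0x30003000200020003000300020002000010)))) (.node 268 (.node 266 (.leaf 0x0) (.node 267 (.leaf 0x0) (.leaf 0x0))) (.node 269 (.leaf 0x0) (.node 270 (.leaf 0x0) (.leaf 0x0))))) (.node 277 (.node 274 (.node 272 (.leaf 0x0) (.node 273 (.leaf 0x0) (.leaf 0x0))) (.node 275 (.leaf 0x0) (.node 276 (.leaf 0x0) (.leaf 0x0)))) (.node 280 (.node 278 (.leaf 0x0) (.node 279 (.leaf 0x0) (.leaf 0x0))) (.node 281 (.leaf 0x0) (.node 282 (.leaf 0x0) (.leaf 0x0))))))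

def cGWS_21 : Store := (.node 259 cGWS_19 cGWS_20)

def cGWS_22 : Store := (.node 236 cGWS_18 cGWS_21)

def cGWS_23 : Store := (.node 294 (.node 288 (.node 285 (.node 284 (.leaf 0x0) (.leaf 0x0)) (.node 286 (.leaf 0x0) (.node 287 (.leaf 0x0) (.leaf 0x0)))) (.node 291 (.node 289 (.leaf 0x0) (.node 290 (.leaf 0x0) (.leaf 0x0))) (.node 292 (.leaf 0x0) (.node 293 (.leaf 0x0) (.leaf 0x0))))) (.node 300 (.node 297 (.node 295 (.leaf 0x2000202000303000300030300020003000300030014) (.node 296 (.leaf 0x30003000200020003000300020002000010) (.leaf 0x0))) (.node 298 (.leaf 0x0) (.node 299 (.leaf 0x0) (.leaf 0x0)))) (.node 303 (.node 301 (.leaf 0x30003000200020003000300020002000010) (.node 302 (.leaf 0x2000202000303000300030300020003000300030014) (.leaf 0x0))) (.node 304 (.leaf 0x0) (.node 305 (.leaf 0x0) (.leaf 0x0))))))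

def cGWS_24 : Store := (.node 318 (.node 312 (.node 309 (.node 307 (.leaf 0x30003000200020003000300020002000010) (.node 308 (.leaf 0x0) (.leaf 0x0))) (.node 310 (.leaf 0x0) (.node 311 (.leaf 0x0) (.leaf 0x0)))) (.node 315 (.node 313 (.leaf 0x0) (.node 314 (.leaf 0x0) (.leaf 0x0))) (.node 316 (.leaf 0x0) (.node 317 (.leaf 0x0) (.leaf 0x0))))) (.node 324 (.node 321 (.node 319 (.leaf 0x0) (.node 320 (.leaf 0x0) (.leaf 0x0))) (.node 322 (.leaf 0x0) (.node 323 (.leaf 0x0) (.leaf 0x0)))) (.node 327 (.node 325 (.leaf 0x0) (.node 326 (.leaf 0x0) (.leaf 0x0))) (.node 328 (.leaf 0x0) (.node 329 (.leaf 0x0) (.leaf 0x0))))))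

def cGWS_25 : Store := (.node 306 cGWS_23 cGWS_24)

def cGWS_26 : Store := (.node 342 (.node 336 (.node 333 (.node 331 (.leaf 0x0) (.node 332 (.leaf 0x0) (.leaf 0x0))) (.node 334 (.leaf 0x0) (.node 335 (.leaf 0x0) (.leaf 0x0)))) (.node 339 (.node 337 (.leaf 0x202010300030300020202000300030300020002020002000018) (.node 338 (.leaf 0x3030102020200020202000202020002020200020202000017) (.leaf 0x301030300030002020002000202020002020002000303000018))) (.node 340 (.leaf 0x202000300030300020202000300030300020002020002000018) (.node 341 (.leaf 0x300030300030002020002000202020002020002000303000018) (.leaf 0x0))))) (.node 348 (.node 345 (.node 343 (.leaf 0x20003000300020002000300030002000010) (.node 344 (.leaf 0x20202010202000300020200020002020200020013) (.leaf 0x3030102020200020202000202020002020200020202000017))) (.node 346 (.leaf 0x0) (.node 347 (.leaf 0x0) (.leaf 0x0)))) (.node 351 (.node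 349 (.leaf 0x2000200030300020009) (.node 350 (.leaf 0x20003000300020002000300030002000010) (.leaf 0x300020200030003000009))) (.node 352 (.leaf 0x0) (.node 353 (.leaf 0x0) (.leaf 0x0))))))

def cGWS_27 : Store := (.node 366 (.node 360 (.node 357 (.node 355 (.leaf 0x2000200030300020009) (.node 356 (.leaf 0x20003000300020002000300030002000010) (.leaf 0x300020200030003000009))) (.node 358 (.leaf 0x0) (.node 359 (.leaf 0x0) (.leaf 0x0)))) (.node 363 (.node 361 (.leaf 0x20003000300020002000300030002000010) (.node 362 (.leaf 0x0) (.leaf 0x0))) (.node 364 (.leaf 0x0) (.node 365 (.leaf 0x0) (.leaf 0x0))))) (.node 372 (.node 369 (.node 367 (.leaf 0x20003000300020002000300030002000010) (.node 368 (.leaf 0x0) (.leaf 0x0))) (.node 370 (.leaf 0x0) (.node 371 (.leaf 0x0) (.leaf 0x0)))) (.node 375 (.node 373 (.leaf 0x0) (.node 374 (.leaf 0x0) (.leaf 0x0))) (.node 376 (.leaf 0x0) (.node 377 (.leaf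 0x0) (.leaf 0x0))))))

def cGWS_28 : Store := (.node 354 cGWS_26 cGWS_27)

def cGWS_29 : Store := (.node 330 cGWS_25 cGWS_28)

def cGWS_30 : Store := (.node 283 cGWS_22 cGWS_29)

def cGWS : Store := (.node 189 cGWS_15 cGWS_30)

def cSizeS : Store := (.leaf 0x20001000600010002000400000000000000000002000200010000000000000000000200010001000000000000000000000002000100000000000000000002000200020000000200010001001e0002000200000000000000000002000500020000000200010001001e000600020000000000000000000000000000)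

noncomputable def cSize : Nat → Nat := get16 cSizeS

def cRepS_1 : Store := (.node 14 (.node 7 (.node 3 (.node 1 (.leaf 0x0) (.node 2 (.leaf 0x0) (.leaf 0x0))) (.node 5 (.node 4 (.leaf 0x0) (.leaf 0x0)) (.node 6 (.leaf 0x0) (.leaf 0x0)))) (.node 10 (.node 8 (.leaf 0x0) (.node 9 (.leaf 0x0) (.leaf 0x0))) (.node 12 (.node 11 (.leaf 0x0) (.leaf 0x0)) (.node 13 (.leaf 0x0) (.leaf 0x0))))) (.node 21 (.node 17 (.node 15 (.leaf 0x0) (.node 16 (.leaf 0x0) (.leaf 0x0))) (.node 19 (.node 18 (.leaf 0x0) (.leaf 0x0)) (.node 20 (.leaf 0x0) (.leaf 0x0)))) (.node 25 (.node 23 (.node 22 (.leaf 0x0) (.leaf 0x0)) (.node 24 (.leaf 0x0) (.leaf 0x0))) (.node 27 (.node 26 (.leaf 0x0) (.leaf 0x0)) (.node 28 (.leaf 0x0) (.leaf 0x0))))))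

def cRepS_2 : Store := (.node 44 (.node 36 (.node 32 (.node 30 (.leaf 0x0) (.node 31 (.leaf 0x0) (.leaf 0x0))) (.node 34 (.node 33 (.leaf 0x0) (.leaf 0x0)) (.node 35 (.leaf 0x0) (.leaf 0x0)))) (.node 40 (.node 38 (.node 37 (.leaf 0x0) (.leaf 0x0)) (.node 39 (.leaf 0x0) (.leaf 0x0))) (.node 42 (.node 41 (.leaf 0x0) (.leaf 0x0)) (.node 43 (.leaf 0x0) (.leaf 0x0))))) (.node 51 (.node 47 (.node 45 (.leaf 0x0) (.node 46 (.leaf 0x0) (.leaf 0x0))) (.node 49 (.node 48 (.leaf 0x0) (.leaf 0x0)) (.node 50 (.leaf 0x0) (.leaf 0x0)))) (.node 55 (.node 53 (.node 52 (.leaf 0x0) (.leaf 0x0)) (.node 54 (.leaf 0x0) (.leaf 0x0))) (.node 57 (.node 56 (.leaf 0x0) (.leaf 0x0)) (.node 58 (.leaf 0x0) (.leaf 0x0))))))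

def cRepS_3 : Store := (.node 29 cRepS_1 cRepS_2)

def cRepS_4 : Store := (.node 73 (.node 66 (.node 62 (.node 60 (.leaf 0x0) (.node 61 (.leaf 0x0) (.leaf 0x0))) (.node 64 (.node 63 (.leaf 0x0) (.leaf 0x0)) (.node 65 (.leaf 0x0) (.leaf 0x0)))) (.node 69 (.node 67 (.leaf 0x0) (.node 68 (.leaf 0x0) (.leaf 0x0))) (.node 71 (.node 70 (.leaf 0x0) (.leaf 0x0)) (.node 72 (.leaf 0x0) (.leaf 0x0))))) (.node 80 (.node 76 (.node 74 (.leaf 0x0) (.node 75 (.leaf 0x0) (.leaf 0x0))) (.node 78 (.node 77 (.leaf 0x0) (.leaf 0x0)) (.node 79 (.leaf 0x0) (.leaf 0x0)))) (.node 84 (.node 82 (.node 81 (.leaf 0x0) (.leaf 0x0)) (.node 83 (.leaf 0x0) (.leaf 0x0))) (.node 86 (.node 85 (.leaf 0x0) (.leaf 0x0)) (.node 87 (.leaf 0x0) (.leaf 0x0))))))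

def cRepS_5 : Store := (.node 103 (.node 95 (.node 91 (.node 89 (.leaf 0x0) (.node 90 (.leaf 0x0) (.leaf 0x0))) (.node 93 (.node 92 (.leaf 0x0) (.leaf 0x0)) (.node 94 (.leaf 0x0) (.leaf 0x0)))) (.node 99 (.node 97 (.node 96 (.leaf 0x0) (.leaf 0x0)) (.node 98 (.leaf 0x0) (.leaf 0x0))) (.node 101 (.node 100 (.leaf 0x0) (.leaf 0x0)) (.node 102 (.leaf 0x0) (.leaf 0x0))))) (.node 110 (.node 106 (.node 104 (.leaf 0x0) (.node 105 (.leaf 0x0) (.leaf 0x0))) (.node 108 (.node 107 (.leaf 0x0) (.leaf 0x0)) (.node 109 (.leaf 0x0) (.leaf 0x0)))) (.node 114 (.node 112 (.node 111 (.leaf 0x0) (.leaf 0x0)) (.node 113 (.leaf 0x0) (.leaf 0x0))) (.node 116 (.node 115 (.leaf 0x0) (.leaf 0x0)) (.node 117 (.leaf 0x0) (.leaf 0x0))))))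

def cRepS_6 : Store := (.node 88 cRepS_4 cRepS_5)

def cRepS_7 : Store := (.node 59 cRepS_3 cRepS_6)

def cRepS_8 : Store := (.node 132 (.node 125 (.node 121 (.node 119 (.leaf 0x0) (.node 120 (.leaf 0x0) (.leaf 0x0))) (.node 123 (.node 122 (.leaf 0x0) (.leaf 0x0)) (.node 124 (.leaf 0x0) (.leaf 0x0)))) (.node 128 (.node 126 (.leaf 0x0) (.node 127 (.leaf 0x0) (.leaf 0x0))) (.node 130 (.node 129 (.leaf 0x0) (.leaf 0x0)) (.node 131 (.leaf 0x0) (.leaf 0x0))))) (.node 139 (.node 135 (.node 133 (.leaf 0x0) (.node 134 (.leaf 0x0) (.leaf 0x0))) (.node 137 (.node 136 (.leaf 0x0) (.leaf 0x0)) (.node 138 (.leaf 0x0) (.leaf 0x0)))) (.node 143 (.node 141 (.node 140 (.leaf 0x0) (.leaf 0x0)) (.node 142 (.leaf 0x0) (.leaf 0x0))) (.node 145 (.node 144 (.leaf 0x0) (.leaf 0x0)) (.node 146 (.leaf 0x0) (.leaf 0x0))))))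

def cRepS_9 : Store := (.node 162 (.node 154 (.node 150 (.node 148 (.leaf 0x0) (.node 149 (.leaf 0x0) (.leaf 0x0))) (.node 152 (.node 151 (.leaf 0x0) (.leaf 0x0)) (.node 153 (.leaf 0x0) (.leaf 0x0)))) (.node 158 (.node 156 (.node 155 (.leaf 0x0) (.leaf 0x0)) (.node 157 (.leaf 0x0) (.leaf 0x0))) (.node 160 (.node 159 (.leaf 0x0) (.leaf 0x0)) (.node 161 (.leaf 0x0) (.leaf 0x0))))) (.node 169 (.node 165 (.node 163 (.leaf 0x0) (.node 164 (.leaf 0x0) (.leaf 0x0))) (.node 167 (.node 166 (.leaf 0x0) (.leaf 0x0)) (.node 168 (.leaf 0x0) (.leaf 0x0)))) (.node 173 (.node 171 (.node 170 (.leaf 0x0) (.leaf 0x0)) (.node 172 (.leaf 0x0) (.leaf 0x0))) (.node 175 (.node 174 (.leaf 0x0) (.leaf 0x0)) (.node 176 (.leaf 0x0) (.leaf 0x0))))))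

def cRepS_10 : Store := (.node 147 cRepS_8 cRepS_9)

def cRepS_11 : Store := (.node 191 (.node 184 (.node 180 (.node 178 (.leaf 0x0) (.node 179 (.leaf 0x0) (.leaf 0x0))) (.node 182 (.node 181 (.leaf 0x0) (.leaf 0x0)) (.node 183 (.leaf 0x0) (.leaf 0x0)))) (.node 187 (.node 185 (.leaf 0x0) (.node 186 (.leaf 0x0) (.leaf 0x0))) (.node 189 (.node 188 (.leaf 0x0) (.leaf 0x0)) (.node 190 (.leaf 0x0) (.leaf 0x0))))) (.node 198 (.node 194 (.node 192 (.leaf 0x0) (.node 193 (.leaf 0x0) (.leaf 0x0))) (.node 196 (.node 195 (.leaf 0x0) (.leaf 0x0)) (.node 197 (.leaf 0x0) (.leaf 0x0)))) (.node 202 (.node 200 (.node 199 (.leaf 0x0) (.leaf 0x0)) (.node 201 (.leaf 0x0) (.leaf 0x0))) (.node 204 (.node 203 (.leaf 0x0) (.leaf 0x0)) (.node 205 (.leaf 0x0) (.leaf 0x0))))))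

def cRepS_12 : Store := (.node 221 (.node 213 (.node 209 (.node 207 (.leaf 0x0) (.node 208 (.leaf 0x0) (.leaf 0x0))) (.node 211 (.node 210 (.leaf 0x0) (.leaf 0x0)) (.node 212 (.leaf 0x20201020002000300030003000200020002000300030002000019) (.leaf 0x0)))) (.node 217 (.node 215 (.node 214 (.leaf 0x0) (.leaf 0x0)) (.node 216 (.leaf 0x0) (.leaf 0x0))) (.node 219 (.node 218 (.leaf 0x0) (.leaf 0x0)) (.node 220 (.leaf 0x0) (.leaf 0x0))))) (.node 228 (.node 224 (.node 222 (.leaf 0x0) (.node 223 (.leaf 0x0) (.leaf 0x0))) (.node 226 (.node 225 (.leaf 0x0) (.leaf 0x0)) (.node 227 (.leaf 0x0) (.leaf 0x0)))) (.node 232 (.node 230 (.node 229 (.leaf 0x0) (.leaf 0x0)) (.node 231 (.leaf 0x0) (.leaf 0x0))) (.node 234 (.node 233 (.leaf 0x0) (.leaf 0x0)) (.node 235 (.leaf 0x0) (.leaf 0x0))))))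

def cRepS_13 : Store := (.node 206 cRepS_11 cRepS_12)

def cRepS_14 : Store := (.node 177 cRepS_10 cRepS_13)

def cRepS_15 : Store := (.node 118 cRepS_7 cRepS_14)

def cRepS_16 : Store := (.node 250 (.node 243 (.node 239 (.node 237 (.leaf 0x0) (.node 238 (.leaf 0x0) (.leaf 0x0))) (.node 241 (.node 240 (.leaf 0x0) (.leaf 0x0)) (.node 242 (.leaf 0x30002020002020002000200020003000011) (.leaf 0x3000300020002000202020003000202000012)))) (.node 246 (.node 244 (.leaf 0x3030002000202020003000300020002000012) (.node 245 (.leaf 0x3030002000202000202020003030003000202000015) (.leaf 0x3000300030002020200030300030002000200030014))) (.node 248 (.node 247 (.leaf 0x0) (.leaf 0x0)) (.node 249 (.leaf 0x0) (.leaf 0x0))))) (.node 257 (.node 253 (.node 251 (.leaf 0x0) (.node 252 (.leaf 0x0) (.leaf 0x0))) (.node 255 (.node 254 (.leaf 0x0) (.leaf 0x0)) (.node 256 (.leaf 0x0) (.leaf 0x0)))) (.node 261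 (.node 259 (.node 258 (.leaf 0x0) (.leaf 0x0)) (.node 260 (.leaf 0x0) (.leaf 0x0))) (.node 263 (.node 262 (.leaf 0x0) (.leaf 0x0)) (.node 264 (.leaf 0x0) (.leaf 0x0))))))

def cRepS_17 : Store := (.node 280 (.node 272 (.node 268 (.node 266 (.leaf 0x0) (.node 267 (.leaf 0x0) (.leaf 0x0))) (.node 270 (.node 269 (.leaf 0x0) (.leaf 0x0)) (.node 271 (.leaf 0x0) (.leaf 0x10300020200020202000303000200000f)))) (.node 276 (.node 274 (.node 273 (.leaf 0x10200020202000303000300020200030010) (.leaf 0x20103030002000202000202020003000010)) (.node 275 (.leaf 0x303010202000300030300020202000200020012) (.leaf 0x300030003030003000200020003000300020012))) (.node 278 (.node 277 (.leaf 0x300020002000300030002000202000200020012) (.leaf 0x3000200030300030300030002000200030300020014)) (.node 279 (.leaf 0x301030002020200020200020003030002020012) (.leaf 0x3000202000300030002000202000202000300020014))))) (.node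 287 (.node 283 (.node 281 (.leaf 0x2010202000300030300030002020002020011) (.node 282 (.leaf 0x2000200020202000300030300020200020002000014) (.leaf 0x10200030300020200020003030002020010))) (.node 285 (.node 284 (.leaf 0x300030002020003000009) (.leaf 0x3030002000303000300020002020002000202000014)) (.node 286 (.leaf 0x30301020200030003030002020003000010) (.leaf 0x3030102020002020200030003030002000011)))) (.node 291 (.node 289 (.node 288 (.leaf 0x2000303000200020009) (.leaf 0x3030103030002000202000200030300030011)) (.node 290 (.leaf 0x10200020200030002000200030003030002020003000016) (.leaf 0x3000200020200020202000303000200030003000014))) (.node 293 (.node 292 (.leaf 0x10200030300020200020003030002000300030003000016) (.leaf 0x3000202000200020200030300030003000012)) (.node 294 (.leaf 0x3000303000200030003000202020002020002000014) (.leaf 0x30103000300030300030002020003000f))))))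

def cRepS_18 : Store := (.node 265 cRepS_16 cRepS_17)

def cRepS_19 : Store := (.node 309 (.node 302 (.node 298 (.node 296 (.leaf 0x303000300030300030300030003000303000013) (.node 297 (.leaf 0x3000202000202000200030003000202000012) (.leaf 0x20103030002000202000200020002000f))) (.node 300 (.node 299 (.leaf 0x202000200020002020002020002000202000013) (.leaf 0x30003000200020003000300020002000010)) (.node 301 (.leaf 0x0) (.leaf 0x0)))) (.node 305 (.node 303 (.leaf 0x0) (.node 304 (.leaf 0x0) (.leaf 0x0))) (.node 307 (.node 306 (.leaf 0x0) (.leaf 0x0)) (.node 308 (.leaf 0x0) (.leaf 0x0))))) (.node 316 (.node 312 (.node 310 (.leaf 0x0) (.node 311 (.leaf 0x0) (.leaf 0x0))) (.node 314 (.node 313 (.leaf 0x0) (.leaf 0x0)) (.node 315 (.leaf 0x0) (.leaf 0x0)))) (.node 320 (.node 318 (.node 317 (.leaf 0x0) (.leaf 0x0)) (.node 319 (.leaf 0x0) (.leaf 0x0))) (.node 322 (.node 321 (.leaf 0x0) (.leaf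 0x0)) (.node 323 (.leaf 0x0) (.leaf 0x0))))))

def cRepS_20 : Store := (.node 339 (.node 331 (.node 327 (.node 325 (.leaf 0x0) (.node 326 (.leaf 0x0) (.leaf 0x0))) (.node 329 (.node 328 (.leaf 0x0) (.leaf 0x0)) (.node 330 (.leaf 0x0) (.leaf 0x0)))) (.node 335 (.node 333 (.node 332 (.leaf 0x0) (.leaf 0x0)) (.node 334 (.leaf 0x0) (.leaf 0x0))) (.node 337 (.node 336 (.leaf 0x0) (.leaf 0x0)) (.node 338 (.leaf 0x0) (.leaf 0x0))))) (.node 346 (.node 342 (.node 340 (.leaf 0x0) (.node 341 (.leaf 0x0) (.leaf 0x0))) (.node 344 (.node 343 (.leaf 0x0) (.leaf 0x0)) (.node 345 (.leaf 0x0) (.leaf 0x0)))) (.node 350 (.node 348 (.node 347 (.leaf 0x0) (.leaf 0x0)) (.node 349 (.leaf 0x0) (.leaf 0x0))) (.node 352 (.node 351 (.leaf 0x0) (.leaf 0x0)) (.node 353 (.leaf 0x0) (.leaf 0x0))))))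

def cRepS_21 : Store := (.node 324 cRepS_19 cRepS_20)

def cRepS_22 : Store := (.node 295 cRepS_18 cRepS_21)

def cRepS_23 : Store := (.node 368 (.node 361 (.node 357 (.node 355 (.leaf 0x0) (.node 356 (.leaf 0x0) (.leaf 0x0))) (.node 359 (.node 358 (.leaf 0x0) (.leaf 0x0)) (.node 360 (.leaf 0x0) (.leaf 0x0)))) (.node 364 (.node 362 (.leaf 0x20003000300020002000300030002000010) (.node 363 (.leaf 0x0) (.leaf 0x0))) (.node 366 (.node 365 (.leaf 0x0) (.leaf 0x0)) (.node 367 (.leaf 0x0) (.leaf 0x0))))) (.node 375 (.node 371 (.node 369 (.leaf 0x0) (.node 370 (.leaf 0x0) (.leaf 0x0))) (.node 373 (.node 372 (.leaf 0x0) (.leaf 0x0)) (.node 374 (.leaf 0x0) (.leaf 0x0)))) (.node 379 (.node 377 (.node 376 (.leaf 0x0) (.leaf 0x0)) (.node 378 (.leaf 0x0) (.leaf 0x0))) (.node 381 (.node 380 (.leaf 0x0) (.leaf 0x0)) (.node 382 (.leaf 0x0) (.leaf 0x0))))))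

def cRepS_24 : Store := (.node 398 (.node 390 (.node 386 (.node 384 (.leaf 0x0) (.node 385 (.leaf 0x0) (.leaf 0x0))) (.node 388 (.node 387 (.leaf 0x0) (.leaf 0x0)) (.node 389 (.leaf 0x0) (.leaf 0x0)))) (.node 394 (.node 392 (.node 391 (.leaf 0x0) (.leaf 0x0)) (.node 393 (.leaf 0x0) (.leaf 0x0))) (.node 396 (.node 395 (.leaf 0x0) (.leaf 0x0)) (.node 397 (.leaf 0x0) (.leaf 0x0))))) (.node 405 (.node 401 (.node 399 (.leaf 0x0) (.node 400 (.leaf 0x0) (.leaf 0x0))) (.node 403 (.node 402 (.leaf 0x0) (.leaf 0x0)) (.node 404 (.leaf 0x0) (.leaf 0x0)))) (.node 409 (.node 407 (.node 406 (.leaf 0x0) (.leaf 0x0)) (.node 408 (.leaf 0x0) (.leaf 0x0))) (.node 411 (.node 410 (.leaf 0x0) (.leaf 0x0)) (.node 412 (.leaf 0x0) (.leaf 0x0))))))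

def cRepS_25 : Store := (.node 383 cRepS_23 cRepS_24)

def cRepS_26 : Store := (.node 427 (.node 420 (.node 416 (.node 414 (.leaf 0x0) (.node 415 (.leaf 0x0) (.leaf 0x0))) (.node 418 (.node 417 (.leaf 0x0) (.leaf 0x0)) (.node 419 (.leaf 0x0) (.leaf 0x0)))) (.node 423 (.node 421 (.leaf 0x0) (.node 422 (.leaf 0x20102000202000202000200030300030300020003030016) (.leaf 0x0))) (.node 425 (.node 424 (.leaf 0x0) (.leaf 0x0)) (.node 426 (.leaf 0x0) (.leaf 0x0))))) (.node 434 (.node 430 (.node 428 (.leaf 0x0) (.node 429 (.leaf 0x0) (.leaf 0x0))) (.node 432 (.node 431 (.leaf 0x0) (.leaf 0x0)) (.node 433 (.leaf 0x0) (.leaf 0x0)))) (.node 438 (.node 436 (.node 435 (.leaf 0x0) (.leaf 0x0)) (.node 437 (.leaf 0x0) (.leaf 0x0))) (.node 440 (.node 439 (.leaf 0x0) (.leaf 0x0)) (.node 441 (.leaf 0x0) (.leaf 0x0))))))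

def cRepS_27 : Store := (.node 457 (.node 449 (.node 445 (.node 443 (.leaf 0x0) (.node 444 (.leaf 0x0) (.leaf 0x0))) (.node 447 (.node 446 (.leaf 0x0) (.leaf 0x0)) (.node 448 (.leaf 0x0) (.leaf 0x0)))) (.node 453 (.node 451 (.node 450 (.leaf 0x0) (.leaf 0x0)) (.node 452 (.leaf 0x10303000300030003000200000c) (.leaf 0x30102000200020202000300030002000f))) (.node 455 (.node 454 (.leaf 0x301030002020003000303000202020002020012) (.leaf 0x30301020002020002020200030300030002020013)) (.node 456 (.leaf 0x0) (.leaf 0x0))))) (.node 464 (.node 460 (.node 458 (.leaf 0x0) (.node 459 (.leaf 0x0) (.leaf 0x0))) (.node 462 (.node 461 (.leaf 0x0) (.leaf 0x0)) (.node 463 (.leaf 0x0) (.leaf 0x0)))) (.node 468 (.node 466 (.node 465 (.leaf 0x0) (.leaf 0x0)) (.node 467 (.leaf 0x0) (.leaf 0x0))) (.node 470 (.node 469 (.leaf 0x0) (.leaf 0x0)) (.node 471 (.leaf 0x0) (.leaf 0x0))))))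

def cRepS_28 : Store := (.node 442 cRepS_26 cRepS_27)

def cRepS_29 : Store := (.node 413 cRepS_25 cRepS_28)

def cRepS_30 : Store := (.node 354 cRepS_22 cRepS_29)

def cRepS_31 : Store := (.node 236 cRepS_15 cRepS_30)

def cRepS_32 : Store := (.node 486 (.node 479 (.node 475 (.node 473 (.leaf 0x0) (.node 474 (.leaf 0x0) (.leaf 0x0))) (.node 477 (.node 476 (.leaf 0x0) (.leaf 0x0)) (.node 478 (.leaf 0x0) (.leaf 0x0)))) (.node 482 (.node 480 (.leaf 0x0) (.node 481 (.leaf 0x0) (.leaf 0x30003000200020003000300020002000010))) (.node 484 (.node 483 (.leaf 0x0) (.leaf 0x0)) (.node 485 (.leaf 0x0) (.leaf 0x0))))) (.node 493 (.node 489 (.node 487 (.leaf 0x0) (.node 488 (.leaf 0x0) (.leaf 0x0))) (.node 491 (.node 490 (.leaf 0x0) (.leaf 0x0)) (.node 492 (.leaf 0x0) (.leaf 0x0)))) (.node 497 (.node 495 (.node 494 (.leaf 0x0) (.leaf 0x0)) (.node 496 (.leaf 0x0) (.leaf 0x0))) (.node 499 (.node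 498 (.leaf 0x0) (.leaf 0x0)) (.node 500 (.leaf 0x0) (.leaf 0x0))))))

def cRepS_33 : Store := (.node 516 (.node 508 (.node 504 (.node 502 (.leaf 0x0) (.node 503 (.leaf 0x0) (.leaf 0x0))) (.node 506 (.node 505 (.leaf 0x0) (.leaf 0x0)) (.node 507 (.leaf 0x0) (.leaf 0x0)))) (.node 512 (.node 510 (.node 509 (.leaf 0x0) (.leaf 0x0)) (.node 511 (.leaf 0x0) (.leaf 0x0))) (.node 514 (.node 513 (.leaf 0x0) (.leaf 0x0)) (.node 515 (.leaf 0x0) (.leaf 0x0))))) (.node 523 (.node 519 (.node 517 (.leaf 0x0) (.node 518 (.leaf 0x0) (.leaf 0x0))) (.node 521 (.node 520 (.leaf 0x0) (.leaf 0x0)) (.node 522 (.leaf 0x0) (.leaf 0x0)))) (.node 527 (.node 525 (.node 524 (.leaf 0x0) (.leaf 0x0)) (.node 526 (.leaf 0x0) (.leaf 0x0))) (.node 529 (.node 528 (.leaf 0x0) (.leaf 0x0)) (.node 530 (.leaf 0x0) (.leaf 0x0))))))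

def cRepS_34 : Store := (.node 501 cRepS_32 cRepS_33)

def cRepS_35 : Store := (.node 545 (.node 538 (.node 534 (.node 532 (.leaf 0x0) (.node 533 (.leaf 0x0) (.leaf 0x0))) (.node 536 (.node 535 (.leaf 0x0) (.leaf 0x0)) (.node 537 (.leaf 0x0) (.leaf 0x0)))) (.node 541 (.node 539 (.leaf 0x0) (.node 540 (.leaf 0x0) (.leaf 0x0))) (.node 543 (.node 542 (.leaf 0x0) (.leaf 0x0)) (.node 544 (.leaf 0x0) (.leaf 0x0))))) (.node 552 (.node 548 (.node 546 (.leaf 0x0) (.node 547 (.leaf 0x0) (.leaf 0x0))) (.node 550 (.node 549 (.leaf 0x0) (.leaf 0x0)) (.node 551 (.leaf 0x0) (.leaf 0x0)))) (.node 556 (.node 554 (.node 553 (.leaf 0x0) (.leaf 0x0)) (.node 555 (.leaf 0x0) (.leaf 0x0))) (.node 558 (.node 557 (.leaf 0x0) (.leaf 0x0)) (.node 559 (.leaf 0x0) (.leaf 0x0))))))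

def cRepS_36 : Store := (.node 575 (.node 567 (.node 563 (.node 561 (.leaf 0x0) (.node 562 (.leaf 0x0) (.leaf 0x0))) (.node 565 (.node 564 (.leaf 0x0) (.leaf 0x0)) (.node 566 (.leaf 0x0) (.leaf 0x0)))) (.node 571 (.node 569 (.node 568 (.leaf 0x0) (.leaf 0x0)) (.node 570 (.leaf 0x0) (.leaf 0x0))) (.node 573 (.node 572 (.leaf 0x0) (.leaf 0x0)) (.node 574 (.leaf 0x0) (.leaf 0x0))))) (.node 582 (.node 578 (.node 576 (.leaf 0x0) (.node 577 (.leaf 0x0) (.leaf 0x0))) (.node 580 (.node 579 (.leaf 0x0) (.leaf 0x0)) (.node 581 (.leaf 0x0) (.leaf 0x0)))) (.node 586 (.node 584 (.node 583 (.leaf 0x0) (.leaf 0x0)) (.node 585 (.leaf 0x0) (.leaf 0x0))) (.node 588 (.node 587 (.leaf 0x0) (.leaf 0x0)) (.node 589 (.leaf 0x0) (.leaf 0x0))))))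

def cRepS_37 : Store := (.node 560 cRepS_35 cRepS_36)

def cRepS_38 : Store := (.node 531 cRepS_34 cRepS_37)

def cRepS_39 : Store := (.node 604 (.node 597 (.node 593 (.node 591 (.leaf 0x0) (.node 592 (.leaf 0x0) (.leaf 0x0))) (.node 595 (.node 594 (.leaf 0x0) (.leaf 0x0)) (.node 596 (.leaf 0x0) (.leaf 0x0)))) (.node 600 (.node 598 (.leaf 0x0) (.node 599 (.leaf 0x0) (.leaf 0x0))) (.node 602 (.node 601 (.leaf 0x0) (.leaf 0x0)) (.node 603 (.leaf 0x0) (.leaf 0x0))))) (.node 611 (.node 607 (.node 605 (.leaf 0x0) (.node 606 (.leaf 0x0) (.leaf 0x0))) (.node 609 (.node 608 (.leaf 0x0) (.leaf 0x0)) (.node 610 (.leaf 0x0) (.leaf 0x0)))) (.node 615 (.node 613 (.node 612 (.leaf 0x0) (.leaf 0x0)) (.node 614 (.leaf 0x0) (.leaf 0x0))) (.node 617 (.node 616 (.leaf 0x0) (.leaf 0x0)) (.node 618 (.leaf 0x0) (.leaf 0x0))))))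

def cRepS_40 : Store := (.node 634 (.node 626 (.node 622 (.node 620 (.leaf 0x0) (.node 621 (.leaf 0x0) (.leaf 0x0))) (.node 624 (.node 623 (.leaf 0x0) (.leaf 0x0)) (.node 625 (.leaf 0x0) (.leaf 0x0)))) (.node 630 (.node 628 (.node 627 (.leaf 0x0) (.leaf 0x0)) (.node 629 (.leaf 0x0) (.leaf 0x0))) (.node 632 (.node 631 (.leaf 0x0) (.leaf 0x3030102020200020200020002000202000303000300030017)) (.node 633 (.leaf 0x0) (.leaf 0x0))))) (.node 641 (.node 637 (.node 635 (.leaf 0x0) (.node 636 (.leaf 0x0) (.leaf 0x0))) (.node 639 (.node 638 (.leaf 0x0) (.leaf 0x0)) (.node 640 (.leaf 0x0) (.leaf 0x0)))) (.node 645 (.node 643 (.node 642 (.leaf 0x0) (.leaf 0x0)) (.node 644 (.leaf 0x0) (.leaf 0x0))) (.node 647 (.node 646 (.leaf 0x0) (.leaf 0x0)) (.node 648 (.leaf 0x0) (.leaf 0x0))))))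

def cRepS_41 : Store := (.node 619 cRepS_39 cRepS_40)

def cRepS_42 : Store := (.node 663 (.node 656 (.node 652 (.node 650 (.leaf 0x0) (.node 651 (.leaf 0x0) (.leaf 0x0))) (.node 654 (.node 653 (.leaf 0x0) (.leaf 0x0)) (.node 655 (.leaf 0x0) (.leaf 0x0)))) (.node 659 (.node 657 (.leaf 0x0) (.node 658 (.leaf 0x0) (.leaf 0x0))) (.node 661 (.node 660 (.leaf 0x0) (.leaf 0x0)) (.node 662 (.leaf 0x30300020002000202000303000200030300030014) (.leaf 0x0))))) (.node 670 (.node 666 (.node 664 (.leaf 0x0) (.node 665 (.leaf 0x0) (.leaf 0x0))) (.node 668 (.node 667 (.leaf 0x0) (.leaf 0x0)) (.node 669 (.leaf 0x0) (.leaf 0x0)))) (.node 674 (.node 672 (.node 671 (.leaf 0x0) (.leaf 0x0)) (.node 673 (.leaf 0x0) (.leaf 0x0))) (.node 676 (.node 675 (.leaf 0x0) (.leaf 0x0)) (.node 677 (.leaf 0x0) (.leaf 0x0))))))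

def cRepS_43 : Store := (.node 693 (.node 685 (.node 681 (.node 679 (.leaf 0x0) (.node 680 (.leaf 0x0) (.leaf 0x0))) (.node 683 (.node 682 (.leaf 0x0) (.leaf 0x0)) (.node 684 (.leaf 0x0) (.leaf 0x0)))) (.node 689 (.node 687 (.node 686 (.leaf 0x0) (.leaf 0x0)) (.node 688 (.leaf 0x0) (.leaf 0x0))) (.node 691 (.node 690 (.leaf 0x0) (.leaf 0x0)) (.node 692 (.leaf 0x3000300030003000008) (.leaf 0x301020003030003000303000200000e))))) (.node 700 (.node 696 (.node 694 (.leaf 0x10300020200020202000303000200000f) (.node 695 (.leaf 0x3000202000200020200030300030003000012) (.leaf 0x3000300020002020002020200030300020003000014))) (.node 698 (.node 697 (.leaf 0x2000200020200030300030003030002000012) (.leaf 0x200030300020002000009)) (.node 699 (.leaf 0x3000303000200030003000202020002020002000014) (.leaf 0x3000300020200030009)))) (.node 704 (.node 702 (.node 701 (.leaf 0x2000303000200020200030300020200020003030002020017)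 (.leaf 0x20103030002000202000200020002000f)) (.node 703 (.leaf 0x200030003030002020200020200020003000013) (.leaf 0x30301020200030003030003000300000f))) (.node 706 (.node 705 (.leaf 0x30103000202000303000300020200030010) (.leaf 0x10200020002020002000303000202000f)) (.node 707 (.leaf 0x3030102020002020200030003030002000011) (.leaf 0x20103030002020002000303000202000010))))))

def cRepS_44 : Store := (.node 678 cRepS_42 cRepS_43)

def cRepS_45 : Store := (.node 649 cRepS_41 cRepS_44)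

def cRepS_46 : Store := (.node 590 cRepS_38 cRepS_45)

def cRepS_47 : Store := (.node 722 (.node 715 (.node 711 (.node 709 (.leaf 0x30103000300030300030002020003000f) (.node 710 (.leaf 0x3030103030002000202000200030300030011) (.leaf 0x3000200020200020202000303000200030003000014))) (.node 713 (.node 712 (.leaf 0x20103030002000202000202020003000010) (.leaf 0x2010202000300030300030002020002020011)) (.node 714 (.leaf 0x10200020202000303000300020200030010) (.leaf 0x10200030300020200020003030002000300030003000016)))) (.node 718 (.node 716 (.leaf 0x3010300030300030002000200030003030002020003000017) (.node 717 (.leaf 0x303000202000303000300030003030002000013) (.leaf 0x300030002000202000202020003030003000200020015))) (.node 720 (.node 719 (.leaf 0x30002020003030002000300030003030002000013) (.leaf 0x303010202000300030300020202000200020012)) (.node 721 (.leaf 0x0) (.leaf 0x0))))) (.node 729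 (.node 725 (.node 723 (.leaf 0x0) (.node 724 (.leaf 0x0) (.leaf 0x0))) (.node 727 (.node 726 (.leaf 0x0) (.leaf 0x0)) (.node 728 (.leaf 0x0) (.leaf 0x0)))) (.node 733 (.node 731 (.node 730 (.leaf 0x0) (.leaf 0x0)) (.node 732 (.leaf 0x0) (.leaf 0x0))) (.node 735 (.node 734 (.leaf 0x0) (.leaf 0x0)) (.node 736 (.leaf 0x0) (.leaf 0x0))))))

def cRepS_48 : Store := (.node 752 (.node 744 (.node 740 (.node 738 (.leaf 0x0) (.node 739 (.leaf 0x0) (.leaf 0x0))) (.node 742 (.node 741 (.leaf 0x0) (.leaf 0x0)) (.node 743 (.leaf 0x0) (.leaf 0x0)))) (.node 748 (.node 746 (.node 745 (.leaf 0x0) (.leaf 0x0)) (.node 747 (.leaf 0x0) (.leaf 0x0))) (.node 750 (.node 749 (.leaf 0x0) (.leaf 0x0)) (.node 751 (.leaf 0x0) (.leaf 0x0))))) (.node 759 (.node 755 (.node 753 (.leaf 0x0) (.node 754 (.leaf 0x0) (.leaf 0x0))) (.node 757 (.node 756 (.leaf 0x0) (.leaf 0x0)) (.node 758 (.leaf 0x0) (.leaf 0x0)))) (.node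 763 (.node 761 (.node 760 (.leaf 0x0) (.leaf 0x0)) (.node 762 (.leaf 0x0) (.leaf 0x0))) (.node 765 (.node 764 (.leaf 0x0) (.leaf 0x0)) (.node 766 (.leaf 0x0) (.leaf 0x0))))))

def cRepS_49 : Store := (.node 737 cRepS_47 cRepS_48)

def cRepS_50 : Store := (.node 781 (.node 774 (.node 770 (.node 768 (.leaf 0x0) (.node 769 (.leaf 0x0) (.leaf 0x0))) (.node 772 (.node 771 (.leaf 0x0) (.leaf 0x0)) (.node 773 (.leaf 0x0) (.leaf 0x0)))) (.node 777 (.node 775 (.leaf 0x0) (.node 776 (.leaf 0x0) (.leaf 0x0))) (.node 779 (.node 778 (.leaf 0x0) (.leaf 0x0)) (.node 780 (.leaf 0x0) (.leaf 0x0))))) (.node 788 (.node 784 (.node 782 (.leaf 0x20003000300020002000300030002000010) (.node 783 (.leaf 0x0) (.leaf 0x0))) (.node 786 (.node 785 (.leaf 0x0) (.leaf 0x0)) (.node 787 (.leaf 0x0) (.leaf 0x0)))) (.node 792 (.node 790 (.node 789 (.leaf 0x0) (.leaf 0x0)) (.node 791 (.leaf 0x0) (.leaf 0x0))) (.node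 794 (.node 793 (.leaf 0x0) (.leaf 0x0)) (.node 795 (.leaf 0x0) (.leaf 0x0))))))

def cRepS_51 : Store := (.node 811 (.node 803 (.node 799 (.node 797 (.leaf 0x0) (.node 798 (.leaf 0x0) (.leaf 0x0))) (.node 801 (.node 800 (.leaf 0x0) (.leaf 0x0)) (.node 802 (.leaf 0x0) (.leaf 0x0)))) (.node 807 (.node 805 (.node 804 (.leaf 0x0) (.leaf 0x0)) (.node 806 (.leaf 0x0) (.leaf 0x0))) (.node 809 (.node 808 (.leaf 0x0) (.leaf 0x0)) (.node 810 (.leaf 0x0) (.leaf 0x0))))) (.node 818 (.node 814 (.node 812 (.leaf 0x0) (.node 813 (.leaf 0x0) (.leaf 0x0))) (.node 816 (.node 815 (.leaf 0x0) (.leaf 0x0)) (.node 817 (.leaf 0x0) (.leaf 0x0)))) (.node 822 (.node 820 (.node 819 (.leaf 0x0) (.leaf 0x0)) (.node 821 (.leaf 0x0) (.leaf 0x0))) (.node 824 (.node 823 (.leaf 0x0) (.leaf 0x0)) (.node 825 (.leaf 0x0) (.leaf 0x0))))))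

def cRepS_52 : Store := (.node 796 cRepS_50 cRepS_51)

def cRepS_53 : Store := (.node 767 cRepS_49 cRepS_52)

def cRepS_54 : Store := (.node 840 (.node 833 (.node 829 (.node 827 (.leaf 0x0) (.node 828 (.leaf 0x0) (.leaf 0x0))) (.node 831 (.node 830 (.leaf 0x0) (.leaf 0x0)) (.node 832 (.leaf 0x0) (.leaf 0x0)))) (.node 836 (.node 834 (.leaf 0x0) (.node 835 (.leaf 0x0) (.leaf 0x0))) (.node 838 (.node 837 (.leaf 0x0) (.leaf 0x0)) (.node 839 (.leaf 0x0) (.leaf 0x0))))) (.node 847 (.node 843 (.node 841 (.leaf 0x0) (.node 842 (.leaf 0x20102000202000202000200030300030300020003030016) (.leaf 0x0))) (.node 845 (.node 844 (.leaf 0x0) (.leaf 0x0)) (.node 846 (.leaf 0x0) (.leaf 0x0)))) (.node 851 (.node 849 (.node 848 (.leaf 0x0) (.leaf 0x0)) (.node 850 (.leaf 0x0) (.leaf 0x0))) (.node 853 (.node 852 (.leaf 0x0) (.leaf 0x0)) (.node 854 (.leaf 0x0) (.leaf 0x0))))))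

def cRepS_55 : Store := (.node 870 (.node 862 (.node 858 (.node 856 (.leaf 0x0) (.node 857 (.leaf 0x0) (.leaf 0x0))) (.node 860 (.node 859 (.leaf 0x0) (.leaf 0x0)) (.node 861 (.leaf 0x0) (.leaf 0x0)))) (.node 866 (.node 864 (.node 863 (.leaf 0x0) (.leaf 0x0)) (.node 865 (.leaf 0x0) (.leaf 0x0))) (.node 868 (.node 867 (.leaf 0x0) (.leaf 0x0)) (.node 869 (.leaf 0x0) (.leaf 0x0))))) (.node 877 (.node 873 (.node 871 (.leaf 0x0) (.node 872 (.leaf 0x1030300030002000200030003000200020002000014) (.leaf 0x0))) (.node 875 (.node 874 (.leaf 0x0) (.leaf 0x0)) (.node 876 (.leaf 0x0) (.leaf 0x0)))) (.node 881 (.node 879 (.node 878 (.leaf 0x0) (.leaf 0x0)) (.node 880 (.leaf 0x0) (.leaf 0x0))) (.node 883 (.node 882 (.leaf 0x0) (.leaf 0x0)) (.node 884 (.leaf 0x0) (.leaf 0x0))))))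

def cRepS_56 : Store := (.node 855 cRepS_54 cRepS_55)

def cRepS_57 : Store := (.node 900 (.node 892 (.node 888 (.node 886 (.leaf 0x0) (.node 887 (.leaf 0x0) (.leaf 0x0))) (.node 890 (.node 889 (.leaf 0x0) (.leaf 0x0)) (.node 891 (.leaf 0x0) (.leaf 0x0)))) (.node 896 (.node 894 (.node 893 (.leaf 0x0) (.leaf 0x0)) (.node 895 (.leaf 0x0) (.leaf 0x0))) (.node 898 (.node 897 (.leaf 0x0) (.leaf 0x0)) (.node 899 (.leaf 0x0) (.leaf 0x0))))) (.node 907 (.node 903 (.node 901 (.leaf 0x0) (.node 902 (.leaf 0x30003000200020003000300020002000010) (.leaf 0x0))) (.node 905 (.node 904 (.leaf 0x0) (.leaf 0x0)) (.node 906 (.leaf 0x0) (.leaf 0x0)))) (.node 911 (.node 909 (.node 908 (.leaf 0x0) (.leaf 0x0)) (.node 910 (.leaf 0x0) (.leaf 0x0))) (.node 913 (.node 912 (.leaf 0x0) (.leaf 0x0)) (.node 914 (.leaf 0x0) (.leaf 0x0))))))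

def cRepS_58 : Store := (.node 930 (.node 922 (.node 918 (.node 916 (.leaf 0x0) (.node 917 (.leaf 0x0) (.leaf 0x0))) (.node 920 (.node 919 (.leaf 0x0) (.leaf 0x0)) (.node 921 (.leaf 0x0) (.leaf 0x0)))) (.node 926 (.node 924 (.node 923 (.leaf 0x0) (.leaf 0x0)) (.node 925 (.leaf 0x0) (.leaf 0x0))) (.node 928 (.node 927 (.leaf 0x0) (.leaf 0x0)) (.node 929 (.leaf 0x0) (.leaf 0x0))))) (.node 937 (.node 933 (.node 931 (.leaf 0x0) (.node 932 (.leaf 0x0) (.leaf 0x0))) (.node 935 (.node 934 (.leaf 0x0) (.leaf 0x0)) (.node 936 (.leaf 0x0) (.leaf 0x0)))) (.node 941 (.node 939 (.node 938 (.leaf 0x0) (.leaf 0x0)) (.node 940 (.leaf 0x0) (.leaf 0x0))) (.node 943 (.node 942 (.leaf 0x0) (.leaf 0x0)) (.node 944 (.leaf 0x0) (.leaf 0x0))))))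

def cRepS_59 : Store := (.node 915 cRepS_57 cRepS_58)

def cRepS_60 : Store := (.node 885 cRepS_56 cRepS_59)

def cRepS_61 : Store := (.node 826 cRepS_53 cRepS_60)

def cRepS_62 : Store := (.node 708 cRepS_46 cRepS_61)

def cRepS_63 : Store := (.node 472 cRepS_31 cRepS_62)

def cRepS_64 : Store := (.node 959 (.node 952 (.node 948 (.node 946 (.leaf 0x0) (.node 947 (.leaf 0x0) (.leaf 0x0))) (.node 950 (.node 949 (.leaf 0x0) (.leaf 0x0)) (.node 951 (.leaf 0x0) (.leaf 0x0)))) (.node 955 (.node 953 (.leaf 0x0) (.node 954 (.leaf 0x0) (.leaf 0x0))) (.node 957 (.node 956 (.leaf 0x0) (.leaf 0x0)) (.node 958 (.leaf 0x0) (.leaf 0x0))))) (.node 966 (.node 962 (.node 960 (.leaf 0x0) (.node 961 (.leaf 0x0) (.leaf 0x0))) (.node 964 (.node 963 (.leaf 0x0) (.leaf 0x0)) (.node 965 (.leaf 0x0) (.leaf 0x0)))) (.node 970 (.node 968 (.node 967 (.leaf 0x0) (.leaf 0x0)) (.node 969 (.leaf 0x0) (.leaf 0x0)))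 (.node 972 (.node 971 (.leaf 0x0) (.leaf 0x0)) (.node 973 (.leaf 0x0) (.leaf 0x0))))))

def cRepS_65 : Store := (.node 989 (.node 981 (.node 977 (.node 975 (.leaf 0x0) (.node 976 (.leaf 0x0) (.leaf 0x0))) (.node 979 (.node 978 (.leaf 0x0) (.leaf 0x0)) (.node 980 (.leaf 0x0) (.leaf 0x0)))) (.node 985 (.node 983 (.node 982 (.leaf 0x0) (.leaf 0x0)) (.node 984 (.leaf 0x0) (.leaf 0x0))) (.node 987 (.node 986 (.leaf 0x0) (.leaf 0x0)) (.node 988 (.leaf 0x0) (.leaf 0x0))))) (.node 996 (.node 992 (.node 990 (.leaf 0x0) (.node 991 (.leaf 0x0) (.leaf 0x0))) (.node 994 (.node 993 (.leaf 0x0) (.leaf 0x0)) (.node 995 (.leaf 0x0) (.leaf 0x0)))) (.node 1000 (.node 998 (.node 997 (.leaf 0x0) (.leaf 0x0)) (.node 999 (.leaf 0x0) (.leaf 0x0))) (.node 1002 (.node 1001 (.leaf 0x0) (.leaf 0x0)) (.node 1003 (.leaf 0x0) (.leaf 0x0))))))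

def cRepS_66 : Store := (.node 974 cRepS_64 cRepS_65)

def cRepS_67 : Store := (.node 1018 (.node 1011 (.node 1007 (.node 1005 (.leaf 0x0) (.node 1006 (.leaf 0x0) (.leaf 0x0))) (.node 1009 (.node 1008 (.leaf 0x0) (.leaf 0x0)) (.node 1010 (.leaf 0x0) (.leaf 0x0)))) (.node 1014 (.node 1012 (.leaf 0x0) (.node 1013 (.leaf 0x0) (.leaf 0x0))) (.node 1016 (.node 1015 (.leaf 0x0) (.leaf 0x0)) (.node 1017 (.leaf 0x0) (.leaf 0x0))))) (.node 1025 (.node 1021 (.node 1019 (.leaf 0x0) (.node 1020 (.leaf 0x0) (.leaf 0x0))) (.node 1023 (.node 1022 (.leaf 0x0) (.leaf 0x0)) (.node 1024 (.leaf 0x0) (.leaf 0x0)))) (.node 1029 (.node 1027 (.node 1026 (.leaf 0x0) (.leaf 0x0)) (.node 1028 (.leaf 0x0) (.leaf 0x0))) (.node 1031 (.node 1030 (.leaf 0x0) (.leaf 0x0)) (.node 1032 (.leaf 0x0) (.leaf 0x0))))))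

def cRepS_68 : Store := (.node 1048 (.node 1040 (.node 1036 (.node 1034 (.leaf 0x0) (.node 1035 (.leaf 0x0) (.leaf 0x0))) (.node 1038 (.node 1037 (.leaf 0x0) (.leaf 0x0)) (.node 1039 (.leaf 0x0) (.leaf 0x0)))) (.node 1044 (.node 1042 (.node 1041 (.leaf 0x0) (.leaf 0x0)) (.node 1043 (.leaf 0x0) (.leaf 0x0))) (.node 1046 (.node 1045 (.leaf 0x0) (.leaf 0x0)) (.node 1047 (.leaf 0x0) (.leaf 0x0))))) (.node 1055 (.node 1051 (.node 1049 (.leaf 0x0) (.node 1050 (.leaf 0x0) (.leaf 0x0))) (.node 1053 (.node 1052 (.leaf 0x0) (.leaf 0x0)) (.node 1054 (.leaf 0x0) (.leaf 0x0)))) (.node 1059 (.node 1057 (.node 1056 (.leaf 0x0) (.leaf 0x0)) (.node 1058 (.leaf 0x0) (.leaf 0x0))) (.node 1061 (.node 1060 (.leaf 0x0) (.leaf 0x0)) (.node 1062 (.leaf 0x0) (.leaf 0x0))))))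

def cRepS_69 : Store := (.node 1033 cRepS_67 cRepS_68)

def cRepS_70 : Store := (.node 1004 cRepS_66 cRepS_69)

def cRepS_71 : Store := (.node 1077 (.node 1070 (.node 1066 (.node 1064 (.leaf 0x0) (.node 1065 (.leaf 0x0) (.leaf 0x0))) (.node 1068 (.node 1067 (.leaf 0x0) (.leaf 0x0)) (.node 1069 (.leaf 0x0) (.leaf 0x0)))) (.node 1073 (.node 1071 (.leaf 0x0) (.node 1072 (.leaf 0x0) (.leaf 0x0))) (.node 1075 (.node 1074 (.leaf 0x0) (.leaf 0x0)) (.node 1076 (.leaf 0x0) (.leaf 0x0))))) (.node 1084 (.node 1080 (.node 1078 (.leaf 0x0) (.node 1079 (.leaf 0x0) (.leaf 0x0))) (.node 1082 (.node 1081 (.leaf 0x0) (.leaf 0x1020003000300030002020002000202000303000202000017)) (.node 1083 (.leaf 0x0) (.leaf 0x0)))) (.node 1088 (.node 1086 (.node 1085 (.leaf 0x0) (.leaf 0x0)) (.node 1087 (.leaf 0x0) (.leaf 0x0))) (.node 1090 (.node 1089 (.leaf 0x0) (.leaf 0x0)) (.node 1091 (.leaf 0x0) (.leaf 0x0))))))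

def cRepS_72 : Store := (.node 1107 (.node 1099 (.node 1095 (.node 1093 (.leaf 0x0) (.node 1094 (.leaf 0x0) (.leaf 0x0))) (.node 1097 (.node 1096 (.leaf 0x0) (.leaf 0x0)) (.node 1098 (.leaf 0x0) (.leaf 0x0)))) (.node 1103 (.node 1101 (.node 1100 (.leaf 0x0) (.leaf 0x0)) (.node 1102 (.leaf 0x0) (.leaf 0x0))) (.node 1105 (.node 1104 (.leaf 0x0) (.leaf 0x0)) (.node 1106 (.leaf 0x0) (.leaf 0x0))))) (.node 1114 (.node 1110 (.node 1108 (.leaf 0x0) (.node 1109 (.leaf 0x0) (.leaf 0x0))) (.node 1112 (.node 1111 (.leaf 0x0) (.leaf 0x0)) (.node 1113 (.leaf 0x0) (.leaf 0x0)))) (.node 1118 (.node 1116 (.node 1115 (.leaf 0x0) (.leaf 0x0)) (.node 1117 (.leaf 0x0) (.leaf 0x0))) (.node 1120 (.node 1119 (.leaf 0x0) (.leaf 0x0)) (.node 1121 (.leaf 0x0) (.leaf 0x0))))))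

def cRepS_73 : Store := (.node 1092 cRepS_71 cRepS_72)

def cRepS_74 : Store := (.node 1136 (.node 1129 (.node 1125 (.node 1123 (.leaf 0x0) (.node 1124 (.leaf 0x0) (.leaf 0x0))) (.node 1127 (.node 1126 (.leaf 0x0) (.leaf 0x0)) (.node 1128 (.leaf 0x0) (.leaf 0x0)))) (.node 1132 (.node 1130 (.leaf 0x0) (.node 1131 (.leaf 0x0) (.leaf 0x0))) (.node 1134 (.node 1133 (.leaf 0x0) (.leaf 0x0)) (.node 1135 (.leaf 0x0) (.leaf 0x0))))) (.node 1143 (.node 1139 (.node 1137 (.leaf 0x0) (.node 1138 (.leaf 0x0) (.leaf 0x0))) (.node 1141 (.node 1140 (.leaf 0x0) (.leaf 0x0)) (.node 1142 (.leaf 0x0) (.leaf 0x0)))) (.node 1147 (.node 1145 (.node 1144 (.leaf 0x0) (.leaf 0x0)) (.node 1146 (.leaf 0x0) (.leaf 0x0))) (.node 1149 (.node 1148 (.leaf 0x0) (.leaf 0x0)) (.node 1150 (.leaf 0x0) (.leaf 0x0))))))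

def cRepS_75 : Store := (.node 1166 (.node 1158 (.node 1154 (.node 1152 (.leaf 0x0) (.node 1153 (.leaf 0x0) (.leaf 0x0))) (.node 1156 (.node 1155 (.leaf 0x0) (.leaf 0x0)) (.node 1157 (.leaf 0x0) (.leaf 0x0)))) (.node 1162 (.node 1160 (.node 1159 (.leaf 0x0) (.leaf 0x0)) (.node 1161 (.leaf 0x0) (.leaf 0x0))) (.node 1164 (.node 1163 (.leaf 0x0) (.leaf 0x0)) (.node 1165 (.leaf 0x0) (.leaf 0x0))))) (.node 1173 (.node 1169 (.node 1167 (.leaf 0x0) (.node 1168 (.leaf 0x0) (.leaf 0x0))) (.node 1171 (.node 1170 (.leaf 0x0) (.leaf 0x0)) (.node 1172 (.leaf 0x0) (.leaf 0x0)))) (.node 1177 (.node 1175 (.node 1174 (.leaf 0x0) (.leaf 0x0)) (.node 1176 (.leaf 0x0) (.leaf 0x0))) (.node 1179 (.node 1178 (.leaf 0x0) (.leaf 0x0)) (.node 1180 (.leaf 0x0) (.leaf 0x0))))))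

def cRepS_76 : Store := (.node 1151 cRepS_74 cRepS_75)

def cRepS_77 : Store := (.node 1122 cRepS_73 cRepS_76)

def cRepS_78 : Store := (.node 1063 cRepS_70 cRepS_77)

def cRepS_79 : Store := (.node 1195 (.node 1188 (.node 1184 (.node 1182 (.leaf 0x0) (.node 1183 (.leaf 0x0) (.leaf 0x0))) (.node 1186 (.node 1185 (.leaf 0x0) (.leaf 0x0)) (.node 1187 (.leaf 0x0) (.leaf 0x0)))) (.node 1191 (.node 1189 (.leaf 0x0) (.node 1190 (.leaf 0x0) (.leaf 0x0))) (.node 1193 (.node 1192 (.leaf 0x0) (.leaf 0x0)) (.node 1194 (.leaf 0x0) (.leaf 0x0))))) (.node 1202 (.node 1198 (.node 1196 (.leaf 0x0) (.node 1197 (.leaf 0x0) (.leaf 0x0))) (.node 1200 (.node 1199 (.leaf 0x0) (.leaf 0x0)) (.node 1201 (.leaf 0x0) (.leaf 0x0)))) (.node 1206 (.node 1204 (.node 1203 (.leaf 0x0) (.leaf 0x0)) (.node 1205 (.leaf 0x0) (.leaf 0x0))) (.node 1208 (.node 1207 (.leaf 0x0) (.leaf 0x0)) (.node 1209 (.leaf 0x0) (.leaf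 0x0))))))

def cRepS_80 : Store := (.node 1225 (.node 1217 (.node 1213 (.node 1211 (.leaf 0x0) (.node 1212 (.leaf 0x0) (.leaf 0x0))) (.node 1215 (.node 1214 (.leaf 0x0) (.leaf 0x0)) (.node 1216 (.leaf 0x0) (.leaf 0x0)))) (.node 1221 (.node 1219 (.node 1218 (.leaf 0x0) (.leaf 0x0)) (.node 1220 (.leaf 0x0) (.leaf 0x0))) (.node 1223 (.node 1222 (.leaf 0x0) (.leaf 0x0)) (.node 1224 (.leaf 0x0) (.leaf 0x0))))) (.node 1232 (.node 1228 (.node 1226 (.leaf 0x0) (.node 1227 (.leaf 0x0) (.leaf 0x0))) (.node 1230 (.node 1229 (.leaf 0x0) (.leaf 0x0)) (.node 1231 (.leaf 0x0) (.leaf 0x0)))) (.node 1236 (.node 1234 (.node 1233 (.leaf 0x0) (.leaf 0x0)) (.node 1235 (.leaf 0x0) (.leaf 0x0))) (.node 1238 (.node 1237 (.leaf 0x0) (.leaf 0x0)) (.node 1239 (.leaf 0x0) (.leaf 0x0))))))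

def cRepS_81 : Store := (.node 1210 cRepS_79 cRepS_80)

def cRepS_82 : Store := (.node 1254 (.node 1247 (.node 1243 (.node 1241 (.leaf 0x0) (.node 1242 (.leaf 0x0) (.leaf 0x0))) (.node 1245 (.node 1244 (.leaf 0x0) (.leaf 0x0)) (.node 1246 (.leaf 0x0) (.leaf 0x0)))) (.node 1250 (.node 1248 (.leaf 0x0) (.node 1249 (.leaf 0x0) (.leaf 0x0))) (.node 1252 (.node 1251 (.leaf 0x0) (.leaf 0x0)) (.node 1253 (.leaf 0x0) (.leaf 0x0))))) (.node 1261 (.node 1257 (.node 1255 (.leaf 0x0) (.node 1256 (.leaf 0x0) (.leaf 0x0))) (.node 1259 (.node 1258 (.leaf 0x0) (.leaf 0x0)) (.node 1260 (.leaf 0x0) (.leaf 0x0)))) (.node 1265 (.node 1263 (.node 1262 (.leaf 0x0) (.leaf 0x0)) (.node 1264 (.leaf 0x0) (.leaf 0x0))) (.node 1267 (.node 1266 (.leaf 0x0) (.leaf 0x0)) (.node 1268 (.leaf 0x0) (.leaf 0x0))))))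

def cRepS_83 : Store := (.node 1284 (.node 1276 (.node 1272 (.node 1270 (.leaf 0x0) (.node 1271 (.leaf 0x0) (.leaf 0x0))) (.node 1274 (.node 1273 (.leaf 0x0) (.leaf 0x0)) (.node 1275 (.leaf 0x0) (.leaf 0x0)))) (.node 1280 (.node 1278 (.node 1277 (.leaf 0x0) (.leaf 0x0)) (.node 1279 (.leaf 0x0) (.leaf 0x0))) (.node 1282 (.node 1281 (.leaf 0x0) (.leaf 0x0)) (.node 1283 (.leaf 0x0) (.leaf 0x0))))) (.node 1291 (.node 1287 (.node 1285 (.leaf 0x0) (.node 1286 (.leaf 0x0) (.leaf 0x0))) (.node 1289 (.node 1288 (.leaf 0x0) (.leaf 0x0)) (.node 1290 (.leaf 0x0) (.leaf 0x0)))) (.node 1295 (.node 1293 (.node 1292 (.leaf 0x0) (.leaf 0x0)) (.node 1294 (.leaf 0x0) (.leaf 0x0))) (.node 1297 (.node 1296 (.leaf 0x0) (.leaf 0x0)) (.node 1298 (.leaf 0x0) (.leaf 0x0))))))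

def cRepS_84 : Store := (.node 1269 cRepS_82 cRepS_83)

def cRepS_85 : Store := (.node 1240 cRepS_81 cRepS_84)

def cRepS_86 : Store := (.node 1313 (.node 1306 (.node 1302 (.node 1300 (.leaf 0x0) (.node 1301 (.leaf 0x0) (.leaf 0x0))) (.node 1304 (.node 1303 (.leaf 0x0) (.leaf 0x0)) (.node 1305 (.leaf 0x0) (.leaf 0x0)))) (.node 1309 (.node 1307 (.leaf 0x0) (.node 1308 (.leaf 0x0) (.leaf 0x0))) (.node 1311 (.node 1310 (.leaf 0x0) (.leaf 0x0)) (.node 1312 (.leaf 0x0) (.leaf 0x0))))) (.node 1320 (.node 1316 (.node 1314 (.leaf 0x0) (.node 1315 (.leaf 0x0) (.leaf 0x0))) (.node 1318 (.node 1317 (.leaf 0x0) (.leaf 0x0)) (.node 1319 (.leaf 0x0) (.leaf 0x0)))) (.node 1324 (.node 1322 (.node 1321 (.leaf 0x0) (.leaf 0x30003000200020003000300020002000010)) (.node 1323 (.leaf 0x0) (.leaf 0x0))) (.node 1326 (.node 1325 (.leaf 0x0) (.leaf 0x0)) (.node 1327 (.leaf 0x0) (.leaf 0x0))))))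

def cRepS_87 : Store := (.node 1343 (.node 1335 (.node 1331 (.node 1329 (.leaf 0x0) (.node 1330 (.leaf 0x0) (.leaf 0x0))) (.node 1333 (.node 1332 (.leaf 0x0) (.leaf 0x0)) (.node 1334 (.leaf 0x0) (.leaf 0x0)))) (.node 1339 (.node 1337 (.node 1336 (.leaf 0x0) (.leaf 0x0)) (.node 1338 (.leaf 0x0) (.leaf 0x0))) (.node 1341 (.node 1340 (.leaf 0x0) (.leaf 0x0)) (.node 1342 (.leaf 0x0) (.leaf 0x0))))) (.node 1350 (.node 1346 (.node 1344 (.leaf 0x0) (.node 1345 (.leaf 0x0) (.leaf 0x0))) (.node 1348 (.node 1347 (.leaf 0x0) (.leaf 0x0)) (.node 1349 (.leaf 0x0) (.leaf 0x0)))) (.node 1354 (.node 1352 (.node 1351 (.leaf 0x0) (.leaf 0x0)) (.node 1353 (.leaf 0x0) (.leaf 0x0))) (.node 1356 (.node 1355 (.leaf 0x0) (.leaf 0x0)) (.node 1357 (.leaf 0x0) (.leaf 0x0))))))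

def cRepS_88 : Store := (.node 1328 cRepS_86 cRepS_87)

def cRepS_89 : Store := (.node 1372 (.node 1365 (.node 1361 (.node 1359 (.leaf 0x0) (.node 1360 (.leaf 0x0) (.leaf 0x0))) (.node 1363 (.node 1362 (.leaf 0x0) (.leaf 0x0)) (.node 1364 (.leaf 0x0) (.leaf 0x0)))) (.node 1368 (.node 1366 (.leaf 0x0) (.node 1367 (.leaf 0x0) (.leaf 0x0))) (.node 1370 (.node 1369 (.leaf 0x0) (.leaf 0x0)) (.node 1371 (.leaf 0x0) (.leaf 0x0))))) (.node 1379 (.node 1375 (.node 1373 (.leaf 0x0) (.node 1374 (.leaf 0x0) (.leaf 0x0))) (.node 1377 (.node 1376 (.leaf 0x0) (.leaf 0x0)) (.node 1378 (.leaf 0x0) (.leaf 0x0)))) (.node 1383 (.node 1381 (.node 1380 (.leaf 0x0) (.leaf 0x0)) (.node 1382 (.leaf 0x0) (.leaf 0x0))) (.node 1385 (.node 1384 (.leaf 0x0) (.leaf 0x0)) (.node 1386 (.leaf 0x0) (.leaf 0x0))))))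

def cRepS_90 : Store := (.node 1402 (.node 1394 (.node 1390 (.node 1388 (.leaf 0x0) (.node 1389 (.leaf 0x0) (.leaf 0x0))) (.node 1392 (.node 1391 (.leaf 0x0) (.leaf 0x0)) (.node 1393 (.leaf 0x0) (.leaf 0x0)))) (.node 1398 (.node 1396 (.node 1395 (.leaf 0x0) (.leaf 0x0)) (.node 1397 (.leaf 0x0) (.leaf 0x0))) (.node 1400 (.node 1399 (.leaf 0x0) (.leaf 0x0)) (.node 1401 (.leaf 0x0) (.leaf 0x0))))) (.node 1409 (.node 1405 (.node 1403 (.leaf 0x0) (.node 1404 (.leaf 0x0) (.leaf 0x0))) (.node 1407 (.node 1406 (.leaf 0x0) (.leaf 0x0)) (.node 1408 (.leaf 0x0) (.leaf 0x0)))) (.node 1413 (.node 1411 (.node 1410 (.leaf 0x0) (.leaf 0x0)) (.node 1412 (.leaf 0x0) (.leaf 0x0))) (.node 1415 (.node 1414 (.leaf 0x0) (.leaf 0x0)) (.node 1416 (.leaf 0x0) (.leaf 0x0))))))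

def cRepS_91 : Store := (.node 1387 cRepS_89 cRepS_90)

def cRepS_92 : Store := (.node 1358 cRepS_88 cRepS_91)

def cRepS_93 : Store := (.node 1299 cRepS_85 cRepS_92)

def cRepS_94 : Store := (.node 1181 cRepS_78 cRepS_93)

def cRepS_95 : Store := (.node 1431 (.node 1424 (.node 1420 (.node 1418 (.leaf 0x0) (.node 1419 (.leaf 0x0) (.leaf 0x0))) (.node 1422 (.node 1421 (.leaf 0x0) (.leaf 0x0)) (.node 1423 (.leaf 0x0) (.leaf 0x0)))) (.node 1427 (.node 1425 (.leaf 0x0) (.node 1426 (.leaf 0x0) (.leaf 0x0))) (.node 1429 (.node 1428 (.leaf 0x0) (.leaf 0x0)) (.node 1430 (.leaf 0x0) (.leaf 0x0))))) (.node 1438 (.node 1434 (.node 1432 (.leaf 0x0) (.node 1433 (.leaf 0x0) (.leaf 0x0))) (.node 1436 (.node 1435 (.leaf 0x0) (.leaf 0x0)) (.node 1437 (.leaf 0x0) (.leaf 0x0)))) (.node 1442 (.node 1440 (.node 1439 (.leaf 0x0) (.leaf 0x0)) (.node 1441 (.leaf 0x0) (.leaf 0x0))) (.node 1444 (.node 1443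 (.leaf 0x0) (.leaf 0x0)) (.node 1445 (.leaf 0x0) (.leaf 0x0))))))

def cRepS_96 : Store := (.node 1461 (.node 1453 (.node 1449 (.node 1447 (.leaf 0x0) (.node 1448 (.leaf 0x0) (.leaf 0x0))) (.node 1451 (.node 1450 (.leaf 0x0) (.leaf 0x0)) (.node 1452 (.leaf 0x0) (.leaf 0x0)))) (.node 1457 (.node 1455 (.node 1454 (.leaf 0x0) (.leaf 0x0)) (.node 1456 (.leaf 0x0) (.leaf 0x0))) (.node 1459 (.node 1458 (.leaf 0x0) (.leaf 0x0)) (.node 1460 (.leaf 0x0) (.leaf 0x0))))) (.node 1468 (.node 1464 (.node 1462 (.leaf 0x0) (.node 1463 (.leaf 0x0) (.leaf 0x0))) (.node 1466 (.node 1465 (.leaf 0x0) (.leaf 0x0)) (.node 1467 (.leaf 0x0) (.leaf 0x0)))) (.node 1472 (.node 1470 (.node 1469 (.leaf 0x0) (.leaf 0x0)) (.node 1471 (.leaf 0x0) (.leaf 0x0))) (.node 1474 (.node 1473 (.leaf 0x0) (.leaf 0x0)) (.node 1475 (.leaf 0x0) (.leaf 0x0))))))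

def cRepS_97 : Store := (.node 1446 cRepS_95 cRepS_96)

def cRepS_98 : Store := (.node 1490 (.node 1483 (.node 1479 (.node 1477 (.leaf 0x0) (.node 1478 (.leaf 0x0) (.leaf 0x0))) (.node 1481 (.node 1480 (.leaf 0x0) (.leaf 0x0)) (.node 1482 (.leaf 0x0) (.leaf 0x0)))) (.node 1486 (.node 1484 (.leaf 0x0) (.node 1485 (.leaf 0x0) (.leaf 0x0))) (.node 1488 (.node 1487 (.leaf 0x0) (.leaf 0x0)) (.node 1489 (.leaf 0x0) (.leaf 0x0))))) (.node 1497 (.node 1493 (.node 1491 (.leaf 0x0) (.node 1492 (.leaf 0x0) (.leaf 0x0))) (.node 1495 (.node 1494 (.leaf 0x0) (.leaf 0x0)) (.node 1496 (.leaf 0x0) (.leaf 0x0)))) (.node 1501 (.node 1499 (.node 1498 (.leaf 0x0) (.leaf 0x0)) (.node 1500 (.leaf 0x0) (.leaf 0x0))) (.node 1503 (.node 1502 (.leaf 0x2000202000303000300030300020003000300030014) (.leaf 0x0)) (.node 1504 (.leaf 0x0) (.leaf 0x0))))))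

def cRepS_99 : Store := (.node 1520 (.node 1512 (.node 1508 (.node 1506 (.leaf 0x0) (.node 1507 (.leaf 0x0) (.leaf 0x0))) (.node 1510 (.node 1509 (.leaf 0x0) (.leaf 0x0)) (.node 1511 (.leaf 0x0) (.leaf 0x0)))) (.node 1516 (.node 1514 (.node 1513 (.leaf 0x0) (.leaf 0x0)) (.node 1515 (.leaf 0x0) (.leaf 0x0))) (.node 1518 (.node 1517 (.leaf 0x0) (.leaf 0x0)) (.node 1519 (.leaf 0x0) (.leaf 0x0))))) (.node 1527 (.node 1523 (.node 1521 (.leaf 0x0) (.node 1522 (.leaf 0x0) (.leaf 0x0))) (.node 1525 (.node 1524 (.leaf 0x0) (.leaf 0x0)) (.node 1526 (.leaf 0x0) (.leaf 0x0)))) (.node 1531 (.node 1529 (.node 1528 (.leaf 0x0) (.leaf 0x0)) (.node 1530 (.leaf 0x0) (.leaf 0x0))) (.node 1533 (.node 1532 (.leaf 0x30003000200020003000300020002000010) (.leaf 0x0)) (.node 1534 (.leaf 0x0) (.leaf 0x0))))))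

def cRepS_100 : Store := (.node 1505 cRepS_98 cRepS_99)

def cRepS_101 : Store := (.node 1476 cRepS_97 cRepS_100)

def cRepS_102 : Store := (.node 1549 (.node 1542 (.node 1538 (.node 1536 (.leaf 0x0) (.node 1537 (.leaf 0x0) (.leaf 0x0))) (.node 1540 (.node 1539 (.leaf 0x0) (.leaf 0x0)) (.node 1541 (.leaf 0x0) (.leaf 0x0)))) (.node 1545 (.node 1543 (.leaf 0x0) (.node 1544 (.leaf 0x0) (.leaf 0x0))) (.node 1547 (.node 1546 (.leaf 0x0) (.leaf 0x0)) (.node 1548 (.leaf 0x0) (.leaf 0x0))))) (.node 1556 (.node 1552 (.node 1550 (.leaf 0x0) (.node 1551 (.leaf 0x0) (.leaf 0x0))) (.node 1554 (.node 1553 (.leaf 0x0) (.leaf 0x0)) (.node 1555 (.leaf 0x0) (.leaf 0x0)))) (.node 1560 (.node 1558 (.node 1557 (.leaf 0x0) (.leaf 0x0)) (.node 1559 (.leaf 0x0) (.leaf 0x0))) (.node 1562 (.node 1561 (.leaf 0x0) (.leaf 0x0)) (.node 1563 (.leaf 0x0) (.leaf 0x0))))))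

def cRepS_103 : Store := (.node 1579 (.node 1571 (.node 1567 (.node 1565 (.leaf 0x0) (.node 1566 (.leaf 0x0) (.leaf 0x0))) (.node 1569 (.node 1568 (.leaf 0x0) (.leaf 0x0)) (.node 1570 (.leaf 0x0) (.leaf 0x0)))) (.node 1575 (.node 1573 (.node 1572 (.leaf 0x0) (.leaf 0x0)) (.node 1574 (.leaf 0x0) (.leaf 0x0))) (.node 1577 (.node 1576 (.leaf 0x0) (.leaf 0x0)) (.node 1578 (.leaf 0x0) (.leaf 0x0))))) (.node 1586 (.node 1582 (.node 1580 (.leaf 0x0) (.node 1581 (.leaf 0x0) (.leaf 0x0))) (.node 1584 (.node 1583 (.leaf 0x0) (.leaf 0x0)) (.node 1585 (.leaf 0x0) (.leaf 0x0)))) (.node 1590 (.node 1588 (.node 1587 (.leaf 0x0) (.leaf 0x0)) (.node 1589 (.leaf 0x0) (.leaf 0x0))) (.node 1592 (.node 1591 (.leaf 0x0) (.leaf 0x0)) (.node 1593 (.leaf 0x0) (.leaf 0x0))))))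

def cRepS_104 : Store := (.node 1564 cRepS_102 cRepS_103)

def cRepS_105 : Store := (.node 1608 (.node 1601 (.node 1597 (.node 1595 (.leaf 0x0) (.node 1596 (.leaf 0x0) (.leaf 0x0))) (.node 1599 (.node 1598 (.leaf 0x0) (.leaf 0x0)) (.node 1600 (.leaf 0x0) (.leaf 0x0)))) (.node 1604 (.node 1602 (.leaf 0x0) (.node 1603 (.leaf 0x0) (.leaf 0x0))) (.node 1606 (.node 1605 (.leaf 0x0) (.leaf 0x0)) (.node 1607 (.leaf 0x0) (.leaf 0x0))))) (.node 1615 (.node 1611 (.node 1609 (.leaf 0x0) (.node 1610 (.leaf 0x0) (.leaf 0x0))) (.node 1613 (.node 1612 (.leaf 0x0) (.leaf 0x0)) (.node 1614 (.leaf 0x0) (.leaf 0x0)))) (.node 1619 (.node 1617 (.node 1616 (.leaf 0x0) (.leaf 0x0)) (.node 1618 (.leaf 0x0) (.leaf 0x0))) (.node 1621 (.node 1620 (.leaf 0x0) (.leaf 0x0)) (.node 1622 (.leaf 0x0) (.leaf 0x0))))))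

def cRepS_106 : Store := (.node 1638 (.node 1630 (.node 1626 (.node 1624 (.leaf 0x0) (.node 1625 (.leaf 0x0) (.leaf 0x0))) (.node 1628 (.node 1627 (.leaf 0x0) (.leaf 0x0)) (.node 1629 (.leaf 0x0) (.leaf 0x0)))) (.node 1634 (.node 1632 (.node 1631 (.leaf 0x0) (.leaf 0x0)) (.node 1633 (.leaf 0x0) (.leaf 0x0))) (.node 1636 (.node 1635 (.leaf 0x0) (.leaf 0x0)) (.node 1637 (.leaf 0x0) (.leaf 0x0))))) (.node 1645 (.node 1641 (.node 1639 (.leaf 0x0) (.node 1640 (.leaf 0x0) (.leaf 0x0))) (.node 1643 (.node 1642 (.leaf 0x0) (.leaf 0x0)) (.node 1644 (.leaf 0x0) (.leaf 0x0)))) (.node 1649 (.node 1647 (.node 1646 (.leaf 0x0) (.leaf 0x0)) (.node 1648 (.leaf 0x0) (.leaf 0x0))) (.node 1651 (.node 1650 (.leaf 0x0) (.leaf 0x0)) (.node 1652 (.leaf 0x0) (.leaf 0x0))))))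

def cRepS_107 : Store := (.node 1623 cRepS_105 cRepS_106)

def cRepS_108 : Store := (.node 1594 cRepS_104 cRepS_107)

def cRepS_109 : Store := (.node 1535 cRepS_101 cRepS_108)

def cRepS_110 : Store := (.node 1667 (.node 1660 (.node 1656 (.node 1654 (.leaf 0x0) (.node 1655 (.leaf 0x0) (.leaf 0x0))) (.node 1658 (.node 1657 (.leaf 0x0) (.leaf 0x0)) (.node 1659 (.leaf 0x0) (.leaf 0x0)))) (.node 1663 (.node 1661 (.leaf 0x0) (.node 1662 (.leaf 0x0) (.leaf 0x0))) (.node 1665 (.node 1664 (.leaf 0x0) (.leaf 0x0)) (.node 1666 (.leaf 0x0) (.leaf 0x0))))) (.node 1674 (.node 1670 (.node 1668 (.leaf 0x0) (.node 1669 (.leaf 0x0) (.leaf 0x0))) (.node 1672 (.node 1671 (.leaf 0x0) (.leaf 0x0)) (.node 1673 (.leaf 0x0) (.leaf 0x0)))) (.node 1678 (.node 1676 (.node 1675 (.leaf 0x0) (.leaf 0x0)) (.node 1677 (.leaf 0x0) (.leaf 0x0))) (.node 1680 (.node 1679 (.leaf 0x0) (.leaf 0x0)) (.node 1681 (.leaf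 0x0) (.leaf 0x202010300030300020202000300030300020002020002000018))))))

def cRepS_111 : Store := (.node 1697 (.node 1689 (.node 1685 (.node 1683 (.leaf 0x202000300030300020202000300030300020002020002000018) (.node 1684 (.leaf 0x2) (.leaf 0x0))) (.node 1687 (.node 1686 (.leaf 0x0) (.leaf 0x0)) (.node 1688 (.leaf 0x0) (.leaf 0x0)))) (.node 1693 (.node 1691 (.node 1690 (.leaf 0x0) (.leaf 0x0)) (.node 1692 (.leaf 0x0) (.leaf 0x0))) (.node 1695 (.node 1694 (.leaf 0x0) (.leaf 0x0)) (.node 1696 (.leaf 0x0) (.leaf 0x0))))) (.node 1704 (.node 1700 (.node 1698 (.leaf 0x0) (.node 1699 (.leaf 0x0) (.leaf 0x0))) (.node 1702 (.node 1701 (.leaf 0x0) (.leaf 0x0)) (.node 1703 (.leaf 0x0) (.leaf 0x0)))) (.node 1708 (.node 1706 (.node 1705 (.leaf 0x0) (.leaf 0x0)) (.node 1707 (.leaf 0x0) (.leaf 0x0))) (.node 1710 (.node 1709 (.leaf 0x0) (.leaf 0x0)) (.node 1711 (.leaf 0x0) (.leaf 0x20202010202000300020200020002020200020013))))))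

def cRepS_112 : Store := (.node 1682 cRepS_110 cRepS_111)

def cRepS_113 : Store := (.node 1726 (.node 1719 (.node 1715 (.node 1713 (.leaf 0x0) (.node 1714 (.leaf 0x0) (.leaf 0x0))) (.node 1717 (.node 1716 (.leaf 0x0) (.leaf 0x0)) (.node 1718 (.leaf 0x0) (.leaf 0x0)))) (.node 1722 (.node 1720 (.leaf 0x0) (.node 1721 (.leaf 0x0) (.leaf 0x0))) (.node 1724 (.node 1723 (.leaf 0x0) (.leaf 0x0)) (.node 1725 (.leaf 0x0) (.leaf 0x0))))) (.node 1733 (.node 1729 (.node 1727 (.leaf 0x0) (.node 1728 (.leaf 0x0) (.leaf 0x0))) (.node 1731 (.node 1730 (.leaf 0x0) (.leaf 0x0)) (.node 1732 (.leaf 0x0) (.leaf 0x0)))) (.node 1737 (.node 1735 (.node 1734 (.leaf 0x0) (.leaf 0x0)) (.node 1736 (.leaf 0x0) (.leaf 0x0))) (.node 1739 (.node 1738 (.leaf 0x0) (.leaf 0x0)) (.node 1740 (.leaf 0x0) (.leaf 0x0))))))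

def cRepS_114 : Store := (.node 1756 (.node 1748 (.node 1744 (.node 1742 (.leaf 0x0) (.node 1743 (.leaf 0x0) (.leaf 0x0))) (.node 1746 (.node 1745 (.leaf 0x0) (.leaf 0x0)) (.node 1747 (.leaf 0x0) (.leaf 0x0)))) (.node 1752 (.node 1750 (.node 1749 (.leaf 0x0) (.leaf 0x0)) (.node 1751 (.leaf 0x0) (.leaf 0x0))) (.node 1754 (.node 1753 (.leaf 0x0) (.leaf 0x0)) (.node 1755 (.leaf 0x0) (.leaf 0x0))))) (.node 1763 (.node 1759 (.node 1757 (.leaf 0x0) (.node 1758 (.leaf 0x0) (.leaf 0x0))) (.node 1761 (.node 1760 (.leaf 0x0) (.leaf 0x0)) (.node 1762 (.leaf 0x0) (.leaf 0x0)))) (.node 1767 (.node 1765 (.node 1764 (.leaf 0x0) (.leaf 0x0)) (.node 1766 (.leaf 0x0) (.leaf 0x0))) (.node 1769 (.node 1768 (.leaf 0x0) (.leaf 0x0)) (.node 1770 (.leaf 0x0) (.leaf 0x0))))))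

def cRepS_115 : Store := (.node 1741 cRepS_113 cRepS_114)

def cRepS_116 : Store := (.node 1712 cRepS_112 cRepS_115)

def cRepS_117 : Store := (.node 1785 (.node 1778 (.node 1774 (.node 1772 (.leaf 0x2000200030300020009) (.node 1773 (.leaf 0x300020200030003000009) (.leaf 0x10300020200030300030002020003030010))) (.node 1776 (.node 1775 (.leaf 0x3000202000300030009) (.leaf 0x2020003030002000202000303000202000200030300020017)) (.node 1777 (.leaf 0x0) (.leaf 0x0)))) (.node 1781 (.node 1779 (.leaf 0x0) (.node 1780 (.leaf 0x0) (.leaf 0x0))) (.node 1783 (.node 1782 (.leaf 0x0) (.leaf 0x0)) (.node 1784 (.leaf 0x0) (.leaf 0x0))))) (.node 1792 (.node 1788 (.node 1786 (.leaf 0x0) (.node 1787 (.leaf 0x0) (.leaf 0x0))) (.node 1790 (.node 1789 (.leaf 0x0) (.leaf 0x0)) (.node 1791 (.leaf 0x0) (.leaf 0x0)))) (.node 1796 (.node 1794 (.node 1793 (.leaf 0x0) (.leaf 0x0)) (.node 1795 (.leaf 0x0) (.leaf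 0x0))) (.node 1798 (.node 1797 (.leaf 0x0) (.leaf 0x0)) (.node 1799 (.leaf 0x0) (.leaf 0x0))))))

def cRepS_118 : Store := (.node 1815 (.node 1807 (.node 1803 (.node 1801 (.leaf 0x0) (.node 1802 (.leaf 0x0) (.leaf 0x0))) (.node 1805 (.node 1804 (.leaf 0x0) (.leaf 0x0)) (.node 1806 (.leaf 0x0) (.leaf 0x0)))) (.node 1811 (.node 1809 (.node 1808 (.leaf 0x0) (.leaf 0x0)) (.node 1810 (.leaf 0x0) (.leaf 0x0))) (.node 1813 (.node 1812 (.leaf 0x0) (.leaf 0x0)) (.node 1814 (.leaf 0x0) (.leaf 0x0))))) (.node 1822 (.node 1818 (.node 1816 (.leaf 0x0) (.node 1817 (.leaf 0x0) (.leaf 0x0))) (.node 1820 (.node 1819 (.leaf 0x0) (.leaf 0x0)) (.node 1821 (.leaf 0x0) (.leaf 0x0)))) (.node 1826 (.node 1824 (.node 1823 (.leaf 0x0) (.leaf 0x0)) (.node 1825 (.leaf 0x0) (.leaf 0x0))) (.node 1828 (.node 1827 (.leaf 0x0) (.leaf 0x0)) (.node 1829 (.leaf 0x0) (.leaf 0x0))))))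

def cRepS_119 : Store := (.node 1800 cRepS_117 cRepS_118)

def cRepS_120 : Store := (.node 1845 (.node 1837 (.node 1833 (.node 1831 (.leaf 0x0) (.node 1832 (.leaf 0x20003000300020002000300030002000010) (.leaf 0x0))) (.node 1835 (.node 1834 (.leaf 0x0) (.leaf 0x0)) (.node 1836 (.leaf 0x0) (.leaf 0x0)))) (.node 1841 (.node 1839 (.node 1838 (.leaf 0x0) (.leaf 0x0)) (.node 1840 (.leaf 0x0) (.leaf 0x0))) (.node 1843 (.node 1842 (.leaf 0x0) (.leaf 0x0)) (.node 1844 (.leaf 0x0) (.leaf 0x0))))) (.node 1852 (.node 1848 (.node 1846 (.leaf 0x0) (.node 1847 (.leaf 0x0) (.leaf 0x0))) (.node 1850 (.node 1849 (.leaf 0x0) (.leaf 0x0)) (.node 1851 (.leaf 0x0) (.leaf 0x0)))) (.node 1856 (.node 1854 (.node 1853 (.leaf 0x0) (.leaf 0x0)) (.node 1855 (.leaf 0x0) (.leaf 0x0))) (.node 1858 (.node 1857 (.leaf 0x0) (.leaf 0x0)) (.node 1859 (.leaf 0x0) (.leaf 0x0))))))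

def cRepS_121 : Store := (.node 1875 (.node 1867 (.node 1863 (.node 1861 (.leaf 0x0) (.node 1862 (.leaf 0x0) (.leaf 0x0))) (.node 1865 (.node 1864 (.leaf 0x0) (.leaf 0x0)) (.node 1866 (.leaf 0x0) (.leaf 0x0)))) (.node 1871 (.node 1869 (.node 1868 (.leaf 0x0) (.leaf 0x0)) (.node 1870 (.leaf 0x0) (.leaf 0x0))) (.node 1873 (.node 1872 (.leaf 0x0) (.leaf 0x0)) (.node 1874 (.leaf 0x0) (.leaf 0x0))))) (.node 1882 (.node 1878 (.node 1876 (.leaf 0x0) (.node 1877 (.leaf 0x0) (.leaf 0x0))) (.node 1880 (.node 1879 (.leaf 0x0) (.leaf 0x0)) (.node 1881 (.leaf 0x0) (.leaf 0x0)))) (.node 1886 (.node 1884 (.node 1883 (.leaf 0x0) (.leaf 0x0)) (.node 1885 (.leaf 0x0) (.leaf 0x0))) (.node 1888 (.node 1887 (.leaf 0x0) (.leaf 0x0)) (.node 1889 (.leaf 0x0) (.leaf 0x0))))))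

def cRepS_122 : Store := (.node 1860 cRepS_120 cRepS_121)

def cRepS_123 : Store := (.node 1830 cRepS_119 cRepS_122)

def cRepS_124 : Store := (.node 1771 cRepS_116 cRepS_123)

def cRepS_125 : Store := (.node 1653 cRepS_109 cRepS_124)

def cRepS_126 : Store := (.node 1417 cRepS_94 cRepS_125)

def cRepS : Store := (.node 945 cRepS_63 cRepS_126)

def cCDS_1 : Store := (.node 11 (.node 5 (.node 2 (.node 1 (.leaf 0x0) (.leaf 0x0)) (.node 3 (.leaf 0x0) (.node 4 (.leaf 0x0) (.leaf 0x0)))) (.node 8 (.node 6 (.leaf 0x0) (.node 7 (.leaf 0x0) (.leaf 0x0))) (.node 9 (.leaf 0x0) (.node 10 (.leaf 0x1000100010001000000000000000000000000000000000000000000000000000000000000000000000000000000000000000000000000000000000000000000000000000000000000000000000000000000000000000000000000000000000000000000000000000000000000000000000000000000000000000000000000000000000000000000000000000000000000000000000000000000000000000000000000000000000000000000000000000000000000000000000000000000000000000000000000000000000000000000000000000000000000000000000000)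 (.leaf 0x0))))) (.node 16 (.node 13 (.node 12 (.leaf 0x200030001000300000000000400010004000200000000000100050000000500000000000000040005000000000000000500000003000400000000000300020002000100000000000000000000000000000000000000000000000000000000000000000000000000000000000000000000000000000000000000000000000000000000) (.leaf 0x9000f000000000000000e000d0002000000000000000c0001000b0000000000000001000a0004000000000000000900000008000000000000000000070006000000000000000500040000000000000000000300020001000000000000000000000000000000000000000000000000000000000000000000000000000000000000000000000000000000000000000000000000000000000000000000000000000000000000000000000000000000000000000000000000000000000000000000000000000000000000000000000000000000000000000000000000000000000000000000000000000000000000000000000000000000000000000000000000)) (.node 14 (.leaf 0x12001d001800000000000000190011001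60000000000000013001200110000000000000010001b0014000000000000000f0015001c0000000000000016000e001d000000000000000d0017001b00000000000000180014000c0000000000000015000b0019000000000000001d001a000a000000000000001a001c0009000000000000001b0008001a00000000000000080019000d000000000000000b0018000700000000000000170006000e000000000000000600160010000000000000000a000500150000000000000014000f00050000000000000004000c00130000000000000007000300120000000000000011001000030000000000000002) (.node 15 (.leaf 0x1c0013001700000000) (.leaf 0x0)))) (.node 19 (.node 17 (.leaf 0x10000000000000000000000000000000000000000000000000000000000000000000000000000000000000000000000000000000000000000000000000000000000000000000000000000000000000000000000000000000000000000000000000000000000000000000000000000000000000000000000000000000000000000000000000000000000000000000000000000000000000000000000000000000000000000000000000000000000000000000000000000000000000000000000000000000000000000000000000000000000000000000000000000000000000000)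 (.node 18 (.leaf 0x0) (.leaf 0x0))) (.node 20 (.leaf 0x10000000000000001000100000000000000000000000000000000000000000000000000000000000000000000000000000000000000000000000000000000000000000000000000000000000000000000000000000000000000000000000000000000000000000000000000000000000000000000000000000000000000000000000000000000000000000000000000000000000000000000000000000000000000000000000000000000000000000000000000000000000000000000) (.node 21 (.leaf 0x0) (.leaf 0x40003000000000000000000010004000000000000000000000002000000000000000000030000000000000000000000020001000000000000000000000000000000000000000000000000))))))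

def cCDS_2 : Store := (.node 33 (.node 27 (.node 24 (.node 23 (.leaf 0x10000000000000000000000000000000000000000000000000000000000000000000000000000000000000000000000000000000000000000000000000000000000000000000000000000000000000000000000000000000000000000000000000000000000000000000000000000000000000000000000000000000000000000) (.leaf 0x0)) (.node 25 (.leaf 0x0) (.node 26 (.leaf 0x0) (.leaf 0x0)))) (.node 30 (.node 28 (.leaf 0x0) (.node 29 (.leaf 0x0) (.leaf 0x10000000100010000000100000001000000000001000000000000000000000000000000000000000000000000000000000000000000000000000000000000000000000000000000000000000000000000000000000000000000000000000000000000000000000000000000000000000000000000000000000000000000000000000000000000000000000000000000000000000000000000000000000000))) (.node 31 (.leaf 0x10001000000010001000000000000000000000000000000000000000000000000000000000000000000000000000000000000000000000000000000000000000000000000000000000000000000000000000000000000000000000000000000000000000000000000000000000000000000000000000000000000000000000000000000000000000000000000000000000000000000000000000000000000000000000000000000000000000000000000000000000000000000000000000000000000000000000000000000000000000000000000000000000000000000000000000000000000000000000000000000000000000000000000000000000000)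 (.node 32 (.leaf 0x1) (.leaf 0x1400050016000000000000001300150005000000000000000400140013000000000000000800060004000000000000001000030012000000000000000a0011000300000000000000020010000f000000000000000e000a00020000000000000001000d000c000000000000000b0001000a00000000000000000009000800000000000000070000000600000000000000050004000000000000000000030002000100000000000000000000000000000000000000000000000000000000000000000000000000000000000000000000000000000000000000000000000000000000000000000000000000000000000000000000000000000000))))) (.node 38 (.node 35 (.node 34 (.leaf 0x1d001b001a000000000000001c001600150000000000000017001d001400000000000000120013001d0000000000000015001200110000000000000011000e0018000000000000001b0017000e000000000000000f001c000d0000000000000019000c001c000000000000000d000b001b000000000000000c001a000b000000000000001a001900090000000000000018000800190000000000000009000700100000000000000016000f0007000000000000000600180017)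 (.leaf 0x0)) (.node 36 (.leaf 0x0) (.node 37 (.leaf 0x1000000000000000000000000000000000000000000000000000000000000000000000000000000000000000000000000000000000000000000000000000000000000000000000000000000000000000000000000000000000000000000000000000000000000000000000000000000000000000000000000000000000000000000000000000000000000000000000000) (.leaf 0x0)))) (.node 41 (.node 39 (.leaf 0x0) (.node 40 (.leaf 0x10000000000000000000100000001000000000000000000000000000000000000000000000000000000000000000000000000000000000000000000000000000000000000000000000000000000000000000000000000000000000000000000000000000000000000000000000000) (.leaf 0x10000000000000000000100000000000000000000000000000000000000000000000000000000000000000000000000000000000000000000000000000000000000000000000000000000000000000000000000000000000000000000000000000000000000000000000000000000000000000000000000000000000000000000000000000000000000000000000000000000000000000000000000000000000000000000000000000000000000000000000000000000000000000000000000000000000000000000000000000000000000000000)))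 (.node 42 (.leaf 0x0) (.node 43 (.leaf 0x1000000000000000000000000000000000000000000000000000000000000000000000000000000000000000000000000) (.leaf 0x0))))))

def cCDS_3 : Store := (.node 22 cCDS_1 cCDS_2)

def cCDS_4 : Store := (.node 55 (.node 49 (.node 46 (.node 45 (.leaf 0x0) (.leaf 0x0)) (.node 47 (.leaf 0x0) (.node 48 (.leaf 0x0) (.leaf 0x0)))) (.node 52 (.node 50 (.leaf 0x0) (.node 51 (.leaf 0x100000000000000000000000000000000000000000000000000000000000000000000000000000000000000000000000000000000000000000000000000000000000000000000000000000000000000000000000000000000000000000000000000000000000000000000000000000000000000000000000000000000000000000000000000000000000000000000000000000000000000000000000000000000) (.leaf 0x0))) (.node 53 (.leaf 0x0) (.node 54 (.leaf 0x0) (.leaf 0x0))))) (.node 60 (.node 57 (.node 56 (.leaf 0x0) (.leaf 0x0)) (.node 58 (.leaf 0x0) (.node 59 (.leaf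 0x0) (.leaf 0x0)))) (.node 63 (.node 61 (.leaf 0x0) (.node 62 (.leaf 0x10000000000000000000000000000000000000000000000000000000000000000000000000000000000000000000000000000000000000000000000000000000000000000000000000000000000000000000000000000000000000000000000000000000000000000000000000000000000000000000000000000000000000000000000000000000000000000000000000000000000000000000000000000000000000000000000000000000000000000000000000000000000000000000000000000000000000000000000000000000000000000000000000000000000000000) (.leaf 0x0))) (.node 64 (.leaf 0x0) (.node 65 (.leaf 0x0) (.leaf 0x0))))))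

def cCDS_5 : Store := (.node 77 (.node 71 (.node 68 (.node 67 (.leaf 0x0) (.leaf 0x0)) (.node 69 (.leaf 0x0) (.node 70 (.leaf 0x0) (.leaf 0x10000000000000000000100000000000000000000000000000000000000000000000000000000000000000000000000000000000000000000000000000000000000000000000000000000000000000000000000000000000000000000)))) (.node 74 (.node 72 (.leaf 0x100000000000000000000000000000000000000000000000000000000000000000000000000000000000000000000000000000000000000000000000000000000000000000000000000000000000000000000000000000000000000000000000000000000000000000000000000000000000000000000000000000000000000000000000000000000000000000000000000000000000000000000000000000000000000000000000000000000000000000000000000000000) (.node 73 (.leaf 0x0) (.leaf 0x0))) (.node 75 (.leaf 0x0) (.node 76 (.leaf 0x0) (.leaf 0x0))))) (.node 83 (.node 80 (.node 78 (.leaf 0x0) (.node 79 (.leaf 0x100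01000200030002000000030003000000020000000000000000000300010003000000020002000100000001000000000000000000000000000000000000000000000000000000000000000000000000000000000000000000000000000000000000000000000000000000000000000000000000000000000000000000000000000000000000000000000000000000000000000000000000000000000000000000000000000000000000000000000000000000000000000000000000000000000000000000000000000000000000000000000000000000000000000000000000000000000000000000000000) (.leaf 0x0))) (.node 81 (.leaf 0x100000000000000010001000000000000000000000000000000000000000000000000000000000000000000000000000000000000) (.node 82 (.leaf 0x0) (.leaf 0x2000000010000000000000000000000000000000000000000000000000000000000000000000000000000000000000000000000000000000000000000000000000000000000000000000000000000000000000000000000000000000000000000000000000000000000000000000000000000000000000000000000000000000000000000000000000000000000000000000000000000000000000000000000000000000000000000000000000000000000000000000000000000000000000000000000000000000000000000000000000000000000000000000000000000000000000000000000000000000000000000000000000000000000000000))))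 (.node 86 (.node 84 (.leaf 0x40005000300000000000000030002000500000000000000050001000400000000000000010004000000000000000000000003000200000000) (.node 85 (.leaf 0x0) (.leaf 0x10000000000000000000000000000000000000000000000000000000000000000000000000000000000000000000000000000000000000000000000000000000000000000000000000000000000000000000000000000000000000000000000000000000000000000000000000000000000000000000000000000000000000000000000000000000000000000000000000000000000000000000000000000000000000000000000000000000000000000000000000000000000000000000000000000000000000000))) (.node 87 (.leaf 0x0) (.node 88 (.leaf 0x0) (.leaf 0x0))))))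

def cCDS_6 : Store := (.node 66 cCDS_4 cCDS_5)

def cCDS : Store := (.node 44 cCDS_3 cCDS_6)

noncomputable def cCD : Nat → Nat := get16 cCDS

def cCHS_1 : Store := (.node 11 (.node 5 (.node 2 (.node 1 (.leaf 0x0) (.leaf 0x0)) (.node 3 (.leaf 0x0) (.node 4 (.leaf 0x0) (.leaf 0x0)))) (.node 8 (.node 6 (.leaf 0x0) (.node 7 (.leaf 0x0) (.leaf 0x0))) (.node 9 (.leaf 0x0) (.node 10 (.leaf 0x0) (.leaf 0x0))))) (.node 16 (.node 13 (.node 12 (.leaf 0x0) (.leaf 0x0)) (.node 14 (.leaf 0x0) (.node 15 (.leaf 0x0) (.leaf 0x0)))) (.node 19 (.node 17 (.leaf 0x0) (.node 18 (.leaf 0x0) (.leaf 0x0))) (.node 20 (.leaf 0x0) (.node 21 (.leaf 0x0) (.leaf 0x0))))))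

def cCHS_2 : Store := (.node 33 (.node 27 (.node 24 (.node 23 (.leaf 0x0) (.leaf 0x0)) (.node 25 (.leaf 0x0) (.node 26 (.leaf 0x0) (.leaf 0x0)))) (.node 30 (.node 28 (.leaf 0x0) (.node 29 (.leaf 0x0) (.leaf 0x0))) (.node 31 (.leaf 0x0) (.node 32 (.leaf 0x0) (.leaf 0x0))))) (.node 38 (.node 35 (.node 34 (.leaf 0x0) (.leaf 0x0)) (.node 36 (.leaf 0x0) (.node 37 (.leaf 0x0) (.leaf 0x0)))) (.node 41 (.node 39 (.leaf 0x0) (.node 40 (.leaf 0x0) (.leaf 0x0))) (.node 42 (.leaf 0x0) (.node 43 (.leaf 0x0) (.leaf 0x0))))))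

def cCHS_3 : Store := (.node 22 cCHS_1 cCHS_2)

def cCHS_4 : Store := (.node 55 (.node 49 (.node 46 (.node 45 (.leaf 0x0) (.leaf 0x0)) (.node 47 (.leaf 0x0) (.node 48 (.leaf 0x0) (.leaf 0x0)))) (.node 52 (.node 50 (.leaf 0x0) (.node 51 (.leaf 0x0) (.leaf 0x0))) (.node 53 (.leaf 0x0) (.node 54 (.leaf 0x0) (.leaf 0x0))))) (.node 60 (.node 57 (.node 56 (.leaf 0x0) (.leaf 0x0)) (.node 58 (.leaf 0x0) (.node 59 (.leaf 0x0) (.leaf 0x0)))) (.node 63 (.node 61 (.leaf 0x0) (.node 62 (.leaf 0x0) (.leaf 0x0))) (.node 64 (.leaf 0x0) (.node 65 (.leaf 0x0) (.leaf 0x0))))))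

def cCHS_5 : Store := (.node 77 (.node 71 (.node 68 (.node 67 (.leaf 0x0) (.leaf 0x0)) (.node 69 (.leaf 0x0) (.node 70 (.leaf 0x0) (.leaf 0x0)))) (.node 74 (.node 72 (.leaf 0x0) (.node 73 (.leaf 0x0) (.leaf 0x0))) (.node 75 (.leaf 0x0) (.node 76 (.leaf 0x0) (.leaf 0x0))))) (.node 82 (.node 79 (.node 78 (.leaf 0x0) (.leaf 0x0)) (.node 80 (.leaf 0x0) (.node 81 (.leaf 0x0) (.leaf 0x0)))) (.node 85 (.node 83 (.leaf 0x0) (.node 84 (.leaf 0x0) (.leaf 0x0))) (.node 86 (.leaf 0x0) (.node 87 (.leaf 0x0) (.leaf 0x0))))))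

def cCHS_6 : Store := (.node 66 cCHS_4 cCHS_5)

def cCHS_7 : Store := (.node 44 cCHS_3 cCHS_6)

def cCHS_8 : Store := (.node 99 (.node 93 (.node 90 (.node 89 (.leaf 0x0) (.leaf 0x0)) (.node 91 (.leaf 0x0) (.node 92 (.leaf 0x0) (.leaf 0x0)))) (.node 96 (.node 94 (.leaf 0x0) (.node 95 (.leaf 0x0) (.leaf 0x0))) (.node 97 (.leaf 0x0) (.node 98 (.leaf 0x0) (.leaf 0x0))))) (.node 104 (.node 101 (.node 100 (.leaf 0x0) (.leaf 0x0)) (.node 102 (.leaf 0x0) (.node 103 (.leaf 0x0) (.leaf 0x0)))) (.node 107 (.node 105 (.leaf 0x0) (.node 106 (.leaf 0x0) (.leaf 0x0))) (.node 108 (.leaf 0x0) (.node 109 (.leaf 0x0) (.leaf 0x0))))))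

def cCHS_9 : Store := (.node 121 (.node 115 (.node 112 (.node 111 (.leaf 0x0) (.leaf 0x0)) (.node 113 (.leaf 0x0) (.node 114 (.leaf 0x0) (.leaf 0x0)))) (.node 118 (.node 116 (.leaf 0x0) (.node 117 (.leaf 0x0) (.leaf 0x0))) (.node 119 (.leaf 0x0) (.node 120 (.leaf 0x0) (.leaf 0x0))))) (.node 126 (.node 123 (.node 122 (.leaf 0x0) (.leaf 0x0)) (.node 124 (.leaf 0x0) (.node 125 (.leaf 0x0) (.leaf 0x0)))) (.node 129 (.node 127 (.leaf 0x0) (.node 128 (.leaf 0x0) (.leaf 0x0))) (.node 130 (.leaf 0x0) (.node 131 (.leaf 0x0) (.leaf 0x0))))))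

def cCHS_10 : Store := (.node 110 cCHS_8 cCHS_9)

def cCHS_11 : Store := (.node 143 (.node 137 (.node 134 (.node 133 (.leaf 0x0) (.leaf 0x0)) (.node 135 (.leaf 0x0) (.node 136 (.leaf 0x0) (.leaf 0x0)))) (.node 140 (.node 138 (.leaf 0x0) (.node 139 (.leaf 0x0) (.leaf 0x0))) (.node 141 (.leaf 0x0) (.node 142 (.leaf 0x0) (.leaf 0x0))))) (.node 148 (.node 145 (.node 144 (.leaf 0x0) (.leaf 0x0)) (.node 146 (.leaf 0x0) (.node 147 (.leaf 0x0) (.leaf 0x0)))) (.node 151 (.node 149 (.leaf 0x0) (.node 150 (.leaf 0x0) (.leaf 0x0))) (.node 152 (.leaf 0x0) (.node 153 (.leaf 0x0) (.leaf 0x0))))))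

def cCHS_12 : Store := (.node 165 (.node 159 (.node 156 (.node 155 (.leaf 0x0) (.leaf 0x0)) (.node 157 (.leaf 0x0) (.node 158 (.leaf 0x0) (.leaf 0x0)))) (.node 162 (.node 160 (.leaf 0x0) (.node 161 (.leaf 0x0) (.leaf 0x0))) (.node 163 (.leaf 0x0) (.node 164 (.leaf 0x0) (.leaf 0x0))))) (.node 171 (.node 168 (.node 166 (.leaf 0x0) (.node 167 (.leaf 0x0) (.leaf 0x0))) (.node 169 (.leaf 0x0) (.node 170 (.leaf 0x0) (.leaf 0x0)))) (.node 174 (.node 172 (.leaf 0x0) (.node 173 (.leaf 0x0) (.leaf 0x0))) (.node 175 (.leaf 0x0) (.node 176 (.leaf 0x0) (.leaf 0x0))))))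

def cCHS_13 : Store := (.node 154 cCHS_11 cCHS_12)

def cCHS_14 : Store := (.node 132 cCHS_10 cCHS_13)

def cCHS_15 : Store := (.node 88 cCHS_7 cCHS_14)

def cCHS_16 : Store := (.node 188 (.node 182 (.node 179 (.node 178 (.leaf 0x0) (.leaf 0x0)) (.node 180 (.leaf 0x0) (.node 181 (.leaf 0x0) (.leaf 0x0)))) (.node 185 (.node 183 (.leaf 0x0) (.node 184 (.leaf 0x0) (.leaf 0x0))) (.node 186 (.leaf 0x0) (.node 187 (.leaf 0x0) (.leaf 0x0))))) (.node 193 (.node 190 (.node 189 (.leaf 0x0) (.leaf 0x0)) (.node 191 (.leaf 0x0) (.node 192 (.leaf 0x0) (.leaf 0x0)))) (.node 196 (.node 194 (.leaf 0x0) (.node 195 (.leaf 0x0) (.leaf 0x0))) (.node 197 (.leaf 0x0) (.node 198 (.leaf 0x0) (.leaf 0x0))))))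

def cCHS_17 : Store := (.node 210 (.node 204 (.node 201 (.node 200 (.leaf 0x0) (.leaf 0x0)) (.node 202 (.leaf 0x0) (.node 203 (.leaf 0x0) (.leaf 0x0)))) (.node 207 (.node 205 (.leaf 0x0) (.node 206 (.leaf 0x0) (.leaf 0x0))) (.node 208 (.leaf 0x0) (.node 209 (.leaf 0x0) (.leaf 0x0))))) (.node 215 (.node 212 (.node 211 (.leaf 0x0) (.leaf 0x0)) (.node 213 (.leaf 0x0) (.node 214 (.leaf 0x0) (.leaf 0x0)))) (.node 218 (.node 216 (.leaf 0x0) (.node 217 (.leaf 0x0) (.leaf 0x0))) (.node 219 (.leaf 0x0) (.node 220 (.leaf 0x0) (.leaf 0x0))))))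

def cCHS_18 : Store := (.node 199 cCHS_16 cCHS_17)

def cCHS_19 : Store := (.node 232 (.node 226 (.node 223 (.node 222 (.leaf 0x0) (.leaf 0x0)) (.node 224 (.leaf 0x0) (.node 225 (.leaf 0x0) (.leaf 0x0)))) (.node 229 (.node 227 (.leaf 0x0) (.node 228 (.leaf 0x0) (.leaf 0x0))) (.node 230 (.leaf 0x0) (.node 231 (.leaf 0x0) (.leaf 0x0))))) (.node 237 (.node 234 (.node 233 (.leaf 0x0) (.leaf 0x0)) (.node 235 (.leaf 0x0) (.node 236 (.leaf 0x0) (.leaf 0x0)))) (.node 240 (.node 238 (.leaf 0x0) (.node 239 (.leaf 0x0) (.leaf 0x0))) (.node 241 (.leaf 0x0) (.node 242 (.leaf 0x0) (.leaf 0x0))))))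

def cCHS_20 : Store := (.node 254 (.node 248 (.node 245 (.node 244 (.leaf 0x0) (.leaf 0x0)) (.node 246 (.leaf 0x0) (.node 247 (.leaf 0x0) (.leaf 0x0)))) (.node 251 (.node 249 (.leaf 0x0) (.node 250 (.leaf 0x0) (.leaf 0x0))) (.node 252 (.leaf 0x0) (.node 253 (.leaf 0x0) (.leaf 0x0))))) (.node 259 (.node 256 (.node 255 (.leaf 0x0) (.leaf 0x0)) (.node 257 (.leaf 0x0) (.node 258 (.leaf 0x0) (.leaf 0x0)))) (.node 262 (.node 260 (.leaf 0x0) (.node 261 (.leaf 0x0) (.leaf 0x0))) (.node 263 (.leaf 0x0) (.node 264 (.leaf 0x0) (.leaf 0x0))))))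

def cCHS_21 : Store := (.node 243 cCHS_19 cCHS_20)

def cCHS_22 : Store := (.node 221 cCHS_18 cCHS_21)

def cCHS_23 : Store := (.node 276 (.node 270 (.node 267 (.node 266 (.leaf 0x0) (.leaf 0x0)) (.node 268 (.leaf 0x0) (.node 269 (.leaf 0x0) (.leaf 0x0)))) (.node 273 (.node 271 (.leaf 0x0) (.node 272 (.leaf 0x0) (.leaf 0x0))) (.node 274 (.leaf 0x0) (.node 275 (.leaf 0x0) (.leaf 0x0))))) (.node 281 (.node 278 (.node 277 (.leaf 0x0) (.leaf 0x0)) (.node 279 (.leaf 0x0) (.node 280 (.leaf 0x0) (.leaf 0x0)))) (.node 284 (.node 282 (.leaf 0x0) (.node 283 (.leaf 0x0) (.leaf 0x0))) (.node 285 (.leaf 0x0) (.node 286 (.leaf 0x0) (.leaf 0x0))))))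

def cCHS_24 : Store := (.node 298 (.node 292 (.node 289 (.node 288 (.leaf 0x0) (.leaf 0x0)) (.node 290 (.leaf 0x0) (.node 291 (.leaf 0x0) (.leaf 0x0)))) (.node 295 (.node 293 (.leaf 0x0) (.node 294 (.leaf 0x0) (.leaf 0x0))) (.node 296 (.leaf 0x0) (.node 297 (.leaf 0x0) (.leaf 0x0))))) (.node 303 (.node 300 (.node 299 (.leaf 0x0) (.leaf 0x0)) (.node 301 (.leaf 0x0) (.node 302 (.leaf 0x0) (.leaf 0x0)))) (.node 306 (.node 304 (.leaf 0x0) (.node 305 (.leaf 0x0) (.leaf 0x0))) (.node 307 (.leaf 0x0) (.node 308 (.leaf 0x0) (.leaf 0x0))))))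

def cCHS_25 : Store := (.node 287 cCHS_23 cCHS_24)

def cCHS_26 : Store := (.node 320 (.node 314 (.node 311 (.node 310 (.leaf 0x0) (.leaf 0x0)) (.node 312 (.leaf 0x0) (.node 313 (.leaf 0x0) (.leaf 0x0)))) (.node 317 (.node 315 (.leaf 0x0) (.node 316 (.leaf 0x0) (.leaf 0x0))) (.node 318 (.leaf 0x0) (.node 319 (.leaf 0x0) (.leaf 0x0))))) (.node 325 (.node 322 (.node 321 (.leaf 0x0) (.leaf 0x0)) (.node 323 (.leaf 0x0) (.node 324 (.leaf 0x0) (.leaf 0x0)))) (.node 328 (.node 326 (.leaf 0x0) (.node 327 (.leaf 0x0) (.leaf 0x0))) (.node 329 (.leaf 0x0) (.node 330 (.leaf 0x0) (.leaf 0x0))))))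

def cCHS_27 : Store := (.node 342 (.node 336 (.node 333 (.node 332 (.leaf 0x0) (.leaf 0x0)) (.node 334 (.leaf 0x0) (.node 335 (.leaf 0x0) (.leaf 0x0)))) (.node 339 (.node 337 (.leaf 0x0) (.node 338 (.leaf 0x0) (.leaf 0x0))) (.node 340 (.leaf 0x0) (.node 341 (.leaf 0x0) (.leaf 0x0))))) (.node 348 (.node 345 (.node 343 (.leaf 0x0) (.node 344 (.leaf 0x0) (.leaf 0x0))) (.node 346 (.leaf 0x0) (.node 347 (.leaf 0x0) (.leaf 0x0)))) (.node 351 (.node 349 (.leaf 0x0) (.node 350 (.leaf 0x0) (.leaf 0x0))) (.node 352 (.leaf 0x0) (.node 353 (.leaf 0x0) (.leaf 0x0))))))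

def cCHS_28 : Store := (.node 331 cCHS_26 cCHS_27)

def cCHS_29 : Store := (.node 309 cCHS_25 cCHS_28)

def cCHS_30 : Store := (.node 265 cCHS_22 cCHS_29)

def cCHS_31 : Store := (.node 177 cCHS_15 cCHS_30)

def cCHS_32 : Store := (.node 365 (.node 359 (.node 356 (.node 355 (.leaf 0x0) (.leaf 0x0)) (.node 357 (.leaf 0x0) (.node 358 (.leaf 0x0) (.leaf 0x0)))) (.node 362 (.node 360 (.leaf 0x0) (.node 361 (.leaf 0x0) (.leaf 0x0))) (.node 363 (.leaf 0x0) (.node 364 (.leaf 0x0) (.leaf 0x0))))) (.node 370 (.node 367 (.node 366 (.leaf 0x0) (.leaf 0x0)) (.node 368 (.leaf 0x0) (.node 369 (.leaf 0x0) (.leaf 0x0)))) (.node 373 (.node 371 (.leaf 0x0) (.node 372 (.leaf 0x0) (.leaf 0x0))) (.node 374 (.leaf 0x0) (.node 375 (.leaf 0x0) (.leaf 0x0))))))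

def cCHS_33 : Store := (.node 387 (.node 381 (.node 378 (.node 377 (.leaf 0x0) (.leaf 0x0)) (.node 379 (.leaf 0x0) (.node 380 (.leaf 0x0) (.leaf 0x0)))) (.node 384 (.node 382 (.leaf 0x0) (.node 383 (.leaf 0x0) (.leaf 0x0))) (.node 385 (.leaf 0x0) (.node 386 (.leaf 0x0) (.leaf 0x0))))) (.node 392 (.node 389 (.node 388 (.leaf 0x0) (.leaf 0x0)) (.node 390 (.leaf 0x0) (.node 391 (.leaf 0x0) (.leaf 0x0)))) (.node 395 (.node 393 (.leaf 0x0) (.node 394 (.leaf 0x0) (.leaf 0x0))) (.node 396 (.leaf 0x0) (.node 397 (.leaf 0x0) (.leaf 0x0))))))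

def cCHS_34 : Store := (.node 376 cCHS_32 cCHS_33)

def cCHS_35 : Store := (.node 409 (.node 403 (.node 400 (.node 399 (.leaf 0x0) (.leaf 0x0)) (.node 401 (.leaf 0x0) (.node 402 (.leaf 0x0) (.leaf 0x0)))) (.node 406 (.node 404 (.leaf 0x0) (.node 405 (.leaf 0x0) (.leaf 0x0))) (.node 407 (.leaf 0x0) (.node 408 (.leaf 0x0) (.leaf 0x0))))) (.node 414 (.node 411 (.node 410 (.leaf 0x0) (.leaf 0x0)) (.node 412 (.leaf 0x0) (.node 413 (.leaf 0x0) (.leaf 0x0)))) (.node 417 (.node 415 (.leaf 0x0) (.node 416 (.leaf 0x0) (.leaf 0x0))) (.node 418 (.leaf 0x0) (.node 419 (.leaf 0x0) (.leaf 0x0))))))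

def cCHS_36 : Store := (.node 431 (.node 425 (.node 422 (.node 421 (.leaf 0x0) (.leaf 0x0)) (.node 423 (.leaf 0x0) (.node 424 (.leaf 0x0) (.leaf 0x0)))) (.node 428 (.node 426 (.leaf 0x0) (.node 427 (.leaf 0x0) (.leaf 0x0))) (.node 429 (.leaf 0x0) (.node 430 (.leaf 0x0) (.leaf 0x0))))) (.node 436 (.node 433 (.node 432 (.leaf 0x0) (.leaf 0x0)) (.node 434 (.leaf 0x0) (.node 435 (.leaf 0x0) (.leaf 0x0)))) (.node 439 (.node 437 (.leaf 0x0) (.node 438 (.leaf 0x0) (.leaf 0x0))) (.node 440 (.leaf 0x0) (.node 441 (.leaf 0x0) (.leaf 0x0))))))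

def cCHS_37 : Store := (.node 420 cCHS_35 cCHS_36)

def cCHS_38 : Store := (.node 398 cCHS_34 cCHS_37)

def cCHS_39 : Store := (.node 453 (.node 447 (.node 444 (.node 443 (.leaf 0x0) (.leaf 0x0)) (.node 445 (.leaf 0x0) (.node 446 (.leaf 0x0) (.leaf 0x0)))) (.node 450 (.node 448 (.leaf 0x0) (.node 449 (.leaf 0x0) (.leaf 0x0))) (.node 451 (.leaf 0x0) (.node 452 (.leaf 0x0) (.leaf 0x0))))) (.node 458 (.node 455 (.node 454 (.leaf 0x0) (.leaf 0x0)) (.node 456 (.leaf 0x0) (.node 457 (.leaf 0x0) (.leaf 0x0)))) (.node 461 (.node 459 (.leaf 0x0) (.node 460 (.leaf 0x0) (.leaf 0x0))) (.node 462 (.leaf 0x0) (.node 463 (.leaf 0x0) (.leaf 0x0))))))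

def cCHS_40 : Store := (.node 475 (.node 469 (.node 466 (.node 465 (.leaf 0x0) (.leaf 0x0)) (.node 467 (.leaf 0x0) (.node 468 (.leaf 0x0) (.leaf 0x0)))) (.node 472 (.node 470 (.leaf 0x0) (.node 471 (.leaf 0x0) (.leaf 0x0))) (.node 473 (.leaf 0x0) (.node 474 (.leaf 0x0) (.leaf 0x0))))) (.node 480 (.node 477 (.node 476 (.leaf 0x0) (.leaf 0x0)) (.node 478 (.leaf 0x0) (.node 479 (.leaf 0x0) (.leaf 0x0)))) (.node 483 (.node 481 (.leaf 0x0) (.node 482 (.leaf 0x0) (.leaf 0x0))) (.node 484 (.leaf 0x0) (.node 485 (.leaf 0x0) (.leaf 0x0))))))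

def cCHS_41 : Store := (.node 464 cCHS_39 cCHS_40)

def cCHS_42 : Store := (.node 497 (.node 491 (.node 488 (.node 487 (.leaf 0x0) (.leaf 0x0)) (.node 489 (.leaf 0x0) (.node 490 (.leaf 0x0) (.leaf 0x0)))) (.node 494 (.node 492 (.leaf 0x0) (.node 493 (.leaf 0x0) (.leaf 0x0))) (.node 495 (.leaf 0x0) (.node 496 (.leaf 0x0) (.leaf 0x0))))) (.node 502 (.node 499 (.node 498 (.leaf 0x0) (.leaf 0x0)) (.node 500 (.leaf 0x0) (.node 501 (.leaf 0x0) (.leaf 0x0)))) (.node 505 (.node 503 (.leaf 0x0) (.node 504 (.leaf 0x0) (.leaf 0x0))) (.node 506 (.leaf 0x0) (.node 507 (.leaf 0x0) (.leaf 0x0))))))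

def cCHS_43 : Store := (.node 519 (.node 513 (.node 510 (.node 509 (.leaf 0x0) (.leaf 0x0)) (.node 511 (.leaf 0x0) (.node 512 (.leaf 0x0) (.leaf 0x0)))) (.node 516 (.node 514 (.leaf 0x0) (.node 515 (.leaf 0x0) (.leaf 0x0))) (.node 517 (.leaf 0x0) (.node 518 (.leaf 0x0) (.leaf 0x0))))) (.node 525 (.node 522 (.node 520 (.leaf 0x0) (.node 521 (.leaf 0x0) (.leaf 0x0))) (.node 523 (.leaf 0x0) (.node 524 (.leaf 0x0) (.leaf 0x0)))) (.node 528 (.node 526 (.leaf 0x0) (.node 527 (.leaf 0x0) (.leaf 0x0))) (.node 529 (.leaf 0x0) (.node 530 (.leaf 0x0) (.leaf 0x0))))))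

def cCHS_44 : Store := (.node 508 cCHS_42 cCHS_43)

def cCHS_45 : Store := (.node 486 cCHS_41 cCHS_44)

def cCHS_46 : Store := (.node 442 cCHS_38 cCHS_45)

def cCHS_47 : Store := (.node 542 (.node 536 (.node 533 (.node 532 (.leaf 0x0) (.leaf 0x0)) (.node 534 (.leaf 0x0) (.node 535 (.leaf 0x0) (.leaf 0x0)))) (.node 539 (.node 537 (.leaf 0x0) (.node 538 (.leaf 0x0) (.leaf 0x0))) (.node 540 (.leaf 0x0) (.node 541 (.leaf 0x0) (.leaf 0x0))))) (.node 547 (.node 544 (.node 543 (.leaf 0x0) (.leaf 0x0)) (.node 545 (.leaf 0x0) (.node 546 (.leaf 0x0) (.leaf 0x0)))) (.node 550 (.node 548 (.leaf 0x0) (.node 549 (.leaf 0x0) (.leaf 0x0))) (.node 551 (.leaf 0x0) (.node 552 (.leaf 0x0) (.leaf 0x0))))))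

def cCHS_48 : Store := (.node 564 (.node 558 (.node 555 (.node 554 (.leaf 0x0) (.leaf 0x0)) (.node 556 (.leaf 0x0) (.node 557 (.leaf 0x0) (.leaf 0x0)))) (.node 561 (.node 559 (.leaf 0x0) (.node 560 (.leaf 0x0) (.leaf 0x0))) (.node 562 (.leaf 0x0) (.node 563 (.leaf 0x0) (.leaf 0x0))))) (.node 569 (.node 566 (.node 565 (.leaf 0x0) (.leaf 0x0)) (.node 567 (.leaf 0x0) (.node 568 (.leaf 0x0) (.leaf 0x0)))) (.node 572 (.node 570 (.leaf 0x0) (.node 571 (.leaf 0x0) (.leaf 0x0))) (.node 573 (.leaf 0x0) (.node 574 (.leaf 0x0) (.leaf 0x0))))))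

def cCHS_49 : Store := (.node 553 cCHS_47 cCHS_48)

def cCHS_50 : Store := (.node 586 (.node 580 (.node 577 (.node 576 (.leaf 0x0) (.leaf 0x0)) (.node 578 (.leaf 0x0) (.node 579 (.leaf 0x0) (.leaf 0x0)))) (.node 583 (.node 581 (.leaf 0x0) (.node 582 (.leaf 0x0) (.leaf 0x0))) (.node 584 (.leaf 0x0) (.node 585 (.leaf 0x0) (.leaf 0x0))))) (.node 591 (.node 588 (.node 587 (.leaf 0x0) (.leaf 0x0)) (.node 589 (.leaf 0x0) (.node 590 (.leaf 0x0) (.leaf 0x0)))) (.node 594 (.node 592 (.leaf 0x0) (.node 593 (.leaf 0x0) (.leaf 0x0))) (.node 595 (.leaf 0x0) (.node 596 (.leaf 0x0) (.leaf 0x0))))))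

def cCHS_51 : Store := (.node 608 (.node 602 (.node 599 (.node 598 (.leaf 0x0) (.leaf 0x0)) (.node 600 (.leaf 0x0) (.node 601 (.leaf 0x0) (.leaf 0x0)))) (.node 605 (.node 603 (.leaf 0x0) (.node 604 (.leaf 0x0) (.leaf 0x0))) (.node 606 (.leaf 0x0) (.node 607 (.leaf 0x0) (.leaf 0x0))))) (.node 613 (.node 610 (.node 609 (.leaf 0x0) (.leaf 0x0)) (.node 611 (.leaf 0x0) (.node 612 (.leaf 0x0) (.leaf 0x0)))) (.node 616 (.node 614 (.leaf 0x0) (.node 615 (.leaf 0x0) (.leaf 0x0))) (.node 617 (.leaf 0x0) (.node 618 (.leaf 0x0) (.leaf 0x0))))))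

def cCHS_52 : Store := (.node 597 cCHS_50 cCHS_51)

def cCHS_53 : Store := (.node 575 cCHS_49 cCHS_52)

def cCHS_54 : Store := (.node 630 (.node 624 (.node 621 (.node 620 (.leaf 0x0) (.leaf 0x0)) (.node 622 (.leaf 0x0) (.node 623 (.leaf 0x0) (.leaf 0x0)))) (.node 627 (.node 625 (.leaf 0x0) (.node 626 (.leaf 0x0) (.leaf 0x0))) (.node 628 (.leaf 0x0) (.node 629 (.leaf 0x0) (.leaf 0x0))))) (.node 635 (.node 632 (.node 631 (.leaf 0x0) (.leaf 0x0)) (.node 633 (.leaf 0x0) (.node 634 (.leaf 0x0) (.leaf 0x0)))) (.node 638 (.node 636 (.leaf 0x0) (.node 637 (.leaf 0x0) (.leaf 0x0))) (.node 639 (.leaf 0x0) (.node 640 (.leaf 0x0) (.leaf 0x0))))))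

def cCHS_55 : Store := (.node 652 (.node 646 (.node 643 (.node 642 (.leaf 0x0) (.leaf 0x0)) (.node 644 (.leaf 0x0) (.node 645 (.leaf 0x0) (.leaf 0x0)))) (.node 649 (.node 647 (.leaf 0x0) (.node 648 (.leaf 0x0) (.leaf 0x0))) (.node 650 (.leaf 0x0) (.node 651 (.leaf 0x0) (.leaf 0x0))))) (.node 657 (.node 654 (.node 653 (.leaf 0x0) (.leaf 0x0)) (.node 655 (.leaf 0x0) (.node 656 (.leaf 0x0) (.leaf 0x0)))) (.node 660 (.node 658 (.leaf 0x0) (.node 659 (.leaf 0x0) (.leaf 0x0))) (.node 661 (.leaf 0x0) (.node 662 (.leaf 0x0) (.leaf 0x0))))))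

def cCHS_56 : Store := (.node 641 cCHS_54 cCHS_55)

def cCHS_57 : Store := (.node 674 (.node 668 (.node 665 (.node 664 (.leaf 0x0) (.leaf 0x0)) (.node 666 (.leaf 0x0) (.node 667 (.leaf 0x0) (.leaf 0x0)))) (.node 671 (.node 669 (.leaf 0x0) (.node 670 (.leaf 0x0) (.leaf 0x0))) (.node 672 (.leaf 0x0) (.node 673 (.leaf 0x0) (.leaf 0x0))))) (.node 679 (.node 676 (.node 675 (.leaf 0x0) (.leaf 0x0)) (.node 677 (.leaf 0x0) (.node 678 (.leaf 0x0) (.leaf 0x0)))) (.node 682 (.node 680 (.leaf 0x0) (.node 681 (.leaf 0x0) (.leaf 0x0))) (.node 683 (.leaf 0x0) (.node 684 (.leaf 0x0) (.leaf 0x0))))))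

def cCHS_58 : Store := (.node 696 (.node 690 (.node 687 (.node 686 (.leaf 0x0) (.leaf 0x0)) (.node 688 (.leaf 0x0) (.node 689 (.leaf 0x0) (.leaf 0x0)))) (.node 693 (.node 691 (.leaf 0x0) (.node 692 (.leaf 0x0) (.leaf 0x0))) (.node 694 (.leaf 0x0) (.node 695 (.leaf 0x0) (.leaf 0x0))))) (.node 702 (.node 699 (.node 697 (.leaf 0x0) (.node 698 (.leaf 0x0) (.leaf 0x0))) (.node 700 (.leaf 0x0) (.node 701 (.leaf 0x0) (.leaf 0x0)))) (.node 705 (.node 703 (.leaf 0x0) (.node 704 (.leaf 0x0) (.leaf 0x0))) (.node 706 (.leaf 0x0) (.node 707 (.leaf 0x0) (.leaf 0x0))))))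

def cCHS_59 : Store := (.node 685 cCHS_57 cCHS_58)

def cCHS_60 : Store := (.node 663 cCHS_56 cCHS_59)

def cCHS_61 : Store := (.node 619 cCHS_53 cCHS_60)

def cCHS_62 : Store := (.node 531 cCHS_46 cCHS_61)

def cCHS_63 : Store := (.node 354 cCHS_31 cCHS_62)

def cCHS_64 : Store := (.node 719 (.node 713 (.node 710 (.node 709 (.leaf 0x0) (.leaf 0x0)) (.node 711 (.leaf 0x0) (.node 712 (.leaf 0x0) (.leaf 0x0)))) (.node 716 (.node 714 (.leaf 0x0) (.node 715 (.leaf 0x0) (.leaf 0x0))) (.node 717 (.leaf 0x0) (.node 718 (.leaf 0x0) (.leaf 0x0))))) (.node 724 (.node 721 (.node 720 (.leaf 0x0) (.leaf 0x0)) (.node 722 (.leaf 0x0) (.node 723 (.leaf 0x0) (.leaf 0x0)))) (.node 727 (.node 725 (.leaf 0x0) (.node 726 (.leaf 0x0) (.leaf 0x0))) (.node 728 (.leaf 0x0) (.node 729 (.leaf 0x0) (.leaf 0x0))))))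

def cCHS_65 : Store := (.node 741 (.node 735 (.node 732 (.node 731 (.leaf 0x0) (.leaf 0x0)) (.node 733 (.leaf 0x0) (.node 734 (.leaf 0x0) (.leaf 0x0)))) (.node 738 (.node 736 (.leaf 0x0) (.node 737 (.leaf 0x0) (.leaf 0x0))) (.node 739 (.leaf 0x0) (.node 740 (.leaf 0x0) (.leaf 0x0))))) (.node 746 (.node 743 (.node 742 (.leaf 0x0) (.leaf 0x0)) (.node 744 (.leaf 0x0) (.node 745 (.leaf 0x0) (.leaf 0x0)))) (.node 749 (.node 747 (.leaf 0x0) (.node 748 (.leaf 0x0) (.leaf 0x0))) (.node 750 (.leaf 0x0) (.node 751 (.leaf 0x0) (.leaf 0x0))))))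

def cCHS_66 : Store := (.node 730 cCHS_64 cCHS_65)

def cCHS_67 : Store := (.node 763 (.node 757 (.node 754 (.node 753 (.leaf 0x0) (.leaf 0x0)) (.node 755 (.leaf 0x0) (.node 756 (.leaf 0x0) (.leaf 0x0)))) (.node 760 (.node 758 (.leaf 0x0) (.node 759 (.leaf 0x0) (.leaf 0x0))) (.node 761 (.leaf 0x0) (.node 762 (.leaf 0x0) (.leaf 0x0))))) (.node 768 (.node 765 (.node 764 (.leaf 0x0) (.leaf 0x0)) (.node 766 (.leaf 0x0) (.node 767 (.leaf 0x0) (.leaf 0x0)))) (.node 771 (.node 769 (.leaf 0x0) (.node 770 (.leaf 0x0) (.leaf 0x0))) (.node 772 (.leaf 0x0) (.node 773 (.leaf 0x0) (.leaf 0x0))))))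

def cCHS_68 : Store := (.node 785 (.node 779 (.node 776 (.node 775 (.leaf 0x0) (.leaf 0x0)) (.node 777 (.leaf 0x0) (.node 778 (.leaf 0x0) (.leaf 0x0)))) (.node 782 (.node 780 (.leaf 0x0) (.node 781 (.leaf 0x0) (.leaf 0x0))) (.node 783 (.leaf 0x0) (.node 784 (.leaf 0x0) (.leaf 0x0))))) (.node 790 (.node 787 (.node 786 (.leaf 0x0) (.leaf 0x0)) (.node 788 (.leaf 0x0) (.node 789 (.leaf 0x0) (.leaf 0x0)))) (.node 793 (.node 791 (.leaf 0x0) (.node 792 (.leaf 0x0) (.leaf 0x0))) (.node 794 (.leaf 0x0) (.node 795 (.leaf 0x0) (.leaf 0x0))))))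

def cCHS_69 : Store := (.node 774 cCHS_67 cCHS_68)

def cCHS_70 : Store := (.node 752 cCHS_66 cCHS_69)

def cCHS_71 : Store := (.node 807 (.node 801 (.node 798 (.node 797 (.leaf 0x0) (.leaf 0x0)) (.node 799 (.leaf 0x0) (.node 800 (.leaf 0x0) (.leaf 0x0)))) (.node 804 (.node 802 (.leaf 0x0) (.node 803 (.leaf 0x0) (.leaf 0x0))) (.node 805 (.leaf 0x0) (.node 806 (.leaf 0x0) (.leaf 0x0))))) (.node 812 (.node 809 (.node 808 (.leaf 0x0) (.leaf 0x0)) (.node 810 (.leaf 0x0) (.node 811 (.leaf 0x0) (.leaf 0x0)))) (.node 815 (.node 813 (.leaf 0x0) (.node 814 (.leaf 0x0) (.leaf 0x0))) (.node 816 (.leaf 0x0) (.node 817 (.leaf 0x0) (.leaf 0x0))))))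

def cCHS_72 : Store := (.node 829 (.node 823 (.node 820 (.node 819 (.leaf 0x0) (.leaf 0x0)) (.node 821 (.leaf 0x0) (.node 822 (.leaf 0x0) (.leaf 0x0)))) (.node 826 (.node 824 (.leaf 0x0) (.node 825 (.leaf 0x0) (.leaf 0x0))) (.node 827 (.leaf 0x0) (.node 828 (.leaf 0x0) (.leaf 0x0))))) (.node 834 (.node 831 (.node 830 (.leaf 0x0) (.leaf 0x0)) (.node 832 (.leaf 0x0) (.node 833 (.leaf 0x0) (.leaf 0x0)))) (.node 837 (.node 835 (.leaf 0x0) (.node 836 (.leaf 0x0) (.leaf 0x0))) (.node 838 (.leaf 0x0) (.node 839 (.leaf 0x0) (.leaf 0x0))))))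

def cCHS_73 : Store := (.node 818 cCHS_71 cCHS_72)

def cCHS_74 : Store := (.node 851 (.node 845 (.node 842 (.node 841 (.leaf 0x0) (.leaf 0x0)) (.node 843 (.leaf 0x0) (.node 844 (.leaf 0x0) (.leaf 0x0)))) (.node 848 (.node 846 (.leaf 0x0) (.node 847 (.leaf 0x0) (.leaf 0x0))) (.node 849 (.leaf 0x0) (.node 850 (.leaf 0x0) (.leaf 0x0))))) (.node 856 (.node 853 (.node 852 (.leaf 0x0) (.leaf 0x0)) (.node 854 (.leaf 0x0) (.node 855 (.leaf 0x0) (.leaf 0x0)))) (.node 859 (.node 857 (.leaf 0x0) (.node 858 (.leaf 0x0) (.leaf 0x0))) (.node 860 (.leaf 0x0) (.node 861 (.leaf 0x0) (.leaf 0x0))))))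

def cCHS_75 : Store := (.node 873 (.node 867 (.node 864 (.node 863 (.leaf 0x0) (.leaf 0x0)) (.node 865 (.leaf 0x0) (.node 866 (.leaf 0x0) (.leaf 0x0)))) (.node 870 (.node 868 (.leaf 0x0) (.node 869 (.leaf 0x0) (.leaf 0x0))) (.node 871 (.leaf 0x0) (.node 872 (.leaf 0x0) (.leaf 0x0))))) (.node 879 (.node 876 (.node 874 (.leaf 0x0) (.node 875 (.leaf 0x0) (.leaf 0x0))) (.node 877 (.leaf 0x0) (.node 878 (.leaf 0x0) (.leaf 0x0)))) (.node 882 (.node 880 (.leaf 0x0) (.node 881 (.leaf 0x0) (.leaf 0x0))) (.node 883 (.leaf 0x0) (.node 884 (.leaf 0x0) (.leaf 0x0))))))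

def cCHS_76 : Store := (.node 862 cCHS_74 cCHS_75)

def cCHS_77 : Store := (.node 840 cCHS_73 cCHS_76)

def cCHS_78 : Store := (.node 796 cCHS_70 cCHS_77)

def cCHS_79 : Store := (.node 896 (.node 890 (.node 887 (.node 886 (.leaf 0x0) (.leaf 0x0)) (.node 888 (.leaf 0x0) (.node 889 (.leaf 0x0) (.leaf 0x0)))) (.node 893 (.node 891 (.leaf 0x0) (.node 892 (.leaf 0x0) (.leaf 0x0))) (.node 894 (.leaf 0x0) (.node 895 (.leaf 0x0) (.leaf 0x0))))) (.node 901 (.node 898 (.node 897 (.leaf 0x0) (.leaf 0x0)) (.node 899 (.leaf 0x0) (.node 900 (.leaf 0x0) (.leaf 0x0)))) (.node 904 (.node 902 (.leaf 0x0) (.node 903 (.leaf 0x0) (.leaf 0x0))) (.node 905 (.leaf 0x0) (.node 906 (.leaf 0x0) (.leaf 0x0))))))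

def cCHS_80 : Store := (.node 918 (.node 912 (.node 909 (.node 908 (.leaf 0x0) (.leaf 0x0)) (.node 910 (.leaf 0x0) (.node 911 (.leaf 0x0) (.leaf 0x0)))) (.node 915 (.node 913 (.leaf 0x0) (.node 914 (.leaf 0x0) (.leaf 0x0))) (.node 916 (.leaf 0x0) (.node 917 (.leaf 0x0) (.leaf 0x0))))) (.node 923 (.node 920 (.node 919 (.leaf 0x0) (.leaf 0x0)) (.node 921 (.leaf 0x0) (.node 922 (.leaf 0x0) (.leaf 0x0)))) (.node 926 (.node 924 (.leaf 0x0) (.node 925 (.leaf 0x0) (.leaf 0x0))) (.node 927 (.leaf 0x0) (.node 928 (.leaf 0x0) (.leaf 0x0))))))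

def cCHS_81 : Store := (.node 907 cCHS_79 cCHS_80)

def cCHS_82 : Store := (.node 940 (.node 934 (.node 931 (.node 930 (.leaf 0x0) (.leaf 0x0)) (.node 932 (.leaf 0x0) (.node 933 (.leaf 0x0) (.leaf 0x0)))) (.node 937 (.node 935 (.leaf 0x0) (.node 936 (.leaf 0x0) (.leaf 0x0))) (.node 938 (.leaf 0x0) (.node 939 (.leaf 0x0) (.leaf 0x0))))) (.node 945 (.node 942 (.node 941 (.leaf 0x0) (.leaf 0x0)) (.node 943 (.leaf 0x0) (.node 944 (.leaf 0x0) (.leaf 0x0)))) (.node 948 (.node 946 (.leaf 0x0) (.node 947 (.leaf 0x0) (.leaf 0x0))) (.node 949 (.leaf 0x0) (.node 950 (.leaf 0x0) (.leaf 0x0))))))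

def cCHS_83 : Store := (.node 962 (.node 956 (.node 953 (.node 952 (.leaf 0x0) (.leaf 0x0)) (.node 954 (.leaf 0x0) (.node 955 (.leaf 0x0) (.leaf 0x0)))) (.node 959 (.node 957 (.leaf 0x0) (.node 958 (.leaf 0x0) (.leaf 0x0))) (.node 960 (.leaf 0x0) (.node 961 (.leaf 0x0) (.leaf 0x0))))) (.node 967 (.node 964 (.node 963 (.leaf 0x0) (.leaf 0x0)) (.node 965 (.leaf 0x0) (.node 966 (.leaf 0x0) (.leaf 0x0)))) (.node 970 (.node 968 (.leaf 0x0) (.node 969 (.leaf 0x0) (.leaf 0x0))) (.node 971 (.leaf 0x0) (.node 972 (.leaf 0x0) (.leaf 0x0))))))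

def cCHS_84 : Store := (.node 951 cCHS_82 cCHS_83)

def cCHS_85 : Store := (.node 929 cCHS_81 cCHS_84)

def cCHS_86 : Store := (.node 984 (.node 978 (.node 975 (.node 974 (.leaf 0x0) (.leaf 0x0)) (.node 976 (.leaf 0x0) (.node 977 (.leaf 0x0) (.leaf 0x0)))) (.node 981 (.node 979 (.leaf 0x0) (.node 980 (.leaf 0x0) (.leaf 0x0))) (.node 982 (.leaf 0x0) (.node 983 (.leaf 0x0) (.leaf 0x0))))) (.node 989 (.node 986 (.node 985 (.leaf 0x0) (.leaf 0x0)) (.node 987 (.leaf 0x0) (.node 988 (.leaf 0x0) (.leaf 0x0)))) (.node 992 (.node 990 (.leaf 0x0) (.node 991 (.leaf 0x0) (.leaf 0x0))) (.node 993 (.leaf 0x0) (.node 994 (.leaf 0x0) (.leaf 0x0))))))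

def cCHS_87 : Store := (.node 1006 (.node 1000 (.node 997 (.node 996 (.leaf 0x0) (.leaf 0x0)) (.node 998 (.leaf 0x0) (.node 999 (.leaf 0x0) (.leaf 0x0)))) (.node 1003 (.node 1001 (.leaf 0x0) (.node 1002 (.leaf 0x0) (.leaf 0x0))) (.node 1004 (.leaf 0x0) (.node 1005 (.leaf 0x0) (.leaf 0x0))))) (.node 1011 (.node 1008 (.node 1007 (.leaf 0x0) (.leaf 0x0)) (.node 1009 (.leaf 0x0) (.node 1010 (.leaf 0x0) (.leaf 0x0)))) (.node 1014 (.node 1012 (.leaf 0x0) (.node 1013 (.leaf 0x0) (.leaf 0x0))) (.node 1015 (.leaf 0x0) (.node 1016 (.leaf 0x0) (.leaf 0x0))))))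

def cCHS_88 : Store := (.node 995 cCHS_86 cCHS_87)

def cCHS_89 : Store := (.node 1028 (.node 1022 (.node 1019 (.node 1018 (.leaf 0x0) (.leaf 0x0)) (.node 1020 (.leaf 0x0) (.node 1021 (.leaf 0x0) (.leaf 0x0)))) (.node 1025 (.node 1023 (.leaf 0x0) (.node 1024 (.leaf 0x0) (.leaf 0x0))) (.node 1026 (.leaf 0x0) (.node 1027 (.leaf 0x0) (.leaf 0x0))))) (.node 1033 (.node 1030 (.node 1029 (.leaf 0x0) (.leaf 0x0)) (.node 1031 (.leaf 0x0) (.node 1032 (.leaf 0x0) (.leaf 0x0)))) (.node 1036 (.node 1034 (.leaf 0x0) (.node 1035 (.leaf 0x0) (.leaf 0x0))) (.node 1037 (.leaf 0x0) (.node 1038 (.leaf 0x0) (.leaf 0x0))))))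

def cCHS_90 : Store := (.node 1050 (.node 1044 (.node 1041 (.node 1040 (.leaf 0x0) (.leaf 0x0)) (.node 1042 (.leaf 0x0) (.node 1043 (.leaf 0x0) (.leaf 0x0)))) (.node 1047 (.node 1045 (.leaf 0x0) (.node 1046 (.leaf 0x0) (.leaf 0x0))) (.node 1048 (.leaf 0x0) (.node 1049 (.leaf 0x0) (.leaf 0x0))))) (.node 1056 (.node 1053 (.node 1051 (.leaf 0x0) (.node 1052 (.leaf 0x0) (.leaf 0x0))) (.node 1054 (.leaf 0x0) (.node 1055 (.leaf 0x0) (.leaf 0x0)))) (.node 1059 (.node 1057 (.leaf 0x0) (.node 1058 (.leaf 0x0) (.leaf 0x0))) (.node 1060 (.leaf 0x0) (.node 1061 (.leaf 0x0) (.leaf 0x0))))))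

def cCHS_91 : Store := (.node 1039 cCHS_89 cCHS_90)

def cCHS_92 : Store := (.node 1017 cCHS_88 cCHS_91)

def cCHS_93 : Store := (.node 973 cCHS_85 cCHS_92)

def cCHS_94 : Store := (.node 885 cCHS_78 cCHS_93)

def cCHS_95 : Store := (.node 1073 (.node 1067 (.node 1064 (.node 1063 (.leaf 0x0) (.leaf 0x0)) (.node 1065 (.leaf 0x0) (.node 1066 (.leaf 0x0) (.leaf 0x0)))) (.node 1070 (.node 1068 (.leaf 0x0) (.node 1069 (.leaf 0x0) (.leaf 0x0))) (.node 1071 (.leaf 0x0) (.node 1072 (.leaf 0x0) (.leaf 0x0))))) (.node 1078 (.node 1075 (.node 1074 (.leaf 0x0) (.leaf 0x0)) (.node 1076 (.leaf 0x0) (.node 1077 (.leaf 0x0) (.leaf 0x0)))) (.node 1081 (.node 1079 (.leaf 0x0) (.node 1080 (.leaf 0x0) (.leaf 0x0))) (.node 1082 (.leaf 0x0) (.node 1083 (.leaf 0x0) (.leaf 0x0))))))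

def cCHS_96 : Store := (.node 1095 (.node 1089 (.node 1086 (.node 1085 (.leaf 0x0) (.leaf 0x0)) (.node 1087 (.leaf 0x0) (.node 1088 (.leaf 0x0) (.leaf 0x0)))) (.node 1092 (.node 1090 (.leaf 0x0) (.node 1091 (.leaf 0x0) (.leaf 0x0))) (.node 1093 (.leaf 0x0) (.node 1094 (.leaf 0x0) (.leaf 0x0))))) (.node 1100 (.node 1097 (.node 1096 (.leaf 0x0) (.leaf 0x0)) (.node 1098 (.leaf 0x0) (.node 1099 (.leaf 0x0) (.leaf 0x0)))) (.node 1103 (.node 1101 (.leaf 0x0) (.node 1102 (.leaf 0x0) (.leaf 0x0))) (.node 1104 (.leaf 0x0) (.node 1105 (.leaf 0x0) (.leaf 0x0))))))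

def cCHS_97 : Store := (.node 1084 cCHS_95 cCHS_96)

def cCHS_98 : Store := (.node 1117 (.node 1111 (.node 1108 (.node 1107 (.leaf 0x0) (.leaf 0x0)) (.node 1109 (.leaf 0x0) (.node 1110 (.leaf 0x0) (.leaf 0x0)))) (.node 1114 (.node 1112 (.leaf 0x0) (.node 1113 (.leaf 0x0) (.leaf 0x0))) (.node 1115 (.leaf 0x0) (.node 1116 (.leaf 0x0) (.leaf 0x0))))) (.node 1122 (.node 1119 (.node 1118 (.leaf 0x0) (.leaf 0x0)) (.node 1120 (.leaf 0x0) (.node 1121 (.leaf 0x0) (.leaf 0x0)))) (.node 1125 (.node 1123 (.leaf 0x0) (.node 1124 (.leaf 0x0) (.leaf 0x0))) (.node 1126 (.leaf 0x0) (.node 1127 (.leaf 0x0) (.leaf 0x0))))))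

def cCHS_99 : Store := (.node 1139 (.node 1133 (.node 1130 (.node 1129 (.leaf 0x0) (.leaf 0x0)) (.node 1131 (.leaf 0x0) (.node 1132 (.leaf 0x0) (.leaf 0x0)))) (.node 1136 (.node 1134 (.leaf 0x0) (.node 1135 (.leaf 0x0) (.leaf 0x0))) (.node 1137 (.leaf 0x0) (.node 1138 (.leaf 0x0) (.leaf 0x0))))) (.node 1144 (.node 1141 (.node 1140 (.leaf 0x0) (.leaf 0x0)) (.node 1142 (.leaf 0x0) (.node 1143 (.leaf 0x0) (.leaf 0x0)))) (.node 1147 (.node 1145 (.leaf 0x0) (.node 1146 (.leaf 0x0) (.leaf 0x0))) (.node 1148 (.leaf 0x0) (.node 1149 (.leaf 0x0) (.leaf 0x0))))))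

def cCHS_100 : Store := (.node 1128 cCHS_98 cCHS_99)

def cCHS_101 : Store := (.node 1106 cCHS_97 cCHS_100)

def cCHS_102 : Store := (.node 1161 (.node 1155 (.node 1152 (.node 1151 (.leaf 0x0) (.leaf 0x0)) (.node 1153 (.leaf 0x0) (.node 1154 (.leaf 0x0) (.leaf 0x0)))) (.node 1158 (.node 1156 (.leaf 0x0) (.node 1157 (.leaf 0x0) (.leaf 0x0))) (.node 1159 (.leaf 0x0) (.node 1160 (.leaf 0x0) (.leaf 0x0))))) (.node 1166 (.node 1163 (.node 1162 (.leaf 0x0) (.leaf 0x0)) (.node 1164 (.leaf 0x0) (.node 1165 (.leaf 0x0) (.leaf 0x0)))) (.node 1169 (.node 1167 (.leaf 0x0) (.node 1168 (.leaf 0x0) (.leaf 0x0))) (.node 1170 (.leaf 0x0) (.node 1171 (.leaf 0x0) (.leaf 0x0))))))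

def cCHS_103 : Store := (.node 1183 (.node 1177 (.node 1174 (.node 1173 (.leaf 0x0) (.leaf 0x0)) (.node 1175 (.leaf 0x0) (.node 1176 (.leaf 0x0) (.leaf 0x0)))) (.node 1180 (.node 1178 (.leaf 0x0) (.node 1179 (.leaf 0x0) (.leaf 0x0))) (.node 1181 (.leaf 0x0) (.node 1182 (.leaf 0x0) (.leaf 0x0))))) (.node 1188 (.node 1185 (.node 1184 (.leaf 0x0) (.leaf 0x0)) (.node 1186 (.leaf 0x0) (.node 1187 (.leaf 0x0) (.leaf 0x0)))) (.node 1191 (.node 1189 (.leaf 0x0) (.node 1190 (.leaf 0x0) (.leaf 0x0))) (.node 1192 (.leaf 0x0) (.node 1193 (.leaf 0x0) (.leaf 0x0))))))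

def cCHS_104 : Store := (.node 1172 cCHS_102 cCHS_103)

def cCHS_105 : Store := (.node 1205 (.node 1199 (.node 1196 (.node 1195 (.leaf 0x0) (.leaf 0x0)) (.node 1197 (.leaf 0x0) (.node 1198 (.leaf 0x0) (.leaf 0x0)))) (.node 1202 (.node 1200 (.leaf 0x0) (.node 1201 (.leaf 0x0) (.leaf 0x0))) (.node 1203 (.leaf 0x0) (.node 1204 (.leaf 0x0) (.leaf 0x0))))) (.node 1210 (.node 1207 (.node 1206 (.leaf 0x0) (.leaf 0x0)) (.node 1208 (.leaf 0x0) (.node 1209 (.leaf 0x0) (.leaf 0x0)))) (.node 1213 (.node 1211 (.leaf 0x0) (.node 1212 (.leaf 0x0) (.leaf 0x0))) (.node 1214 (.leaf 0x0) (.node 1215 (.leaf 0x0) (.leaf 0x0))))))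

def cCHS_106 : Store := (.node 1227 (.node 1221 (.node 1218 (.node 1217 (.leaf 0x0) (.leaf 0x0)) (.node 1219 (.leaf 0x0) (.node 1220 (.leaf 0x0) (.leaf 0x0)))) (.node 1224 (.node 1222 (.leaf 0x0) (.node 1223 (.leaf 0x0) (.leaf 0x0))) (.node 1225 (.leaf 0x0) (.node 1226 (.leaf 0x0) (.leaf 0x0))))) (.node 1233 (.node 1230 (.node 1228 (.leaf 0x0) (.node 1229 (.leaf 0x0) (.leaf 0x0))) (.node 1231 (.leaf 0x0) (.node 1232 (.leaf 0x0) (.leaf 0x0)))) (.node 1236 (.node 1234 (.leaf 0x0) (.node 1235 (.leaf 0x0) (.leaf 0x0))) (.node 1237 (.leaf 0x0) (.node 1238 (.leaf 0x0) (.leaf 0x0))))))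

def cCHS_107 : Store := (.node 1216 cCHS_105 cCHS_106)

def cCHS_108 : Store := (.node 1194 cCHS_104 cCHS_107)

def cCHS_109 : Store := (.node 1150 cCHS_101 cCHS_108)

def cCHS_110 : Store := (.node 1250 (.node 1244 (.node 1241 (.node 1240 (.leaf 0x0) (.leaf 0x0)) (.node 1242 (.leaf 0x0) (.node 1243 (.leaf 0x0) (.leaf 0x0)))) (.node 1247 (.node 1245 (.leaf 0x0) (.node 1246 (.leaf 0x0) (.leaf 0x0))) (.node 1248 (.leaf 0x0) (.node 1249 (.leaf 0x0) (.leaf 0x0))))) (.node 1255 (.node 1252 (.node 1251 (.leaf 0x0) (.leaf 0x0)) (.node 1253 (.leaf 0x0) (.node 1254 (.leaf 0x0) (.leaf 0x0)))) (.node 1258 (.node 1256 (.leaf 0x0) (.node 1257 (.leaf 0x0) (.leaf 0x0))) (.node 1259 (.leaf 0x0) (.node 1260 (.leaf 0x0) (.leaf 0x0))))))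

def cCHS_111 : Store := (.node 1272 (.node 1266 (.node 1263 (.node 1262 (.leaf 0x1) (.leaf 0x10000030000010007)) (.node 1264 (.leaf 0x10001) (.node 1265 (.leaf 0x0) (.leaf 0x0)))) (.node 1269 (.node 1267 (.leaf 0x30000010000030007) (.node 1268 (.leaf 0x30001) (.leaf 0x0))) (.node 1270 (.leaf 0x20001) (.node 1271 (.leaf 0x0) (.leaf 0x0))))) (.node 1277 (.node 1274 (.node 1273 (.leaf 0x0) (.leaf 0x0)) (.node 1275 (.leaf 0x0) (.node 1276 (.leaf 0x0) (.leaf 0x0)))) (.node 1280 (.node 1278 (.leaf 0x0) (.node 1279 (.leaf 0x0) (.leaf 0x0))) (.node 1281 (.leaf 0x0) (.node 1282 (.leaf 0x0) (.leaf 0x0))))))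

def cCHS_112 : Store := (.node 1261 cCHS_110 cCHS_111)

def cCHS_113 : Store := (.node 1294 (.node 1288 (.node 1285 (.node 1284 (.leaf 0x0) (.leaf 0x0)) (.node 1286 (.leaf 0x0) (.node 1287 (.leaf 0x0) (.leaf 0x0)))) (.node 1291 (.node 1289 (.leaf 0x0) (.node 1290 (.leaf 0x0) (.leaf 0x0))) (.node 1292 (.leaf 0x0) (.node 1293 (.leaf 0x0) (.leaf 0x0))))) (.node 1299 (.node 1296 (.node 1295 (.leaf 0x0) (.leaf 0x0)) (.node 1297 (.leaf 0x0) (.node 1298 (.leaf 0x0) (.leaf 0x0)))) (.node 1302 (.node 1300 (.leaf 0x0) (.node 1301 (.leaf 0x0) (.leaf 0x0))) (.node 1303 (.leaf 0x0) (.node 1304 (.leaf 0x0) (.leaf 0x0))))))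

def cCHS_114 : Store := (.node 1316 (.node 1310 (.node 1307 (.node 1306 (.leaf 0x0) (.leaf 0x0)) (.node 1308 (.leaf 0x0) (.node 1309 (.leaf 0x0) (.leaf 0x0)))) (.node 1313 (.node 1311 (.leaf 0x0) (.node 1312 (.leaf 0x0) (.leaf 0x0))) (.node 1314 (.leaf 0x0) (.node 1315 (.leaf 0x0) (.leaf 0x0))))) (.node 1322 (.node 1319 (.node 1317 (.leaf 0x0) (.node 1318 (.leaf 0x0) (.leaf 0x0))) (.node 1320 (.leaf 0x0) (.node 1321 (.leaf 0x0) (.leaf 0x0)))) (.node 1325 (.node 1323 (.leaf 0x0) (.node 1324 (.leaf 0x0) (.leaf 0x0))) (.node 1326 (.leaf 0x0) (.node 1327 (.leaf 0x0) (.leaf 0x0))))))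

def cCHS_115 : Store := (.node 1305 cCHS_113 cCHS_114)

def cCHS_116 : Store := (.node 1283 cCHS_112 cCHS_115)

def cCHS_117 : Store := (.node 1339 (.node 1333 (.node 1330 (.node 1329 (.leaf 0x0) (.leaf 0x0)) (.node 1331 (.leaf 0x0) (.node 1332 (.leaf 0x0) (.leaf 0x0)))) (.node 1336 (.node 1334 (.leaf 0x0) (.node 1335 (.leaf 0x0) (.leaf 0x0))) (.node 1337 (.leaf 0x0) (.node 1338 (.leaf 0x0) (.leaf 0x0))))) (.node 1344 (.node 1341 (.node 1340 (.leaf 0x0) (.leaf 0x0)) (.node 1342 (.leaf 0x0) (.node 1343 (.leaf 0x0) (.leaf 0x0)))) (.node 1347 (.node 1345 (.leaf 0x0) (.node 1346 (.leaf 0x0) (.leaf 0x0))) (.node 1348 (.leaf 0x0) (.node 1349 (.leaf 0x0) (.leaf 0x0))))))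

def cCHS_118 : Store := (.node 1361 (.node 1355 (.node 1352 (.node 1351 (.leaf 0x0) (.leaf 0x0)) (.node 1353 (.leaf 0x0) (.node 1354 (.leaf 0x0) (.leaf 0x0)))) (.node 1358 (.node 1356 (.leaf 0x0) (.node 1357 (.leaf 0x0) (.leaf 0x0))) (.node 1359 (.leaf 0x0) (.node 1360 (.leaf 0x0) (.leaf 0x0))))) (.node 1366 (.node 1363 (.node 1362 (.leaf 0x0) (.leaf 0x0)) (.node 1364 (.leaf 0x0) (.node 1365 (.leaf 0x0) (.leaf 0x0)))) (.node 1369 (.node 1367 (.leaf 0x0) (.node 1368 (.leaf 0x0) (.leaf 0x0))) (.node 1370 (.leaf 0x0) (.node 1371 (.leaf 0x0) (.leaf 0x0))))))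

def cCHS_119 : Store := (.node 1350 cCHS_117 cCHS_118)

def cCHS_120 : Store := (.node 1383 (.node 1377 (.node 1374 (.node 1373 (.leaf 0x0) (.leaf 0x0)) (.node 1375 (.leaf 0x0) (.node 1376 (.leaf 0x0) (.leaf 0x0)))) (.node 1380 (.node 1378 (.leaf 0x0) (.node 1379 (.leaf 0x0) (.leaf 0x0))) (.node 1381 (.leaf 0x0) (.node 1382 (.leaf 0x0) (.leaf 0x0))))) (.node 1388 (.node 1385 (.node 1384 (.leaf 0x0) (.leaf 0x0)) (.node 1386 (.leaf 0x0) (.node 1387 (.leaf 0x0) (.leaf 0x0)))) (.node 1391 (.node 1389 (.leaf 0x0) (.node 1390 (.leaf 0x0) (.leaf 0x0))) (.node 1392 (.leaf 0x0) (.node 1393 (.leaf 0x0) (.leaf 0x0))))))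

def cCHS_121 : Store := (.node 1405 (.node 1399 (.node 1396 (.node 1395 (.leaf 0x0) (.leaf 0x0)) (.node 1397 (.leaf 0x0) (.node 1398 (.leaf 0x0) (.leaf 0x0)))) (.node 1402 (.node 1400 (.leaf 0x0) (.node 1401 (.leaf 0x0) (.leaf 0x0))) (.node 1403 (.leaf 0x0) (.node 1404 (.leaf 0x0) (.leaf 0x0))))) (.node 1411 (.node 1408 (.node 1406 (.leaf 0x0) (.node 1407 (.leaf 0x0) (.leaf 0x0))) (.node 1409 (.leaf 0x0) (.node 1410 (.leaf 0x0) (.leaf 0x0)))) (.node 1414 (.node 1412 (.leaf 0x0) (.node 1413 (.leaf 0x0) (.leaf 0x0))) (.node 1415 (.leaf 0x0) (.node 1416 (.leaf 0x0) (.leaf 0x0))))))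

def cCHS_122 : Store := (.node 1394 cCHS_120 cCHS_121)

def cCHS_123 : Store := (.node 1372 cCHS_119 cCHS_122)

def cCHS_124 : Store := (.node 1328 cCHS_116 cCHS_123)

def cCHS_125 : Store := (.node 1239 cCHS_109 cCHS_124)

def cCHS_126 : Store := (.node 1062 cCHS_94 cCHS_125)

def cCHS_127 : Store := (.node 708 cCHS_63 cCHS_126)

def cCHS_128 : Store := (.node 1428 (.node 1422 (.node 1419 (.node 1418 (.leaf 0x0) (.leaf 0x0)) (.node 1420 (.leaf 0x0) (.node 1421 (.leaf 0x0) (.leaf 0x0)))) (.node 1425 (.node 1423 (.leaf 0x0) (.node 1424 (.leaf 0x0) (.leaf 0x0))) (.node 1426 (.leaf 0x0) (.node 1427 (.leaf 0x0) (.leaf 0x0))))) (.node 1433 (.node 1430 (.node 1429 (.leaf 0x0) (.leaf 0x0)) (.node 1431 (.leaf 0x0) (.node 1432 (.leaf 0x0) (.leaf 0x0)))) (.node 1436 (.node 1434 (.leaf 0x0) (.node 1435 (.leaf 0x0) (.leaf 0x0))) (.node 1437 (.leaf 0x0) (.node 1438 (.leaf 0x0) (.leaf 0x0))))))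

def cCHS_129 : Store := (.node 1450 (.node 1444 (.node 1441 (.node 1440 (.leaf 0x0) (.leaf 0x0)) (.node 1442 (.leaf 0x0) (.node 1443 (.leaf 0x2000002) (.leaf 0x0)))) (.node 1447 (.node 1445 (.leaf 0x0) (.node 1446 (.leaf 0x0) (.leaf 0x0))) (.node 1448 (.leaf 0x1) (.node 1449 (.leaf 0x0) (.leaf 0x0))))) (.node 1455 (.node 1452 (.node 1451 (.leaf 0x0) (.leaf 0x0)) (.node 1453 (.leaf 0x10002) (.node 1454 (.leaf 0x1) (.leaf 0x10002)))) (.node 1458 (.node 1456 (.leaf 0x0) (.node 1457 (.leaf 0x0) (.leaf 0x0))) (.node 1459 (.leaf 0x20001010004) (.node 1460 (.leaf 0x0) (.leaf 0x10001))))))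

def cCHS_130 : Store := (.node 1439 cCHS_128 cCHS_129)

def cCHS_131 : Store := (.node 1472 (.node 1466 (.node 1463 (.node 1462 (.leaf 0x1) (.leaf 0x0)) (.node 1464 (.leaf 0x0) (.node 1465 (.leaf 0x2000002) (.leaf 0x202000004)))) (.node 1469 (.node 1467 (.leaf 0x0) (.node 1468 (.leaf 0x101000004) (.leaf 0x0))) (.node 1470 (.leaf 0x0) (.node 1471 (.leaf 0x20001) (.leaf 0x0))))) (.node 1477 (.node 1474 (.node 1473 (.leaf 0x20200010004) (.leaf 0x1)) (.node 1475 (.leaf 0x0) (.node 1476 (.leaf 0x0) (.leaf 0x0)))) (.node 1480 (.node 1478 (.leaf 0x0) (.node 1479 (.leaf 0x0) (.leaf 0x0))) (.node 1481 (.leaf 0x0) (.node 1482 (.leaf 0x0) (.leaf 0x0))))))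

def cCHS_132 : Store := (.node 1494 (.node 1488 (.node 1485 (.node 1484 (.leaf 0x0) (.leaf 0x0)) (.node 1486 (.leaf 0x0) (.node 1487 (.leaf 0x0) (.leaf 0x0)))) (.node 1491 (.node 1489 (.leaf 0x0) (.node 1490 (.leaf 0x0) (.leaf 0x0))) (.node 1492 (.leaf 0x0) (.node 1493 (.leaf 0x0) (.leaf 0x0))))) (.node 1499 (.node 1496 (.node 1495 (.leaf 0x0) (.leaf 0x0)) (.node 1497 (.leaf 0x0) (.node 1498 (.leaf 0x0) (.leaf 0x0)))) (.node 1502 (.node 1500 (.leaf 0x0) (.node 1501 (.leaf 0x0) (.leaf 0x0))) (.node 1503 (.leaf 0x0) (.node 1504 (.leaf 0x0) (.leaf 0x0))))))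

def cCHS_133 : Store := (.node 1483 cCHS_131 cCHS_132)

def cCHS_134 : Store := (.node 1461 cCHS_130 cCHS_133)

def cCHS_135 : Store := (.node 1516 (.node 1510 (.node 1507 (.node 1506 (.leaf 0x0) (.leaf 0x0)) (.node 1508 (.leaf 0x0) (.node 1509 (.leaf 0x0) (.leaf 0x0)))) (.node 1513 (.node 1511 (.leaf 0x0) (.node 1512 (.leaf 0x0) (.leaf 0x0))) (.node 1514 (.leaf 0x0) (.node 1515 (.leaf 0x0) (.leaf 0x0))))) (.node 1521 (.node 1518 (.node 1517 (.leaf 0x0) (.leaf 0x0)) (.node 1519 (.leaf 0x0) (.node 1520 (.leaf 0x0) (.leaf 0x0)))) (.node 1524 (.node 1522 (.leaf 0x0) (.node 1523 (.leaf 0x0) (.leaf 0x0))) (.node 1525 (.leaf 0x0) (.node 1526 (.leaf 0x0) (.leaf 0x0))))))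

def cCHS_136 : Store := (.node 1538 (.node 1532 (.node 1529 (.node 1528 (.leaf 0x0) (.leaf 0x0)) (.node 1530 (.leaf 0x0) (.node 1531 (.leaf 0x0) (.leaf 0x0)))) (.node 1535 (.node 1533 (.leaf 0x0) (.node 1534 (.leaf 0x0) (.leaf 0x0))) (.node 1536 (.leaf 0x0) (.node 1537 (.leaf 0x0) (.leaf 0x0))))) (.node 1543 (.node 1540 (.node 1539 (.leaf 0x0) (.leaf 0x0)) (.node 1541 (.leaf 0x0) (.node 1542 (.leaf 0x0) (.leaf 0x0)))) (.node 1546 (.node 1544 (.leaf 0x0) (.node 1545 (.leaf 0x0) (.leaf 0x0))) (.node 1547 (.leaf 0x0) (.node 1548 (.leaf 0x0) (.leaf 0x0))))))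

def cCHS_137 : Store := (.node 1527 cCHS_135 cCHS_136)

def cCHS_138 : Store := (.node 1560 (.node 1554 (.node 1551 (.node 1550 (.leaf 0x0) (.leaf 0x0)) (.node 1552 (.leaf 0x0) (.node 1553 (.leaf 0x0) (.leaf 0x0)))) (.node 1557 (.node 1555 (.leaf 0x0) (.node 1556 (.leaf 0x0) (.leaf 0x0))) (.node 1558 (.leaf 0x0) (.node 1559 (.leaf 0x0) (.leaf 0x0))))) (.node 1565 (.node 1562 (.node 1561 (.leaf 0x0) (.leaf 0x0)) (.node 1563 (.leaf 0x0) (.node 1564 (.leaf 0x0) (.leaf 0x0)))) (.node 1568 (.node 1566 (.leaf 0x0) (.node 1567 (.leaf 0x0) (.leaf 0x0))) (.node 1569 (.leaf 0x0) (.node 1570 (.leaf 0x0) (.leaf 0x0))))))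

def cCHS_139 : Store := (.node 1582 (.node 1576 (.node 1573 (.node 1572 (.leaf 0x0) (.leaf 0x0)) (.node 1574 (.leaf 0x0) (.node 1575 (.leaf 0x0) (.leaf 0x0)))) (.node 1579 (.node 1577 (.leaf 0x0) (.node 1578 (.leaf 0x0) (.leaf 0x0))) (.node 1580 (.leaf 0x0) (.node 1581 (.leaf 0x0) (.leaf 0x0))))) (.node 1588 (.node 1585 (.node 1583 (.leaf 0x0) (.node 1584 (.leaf 0x0) (.leaf 0x0))) (.node 1586 (.leaf 0x0) (.node 1587 (.leaf 0x0) (.leaf 0x0)))) (.node 1591 (.node 1589 (.leaf 0x0) (.node 1590 (.leaf 0x0) (.leaf 0x0))) (.node 1592 (.leaf 0x0) (.node 1593 (.leaf 0x0) (.leaf 0x0))))))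

def cCHS_140 : Store := (.node 1571 cCHS_138 cCHS_139)

def cCHS_141 : Store := (.node 1549 cCHS_137 cCHS_140)

def cCHS_142 : Store := (.node 1505 cCHS_134 cCHS_141)

def cCHS_143 : Store := (.node 1605 (.node 1599 (.node 1596 (.node 1595 (.leaf 0x0) (.leaf 0x0)) (.node 1597 (.leaf 0x0) (.node 1598 (.leaf 0x0) (.leaf 0x0)))) (.node 1602 (.node 1600 (.leaf 0x0) (.node 1601 (.leaf 0x0) (.leaf 0x0))) (.node 1603 (.leaf 0x0) (.node 1604 (.leaf 0x0) (.leaf 0x0))))) (.node 1610 (.node 1607 (.node 1606 (.leaf 0x0) (.leaf 0x0)) (.node 1608 (.leaf 0x0) (.node 1609 (.leaf 0x0) (.leaf 0x0)))) (.node 1613 (.node 1611 (.leaf 0x0) (.node 1612 (.leaf 0x0) (.leaf 0x0))) (.node 1614 (.leaf 0x0) (.node 1615 (.leaf 0x0) (.leaf 0x0))))))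

def cCHS_144 : Store := (.node 1627 (.node 1621 (.node 1618 (.node 1617 (.leaf 0x0) (.leaf 0x0)) (.node 1619 (.leaf 0x0) (.node 1620 (.leaf 0x0) (.leaf 0x0)))) (.node 1624 (.node 1622 (.leaf 0x0) (.node 1623 (.leaf 0x0) (.leaf 0x0))) (.node 1625 (.leaf 0x0) (.node 1626 (.leaf 0x0) (.leaf 0x0))))) (.node 1632 (.node 1629 (.node 1628 (.leaf 0x0) (.leaf 0x0)) (.node 1630 (.leaf 0x0) (.node 1631 (.leaf 0x0) (.leaf 0x0)))) (.node 1635 (.node 1633 (.leaf 0x0) (.node 1634 (.leaf 0x0) (.leaf 0x0))) (.node 1636 (.leaf 0x0) (.node 1637 (.leaf 0x0) (.leaf 0x0))))))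

def cCHS_145 : Store := (.node 1616 cCHS_143 cCHS_144)

def cCHS_146 : Store := (.node 1649 (.node 1643 (.node 1640 (.node 1639 (.leaf 0x0) (.leaf 0x0)) (.node 1641 (.leaf 0x0) (.node 1642 (.leaf 0x0) (.leaf 0x0)))) (.node 1646 (.node 1644 (.leaf 0x0) (.node 1645 (.leaf 0x1) (.leaf 0x0))) (.node 1647 (.leaf 0x0) (.node 1648 (.leaf 0x0) (.leaf 0x0))))) (.node 1654 (.node 1651 (.node 1650 (.leaf 0x0) (.leaf 0x0)) (.node 1652 (.leaf 0x0) (.node 1653 (.leaf 0x0) (.leaf 0x0)))) (.node 1657 (.node 1655 (.leaf 0x0) (.node 1656 (.leaf 0x0) (.leaf 0x0))) (.node 1658 (.leaf 0x0) (.node 1659 (.leaf 0x0) (.leaf 0x0))))))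

def cCHS_147 : Store := (.node 1671 (.node 1665 (.node 1662 (.node 1661 (.leaf 0x0) (.leaf 0x0)) (.node 1663 (.leaf 0x0) (.node 1664 (.leaf 0x0) (.leaf 0x0)))) (.node 1668 (.node 1666 (.leaf 0x0) (.node 1667 (.leaf 0x0) (.leaf 0x0))) (.node 1669 (.leaf 0x0) (.node 1670 (.leaf 0x0) (.leaf 0x0))))) (.node 1676 (.node 1673 (.node 1672 (.leaf 0x0) (.leaf 0x0)) (.node 1674 (.leaf 0x0) (.node 1675 (.leaf 0x0) (.leaf 0x0)))) (.node 1679 (.node 1677 (.leaf 0x0) (.node 1678 (.leaf 0x0) (.leaf 0x0))) (.node 1680 (.leaf 0x0) (.node 1681 (.leaf 0x0) (.leaf 0x0))))))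

def cCHS_148 : Store := (.node 1660 cCHS_146 cCHS_147)

def cCHS_149 : Store := (.node 1638 cCHS_145 cCHS_148)

def cCHS_150 : Store := (.node 1693 (.node 1687 (.node 1684 (.node 1683 (.leaf 0x0) (.leaf 0x0)) (.node 1685 (.leaf 0x0) (.node 1686 (.leaf 0x0) (.leaf 0x0)))) (.node 1690 (.node 1688 (.leaf 0x1) (.node 1689 (.leaf 0x0) (.leaf 0x0))) (.node 1691 (.leaf 0x0) (.node 1692 (.leaf 0x0) (.leaf 0x0))))) (.node 1698 (.node 1695 (.node 1694 (.leaf 0x0) (.leaf 0x0)) (.node 1696 (.leaf 0x0) (.node 1697 (.leaf 0x0) (.leaf 0x0)))) (.node 1701 (.node 1699 (.leaf 0x1) (.node 1700 (.leaf 0x0) (.leaf 0x0))) (.node 1702 (.leaf 0x0) (.node 1703 (.leaf 0x0) (.leaf 0x0))))))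

def cCHS_151 : Store := (.node 1715 (.node 1709 (.node 1706 (.node 1705 (.leaf 0x1) (.leaf 0x0)) (.node 1707 (.leaf 0x0) (.node 1708 (.leaf 0x0) (.leaf 0x0)))) (.node 1712 (.node 1710 (.leaf 0x0) (.node 1711 (.leaf 0x0) (.leaf 0x0))) (.node 1713 (.leaf 0x1) (.node 1714 (.leaf 0x0) (.leaf 0x0))))) (.node 1720 (.node 1717 (.node 1716 (.leaf 0x0) (.leaf 0x1)) (.node 1718 (.leaf 0x0) (.node 1719 (.leaf 0x0) (.leaf 0x0)))) (.node 1723 (.node 1721 (.leaf 0x0) (.node 1722 (.leaf 0x0) (.leaf 0x0))) (.node 1724 (.leaf 0x0) (.node 1725 (.leaf 0x0) (.leaf 0x0))))))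

def cCHS_152 : Store := (.node 1704 cCHS_150 cCHS_151)

def cCHS_153 : Store := (.node 1737 (.node 1731 (.node 1728 (.node 1727 (.leaf 0x0) (.leaf 0x0)) (.node 1729 (.leaf 0x0) (.node 1730 (.leaf 0x0) (.leaf 0x1)))) (.node 1734 (.node 1732 (.leaf 0x0) (.node 1733 (.leaf 0x0) (.leaf 0x0))) (.node 1735 (.leaf 0x0) (.node 1736 (.leaf 0x1) (.leaf 0x0))))) (.node 1742 (.node 1739 (.node 1738 (.leaf 0x0) (.leaf 0x0)) (.node 1740 (.leaf 0x0) (.node 1741 (.leaf 0x1) (.leaf 0x0)))) (.node 1745 (.node 1743 (.leaf 0x1) (.node 1744 (.leaf 0x0) (.leaf 0x0))) (.node 1746 (.leaf 0x0) (.node 1747 (.leaf 0x0) (.leaf 0x1))))))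

def cCHS_154 : Store := (.node 1759 (.node 1753 (.node 1750 (.node 1749 (.leaf 0x0) (.leaf 0x0)) (.node 1751 (.leaf 0x0) (.node 1752 (.leaf 0x0) (.leaf 0x0)))) (.node 1756 (.node 1754 (.leaf 0x0) (.node 1755 (.leaf 0x0) (.leaf 0x0))) (.node 1757 (.leaf 0x0) (.node 1758 (.leaf 0x0) (.leaf 0x0))))) (.node 1765 (.node 1762 (.node 1760 (.leaf 0x0) (.node 1761 (.leaf 0x0) (.leaf 0x0))) (.node 1763 (.leaf 0x0) (.node 1764 (.leaf 0x0) (.leaf 0x1)))) (.node 1768 (.node 1766 (.leaf 0x0) (.node 1767 (.leaf 0x0) (.leaf 0x0))) (.node 1769 (.leaf 0x0) (.node 1770 (.leaf 0x0) (.leaf 0x1))))))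

def cCHS_155 : Store := (.node 1748 cCHS_153 cCHS_154)

def cCHS_156 : Store := (.node 1726 cCHS_152 cCHS_155)

def cCHS_157 : Store := (.node 1682 cCHS_149 cCHS_156)

def cCHS_158 : Store := (.node 1594 cCHS_142 cCHS_157)

def cCHS_159 : Store := (.node 1782 (.node 1776 (.node 1773 (.node 1772 (.leaf 0x0) (.leaf 0x0)) (.node 1774 (.leaf 0x0) (.node 1775 (.leaf 0x0) (.leaf 0x0)))) (.node 1779 (.node 1777 (.leaf 0x0) (.node 1778 (.leaf 0x1) (.leaf 0x1))) (.node 1780 (.leaf 0x0) (.node 1781 (.leaf 0x0) (.leaf 0x0))))) (.node 1787 (.node 1784 (.node 1783 (.leaf 0x0) (.leaf 0x0)) (.node 1785 (.leaf 0x0) (.node 1786 (.leaf 0x0) (.leaf 0x0)))) (.node 1790 (.node 1788 (.leaf 0x0) (.node 1789 (.leaf 0x1) (.leaf 0x0))) (.node 1791 (.leaf 0x0) (.node 1792 (.leaf 0x0) (.leaf 0x0))))))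

def cCHS_160 : Store := (.node 1804 (.node 1798 (.node 1795 (.node 1794 (.leaf 0x0) (.leaf 0x0)) (.node 1796 (.leaf 0x0) (.node 1797 (.leaf 0x0) (.leaf 0x0)))) (.node 1801 (.node 1799 (.leaf 0x0) (.node 1800 (.leaf 0x0) (.leaf 0x1))) (.node 1802 (.leaf 0x0) (.node 1803 (.leaf 0x0) (.leaf 0x0))))) (.node 1809 (.node 1806 (.node 1805 (.leaf 0x0) (.leaf 0x0)) (.node 1807 (.leaf 0x0) (.node 1808 (.leaf 0x0) (.leaf 0x0)))) (.node 1812 (.node 1810 (.leaf 0x0) (.node 1811 (.leaf 0x0) (.leaf 0x0))) (.node 1813 (.leaf 0x0) (.node 1814 (.leaf 0x0) (.leaf 0x0))))))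

def cCHS_161 : Store := (.node 1793 cCHS_159 cCHS_160)

def cCHS_162 : Store := (.node 1826 (.node 1820 (.node 1817 (.node 1816 (.leaf 0x0) (.leaf 0x0)) (.node 1818 (.leaf 0x0) (.node 1819 (.leaf 0x0) (.leaf 0x0)))) (.node 1823 (.node 1821 (.leaf 0x0) (.node 1822 (.leaf 0x0) (.leaf 0x0))) (.node 1824 (.leaf 0x0) (.node 1825 (.leaf 0x0) (.leaf 0x0))))) (.node 1831 (.node 1828 (.node 1827 (.leaf 0x0) (.leaf 0x0)) (.node 1829 (.leaf 0x0) (.node 1830 (.leaf 0x0) (.leaf 0x0)))) (.node 1834 (.node 1832 (.leaf 0x0) (.node 1833 (.leaf 0x0) (.leaf 0x0))) (.node 1835 (.leaf 0x0) (.node 1836 (.leaf 0x0) (.leaf 0x0))))))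

def cCHS_163 : Store := (.node 1848 (.node 1842 (.node 1839 (.node 1838 (.leaf 0x0) (.leaf 0x0)) (.node 1840 (.leaf 0x0) (.node 1841 (.leaf 0x0) (.leaf 0x0)))) (.node 1845 (.node 1843 (.leaf 0x0) (.node 1844 (.leaf 0x0) (.leaf 0x0))) (.node 1846 (.leaf 0x0) (.node 1847 (.leaf 0x0) (.leaf 0x0))))) (.node 1853 (.node 1850 (.node 1849 (.leaf 0x0) (.leaf 0x0)) (.node 1851 (.leaf 0x0) (.node 1852 (.leaf 0x0) (.leaf 0x0)))) (.node 1856 (.node 1854 (.leaf 0x0) (.node 1855 (.leaf 0x0) (.leaf 0x0))) (.node 1857 (.leaf 0x0) (.node 1858 (.leaf 0x0) (.leaf 0x0))))))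

def cCHS_164 : Store := (.node 1837 cCHS_162 cCHS_163)

def cCHS_165 : Store := (.node 1815 cCHS_161 cCHS_164)

def cCHS_166 : Store := (.node 1870 (.node 1864 (.node 1861 (.node 1860 (.leaf 0x0) (.leaf 0x0)) (.node 1862 (.leaf 0x0) (.node 1863 (.leaf 0x0) (.leaf 0x0)))) (.node 1867 (.node 1865 (.leaf 0x0) (.node 1866 (.leaf 0x0) (.leaf 0x0))) (.node 1868 (.leaf 0x0) (.node 1869 (.leaf 0x0) (.leaf 0x0))))) (.node 1875 (.node 1872 (.node 1871 (.leaf 0x0) (.leaf 0x0)) (.node 1873 (.leaf 0x0) (.node 1874 (.leaf 0x0) (.leaf 0x0)))) (.node 1878 (.node 1876 (.leaf 0x0) (.node 1877 (.leaf 0x0) (.leaf 0x0))) (.node 1879 (.leaf 0x0) (.node 1880 (.leaf 0x0) (.leaf 0x0))))))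

def cCHS_167 : Store := (.node 1892 (.node 1886 (.node 1883 (.node 1882 (.leaf 0x0) (.leaf 0x0)) (.node 1884 (.leaf 0x0) (.node 1885 (.leaf 0x0) (.leaf 0x0)))) (.node 1889 (.node 1887 (.leaf 0x0) (.node 1888 (.leaf 0x0) (.leaf 0x0))) (.node 1890 (.leaf 0x0) (.node 1891 (.leaf 0x0) (.leaf 0x0))))) (.node 1897 (.node 1894 (.node 1893 (.leaf 0x0) (.leaf 0x0)) (.node 1895 (.leaf 0x0) (.node 1896 (.leaf 0x0) (.leaf 0x0)))) (.node 1900 (.node 1898 (.leaf 0x0) (.node 1899 (.leaf 0x0) (.leaf 0x0))) (.node 1901 (.leaf 0x0) (.node 1902 (.leaf 0x0) (.leaf 0x0))))))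

def cCHS_168 : Store := (.node 1881 cCHS_166 cCHS_167)

def cCHS_169 : Store := (.node 1914 (.node 1908 (.node 1905 (.node 1904 (.leaf 0x0) (.leaf 0x0)) (.node 1906 (.leaf 0x0) (.node 1907 (.leaf 0x0) (.leaf 0x0)))) (.node 1911 (.node 1909 (.leaf 0x0) (.node 1910 (.leaf 0x0) (.leaf 0x0))) (.node 1912 (.leaf 0x0) (.node 1913 (.leaf 0x0) (.leaf 0x0))))) (.node 1919 (.node 1916 (.node 1915 (.leaf 0x0) (.leaf 0x0)) (.node 1917 (.leaf 0x0) (.node 1918 (.leaf 0x0) (.leaf 0x0)))) (.node 1922 (.node 1920 (.leaf 0x0) (.node 1921 (.leaf 0x0) (.leaf 0x0))) (.node 1923 (.leaf 0x0) (.node 1924 (.leaf 0x0) (.leaf 0x0))))))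

def cCHS_170 : Store := (.node 1936 (.node 1930 (.node 1927 (.node 1926 (.leaf 0x0) (.leaf 0x0)) (.node 1928 (.leaf 0x0) (.node 1929 (.leaf 0x0) (.leaf 0x0)))) (.node 1933 (.node 1931 (.leaf 0x0) (.node 1932 (.leaf 0x0) (.leaf 0x0))) (.node 1934 (.leaf 0x0) (.node 1935 (.leaf 0x0) (.leaf 0x0))))) (.node 1942 (.node 1939 (.node 1937 (.leaf 0x0) (.node 1938 (.leaf 0x0) (.leaf 0x0))) (.node 1940 (.leaf 0x0) (.node 1941 (.leaf 0x0) (.leaf 0x0)))) (.node 1945 (.node 1943 (.leaf 0x0) (.node 1944 (.leaf 0x0) (.leaf 0x0))) (.node 1946 (.leaf 0x0) (.node 1947 (.leaf 0x0) (.leaf 0x0))))))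

def cCHS_171 : Store := (.node 1925 cCHS_169 cCHS_170)

def cCHS_172 : Store := (.node 1903 cCHS_168 cCHS_171)

def cCHS_173 : Store := (.node 1859 cCHS_165 cCHS_172)

def cCHS_174 : Store := (.node 1959 (.node 1953 (.node 1950 (.node 1949 (.leaf 0x0) (.leaf 0x0)) (.node 1951 (.leaf 0x0) (.node 1952 (.leaf 0x0) (.leaf 0x0)))) (.node 1956 (.node 1954 (.leaf 0x0) (.node 1955 (.leaf 0x0) (.leaf 0x0))) (.node 1957 (.leaf 0x0) (.node 1958 (.leaf 0x0) (.leaf 0x0))))) (.node 1964 (.node 1961 (.node 1960 (.leaf 0x0) (.leaf 0x0)) (.node 1962 (.leaf 0x0) (.node 1963 (.leaf 0x0) (.leaf 0x0)))) (.node 1967 (.node 1965 (.leaf 0x0) (.node 1966 (.leaf 0x0) (.leaf 0x0))) (.node 1968 (.leaf 0x0) (.node 1969 (.leaf 0x0) (.leaf 0x0))))))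

def cCHS_175 : Store := (.node 1981 (.node 1975 (.node 1972 (.node 1971 (.leaf 0x0) (.leaf 0x0)) (.node 1973 (.leaf 0x0) (.node 1974 (.leaf 0x0) (.leaf 0x0)))) (.node 1978 (.node 1976 (.leaf 0x0) (.node 1977 (.leaf 0x0) (.leaf 0x0))) (.node 1979 (.leaf 0x0) (.node 1980 (.leaf 0x0) (.leaf 0x1))))) (.node 1986 (.node 1983 (.node 1982 (.leaf 0x0) (.leaf 0x0)) (.node 1984 (.leaf 0x0) (.node 1985 (.leaf 0x0) (.leaf 0x0)))) (.node 1989 (.node 1987 (.leaf 0x0) (.node 1988 (.leaf 0x0) (.leaf 0x0))) (.node 1990 (.leaf 0x0) (.node 1991 (.leaf 0x0) (.leaf 0x0))))))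

def cCHS_176 : Store := (.node 1970 cCHS_174 cCHS_175)

def cCHS_177 : Store := (.node 2003 (.node 1997 (.node 1994 (.node 1993 (.leaf 0x0) (.leaf 0x0)) (.node 1995 (.leaf 0x0) (.node 1996 (.leaf 0x0) (.leaf 0x0)))) (.node 2000 (.node 1998 (.leaf 0x0) (.node 1999 (.leaf 0x0) (.leaf 0x0))) (.node 2001 (.leaf 0x0) (.node 2002 (.leaf 0x0) (.leaf 0x0))))) (.node 2008 (.node 2005 (.node 2004 (.leaf 0x0) (.leaf 0x0)) (.node 2006 (.leaf 0x0) (.node 2007 (.leaf 0x0) (.leaf 0x0)))) (.node 2011 (.node 2009 (.leaf 0x0) (.node 2010 (.leaf 0x0) (.leaf 0x0))) (.node 2012 (.leaf 0x0) (.node 2013 (.leaf 0x0) (.leaf 0x0))))))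

def cCHS_178 : Store := (.node 2025 (.node 2019 (.node 2016 (.node 2015 (.leaf 0x0) (.leaf 0x0)) (.node 2017 (.leaf 0x0) (.node 2018 (.leaf 0x0) (.leaf 0x0)))) (.node 2022 (.node 2020 (.leaf 0x0) (.node 2021 (.leaf 0x0) (.leaf 0x0))) (.node 2023 (.leaf 0x0) (.node 2024 (.leaf 0x0) (.leaf 0x0))))) (.node 2031 (.node 2028 (.node 2026 (.leaf 0x0) (.node 2027 (.leaf 0x0) (.leaf 0x0))) (.node 2029 (.leaf 0x0) (.node 2030 (.leaf 0x0) (.leaf 0x0)))) (.node 2034 (.node 2032 (.leaf 0x0) (.node 2033 (.leaf 0x0) (.leaf 0x0))) (.node 2035 (.leaf 0x0) (.node 2036 (.leaf 0x0) (.leaf 0x0))))))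

def cCHS_179 : Store := (.node 2014 cCHS_177 cCHS_178)

def cCHS_180 : Store := (.node 1992 cCHS_176 cCHS_179)

def cCHS_181 : Store := (.node 2048 (.node 2042 (.node 2039 (.node 2038 (.leaf 0x0) (.leaf 0x0)) (.node 2040 (.leaf 0x0) (.node 2041 (.leaf 0x0) (.leaf 0x0)))) (.node 2045 (.node 2043 (.leaf 0x0) (.node 2044 (.leaf 0x0) (.leaf 0x0))) (.node 2046 (.leaf 0x0) (.node 2047 (.leaf 0x0) (.leaf 0x0))))) (.node 2053 (.node 2050 (.node 2049 (.leaf 0x0) (.leaf 0x0)) (.node 2051 (.leaf 0x0) (.node 2052 (.leaf 0x0) (.leaf 0x0)))) (.node 2056 (.node 2054 (.leaf 0x0) (.node 2055 (.leaf 0x0) (.leaf 0x0))) (.node 2057 (.leaf 0x0) (.node 2058 (.leaf 0x0) (.leaf 0x0))))))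

def cCHS_182 : Store := (.node 2070 (.node 2064 (.node 2061 (.node 2060 (.leaf 0x0) (.leaf 0x0)) (.node 2062 (.leaf 0x0) (.node 2063 (.leaf 0x0) (.leaf 0x0)))) (.node 2067 (.node 2065 (.leaf 0x0) (.node 2066 (.leaf 0x0) (.leaf 0x0))) (.node 2068 (.leaf 0x0) (.node 2069 (.leaf 0x0) (.leaf 0x0))))) (.node 2075 (.node 2072 (.node 2071 (.leaf 0x0) (.leaf 0x0)) (.node 2073 (.leaf 0x0) (.node 2074 (.leaf 0x0) (.leaf 0x0)))) (.node 2078 (.node 2076 (.leaf 0x0) (.node 2077 (.leaf 0x0) (.leaf 0x0))) (.node 2079 (.leaf 0x0) (.node 2080 (.leaf 0x0) (.leaf 0x0))))))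

def cCHS_183 : Store := (.node 2059 cCHS_181 cCHS_182)

def cCHS_184 : Store := (.node 2092 (.node 2086 (.node 2083 (.node 2082 (.leaf 0x0) (.leaf 0x0)) (.node 2084 (.leaf 0x0) (.node 2085 (.leaf 0x0) (.leaf 0x0)))) (.node 2089 (.node 2087 (.leaf 0x0) (.node 2088 (.leaf 0x0) (.leaf 0x0))) (.node 2090 (.leaf 0x0) (.node 2091 (.leaf 0x0) (.leaf 0x0))))) (.node 2097 (.node 2094 (.node 2093 (.leaf 0x0) (.leaf 0x0)) (.node 2095 (.leaf 0x0) (.node 2096 (.leaf 0x0) (.leaf 0x0)))) (.node 2100 (.node 2098 (.leaf 0x0) (.node 2099 (.leaf 0x0) (.leaf 0x0))) (.node 2101 (.leaf 0x0) (.node 2102 (.leaf 0x0) (.leaf 0x0))))))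

def cCHS_185 : Store := (.node 2114 (.node 2108 (.node 2105 (.node 2104 (.leaf 0x0) (.leaf 0x0)) (.node 2106 (.leaf 0x0) (.node 2107 (.leaf 0x0) (.leaf 0x0)))) (.node 2111 (.node 2109 (.leaf 0x0) (.node 2110 (.leaf 0x0) (.leaf 0x0))) (.node 2112 (.leaf 0x0) (.node 2113 (.leaf 0x0) (.leaf 0x0))))) (.node 2120 (.node 2117 (.node 2115 (.leaf 0x0) (.node 2116 (.leaf 0x0) (.leaf 0x0))) (.node 2118 (.leaf 0x0) (.node 2119 (.leaf 0x0) (.leaf 0x0)))) (.node 2123 (.node 2121 (.leaf 0x0) (.node 2122 (.leaf 0x0) (.leaf 0x0))) (.node 2124 (.leaf 0x0) (.node 2125 (.leaf 0x0) (.leaf 0x0))))))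

def cCHS_186 : Store := (.node 2103 cCHS_184 cCHS_185)

def cCHS_187 : Store := (.node 2081 cCHS_183 cCHS_186)

def cCHS_188 : Store := (.node 2037 cCHS_180 cCHS_187)

def cCHS_189 : Store := (.node 1948 cCHS_173 cCHS_188)

def cCHS_190 : Store := (.node 1771 cCHS_158 cCHS_189)

def cCHS_191 : Store := (.node 2137 (.node 2131 (.node 2128 (.node 2127 (.leaf 0x0) (.leaf 0x0)) (.node 2129 (.leaf 0x0) (.node 2130 (.leaf 0x0) (.leaf 0x0)))) (.node 2134 (.node 2132 (.leaf 0x0) (.node 2133 (.leaf 0x0) (.leaf 0x0))) (.node 2135 (.leaf 0x0) (.node 2136 (.leaf 0x0) (.leaf 0x0))))) (.node 2142 (.node 2139 (.node 2138 (.leaf 0x0) (.leaf 0x0)) (.node 2140 (.leaf 0x0) (.node 2141 (.leaf 0x0) (.leaf 0x0)))) (.node 2145 (.node 2143 (.leaf 0x0) (.node 2144 (.leaf 0x0) (.leaf 0x0))) (.node 2146 (.leaf 0x0) (.node 2147 (.leaf 0x0) (.leaf 0x0))))))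

def cCHS_192 : Store := (.node 2159 (.node 2153 (.node 2150 (.node 2149 (.leaf 0x0) (.leaf 0x0)) (.node 2151 (.leaf 0x0) (.node 2152 (.leaf 0x0) (.leaf 0x0)))) (.node 2156 (.node 2154 (.leaf 0x0) (.node 2155 (.leaf 0x0) (.leaf 0x0))) (.node 2157 (.leaf 0x0) (.node 2158 (.leaf 0x0) (.leaf 0x0))))) (.node 2164 (.node 2161 (.node 2160 (.leaf 0x0) (.leaf 0x0)) (.node 2162 (.leaf 0x0) (.node 2163 (.leaf 0x0) (.leaf 0x0)))) (.node 2167 (.node 2165 (.leaf 0x0) (.node 2166 (.leaf 0x0) (.leaf 0x0))) (.node 2168 (.leaf 0x0) (.node 2169 (.leaf 0x0) (.leaf 0x0))))))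

def cCHS_193 : Store := (.node 2148 cCHS_191 cCHS_192)

def cCHS_194 : Store := (.node 2181 (.node 2175 (.node 2172 (.node 2171 (.leaf 0x0) (.leaf 0x0)) (.node 2173 (.leaf 0x0) (.node 2174 (.leaf 0x0) (.leaf 0x0)))) (.node 2178 (.node 2176 (.leaf 0x0) (.node 2177 (.leaf 0x0) (.leaf 0x0))) (.node 2179 (.leaf 0x0) (.node 2180 (.leaf 0x0) (.leaf 0x0))))) (.node 2186 (.node 2183 (.node 2182 (.leaf 0x0) (.leaf 0x0)) (.node 2184 (.leaf 0x0) (.node 2185 (.leaf 0x0) (.leaf 0x0)))) (.node 2189 (.node 2187 (.leaf 0x0) (.node 2188 (.leaf 0x0) (.leaf 0x0))) (.node 2190 (.leaf 0x0) (.node 2191 (.leaf 0x0) (.leaf 0x0))))))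

def cCHS_195 : Store := (.node 2203 (.node 2197 (.node 2194 (.node 2193 (.leaf 0x0) (.leaf 0x0)) (.node 2195 (.leaf 0x0) (.node 2196 (.leaf 0x0) (.leaf 0x0)))) (.node 2200 (.node 2198 (.leaf 0x0) (.node 2199 (.leaf 0x0) (.leaf 0x0))) (.node 2201 (.leaf 0x0) (.node 2202 (.leaf 0x0) (.leaf 0x0))))) (.node 2208 (.node 2205 (.node 2204 (.leaf 0x0) (.leaf 0x0)) (.node 2206 (.leaf 0x0) (.node 2207 (.leaf 0x0) (.leaf 0x0)))) (.node 2211 (.node 2209 (.leaf 0x0) (.node 2210 (.leaf 0x0) (.leaf 0x0))) (.node 2212 (.leaf 0x0) (.node 2213 (.leaf 0x0) (.leaf 0x0))))))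

def cCHS_196 : Store := (.node 2192 cCHS_194 cCHS_195)

def cCHS_197 : Store := (.node 2170 cCHS_193 cCHS_196)

def cCHS_198 : Store := (.node 2225 (.node 2219 (.node 2216 (.node 2215 (.leaf 0x0) (.leaf 0x0)) (.node 2217 (.leaf 0x0) (.node 2218 (.leaf 0x0) (.leaf 0x0)))) (.node 2222 (.node 2220 (.leaf 0x0) (.node 2221 (.leaf 0x0) (.leaf 0x0))) (.node 2223 (.leaf 0x0) (.node 2224 (.leaf 0x0) (.leaf 0x0))))) (.node 2230 (.node 2227 (.node 2226 (.leaf 0x0) (.leaf 0x0)) (.node 2228 (.leaf 0x0) (.node 2229 (.leaf 0x0) (.leaf 0x0)))) (.node 2233 (.node 2231 (.leaf 0x0) (.node 2232 (.leaf 0x0) (.leaf 0x0))) (.node 2234 (.leaf 0x0) (.node 2235 (.leaf 0x0) (.leaf 0x0))))))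

def cCHS_199 : Store := (.node 2247 (.node 2241 (.node 2238 (.node 2237 (.leaf 0x0) (.leaf 0x0)) (.node 2239 (.leaf 0x0) (.node 2240 (.leaf 0x0) (.leaf 0x0)))) (.node 2244 (.node 2242 (.leaf 0x0) (.node 2243 (.leaf 0x0) (.leaf 0x0))) (.node 2245 (.leaf 0x0) (.node 2246 (.leaf 0x0) (.leaf 0x0))))) (.node 2252 (.node 2249 (.node 2248 (.leaf 0x0) (.leaf 0x0)) (.node 2250 (.leaf 0x0) (.node 2251 (.leaf 0x0) (.leaf 0x0)))) (.node 2255 (.node 2253 (.leaf 0x0) (.node 2254 (.leaf 0x0) (.leaf 0x0))) (.node 2256 (.leaf 0x0) (.node 2257 (.leaf 0x0) (.leaf 0x0))))))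

def cCHS_200 : Store := (.node 2236 cCHS_198 cCHS_199)

def cCHS_201 : Store := (.node 2269 (.node 2263 (.node 2260 (.node 2259 (.leaf 0x0) (.leaf 0x0)) (.node 2261 (.leaf 0x0) (.node 2262 (.leaf 0x0) (.leaf 0x0)))) (.node 2266 (.node 2264 (.leaf 0x0) (.node 2265 (.leaf 0x0) (.leaf 0x0))) (.node 2267 (.leaf 0x0) (.node 2268 (.leaf 0x0) (.leaf 0x0))))) (.node 2274 (.node 2271 (.node 2270 (.leaf 0x0) (.leaf 0x0)) (.node 2272 (.leaf 0x0) (.node 2273 (.leaf 0x0) (.leaf 0x0)))) (.node 2277 (.node 2275 (.leaf 0x0) (.node 2276 (.leaf 0x0) (.leaf 0x0))) (.node 2278 (.leaf 0x0) (.node 2279 (.leaf 0x0) (.leaf 0x0))))))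

def cCHS_202 : Store := (.node 2291 (.node 2285 (.node 2282 (.node 2281 (.leaf 0x0) (.leaf 0x0)) (.node 2283 (.leaf 0x0) (.node 2284 (.leaf 0x0) (.leaf 0x0)))) (.node 2288 (.node 2286 (.leaf 0x0) (.node 2287 (.leaf 0x0) (.leaf 0x0))) (.node 2289 (.leaf 0x0) (.node 2290 (.leaf 0x0) (.leaf 0x0))))) (.node 2297 (.node 2294 (.node 2292 (.leaf 0x0) (.node 2293 (.leaf 0x0) (.leaf 0x0))) (.node 2295 (.leaf 0x0) (.node 2296 (.leaf 0x0) (.leaf 0x0)))) (.node 2300 (.node 2298 (.leaf 0x0) (.node 2299 (.leaf 0x0) (.leaf 0x0))) (.node 2301 (.leaf 0x0) (.node 2302 (.leaf 0x0) (.leaf 0x0))))))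

def cCHS_203 : Store := (.node 2280 cCHS_201 cCHS_202)

def cCHS_204 : Store := (.node 2258 cCHS_200 cCHS_203)

def cCHS_205 : Store := (.node 2214 cCHS_197 cCHS_204)

def cCHS_206 : Store := (.node 2314 (.node 2308 (.node 2305 (.node 2304 (.leaf 0x0) (.leaf 0x0)) (.node 2306 (.leaf 0x0) (.node 2307 (.leaf 0x0) (.leaf 0x0)))) (.node 2311 (.node 2309 (.leaf 0x0) (.node 2310 (.leaf 0x0) (.leaf 0x0))) (.node 2312 (.leaf 0x0) (.node 2313 (.leaf 0x0) (.leaf 0x0))))) (.node 2319 (.node 2316 (.node 2315 (.leaf 0x0) (.leaf 0x0)) (.node 2317 (.leaf 0x0) (.node 2318 (.leaf 0x0) (.leaf 0x0)))) (.node 2322 (.node 2320 (.leaf 0x0) (.node 2321 (.leaf 0x0) (.leaf 0x0))) (.node 2323 (.leaf 0x0) (.node 2324 (.leaf 0x0) (.leaf 0x0))))))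

def cCHS_207 : Store := (.node 2336 (.node 2330 (.node 2327 (.node 2326 (.leaf 0x0) (.leaf 0x0)) (.node 2328 (.leaf 0x0) (.node 2329 (.leaf 0x0) (.leaf 0x0)))) (.node 2333 (.node 2331 (.leaf 0x0) (.node 2332 (.leaf 0x0) (.leaf 0x0))) (.node 2334 (.leaf 0x0) (.node 2335 (.leaf 0x0) (.leaf 0x0))))) (.node 2341 (.node 2338 (.node 2337 (.leaf 0x0) (.leaf 0x0)) (.node 2339 (.leaf 0x0) (.node 2340 (.leaf 0x0) (.leaf 0x0)))) (.node 2344 (.node 2342 (.leaf 0x0) (.node 2343 (.leaf 0x0) (.leaf 0x0))) (.node 2345 (.leaf 0x0) (.node 2346 (.leaf 0x0) (.leaf 0x0))))))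

def cCHS_208 : Store := (.node 2325 cCHS_206 cCHS_207)

def cCHS_209 : Store := (.node 2358 (.node 2352 (.node 2349 (.node 2348 (.leaf 0x0) (.leaf 0x0)) (.node 2350 (.leaf 0x0) (.node 2351 (.leaf 0x0) (.leaf 0x0)))) (.node 2355 (.node 2353 (.leaf 0x0) (.node 2354 (.leaf 0x0) (.leaf 0x0))) (.node 2356 (.leaf 0x0) (.node 2357 (.leaf 0x0) (.leaf 0x0))))) (.node 2363 (.node 2360 (.node 2359 (.leaf 0x0) (.leaf 0x0)) (.node 2361 (.leaf 0x0) (.node 2362 (.leaf 0x0) (.leaf 0x0)))) (.node 2366 (.node 2364 (.leaf 0x0) (.node 2365 (.leaf 0x0) (.leaf 0x0))) (.node 2367 (.leaf 0x0) (.node 2368 (.leaf 0x0) (.leaf 0x0))))))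

def cCHS_210 : Store := (.node 2380 (.node 2374 (.node 2371 (.node 2370 (.leaf 0x0) (.leaf 0x0)) (.node 2372 (.leaf 0x0) (.node 2373 (.leaf 0x0) (.leaf 0x0)))) (.node 2377 (.node 2375 (.leaf 0x0) (.node 2376 (.leaf 0x0) (.leaf 0x0))) (.node 2378 (.leaf 0x0) (.node 2379 (.leaf 0x0) (.leaf 0x0))))) (.node 2385 (.node 2382 (.node 2381 (.leaf 0x0) (.leaf 0x0)) (.node 2383 (.leaf 0x0) (.node 2384 (.leaf 0x0) (.leaf 0x0)))) (.node 2388 (.node 2386 (.leaf 0x0) (.node 2387 (.leaf 0x0) (.leaf 0x0))) (.node 2389 (.leaf 0x0) (.node 2390 (.leaf 0x0) (.leaf 0x0))))))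

def cCHS_211 : Store := (.node 2369 cCHS_209 cCHS_210)

def cCHS_212 : Store := (.node 2347 cCHS_208 cCHS_211)

def cCHS_213 : Store := (.node 2402 (.node 2396 (.node 2393 (.node 2392 (.leaf 0x0) (.leaf 0x0)) (.node 2394 (.leaf 0x0) (.node 2395 (.leaf 0x0) (.leaf 0x0)))) (.node 2399 (.node 2397 (.leaf 0x0) (.node 2398 (.leaf 0x0) (.leaf 0x0))) (.node 2400 (.leaf 0x0) (.node 2401 (.leaf 0x0) (.leaf 0x0))))) (.node 2407 (.node 2404 (.node 2403 (.leaf 0x0) (.leaf 0x0)) (.node 2405 (.leaf 0x0) (.node 2406 (.leaf 0x0) (.leaf 0x0)))) (.node 2410 (.node 2408 (.leaf 0x0) (.node 2409 (.leaf 0x0) (.leaf 0x0))) (.node 2411 (.leaf 0x0) (.node 2412 (.leaf 0x0) (.leaf 0x0))))))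

def cCHS_214 : Store := (.node 2424 (.node 2418 (.node 2415 (.node 2414 (.leaf 0x0) (.leaf 0x0)) (.node 2416 (.leaf 0x0) (.node 2417 (.leaf 0x0) (.leaf 0x0)))) (.node 2421 (.node 2419 (.leaf 0x0) (.node 2420 (.leaf 0x0) (.leaf 0x0))) (.node 2422 (.leaf 0x0) (.node 2423 (.leaf 0x0) (.leaf 0x0))))) (.node 2429 (.node 2426 (.node 2425 (.leaf 0x0) (.leaf 0x0)) (.node 2427 (.leaf 0x0) (.node 2428 (.leaf 0x0) (.leaf 0x0)))) (.node 2432 (.node 2430 (.leaf 0x0) (.node 2431 (.leaf 0x0) (.leaf 0x0))) (.node 2433 (.leaf 0x0) (.node 2434 (.leaf 0x0) (.leaf 0x0))))))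

def cCHS_215 : Store := (.node 2413 cCHS_213 cCHS_214)

def cCHS_216 : Store := (.node 2446 (.node 2440 (.node 2437 (.node 2436 (.leaf 0x0) (.leaf 0x0)) (.node 2438 (.leaf 0x0) (.node 2439 (.leaf 0x0) (.leaf 0x0)))) (.node 2443 (.node 2441 (.leaf 0x0) (.node 2442 (.leaf 0x0) (.leaf 0x0))) (.node 2444 (.leaf 0x0) (.node 2445 (.leaf 0x0) (.leaf 0x0))))) (.node 2451 (.node 2448 (.node 2447 (.leaf 0x0) (.leaf 0x0)) (.node 2449 (.leaf 0x0) (.node 2450 (.leaf 0x0) (.leaf 0x0)))) (.node 2454 (.node 2452 (.leaf 0x0) (.node 2453 (.leaf 0x0) (.leaf 0x0))) (.node 2455 (.leaf 0x0) (.node 2456 (.leaf 0x0) (.leaf 0x0))))))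

def cCHS_217 : Store := (.node 2468 (.node 2462 (.node 2459 (.node 2458 (.leaf 0x0) (.leaf 0x0)) (.node 2460 (.leaf 0x0) (.node 2461 (.leaf 0x0) (.leaf 0x0)))) (.node 2465 (.node 2463 (.leaf 0x0) (.node 2464 (.leaf 0x0) (.leaf 0x0))) (.node 2466 (.leaf 0x0) (.node 2467 (.leaf 0x0) (.leaf 0x0))))) (.node 2474 (.node 2471 (.node 2469 (.leaf 0x0) (.node 2470 (.leaf 0x0) (.leaf 0x0))) (.node 2472 (.leaf 0x0) (.node 2473 (.leaf 0x0) (.leaf 0x0)))) (.node 2477 (.node 2475 (.leaf 0x0) (.node 2476 (.leaf 0x0) (.leaf 0x0))) (.node 2478 (.leaf 0x0) (.node 2479 (.leaf 0x0) (.leaf 0x0))))))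

def cCHS_218 : Store := (.node 2457 cCHS_216 cCHS_217)

def cCHS_219 : Store := (.node 2435 cCHS_215 cCHS_218)

def cCHS_220 : Store := (.node 2391 cCHS_212 cCHS_219)

def cCHS_221 : Store := (.node 2303 cCHS_205 cCHS_220)

def cCHS_222 : Store := (.node 2491 (.node 2485 (.node 2482 (.node 2481 (.leaf 0x0) (.leaf 0x0)) (.node 2483 (.leaf 0x0) (.node 2484 (.leaf 0x0) (.leaf 0x0)))) (.node 2488 (.node 2486 (.leaf 0x0) (.node 2487 (.leaf 0x0) (.leaf 0x0))) (.node 2489 (.leaf 0x0) (.node 2490 (.leaf 0x0) (.leaf 0x0))))) (.node 2496 (.node 2493 (.node 2492 (.leaf 0x0) (.leaf 0x0)) (.node 2494 (.leaf 0x0) (.node 2495 (.leaf 0x0) (.leaf 0x0)))) (.node 2499 (.node 2497 (.leaf 0x0) (.node 2498 (.leaf 0x0) (.leaf 0x0))) (.node 2500 (.leaf 0x0) (.node 2501 (.leaf 0x0) (.leaf 0x0))))))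

def cCHS_223 : Store := (.node 2513 (.node 2507 (.node 2504 (.node 2503 (.leaf 0x0) (.leaf 0x0)) (.node 2505 (.leaf 0x0) (.node 2506 (.leaf 0x0) (.leaf 0x0)))) (.node 2510 (.node 2508 (.leaf 0x0) (.node 2509 (.leaf 0x0) (.leaf 0x0))) (.node 2511 (.leaf 0x0) (.node 2512 (.leaf 0x0) (.leaf 0x0))))) (.node 2518 (.node 2515 (.node 2514 (.leaf 0x0) (.leaf 0x0)) (.node 2516 (.leaf 0x0) (.node 2517 (.leaf 0x0) (.leaf 0x0)))) (.node 2521 (.node 2519 (.leaf 0x0) (.node 2520 (.leaf 0x0) (.leaf 0x1))) (.node 2522 (.leaf 0x0) (.node 2523 (.leaf 0x100010003) (.leaf 0x0))))))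

def cCHS_224 : Store := (.node 2502 cCHS_222 cCHS_223)

def cCHS_225 : Store := (.node 2535 (.node 2529 (.node 2526 (.node 2525 (.leaf 0x0) (.leaf 0x0)) (.node 2527 (.leaf 0x10001) (.node 2528 (.leaf 0x100010003) (.leaf 0x0)))) (.node 2532 (.node 2530 (.leaf 0x0) (.node 2531 (.leaf 0x0) (.leaf 0x0))) (.node 2533 (.leaf 0x0) (.node 2534 (.leaf 0x0) (.leaf 0x0))))) (.node 2540 (.node 2537 (.node 2536 (.leaf 0x0) (.leaf 0x0)) (.node 2538 (.leaf 0x0) (.node 2539 (.leaf 0x0) (.leaf 0x0)))) (.node 2543 (.node 2541 (.leaf 0x0) (.node 2542 (.leaf 0x0) (.leaf 0x0))) (.node 2544 (.leaf 0x0) (.node 2545 (.leaf 0x0) (.leaf 0x0))))))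

def cCHS_226 : Store := (.node 2557 (.node 2551 (.node 2548 (.node 2547 (.leaf 0x0) (.leaf 0x0)) (.node 2549 (.leaf 0x0) (.node 2550 (.leaf 0x0) (.leaf 0x0)))) (.node 2554 (.node 2552 (.leaf 0x0) (.node 2553 (.leaf 0x0) (.leaf 0x0))) (.node 2555 (.leaf 0x0) (.node 2556 (.leaf 0x0) (.leaf 0x0))))) (.node 2562 (.node 2559 (.node 2558 (.leaf 0x0) (.leaf 0x0)) (.node 2560 (.leaf 0x0) (.node 2561 (.leaf 0x0) (.leaf 0x0)))) (.node 2565 (.node 2563 (.leaf 0x0) (.node 2564 (.leaf 0x0) (.leaf 0x0))) (.node 2566 (.leaf 0x0) (.node 2567 (.leaf 0x0) (.leaf 0x0))))))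

def cCHS_227 : Store := (.node 2546 cCHS_225 cCHS_226)

def cCHS_228 : Store := (.node 2524 cCHS_224 cCHS_227)

def cCHS_229 : Store := (.node 2579 (.node 2573 (.node 2570 (.node 2569 (.leaf 0x0) (.leaf 0x0)) (.node 2571 (.leaf 0x0) (.node 2572 (.leaf 0x0) (.leaf 0x0)))) (.node 2576 (.node 2574 (.leaf 0x0) (.node 2575 (.leaf 0x0) (.leaf 0x0))) (.node 2577 (.leaf 0x0) (.node 2578 (.leaf 0x0) (.leaf 0x0))))) (.node 2584 (.node 2581 (.node 2580 (.leaf 0x0) (.leaf 0x0)) (.node 2582 (.leaf 0x0) (.node 2583 (.leaf 0x0) (.leaf 0x0)))) (.node 2587 (.node 2585 (.leaf 0x0) (.node 2586 (.leaf 0x0) (.leaf 0x0))) (.node 2588 (.leaf 0x0) (.node 2589 (.leaf 0x0) (.leaf 0x0))))))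

def cCHS_230 : Store := (.node 2601 (.node 2595 (.node 2592 (.node 2591 (.leaf 0x0) (.leaf 0x0)) (.node 2593 (.leaf 0x0) (.node 2594 (.leaf 0x0) (.leaf 0x0)))) (.node 2598 (.node 2596 (.leaf 0x0) (.node 2597 (.leaf 0x0) (.leaf 0x0))) (.node 2599 (.leaf 0x0) (.node 2600 (.leaf 0x0) (.leaf 0x0))))) (.node 2606 (.node 2603 (.node 2602 (.leaf 0x0) (.leaf 0x0)) (.node 2604 (.leaf 0x0) (.node 2605 (.leaf 0x0) (.leaf 0x0)))) (.node 2609 (.node 2607 (.leaf 0x0) (.node 2608 (.leaf 0x0) (.leaf 0x0))) (.node 2610 (.leaf 0x0) (.node 2611 (.leaf 0x0) (.leaf 0x0))))))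

def cCHS_231 : Store := (.node 2590 cCHS_229 cCHS_230)

def cCHS_232 : Store := (.node 2623 (.node 2617 (.node 2614 (.node 2613 (.leaf 0x0) (.leaf 0x0)) (.node 2615 (.leaf 0x0) (.node 2616 (.leaf 0x0) (.leaf 0x0)))) (.node 2620 (.node 2618 (.leaf 0x0) (.node 2619 (.leaf 0x0) (.leaf 0x0))) (.node 2621 (.leaf 0x0) (.node 2622 (.leaf 0x0) (.leaf 0x0))))) (.node 2628 (.node 2625 (.node 2624 (.leaf 0x0) (.leaf 0x0)) (.node 2626 (.leaf 0x0) (.node 2627 (.leaf 0x0) (.leaf 0x0)))) (.node 2631 (.node 2629 (.leaf 0x0) (.node 2630 (.leaf 0x0) (.leaf 0x0))) (.node 2632 (.leaf 0x0) (.node 2633 (.leaf 0x0) (.leaf 0x0))))))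

def cCHS_233 : Store := (.node 2645 (.node 2639 (.node 2636 (.node 2635 (.leaf 0x0) (.leaf 0x0)) (.node 2637 (.leaf 0x0) (.node 2638 (.leaf 0x0) (.leaf 0x0)))) (.node 2642 (.node 2640 (.leaf 0x0) (.node 2641 (.leaf 0x0) (.leaf 0x0))) (.node 2643 (.leaf 0x0) (.node 2644 (.leaf 0x0) (.leaf 0x0))))) (.node 2651 (.node 2648 (.node 2646 (.leaf 0x0) (.node 2647 (.leaf 0x0) (.leaf 0x0))) (.node 2649 (.leaf 0x0) (.node 2650 (.leaf 0x0) (.leaf 0x0)))) (.node 2654 (.node 2652 (.leaf 0x0) (.node 2653 (.leaf 0x0) (.leaf 0x0))) (.node 2655 (.leaf 0x0) (.node 2656 (.leaf 0x0) (.leaf 0x0))))))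

def cCHS_234 : Store := (.node 2634 cCHS_232 cCHS_233)

def cCHS_235 : Store := (.node 2612 cCHS_231 cCHS_234)

def cCHS_236 : Store := (.node 2568 cCHS_228 cCHS_235)

def cCHS_237 : Store := (.node 2668 (.node 2662 (.node 2659 (.node 2658 (.leaf 0x0) (.leaf 0x0)) (.node 2660 (.leaf 0x0) (.node 2661 (.leaf 0x0) (.leaf 0x0)))) (.node 2665 (.node 2663 (.leaf 0x0) (.node 2664 (.leaf 0x0) (.leaf 0x0))) (.node 2666 (.leaf 0x0) (.node 2667 (.leaf 0x0) (.leaf 0x0))))) (.node 2673 (.node 2670 (.node 2669 (.leaf 0x0) (.leaf 0x0)) (.node 2671 (.leaf 0x0) (.node 2672 (.leaf 0x0) (.leaf 0x0)))) (.node 2676 (.node 2674 (.leaf 0x0) (.node 2675 (.leaf 0x0) (.leaf 0x0))) (.node 2677 (.leaf 0x0) (.node 2678 (.leaf 0x0) (.leaf 0x0))))))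

def cCHS_238 : Store := (.node 2690 (.node 2684 (.node 2681 (.node 2680 (.leaf 0x0) (.leaf 0x0)) (.node 2682 (.leaf 0x0) (.node 2683 (.leaf 0x0) (.leaf 0x0)))) (.node 2687 (.node 2685 (.leaf 0x0) (.node 2686 (.leaf 0x0) (.leaf 0x0))) (.node 2688 (.leaf 0x0) (.node 2689 (.leaf 0x0) (.leaf 0x0))))) (.node 2695 (.node 2692 (.node 2691 (.leaf 0x0) (.leaf 0x0)) (.node 2693 (.leaf 0x0) (.node 2694 (.leaf 0x0) (.leaf 0x0)))) (.node 2698 (.node 2696 (.leaf 0x0) (.node 2697 (.leaf 0x0) (.leaf 0x0))) (.node 2699 (.leaf 0x0) (.node 2700 (.leaf 0x0) (.leaf 0x0))))))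

def cCHS_239 : Store := (.node 2679 cCHS_237 cCHS_238)

def cCHS_240 : Store := (.node 2712 (.node 2706 (.node 2703 (.node 2702 (.leaf 0x0) (.leaf 0x0)) (.node 2704 (.leaf 0x0) (.node 2705 (.leaf 0x0) (.leaf 0x0)))) (.node 2709 (.node 2707 (.leaf 0x0) (.node 2708 (.leaf 0x0) (.leaf 0x0))) (.node 2710 (.leaf 0x0) (.node 2711 (.leaf 0x0) (.leaf 0x0))))) (.node 2717 (.node 2714 (.node 2713 (.leaf 0x1) (.leaf 0x0)) (.node 2715 (.leaf 0x0) (.node 2716 (.leaf 0x0) (.leaf 0x0)))) (.node 2720 (.node 2718 (.leaf 0x0) (.node 2719 (.leaf 0x0) (.leaf 0x0))) (.node 2721 (.leaf 0x0) (.node 2722 (.leaf 0x0) (.leaf 0x0))))))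

def cCHS_241 : Store := (.node 2734 (.node 2728 (.node 2725 (.node 2724 (.leaf 0x0) (.leaf 0x0)) (.node 2726 (.leaf 0x1) (.node 2727 (.leaf 0x0) (.leaf 0x0)))) (.node 2731 (.node 2729 (.leaf 0x0) (.node 2730 (.leaf 0x0) (.leaf 0x0))) (.node 2732 (.leaf 0x0) (.node 2733 (.leaf 0x0) (.leaf 0x0))))) (.node 2740 (.node 2737 (.node 2735 (.leaf 0x0) (.node 2736 (.leaf 0x0) (.leaf 0x0))) (.node 2738 (.leaf 0x0) (.node 2739 (.leaf 0x0) (.leaf 0x0)))) (.node 2743 (.node 2741 (.leaf 0x0) (.node 2742 (.leaf 0x0) (.leaf 0x0))) (.node 2744 (.leaf 0x0) (.node 2745 (.leaf 0x0) (.leaf 0x0))))))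

def cCHS_242 : Store := (.node 2723 cCHS_240 cCHS_241)

def cCHS_243 : Store := (.node 2701 cCHS_239 cCHS_242)

def cCHS_244 : Store := (.node 2757 (.node 2751 (.node 2748 (.node 2747 (.leaf 0x0) (.leaf 0x0)) (.node 2749 (.leaf 0x0) (.node 2750 (.leaf 0x0) (.leaf 0x0)))) (.node 2754 (.node 2752 (.leaf 0x0) (.node 2753 (.leaf 0x0) (.leaf 0x0))) (.node 2755 (.leaf 0x0) (.node 2756 (.leaf 0x0) (.leaf 0x0))))) (.node 2762 (.node 2759 (.node 2758 (.leaf 0x0) (.leaf 0x0)) (.node 2760 (.leaf 0x0) (.node 2761 (.leaf 0x0) (.leaf 0x0)))) (.node 2765 (.node 2763 (.leaf 0x0) (.node 2764 (.leaf 0x0) (.leaf 0x0))) (.node 2766 (.leaf 0x0) (.node 2767 (.leaf 0x0) (.leaf 0x0))))))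

def cCHS_245 : Store := (.node 2779 (.node 2773 (.node 2770 (.node 2769 (.leaf 0x0) (.leaf 0x0)) (.node 2771 (.leaf 0x0) (.node 2772 (.leaf 0x0) (.leaf 0x0)))) (.node 2776 (.node 2774 (.leaf 0x0) (.node 2775 (.leaf 0x0) (.leaf 0x0))) (.node 2777 (.leaf 0x0) (.node 2778 (.leaf 0x0) (.leaf 0x0))))) (.node 2784 (.node 2781 (.node 2780 (.leaf 0x0) (.leaf 0x0)) (.node 2782 (.leaf 0x0) (.node 2783 (.leaf 0x0) (.leaf 0x0)))) (.node 2787 (.node 2785 (.leaf 0x0) (.node 2786 (.leaf 0x0) (.leaf 0x0))) (.node 2788 (.leaf 0x0) (.node 2789 (.leaf 0x0) (.leaf 0x0))))))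

def cCHS_246 : Store := (.node 2768 cCHS_244 cCHS_245)

def cCHS_247 : Store := (.node 2801 (.node 2795 (.node 2792 (.node 2791 (.leaf 0x0) (.leaf 0x0)) (.node 2793 (.leaf 0x0) (.node 2794 (.leaf 0x0) (.leaf 0x0)))) (.node 2798 (.node 2796 (.leaf 0x0) (.node 2797 (.leaf 0x0) (.leaf 0x0))) (.node 2799 (.leaf 0x0) (.node 2800 (.leaf 0x0) (.leaf 0x0))))) (.node 2806 (.node 2803 (.node 2802 (.leaf 0x0) (.leaf 0x0)) (.node 2804 (.leaf 0x0) (.node 2805 (.leaf 0x0) (.leaf 0x0)))) (.node 2809 (.node 2807 (.leaf 0x0) (.node 2808 (.leaf 0x0) (.leaf 0x0))) (.node 2810 (.leaf 0x0) (.node 2811 (.leaf 0x0) (.leaf 0x0))))))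

def cCHS_248 : Store := (.node 2823 (.node 2817 (.node 2814 (.node 2813 (.leaf 0x0) (.leaf 0x0)) (.node 2815 (.leaf 0x0) (.node 2816 (.leaf 0x0) (.leaf 0x0)))) (.node 2820 (.node 2818 (.leaf 0x0) (.node 2819 (.leaf 0x0) (.leaf 0x0))) (.node 2821 (.leaf 0x0) (.node 2822 (.leaf 0x0) (.leaf 0x0))))) (.node 2829 (.node 2826 (.node 2824 (.leaf 0x0) (.node 2825 (.leaf 0x0) (.leaf 0x0))) (.node 2827 (.leaf 0x0) (.node 2828 (.leaf 0x0) (.leaf 0x0)))) (.node 2832 (.node 2830 (.leaf 0x0) (.node 2831 (.leaf 0x0) (.leaf 0x0))) (.node 2833 (.leaf 0x0) (.node 2834 (.leaf 0x0) (.leaf 0x0))))))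

def cCHS_249 : Store := (.node 2812 cCHS_247 cCHS_248)

def cCHS_250 : Store := (.node 2790 cCHS_246 cCHS_249)

def cCHS_251 : Store := (.node 2746 cCHS_243 cCHS_250)

def cCHS_252 : Store := (.node 2657 cCHS_236 cCHS_251)

def cCHS_253 : Store := (.node 2480 cCHS_221 cCHS_252)

def cCHS_254 : Store := (.node 2126 cCHS_190 cCHS_253)

def cCHS_255 : Store := (.node 1417 cCHS_127 cCHS_254)

def cCHS_256 : Store := (.node 2846 (.node 2840 (.node 2837 (.node 2836 (.leaf 0x0) (.leaf 0x0)) (.node 2838 (.leaf 0x0) (.node 2839 (.leaf 0x0) (.leaf 0x0)))) (.node 2843 (.node 2841 (.leaf 0x0) (.node 2842 (.leaf 0x0) (.leaf 0x0))) (.node 2844 (.leaf 0x0) (.node 2845 (.leaf 0x0) (.leaf 0x0))))) (.node 2851 (.node 2848 (.node 2847 (.leaf 0x0) (.leaf 0x0)) (.node 2849 (.leaf 0x0) (.node 2850 (.leaf 0x0) (.leaf 0x0)))) (.node 2854 (.node 2852 (.leaf 0x0) (.node 2853 (.leaf 0x0) (.leaf 0x0))) (.node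 2855 (.leaf 0x0) (.node 2856 (.leaf 0x0) (.leaf 0x0))))))

def cCHS_257 : Store := (.node 2868 (.node 2862 (.node 2859 (.node 2858 (.leaf 0x0) (.leaf 0x0)) (.node 2860 (.leaf 0x0) (.node 2861 (.leaf 0x0) (.leaf 0x0)))) (.node 2865 (.node 2863 (.leaf 0x0) (.node 2864 (.leaf 0x0) (.leaf 0x0))) (.node 2866 (.leaf 0x0) (.node 2867 (.leaf 0x0) (.leaf 0x0))))) (.node 2873 (.node 2870 (.node 2869 (.leaf 0x0) (.leaf 0x0)) (.node 2871 (.leaf 0x0) (.node 2872 (.leaf 0x0) (.leaf 0x0)))) (.node 2876 (.node 2874 (.leaf 0x0) (.node 2875 (.leaf 0x0) (.leaf 0x0))) (.node 2877 (.leaf 0x0) (.node 2878 (.leaf 0x0) (.leaf 0x0))))))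

def cCHS_258 : Store := (.node 2857 cCHS_256 cCHS_257)

def cCHS_259 : Store := (.node 2890 (.node 2884 (.node 2881 (.node 2880 (.leaf 0x0) (.leaf 0x0)) (.node 2882 (.leaf 0x0) (.node 2883 (.leaf 0x0) (.leaf 0x0)))) (.node 2887 (.node 2885 (.leaf 0x0) (.node 2886 (.leaf 0x0) (.leaf 0x0))) (.node 2888 (.leaf 0x0) (.node 2889 (.leaf 0x0) (.leaf 0x0))))) (.node 2895 (.node 2892 (.node 2891 (.leaf 0x0) (.leaf 0x0)) (.node 2893 (.leaf 0x0) (.node 2894 (.leaf 0x0) (.leaf 0x0)))) (.node 2898 (.node 2896 (.leaf 0x0) (.node 2897 (.leaf 0x0) (.leaf 0x0))) (.node 2899 (.leaf 0x0) (.node 2900 (.leaf 0x0) (.leaf 0x0))))))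

def cCHS_260 : Store := (.node 2912 (.node 2906 (.node 2903 (.node 2902 (.leaf 0x0) (.leaf 0x0)) (.node 2904 (.leaf 0x0) (.node 2905 (.leaf 0x0) (.leaf 0x0)))) (.node 2909 (.node 2907 (.leaf 0x0) (.node 2908 (.leaf 0x0) (.leaf 0x0))) (.node 2910 (.leaf 0x0) (.node 2911 (.leaf 0x0) (.leaf 0x0))))) (.node 2917 (.node 2914 (.node 2913 (.leaf 0x0) (.leaf 0x0)) (.node 2915 (.leaf 0x0) (.node 2916 (.leaf 0x0) (.leaf 0x0)))) (.node 2920 (.node 2918 (.leaf 0x0) (.node 2919 (.leaf 0x0) (.leaf 0x0))) (.node 2921 (.leaf 0x0) (.node 2922 (.leaf 0x0) (.leaf 0x0))))))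

def cCHS_261 : Store := (.node 2901 cCHS_259 cCHS_260)

def cCHS_262 : Store := (.node 2879 cCHS_258 cCHS_261)

def cCHS_263 : Store := (.node 2934 (.node 2928 (.node 2925 (.node 2924 (.leaf 0x0) (.leaf 0x0)) (.node 2926 (.leaf 0x0) (.node 2927 (.leaf 0x0) (.leaf 0x0)))) (.node 2931 (.node 2929 (.leaf 0x0) (.node 2930 (.leaf 0x0) (.leaf 0x0))) (.node 2932 (.leaf 0x0) (.node 2933 (.leaf 0x0) (.leaf 0x0))))) (.node 2939 (.node 2936 (.node 2935 (.leaf 0x0) (.leaf 0x0)) (.node 2937 (.leaf 0x0) (.node 2938 (.leaf 0x0) (.leaf 0x0)))) (.node 2942 (.node 2940 (.leaf 0x0) (.node 2941 (.leaf 0x0) (.leaf 0x0))) (.node 2943 (.leaf 0x0) (.node 2944 (.leaf 0x0) (.leaf 0x0))))))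

def cCHS_264 : Store := (.node 2956 (.node 2950 (.node 2947 (.node 2946 (.leaf 0x0) (.leaf 0x0)) (.node 2948 (.leaf 0x0) (.node 2949 (.leaf 0x0) (.leaf 0x0)))) (.node 2953 (.node 2951 (.leaf 0x0) (.node 2952 (.leaf 0x0) (.leaf 0x0))) (.node 2954 (.leaf 0x0) (.node 2955 (.leaf 0x0) (.leaf 0x0))))) (.node 2961 (.node 2958 (.node 2957 (.leaf 0x0) (.leaf 0x0)) (.node 2959 (.leaf 0x0) (.node 2960 (.leaf 0x0) (.leaf 0x0)))) (.node 2964 (.node 2962 (.leaf 0x0) (.node 2963 (.leaf 0x0) (.leaf 0x0))) (.node 2965 (.leaf 0x0) (.node 2966 (.leaf 0x0) (.leaf 0x0))))))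

def cCHS_265 : Store := (.node 2945 cCHS_263 cCHS_264)

def cCHS_266 : Store := (.node 2978 (.node 2972 (.node 2969 (.node 2968 (.leaf 0x0) (.leaf 0x0)) (.node 2970 (.leaf 0x0) (.node 2971 (.leaf 0x0) (.leaf 0x0)))) (.node 2975 (.node 2973 (.leaf 0x0) (.node 2974 (.leaf 0x0) (.leaf 0x0))) (.node 2976 (.leaf 0x0) (.node 2977 (.leaf 0x0) (.leaf 0x0))))) (.node 2983 (.node 2980 (.node 2979 (.leaf 0x0) (.leaf 0x0)) (.node 2981 (.leaf 0x0) (.node 2982 (.leaf 0x0) (.leaf 0x0)))) (.node 2986 (.node 2984 (.leaf 0x0) (.node 2985 (.leaf 0x0) (.leaf 0x0))) (.node 2987 (.leaf 0x0) (.node 2988 (.leaf 0x0) (.leaf 0x0))))))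

def cCHS_267 : Store := (.node 3000 (.node 2994 (.node 2991 (.node 2990 (.leaf 0x0) (.leaf 0x0)) (.node 2992 (.leaf 0x0) (.node 2993 (.leaf 0x0) (.leaf 0x0)))) (.node 2997 (.node 2995 (.leaf 0x0) (.node 2996 (.leaf 0x0) (.leaf 0x0))) (.node 2998 (.leaf 0x0) (.node 2999 (.leaf 0x0) (.leaf 0x0))))) (.node 3006 (.node 3003 (.node 3001 (.leaf 0x0) (.node 3002 (.leaf 0x0) (.leaf 0x0))) (.node 3004 (.leaf 0x0) (.node 3005 (.leaf 0x0) (.leaf 0x0)))) (.node 3009 (.node 3007 (.leaf 0x0) (.node 3008 (.leaf 0x0) (.leaf 0x0))) (.node 3010 (.leaf 0x0) (.node 3011 (.leaf 0x0) (.leaf 0x0))))))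

def cCHS_268 : Store := (.node 2989 cCHS_266 cCHS_267)

def cCHS_269 : Store := (.node 2967 cCHS_265 cCHS_268)

def cCHS_270 : Store := (.node 2923 cCHS_262 cCHS_269)

def cCHS_271 : Store := (.node 3023 (.node 3017 (.node 3014 (.node 3013 (.leaf 0x0) (.leaf 0x0)) (.node 3015 (.leaf 0x0) (.node 3016 (.leaf 0x0) (.leaf 0x0)))) (.node 3020 (.node 3018 (.leaf 0x0) (.node 3019 (.leaf 0x0) (.leaf 0x0))) (.node 3021 (.leaf 0x0) (.node 3022 (.leaf 0x0) (.leaf 0x0))))) (.node 3028 (.node 3025 (.node 3024 (.leaf 0x0) (.leaf 0x0)) (.node 3026 (.leaf 0x0) (.node 3027 (.leaf 0x0) (.leaf 0x0)))) (.node 3031 (.node 3029 (.leaf 0x0) (.node 3030 (.leaf 0x0) (.leaf 0x0))) (.node 3032 (.leaf 0x0) (.node 3033 (.leaf 0x0) (.leaf 0x0))))))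

def cCHS_272 : Store := (.node 3045 (.node 3039 (.node 3036 (.node 3035 (.leaf 0x0) (.leaf 0x0)) (.node 3037 (.leaf 0x0) (.node 3038 (.leaf 0x0) (.leaf 0x0)))) (.node 3042 (.node 3040 (.leaf 0x0) (.node 3041 (.leaf 0x0) (.leaf 0x0))) (.node 3043 (.leaf 0x0) (.node 3044 (.leaf 0x0) (.leaf 0x0))))) (.node 3050 (.node 3047 (.node 3046 (.leaf 0x0) (.leaf 0x0)) (.node 3048 (.leaf 0x0) (.node 3049 (.leaf 0x0) (.leaf 0x0)))) (.node 3053 (.node 3051 (.leaf 0x0) (.node 3052 (.leaf 0x0) (.leaf 0x0))) (.node 3054 (.leaf 0x0) (.node 3055 (.leaf 0x0) (.leaf 0x0))))))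

def cCHS_273 : Store := (.node 3034 cCHS_271 cCHS_272)

def cCHS_274 : Store := (.node 3067 (.node 3061 (.node 3058 (.node 3057 (.leaf 0x0) (.leaf 0x0)) (.node 3059 (.leaf 0x0) (.node 3060 (.leaf 0x0) (.leaf 0x0)))) (.node 3064 (.node 3062 (.leaf 0x0) (.node 3063 (.leaf 0x0) (.leaf 0x0))) (.node 3065 (.leaf 0x0) (.node 3066 (.leaf 0x0) (.leaf 0x0))))) (.node 3072 (.node 3069 (.node 3068 (.leaf 0x0) (.leaf 0x0)) (.node 3070 (.leaf 0x0) (.node 3071 (.leaf 0x0) (.leaf 0x0)))) (.node 3075 (.node 3073 (.leaf 0x0) (.node 3074 (.leaf 0x0) (.leaf 0x0))) (.node 3076 (.leaf 0x0) (.node 3077 (.leaf 0x0) (.leaf 0x0))))))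

def cCHS_275 : Store := (.node 3089 (.node 3083 (.node 3080 (.node 3079 (.leaf 0x0) (.leaf 0x0)) (.node 3081 (.leaf 0x0) (.node 3082 (.leaf 0x0) (.leaf 0x0)))) (.node 3086 (.node 3084 (.leaf 0x0) (.node 3085 (.leaf 0x0) (.leaf 0x0))) (.node 3087 (.leaf 0x0) (.node 3088 (.leaf 0x0) (.leaf 0x0))))) (.node 3094 (.node 3091 (.node 3090 (.leaf 0x0) (.leaf 0x0)) (.node 3092 (.leaf 0x0) (.node 3093 (.leaf 0x0) (.leaf 0x0)))) (.node 3097 (.node 3095 (.leaf 0x0) (.node 3096 (.leaf 0x0) (.leaf 0x0))) (.node 3098 (.leaf 0x0) (.node 3099 (.leaf 0x0) (.leaf 0x0))))))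

def cCHS_276 : Store := (.node 3078 cCHS_274 cCHS_275)

def cCHS_277 : Store := (.node 3056 cCHS_273 cCHS_276)

def cCHS_278 : Store := (.node 3111 (.node 3105 (.node 3102 (.node 3101 (.leaf 0x0) (.leaf 0x0)) (.node 3103 (.leaf 0x0) (.node 3104 (.leaf 0x0) (.leaf 0x0)))) (.node 3108 (.node 3106 (.leaf 0x0) (.node 3107 (.leaf 0x0) (.leaf 0x0))) (.node 3109 (.leaf 0x0) (.node 3110 (.leaf 0x0) (.leaf 0x0))))) (.node 3116 (.node 3113 (.node 3112 (.leaf 0x0) (.leaf 0x0)) (.node 3114 (.leaf 0x0) (.node 3115 (.leaf 0x0) (.leaf 0x0)))) (.node 3119 (.node 3117 (.leaf 0x0) (.node 3118 (.leaf 0x0) (.leaf 0x0))) (.node 3120 (.leaf 0x0) (.node 3121 (.leaf 0x0) (.leaf 0x0))))))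

def cCHS_279 : Store := (.node 3133 (.node 3127 (.node 3124 (.node 3123 (.leaf 0x0) (.leaf 0x0)) (.node 3125 (.leaf 0x0) (.node 3126 (.leaf 0x0) (.leaf 0x0)))) (.node 3130 (.node 3128 (.leaf 0x0) (.node 3129 (.leaf 0x0) (.leaf 0x0))) (.node 3131 (.leaf 0x0) (.node 3132 (.leaf 0x0) (.leaf 0x0))))) (.node 3138 (.node 3135 (.node 3134 (.leaf 0x0) (.leaf 0x0)) (.node 3136 (.leaf 0x0) (.node 3137 (.leaf 0x0) (.leaf 0x0)))) (.node 3141 (.node 3139 (.leaf 0x0) (.node 3140 (.leaf 0x0) (.leaf 0x0))) (.node 3142 (.leaf 0x0) (.node 3143 (.leaf 0x0) (.leaf 0x0))))))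

def cCHS_280 : Store := (.node 3122 cCHS_278 cCHS_279)

def cCHS_281 : Store := (.node 3155 (.node 3149 (.node 3146 (.node 3145 (.leaf 0x0) (.leaf 0x0)) (.node 3147 (.leaf 0x0) (.node 3148 (.leaf 0x0) (.leaf 0x0)))) (.node 3152 (.node 3150 (.leaf 0x0) (.node 3151 (.leaf 0x0) (.leaf 0x0))) (.node 3153 (.leaf 0x0) (.node 3154 (.leaf 0x0) (.leaf 0x0))))) (.node 3160 (.node 3157 (.node 3156 (.leaf 0x0) (.leaf 0x0)) (.node 3158 (.leaf 0x0) (.node 3159 (.leaf 0x0) (.leaf 0x0)))) (.node 3163 (.node 3161 (.leaf 0x0) (.node 3162 (.leaf 0x0) (.leaf 0x0))) (.node 3164 (.leaf 0x0) (.node 3165 (.leaf 0x0) (.leaf 0x0))))))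

def cCHS_282 : Store := (.node 3177 (.node 3171 (.node 3168 (.node 3167 (.leaf 0x0) (.leaf 0x0)) (.node 3169 (.leaf 0x0) (.node 3170 (.leaf 0x0) (.leaf 0x0)))) (.node 3174 (.node 3172 (.leaf 0x0) (.node 3173 (.leaf 0x0) (.leaf 0x0))) (.node 3175 (.leaf 0x0) (.node 3176 (.leaf 0x0) (.leaf 0x0))))) (.node 3183 (.node 3180 (.node 3178 (.leaf 0x0) (.node 3179 (.leaf 0x0) (.leaf 0x0))) (.node 3181 (.leaf 0x0) (.node 3182 (.leaf 0x0) (.leaf 0x0)))) (.node 3186 (.node 3184 (.leaf 0x0) (.node 3185 (.leaf 0x0) (.leaf 0x0))) (.node 3187 (.leaf 0x0) (.node 3188 (.leaf 0x0) (.leaf 0x0))))))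

def cCHS_283 : Store := (.node 3166 cCHS_281 cCHS_282)

def cCHS_284 : Store := (.node 3144 cCHS_280 cCHS_283)

def cCHS_285 : Store := (.node 3100 cCHS_277 cCHS_284)

def cCHS_286 : Store := (.node 3012 cCHS_270 cCHS_285)

def cCHS_287 : Store := (.node 3200 (.node 3194 (.node 3191 (.node 3190 (.leaf 0x0) (.leaf 0x0)) (.node 3192 (.leaf 0x0) (.node 3193 (.leaf 0x0) (.leaf 0x0)))) (.node 3197 (.node 3195 (.leaf 0x0) (.node 3196 (.leaf 0x0) (.leaf 0x0))) (.node 3198 (.leaf 0x0) (.node 3199 (.leaf 0x0) (.leaf 0x0))))) (.node 3205 (.node 3202 (.node 3201 (.leaf 0x0) (.leaf 0x0)) (.node 3203 (.leaf 0x0) (.node 3204 (.leaf 0x0) (.leaf 0x0)))) (.node 3208 (.node 3206 (.leaf 0x0) (.node 3207 (.leaf 0x0) (.leaf 0x0))) (.node 3209 (.leaf 0x0) (.node 3210 (.leaf 0x0) (.leaf 0x0))))))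

def cCHS_288 : Store := (.node 3222 (.node 3216 (.node 3213 (.node 3212 (.leaf 0x0) (.leaf 0x0)) (.node 3214 (.leaf 0x0) (.node 3215 (.leaf 0x0) (.leaf 0x0)))) (.node 3219 (.node 3217 (.leaf 0x0) (.node 3218 (.leaf 0x0) (.leaf 0x0))) (.node 3220 (.leaf 0x0) (.node 3221 (.leaf 0x0) (.leaf 0x0))))) (.node 3227 (.node 3224 (.node 3223 (.leaf 0x0) (.leaf 0x0)) (.node 3225 (.leaf 0x0) (.node 3226 (.leaf 0x0) (.leaf 0x0)))) (.node 3230 (.node 3228 (.leaf 0x0) (.node 3229 (.leaf 0x0) (.leaf 0x0))) (.node 3231 (.leaf 0x0) (.node 3232 (.leaf 0x0) (.leaf 0x0))))))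

def cCHS_289 : Store := (.node 3211 cCHS_287 cCHS_288)

def cCHS_290 : Store := (.node 3244 (.node 3238 (.node 3235 (.node 3234 (.leaf 0x0) (.leaf 0x0)) (.node 3236 (.leaf 0x0) (.node 3237 (.leaf 0x0) (.leaf 0x0)))) (.node 3241 (.node 3239 (.leaf 0x0) (.node 3240 (.leaf 0x0) (.leaf 0x0))) (.node 3242 (.leaf 0x0) (.node 3243 (.leaf 0x0) (.leaf 0x0))))) (.node 3249 (.node 3246 (.node 3245 (.leaf 0x0) (.leaf 0x0)) (.node 3247 (.leaf 0x0) (.node 3248 (.leaf 0x0) (.leaf 0x0)))) (.node 3252 (.node 3250 (.leaf 0x0) (.node 3251 (.leaf 0x0) (.leaf 0x0))) (.node 3253 (.leaf 0x0) (.node 3254 (.leaf 0x0) (.leaf 0x0))))))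

def cCHS_291 : Store := (.node 3266 (.node 3260 (.node 3257 (.node 3256 (.leaf 0x0) (.leaf 0x0)) (.node 3258 (.leaf 0x0) (.node 3259 (.leaf 0x0) (.leaf 0x0)))) (.node 3263 (.node 3261 (.leaf 0x0) (.node 3262 (.leaf 0x0) (.leaf 0x0))) (.node 3264 (.leaf 0x0) (.node 3265 (.leaf 0x0) (.leaf 0x0))))) (.node 3271 (.node 3268 (.node 3267 (.leaf 0x0) (.leaf 0x0)) (.node 3269 (.leaf 0x0) (.node 3270 (.leaf 0x0) (.leaf 0x0)))) (.node 3274 (.node 3272 (.leaf 0x0) (.node 3273 (.leaf 0x0) (.leaf 0x0))) (.node 3275 (.leaf 0x0) (.node 3276 (.leaf 0x0) (.leaf 0x0))))))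

def cCHS_292 : Store := (.node 3255 cCHS_290 cCHS_291)

def cCHS_293 : Store := (.node 3233 cCHS_289 cCHS_292)

def cCHS_294 : Store := (.node 3288 (.node 3282 (.node 3279 (.node 3278 (.leaf 0x0) (.leaf 0x0)) (.node 3280 (.leaf 0x0) (.node 3281 (.leaf 0x0) (.leaf 0x0)))) (.node 3285 (.node 3283 (.leaf 0x0) (.node 3284 (.leaf 0x0) (.leaf 0x0))) (.node 3286 (.leaf 0x0) (.node 3287 (.leaf 0x0) (.leaf 0x0))))) (.node 3293 (.node 3290 (.node 3289 (.leaf 0x0) (.leaf 0x0)) (.node 3291 (.leaf 0x0) (.node 3292 (.leaf 0x0) (.leaf 0x0)))) (.node 3296 (.node 3294 (.leaf 0x0) (.node 3295 (.leaf 0x0) (.leaf 0x0))) (.node 3297 (.leaf 0x0) (.node 3298 (.leaf 0x0) (.leaf 0x0))))))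

def cCHS_295 : Store := (.node 3310 (.node 3304 (.node 3301 (.node 3300 (.leaf 0x0) (.leaf 0x0)) (.node 3302 (.leaf 0x0) (.node 3303 (.leaf 0x0) (.leaf 0x0)))) (.node 3307 (.node 3305 (.leaf 0x0) (.node 3306 (.leaf 0x0) (.leaf 0x0))) (.node 3308 (.leaf 0x0) (.node 3309 (.leaf 0x0) (.leaf 0x0))))) (.node 3315 (.node 3312 (.node 3311 (.leaf 0x0) (.leaf 0x0)) (.node 3313 (.leaf 0x0) (.node 3314 (.leaf 0x0) (.leaf 0x0)))) (.node 3318 (.node 3316 (.leaf 0x0) (.node 3317 (.leaf 0x0) (.leaf 0x0))) (.node 3319 (.leaf 0x0) (.node 3320 (.leaf 0x0) (.leaf 0x0))))))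

def cCHS_296 : Store := (.node 3299 cCHS_294 cCHS_295)

def cCHS_297 : Store := (.node 3332 (.node 3326 (.node 3323 (.node 3322 (.leaf 0x0) (.leaf 0x0)) (.node 3324 (.leaf 0x0) (.node 3325 (.leaf 0x0) (.leaf 0x0)))) (.node 3329 (.node 3327 (.leaf 0x0) (.node 3328 (.leaf 0x0) (.leaf 0x0))) (.node 3330 (.leaf 0x0) (.node 3331 (.leaf 0x0) (.leaf 0x0))))) (.node 3337 (.node 3334 (.node 3333 (.leaf 0x0) (.leaf 0x0)) (.node 3335 (.leaf 0x0) (.node 3336 (.leaf 0x0) (.leaf 0x0)))) (.node 3340 (.node 3338 (.leaf 0x0) (.node 3339 (.leaf 0x0) (.leaf 0x0))) (.node 3341 (.leaf 0x0) (.node 3342 (.leaf 0x0) (.leaf 0x0))))))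

def cCHS_298 : Store := (.node 3354 (.node 3348 (.node 3345 (.node 3344 (.leaf 0x0) (.leaf 0x0)) (.node 3346 (.leaf 0x0) (.node 3347 (.leaf 0x0) (.leaf 0x0)))) (.node 3351 (.node 3349 (.leaf 0x0) (.node 3350 (.leaf 0x0) (.leaf 0x0))) (.node 3352 (.leaf 0x0) (.node 3353 (.leaf 0x0) (.leaf 0x0))))) (.node 3360 (.node 3357 (.node 3355 (.leaf 0x0) (.node 3356 (.leaf 0x0) (.leaf 0x0))) (.node 3358 (.leaf 0x0) (.node 3359 (.leaf 0x0) (.leaf 0x0)))) (.node 3363 (.node 3361 (.leaf 0x0) (.node 3362 (.leaf 0x0) (.leaf 0x0))) (.node 3364 (.leaf 0x0) (.node 3365 (.leaf 0x0) (.leaf 0x0))))))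

def cCHS_299 : Store := (.node 3343 cCHS_297 cCHS_298)

def cCHS_300 : Store := (.node 3321 cCHS_296 cCHS_299)

def cCHS_301 : Store := (.node 3277 cCHS_293 cCHS_300)

def cCHS_302 : Store := (.node 3377 (.node 3371 (.node 3368 (.node 3367 (.leaf 0x0) (.leaf 0x0)) (.node 3369 (.leaf 0x0) (.node 3370 (.leaf 0x0) (.leaf 0x0)))) (.node 3374 (.node 3372 (.leaf 0x0) (.node 3373 (.leaf 0x0) (.leaf 0x0))) (.node 3375 (.leaf 0x0) (.node 3376 (.leaf 0x0) (.leaf 0x0))))) (.node 3382 (.node 3379 (.node 3378 (.leaf 0x0) (.leaf 0x0)) (.node 3380 (.leaf 0x0) (.node 3381 (.leaf 0x0) (.leaf 0x0)))) (.node 3385 (.node 3383 (.leaf 0x0) (.node 3384 (.leaf 0x0) (.leaf 0x0))) (.node 3386 (.leaf 0x0) (.node 3387 (.leaf 0x0) (.leaf 0x0))))))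

def cCHS_303 : Store := (.node 3399 (.node 3393 (.node 3390 (.node 3389 (.leaf 0x0) (.leaf 0x0)) (.node 3391 (.leaf 0x0) (.node 3392 (.leaf 0x0) (.leaf 0x0)))) (.node 3396 (.node 3394 (.leaf 0x0) (.node 3395 (.leaf 0x0) (.leaf 0x0))) (.node 3397 (.leaf 0x0) (.node 3398 (.leaf 0x0) (.leaf 0x0))))) (.node 3404 (.node 3401 (.node 3400 (.leaf 0x0) (.leaf 0x0)) (.node 3402 (.leaf 0x0) (.node 3403 (.leaf 0x0) (.leaf 0x0)))) (.node 3407 (.node 3405 (.leaf 0x0) (.node 3406 (.leaf 0x0) (.leaf 0x0))) (.node 3408 (.leaf 0x0) (.node 3409 (.leaf 0x0) (.leaf 0x0))))))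

def cCHS_304 : Store := (.node 3388 cCHS_302 cCHS_303)

def cCHS_305 : Store := (.node 3421 (.node 3415 (.node 3412 (.node 3411 (.leaf 0x0) (.leaf 0x0)) (.node 3413 (.leaf 0x0) (.node 3414 (.leaf 0x0) (.leaf 0x0)))) (.node 3418 (.node 3416 (.leaf 0x0) (.node 3417 (.leaf 0x0) (.leaf 0x0))) (.node 3419 (.leaf 0x0) (.node 3420 (.leaf 0x0) (.leaf 0x0))))) (.node 3426 (.node 3423 (.node 3422 (.leaf 0x0) (.leaf 0x0)) (.node 3424 (.leaf 0x0) (.node 3425 (.leaf 0x0) (.leaf 0x0)))) (.node 3429 (.node 3427 (.leaf 0x0) (.node 3428 (.leaf 0x0) (.leaf 0x0))) (.node 3430 (.leaf 0x0) (.node 3431 (.leaf 0x0) (.leaf 0x0))))))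

def cCHS_306 : Store := (.node 3443 (.node 3437 (.node 3434 (.node 3433 (.leaf 0x0) (.leaf 0x0)) (.node 3435 (.leaf 0x0) (.node 3436 (.leaf 0x0) (.leaf 0x0)))) (.node 3440 (.node 3438 (.leaf 0x0) (.node 3439 (.leaf 0x0) (.leaf 0x0))) (.node 3441 (.leaf 0x0) (.node 3442 (.leaf 0x0) (.leaf 0x0))))) (.node 3448 (.node 3445 (.node 3444 (.leaf 0x0) (.leaf 0x0)) (.node 3446 (.leaf 0x0) (.node 3447 (.leaf 0x0) (.leaf 0x0)))) (.node 3451 (.node 3449 (.leaf 0x0) (.node 3450 (.leaf 0x0) (.leaf 0x0))) (.node 3452 (.leaf 0x0) (.node 3453 (.leaf 0x0) (.leaf 0x0))))))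

def cCHS_307 : Store := (.node 3432 cCHS_305 cCHS_306)

def cCHS_308 : Store := (.node 3410 cCHS_304 cCHS_307)

def cCHS_309 : Store := (.node 3465 (.node 3459 (.node 3456 (.node 3455 (.leaf 0x0) (.leaf 0x0)) (.node 3457 (.leaf 0x0) (.node 3458 (.leaf 0x0) (.leaf 0x0)))) (.node 3462 (.node 3460 (.leaf 0x0) (.node 3461 (.leaf 0x0) (.leaf 0x0))) (.node 3463 (.leaf 0x0) (.node 3464 (.leaf 0x0) (.leaf 0x0))))) (.node 3470 (.node 3467 (.node 3466 (.leaf 0x0) (.leaf 0x0)) (.node 3468 (.leaf 0x0) (.node 3469 (.leaf 0x0) (.leaf 0x0)))) (.node 3473 (.node 3471 (.leaf 0x0) (.node 3472 (.leaf 0x0) (.leaf 0x0))) (.node 3474 (.leaf 0x0) (.node 3475 (.leaf 0x0) (.leaf 0x0))))))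

def cCHS_310 : Store := (.node 3487 (.node 3481 (.node 3478 (.node 3477 (.leaf 0x0) (.leaf 0x0)) (.node 3479 (.leaf 0x0) (.node 3480 (.leaf 0x0) (.leaf 0x0)))) (.node 3484 (.node 3482 (.leaf 0x0) (.node 3483 (.leaf 0x0) (.leaf 0x0))) (.node 3485 (.leaf 0x0) (.node 3486 (.leaf 0x0) (.leaf 0x0))))) (.node 3492 (.node 3489 (.node 3488 (.leaf 0x0) (.leaf 0x0)) (.node 3490 (.leaf 0x0) (.node 3491 (.leaf 0x0) (.leaf 0x0)))) (.node 3495 (.node 3493 (.leaf 0x0) (.node 3494 (.leaf 0x0) (.leaf 0x0))) (.node 3496 (.leaf 0x0) (.node 3497 (.leaf 0x0) (.leaf 0x0))))))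

def cCHS_311 : Store := (.node 3476 cCHS_309 cCHS_310)

def cCHS_312 : Store := (.node 3509 (.node 3503 (.node 3500 (.node 3499 (.leaf 0x0) (.leaf 0x0)) (.node 3501 (.leaf 0x0) (.node 3502 (.leaf 0x0) (.leaf 0x0)))) (.node 3506 (.node 3504 (.leaf 0x0) (.node 3505 (.leaf 0x0) (.leaf 0x0))) (.node 3507 (.leaf 0x0) (.node 3508 (.leaf 0x0) (.leaf 0x0))))) (.node 3514 (.node 3511 (.node 3510 (.leaf 0x0) (.leaf 0x0)) (.node 3512 (.leaf 0x0) (.node 3513 (.leaf 0x0) (.leaf 0x0)))) (.node 3517 (.node 3515 (.leaf 0x0) (.node 3516 (.leaf 0x0) (.leaf 0x0))) (.node 3518 (.leaf 0x0) (.node 3519 (.leaf 0x0) (.leaf 0x0))))))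

def cCHS_313 : Store := (.node 3531 (.node 3525 (.node 3522 (.node 3521 (.leaf 0x0) (.leaf 0x0)) (.node 3523 (.leaf 0x0) (.node 3524 (.leaf 0x0) (.leaf 0x0)))) (.node 3528 (.node 3526 (.leaf 0x0) (.node 3527 (.leaf 0x0) (.leaf 0x0))) (.node 3529 (.leaf 0x0) (.node 3530 (.leaf 0x0) (.leaf 0x0))))) (.node 3537 (.node 3534 (.node 3532 (.leaf 0x0) (.node 3533 (.leaf 0x0) (.leaf 0x0))) (.node 3535 (.leaf 0x0) (.node 3536 (.leaf 0x0) (.leaf 0x0)))) (.node 3540 (.node 3538 (.leaf 0x0) (.node 3539 (.leaf 0x0) (.leaf 0x0))) (.node 3541 (.leaf 0x0) (.node 3542 (.leaf 0x0) (.leaf 0x0))))))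

def cCHS_314 : Store := (.node 3520 cCHS_312 cCHS_313)

def cCHS_315 : Store := (.node 3498 cCHS_311 cCHS_314)

def cCHS_316 : Store := (.node 3454 cCHS_308 cCHS_315)

def cCHS_317 : Store := (.node 3366 cCHS_301 cCHS_316)

def cCHS_318 : Store := (.node 3189 cCHS_286 cCHS_317)

def cCHS_319 : Store := (.node 3554 (.node 3548 (.node 3545 (.node 3544 (.leaf 0x0) (.leaf 0x0)) (.node 3546 (.leaf 0x0) (.node 3547 (.leaf 0x0) (.leaf 0x0)))) (.node 3551 (.node 3549 (.leaf 0x0) (.node 3550 (.leaf 0x0) (.leaf 0x0))) (.node 3552 (.leaf 0x0) (.node 3553 (.leaf 0x0) (.leaf 0x0))))) (.node 3559 (.node 3556 (.node 3555 (.leaf 0x0) (.leaf 0x0)) (.node 3557 (.leaf 0x0) (.node 3558 (.leaf 0x0) (.leaf 0x0)))) (.node 3562 (.node 3560 (.leaf 0x0) (.node 3561 (.leaf 0x0) (.leaf 0x0))) (.node 3563 (.leaf 0x0) (.node 3564 (.leaf 0x0) (.leaf 0x0))))))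

def cCHS_320 : Store := (.node 3576 (.node 3570 (.node 3567 (.node 3566 (.leaf 0x0) (.leaf 0x0)) (.node 3568 (.leaf 0x0) (.node 3569 (.leaf 0x0) (.leaf 0x0)))) (.node 3573 (.node 3571 (.leaf 0x0) (.node 3572 (.leaf 0x0) (.leaf 0x0))) (.node 3574 (.leaf 0x0) (.node 3575 (.leaf 0x0) (.leaf 0x0))))) (.node 3581 (.node 3578 (.node 3577 (.leaf 0x0) (.leaf 0x0)) (.node 3579 (.leaf 0x0) (.node 3580 (.leaf 0x0) (.leaf 0x0)))) (.node 3584 (.node 3582 (.leaf 0x0) (.node 3583 (.leaf 0x0) (.leaf 0x0))) (.node 3585 (.leaf 0x0) (.node 3586 (.leaf 0x0) (.leaf 0x0))))))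

def cCHS_321 : Store := (.node 3565 cCHS_319 cCHS_320)

def cCHS_322 : Store := (.node 3598 (.node 3592 (.node 3589 (.node 3588 (.leaf 0x0) (.leaf 0x0)) (.node 3590 (.leaf 0x0) (.node 3591 (.leaf 0x0) (.leaf 0x0)))) (.node 3595 (.node 3593 (.leaf 0x0) (.node 3594 (.leaf 0x0) (.leaf 0x0))) (.node 3596 (.leaf 0x0) (.node 3597 (.leaf 0x0) (.leaf 0x0))))) (.node 3603 (.node 3600 (.node 3599 (.leaf 0x0) (.leaf 0x0)) (.node 3601 (.leaf 0x0) (.node 3602 (.leaf 0x0) (.leaf 0x0)))) (.node 3606 (.node 3604 (.leaf 0x0) (.node 3605 (.leaf 0x0) (.leaf 0x0))) (.node 3607 (.leaf 0x0) (.node 3608 (.leaf 0x0) (.leaf 0x0))))))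

def cCHS_323 : Store := (.node 3620 (.node 3614 (.node 3611 (.node 3610 (.leaf 0x0) (.leaf 0x0)) (.node 3612 (.leaf 0x0) (.node 3613 (.leaf 0x0) (.leaf 0x0)))) (.node 3617 (.node 3615 (.leaf 0x0) (.node 3616 (.leaf 0x0) (.leaf 0x0))) (.node 3618 (.leaf 0x0) (.node 3619 (.leaf 0x0) (.leaf 0x0))))) (.node 3625 (.node 3622 (.node 3621 (.leaf 0x0) (.leaf 0x0)) (.node 3623 (.leaf 0x0) (.node 3624 (.leaf 0x0) (.leaf 0x0)))) (.node 3628 (.node 3626 (.leaf 0x0) (.node 3627 (.leaf 0x0) (.leaf 0x0))) (.node 3629 (.leaf 0x0) (.node 3630 (.leaf 0x0) (.leaf 0x0))))))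

def cCHS_324 : Store := (.node 3609 cCHS_322 cCHS_323)

def cCHS_325 : Store := (.node 3587 cCHS_321 cCHS_324)

def cCHS_326 : Store := (.node 3642 (.node 3636 (.node 3633 (.node 3632 (.leaf 0x0) (.leaf 0x0)) (.node 3634 (.leaf 0x0) (.node 3635 (.leaf 0x0) (.leaf 0x0)))) (.node 3639 (.node 3637 (.leaf 0x0) (.node 3638 (.leaf 0x0) (.leaf 0x0))) (.node 3640 (.leaf 0x0) (.node 3641 (.leaf 0x0) (.leaf 0x0))))) (.node 3647 (.node 3644 (.node 3643 (.leaf 0x0) (.leaf 0x0)) (.node 3645 (.leaf 0x0) (.node 3646 (.leaf 0x0) (.leaf 0x0)))) (.node 3650 (.node 3648 (.leaf 0x0) (.node 3649 (.leaf 0x0) (.leaf 0x0))) (.node 3651 (.leaf 0x0) (.node 3652 (.leaf 0x0) (.leaf 0x0))))))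

def cCHS_327 : Store := (.node 3664 (.node 3658 (.node 3655 (.node 3654 (.leaf 0x0) (.leaf 0x0)) (.node 3656 (.leaf 0x0) (.node 3657 (.leaf 0x0) (.leaf 0x0)))) (.node 3661 (.node 3659 (.leaf 0x0) (.node 3660 (.leaf 0x0) (.leaf 0x0))) (.node 3662 (.leaf 0x0) (.node 3663 (.leaf 0x0) (.leaf 0x0))))) (.node 3669 (.node 3666 (.node 3665 (.leaf 0x0) (.leaf 0x0)) (.node 3667 (.leaf 0x0) (.node 3668 (.leaf 0x0) (.leaf 0x0)))) (.node 3672 (.node 3670 (.leaf 0x0) (.node 3671 (.leaf 0x0) (.leaf 0x0))) (.node 3673 (.leaf 0x0) (.node 3674 (.leaf 0x0) (.leaf 0x0))))))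

def cCHS_328 : Store := (.node 3653 cCHS_326 cCHS_327)

def cCHS_329 : Store := (.node 3686 (.node 3680 (.node 3677 (.node 3676 (.leaf 0x0) (.leaf 0x0)) (.node 3678 (.leaf 0x0) (.node 3679 (.leaf 0x0) (.leaf 0x0)))) (.node 3683 (.node 3681 (.leaf 0x0) (.node 3682 (.leaf 0x0) (.leaf 0x0))) (.node 3684 (.leaf 0x0) (.node 3685 (.leaf 0x0) (.leaf 0x0))))) (.node 3691 (.node 3688 (.node 3687 (.leaf 0x0) (.leaf 0x0)) (.node 3689 (.leaf 0x0) (.node 3690 (.leaf 0x0) (.leaf 0x0)))) (.node 3694 (.node 3692 (.leaf 0x0) (.node 3693 (.leaf 0x0) (.leaf 0x0))) (.node 3695 (.leaf 0x0) (.node 3696 (.leaf 0x0) (.leaf 0x0))))))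

def cCHS_330 : Store := (.node 3708 (.node 3702 (.node 3699 (.node 3698 (.leaf 0x0) (.leaf 0x0)) (.node 3700 (.leaf 0x0) (.node 3701 (.leaf 0x0) (.leaf 0x0)))) (.node 3705 (.node 3703 (.leaf 0x0) (.node 3704 (.leaf 0x0) (.leaf 0x0))) (.node 3706 (.leaf 0x0) (.node 3707 (.leaf 0x0) (.leaf 0x0))))) (.node 3714 (.node 3711 (.node 3709 (.leaf 0x0) (.node 3710 (.leaf 0x0) (.leaf 0x0))) (.node 3712 (.leaf 0x0) (.node 3713 (.leaf 0x0) (.leaf 0x0)))) (.node 3717 (.node 3715 (.leaf 0x0) (.node 3716 (.leaf 0x0) (.leaf 0x0))) (.node 3718 (.leaf 0x0) (.node 3719 (.leaf 0x0) (.leaf 0x0))))))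

def cCHS_331 : Store := (.node 3697 cCHS_329 cCHS_330)

def cCHS_332 : Store := (.node 3675 cCHS_328 cCHS_331)

def cCHS_333 : Store := (.node 3631 cCHS_325 cCHS_332)

def cCHS_334 : Store := (.node 3731 (.node 3725 (.node 3722 (.node 3721 (.leaf 0x0) (.leaf 0x0)) (.node 3723 (.leaf 0x0) (.node 3724 (.leaf 0x0) (.leaf 0x0)))) (.node 3728 (.node 3726 (.leaf 0x0) (.node 3727 (.leaf 0x0) (.leaf 0x0))) (.node 3729 (.leaf 0x0) (.node 3730 (.leaf 0x0) (.leaf 0x0))))) (.node 3736 (.node 3733 (.node 3732 (.leaf 0x0) (.leaf 0x0)) (.node 3734 (.leaf 0x0) (.node 3735 (.leaf 0x0) (.leaf 0x0)))) (.node 3739 (.node 3737 (.leaf 0x0) (.node 3738 (.leaf 0x0) (.leaf 0x0))) (.node 3740 (.leaf 0x0) (.node 3741 (.leaf 0x0) (.leaf 0x0))))))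

def cCHS_335 : Store := (.node 3753 (.node 3747 (.node 3744 (.node 3743 (.leaf 0x0) (.leaf 0x0)) (.node 3745 (.leaf 0x0) (.node 3746 (.leaf 0x0) (.leaf 0x0)))) (.node 3750 (.node 3748 (.leaf 0x0) (.node 3749 (.leaf 0x0) (.leaf 0x0))) (.node 3751 (.leaf 0x0) (.node 3752 (.leaf 0x0) (.leaf 0x0))))) (.node 3758 (.node 3755 (.node 3754 (.leaf 0x0) (.leaf 0x0)) (.node 3756 (.leaf 0x0) (.node 3757 (.leaf 0x0) (.leaf 0x0)))) (.node 3761 (.node 3759 (.leaf 0x0) (.node 3760 (.leaf 0x0) (.leaf 0x0))) (.node 3762 (.leaf 0x0) (.node 3763 (.leaf 0x0) (.leaf 0x0))))))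

def cCHS_336 : Store := (.node 3742 cCHS_334 cCHS_335)

def cCHS_337 : Store := (.node 3775 (.node 3769 (.node 3766 (.node 3765 (.leaf 0x0) (.leaf 0x0)) (.node 3767 (.leaf 0x0) (.node 3768 (.leaf 0x0) (.leaf 0x0)))) (.node 3772 (.node 3770 (.leaf 0x0) (.node 3771 (.leaf 0x0) (.leaf 0x0))) (.node 3773 (.leaf 0x0) (.node 3774 (.leaf 0x0) (.leaf 0x0))))) (.node 3780 (.node 3777 (.node 3776 (.leaf 0x0) (.leaf 0x0)) (.node 3778 (.leaf 0x0) (.node 3779 (.leaf 0x0) (.leaf 0x0)))) (.node 3783 (.node 3781 (.leaf 0x301040003) (.node 3782 (.leaf 0x0) (.leaf 0x20001))) (.node 3784 (.leaf 0x30001) (.node 3785 (.leaf 0x2000003) (.leaf 0x40001))))))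

def cCHS_338 : Store := (.node 3797 (.node 3791 (.node 3788 (.node 3787 (.leaf 0x10001) (.leaf 0x2000003)) (.node 3789 (.leaf 0x1) (.node 3790 (.leaf 0x103010003) (.leaf 0x0)))) (.node 3794 (.node 3792 (.leaf 0x104010003) (.node 3793 (.leaf 0x0) (.leaf 0x0))) (.node 3795 (.leaf 0x0) (.node 3796 (.leaf 0x0) (.leaf 0x0))))) (.node 3802 (.node 3799 (.node 3798 (.leaf 0x0) (.leaf 0x0)) (.node 3800 (.leaf 0x0) (.node 3801 (.leaf 0x0) (.leaf 0x0)))) (.node 3805 (.node 3803 (.leaf 0x0) (.node 3804 (.leaf 0x0) (.leaf 0x0))) (.node 3806 (.leaf 0x0) (.node 3807 (.leaf 0x0) (.leaf 0x0))))))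

def cCHS_339 : Store := (.node 3786 cCHS_337 cCHS_338)

def cCHS_340 : Store := (.node 3764 cCHS_336 cCHS_339)

def cCHS_341 : Store := (.node 3819 (.node 3813 (.node 3810 (.node 3809 (.leaf 0x0) (.leaf 0x0)) (.node 3811 (.leaf 0x0) (.node 3812 (.leaf 0x0) (.leaf 0x0)))) (.node 3816 (.node 3814 (.leaf 0x0) (.node 3815 (.leaf 0x0) (.leaf 0x0))) (.node 3817 (.leaf 0x0) (.node 3818 (.leaf 0x0) (.leaf 0x0))))) (.node 3824 (.node 3821 (.node 3820 (.leaf 0x0) (.leaf 0x0)) (.node 3822 (.leaf 0x0) (.node 3823 (.leaf 0x0) (.leaf 0x0)))) (.node 3827 (.node 3825 (.leaf 0x0) (.node 3826 (.leaf 0x0) (.leaf 0x0))) (.node 3828 (.leaf 0x0) (.node 3829 (.leaf 0x0) (.leaf 0x0))))))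

def cCHS_342 : Store := (.node 3841 (.node 3835 (.node 3832 (.node 3831 (.leaf 0x0) (.leaf 0x0)) (.node 3833 (.leaf 0x0) (.node 3834 (.leaf 0x0) (.leaf 0x0)))) (.node 3838 (.node 3836 (.leaf 0x0) (.node 3837 (.leaf 0x0) (.leaf 0x0))) (.node 3839 (.leaf 0x0) (.node 3840 (.leaf 0x0) (.leaf 0x0))))) (.node 3846 (.node 3843 (.node 3842 (.leaf 0x0) (.leaf 0x0)) (.node 3844 (.leaf 0x0) (.node 3845 (.leaf 0x0) (.leaf 0x0)))) (.node 3849 (.node 3847 (.leaf 0x0) (.node 3848 (.leaf 0x0) (.leaf 0x0))) (.node 3850 (.leaf 0x0) (.node 3851 (.leaf 0x0) (.leaf 0x0))))))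

def cCHS_343 : Store := (.node 3830 cCHS_341 cCHS_342)

def cCHS_344 : Store := (.node 3863 (.node 3857 (.node 3854 (.node 3853 (.leaf 0x0) (.leaf 0x0)) (.node 3855 (.leaf 0x0) (.node 3856 (.leaf 0x0) (.leaf 0x0)))) (.node 3860 (.node 3858 (.leaf 0x0) (.node 3859 (.leaf 0x0) (.leaf 0x0))) (.node 3861 (.leaf 0x0) (.node 3862 (.leaf 0x0) (.leaf 0x0))))) (.node 3868 (.node 3865 (.node 3864 (.leaf 0x0) (.leaf 0x0)) (.node 3866 (.leaf 0x0) (.node 3867 (.leaf 0x0) (.leaf 0x0)))) (.node 3871 (.node 3869 (.leaf 0x0) (.node 3870 (.leaf 0x0) (.leaf 0x0))) (.node 3872 (.leaf 0x0) (.node 3873 (.leaf 0x0) (.leaf 0x0))))))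

def cCHS_345 : Store := (.node 3885 (.node 3879 (.node 3876 (.node 3875 (.leaf 0x0) (.leaf 0x0)) (.node 3877 (.leaf 0x0) (.node 3878 (.leaf 0x0) (.leaf 0x0)))) (.node 3882 (.node 3880 (.leaf 0x0) (.node 3881 (.leaf 0x0) (.leaf 0x0))) (.node 3883 (.leaf 0x0) (.node 3884 (.leaf 0x0) (.leaf 0x0))))) (.node 3891 (.node 3888 (.node 3886 (.leaf 0x0) (.node 3887 (.leaf 0x0) (.leaf 0x0))) (.node 3889 (.leaf 0x0) (.node 3890 (.leaf 0x0) (.leaf 0x0)))) (.node 3894 (.node 3892 (.leaf 0x0) (.node 3893 (.leaf 0x0) (.leaf 0x0))) (.node 3895 (.leaf 0x0) (.node 3896 (.leaf 0x0) (.leaf 0x0))))))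

def cCHS_346 : Store := (.node 3874 cCHS_344 cCHS_345)

def cCHS_347 : Store := (.node 3852 cCHS_343 cCHS_346)

def cCHS_348 : Store := (.node 3808 cCHS_340 cCHS_347)

def cCHS_349 : Store := (.node 3720 cCHS_333 cCHS_348)

def cCHS_350 : Store := (.node 3908 (.node 3902 (.node 3899 (.node 3898 (.leaf 0x0) (.leaf 0x0)) (.node 3900 (.leaf 0x0) (.node 3901 (.leaf 0x0) (.leaf 0x0)))) (.node 3905 (.node 3903 (.leaf 0x0) (.node 3904 (.leaf 0x0) (.leaf 0x0))) (.node 3906 (.leaf 0x0) (.node 3907 (.leaf 0x0) (.leaf 0x0))))) (.node 3913 (.node 3910 (.node 3909 (.leaf 0x0) (.leaf 0x0)) (.node 3911 (.leaf 0x0) (.node 3912 (.leaf 0x0) (.leaf 0x0)))) (.node 3916 (.node 3914 (.leaf 0x0) (.node 3915 (.leaf 0x0) (.leaf 0x0))) (.node 3917 (.leaf 0x0) (.node 3918 (.leaf 0x0) (.leaf 0x0))))))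

def cCHS_351 : Store := (.node 3930 (.node 3924 (.node 3921 (.node 3920 (.leaf 0x0) (.leaf 0x0)) (.node 3922 (.leaf 0x0) (.node 3923 (.leaf 0x0) (.leaf 0x0)))) (.node 3927 (.node 3925 (.leaf 0x0) (.node 3926 (.leaf 0x0) (.leaf 0x0))) (.node 3928 (.leaf 0x0) (.node 3929 (.leaf 0x0) (.leaf 0x0))))) (.node 3935 (.node 3932 (.node 3931 (.leaf 0x0) (.leaf 0x0)) (.node 3933 (.leaf 0x0) (.node 3934 (.leaf 0x0) (.leaf 0x0)))) (.node 3938 (.node 3936 (.leaf 0x0) (.node 3937 (.leaf 0x0) (.leaf 0x0))) (.node 3939 (.leaf 0x0) (.node 3940 (.leaf 0x0) (.leaf 0x0))))))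

def cCHS_352 : Store := (.node 3919 cCHS_350 cCHS_351)

def cCHS_353 : Store := (.node 3952 (.node 3946 (.node 3943 (.node 3942 (.leaf 0x0) (.leaf 0x0)) (.node 3944 (.leaf 0x0) (.node 3945 (.leaf 0x0) (.leaf 0x0)))) (.node 3949 (.node 3947 (.leaf 0x0) (.node 3948 (.leaf 0x0) (.leaf 0x0))) (.node 3950 (.leaf 0x0) (.node 3951 (.leaf 0x0) (.leaf 0x0))))) (.node 3957 (.node 3954 (.node 3953 (.leaf 0x0) (.leaf 0x0)) (.node 3955 (.leaf 0x0) (.node 3956 (.leaf 0x0) (.leaf 0x0)))) (.node 3960 (.node 3958 (.leaf 0x0) (.node 3959 (.leaf 0x0) (.leaf 0x0))) (.node 3961 (.leaf 0x1) (.node 3962 (.leaf 0x10001) (.leaf 0x20001))))))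

def cCHS_354 : Store := (.node 3974 (.node 3968 (.node 3965 (.node 3964 (.leaf 0x0) (.leaf 0x2000100020005)) (.node 3966 (.leaf 0x0) (.node 3967 (.leaf 0x1020002010005) (.leaf 0x2000003)))) (.node 3971 (.node 3969 (.leaf 0x1000003) (.node 3970 (.leaf 0x2000100020005) (.leaf 0x0))) (.node 3972 (.leaf 0x0) (.node 3973 (.leaf 0x0) (.leaf 0x0))))) (.node 3979 (.node 3976 (.node 3975 (.leaf 0x0) (.leaf 0x0)) (.node 3977 (.leaf 0x0) (.node 3978 (.leaf 0x0) (.leaf 0x0)))) (.node 3982 (.node 3980 (.leaf 0x0) (.node 3981 (.leaf 0x0) (.leaf 0x0))) (.node 3983 (.leaf 0x0) (.node 3984 (.leaf 0x0) (.leaf 0x0))))))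

def cCHS_355 : Store := (.node 3963 cCHS_353 cCHS_354)

def cCHS_356 : Store := (.node 3941 cCHS_352 cCHS_355)

def cCHS_357 : Store := (.node 3996 (.node 3990 (.node 3987 (.node 3986 (.leaf 0x0) (.leaf 0x0)) (.node 3988 (.leaf 0x0) (.node 3989 (.leaf 0x0) (.leaf 0x0)))) (.node 3993 (.node 3991 (.leaf 0x0) (.node 3992 (.leaf 0x0) (.leaf 0x0))) (.node 3994 (.leaf 0x0) (.node 3995 (.leaf 0x0) (.leaf 0x0))))) (.node 4001 (.node 3998 (.node 3997 (.leaf 0x0) (.leaf 0x0)) (.node 3999 (.leaf 0x0) (.node 4000 (.leaf 0x0) (.leaf 0x0)))) (.node 4004 (.node 4002 (.leaf 0x0) (.node 4003 (.leaf 0x0) (.leaf 0x0))) (.node 4005 (.leaf 0x0) (.node 4006 (.leaf 0x0) (.leaf 0x0))))))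

def cCHS_358 : Store := (.node 4018 (.node 4012 (.node 4009 (.node 4008 (.leaf 0x0) (.leaf 0x0)) (.node 4010 (.leaf 0x0) (.node 4011 (.leaf 0x0) (.leaf 0x0)))) (.node 4015 (.node 4013 (.leaf 0x0) (.node 4014 (.leaf 0x0) (.leaf 0x0))) (.node 4016 (.leaf 0x0) (.node 4017 (.leaf 0x0) (.leaf 0x0))))) (.node 4023 (.node 4020 (.node 4019 (.leaf 0x0) (.leaf 0x0)) (.node 4021 (.leaf 0x0) (.node 4022 (.leaf 0x0) (.leaf 0x0)))) (.node 4026 (.node 4024 (.leaf 0x0) (.node 4025 (.leaf 0x0) (.leaf 0x0))) (.node 4027 (.leaf 0x0) (.node 4028 (.leaf 0x0) (.leaf 0x0))))))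

def cCHS_359 : Store := (.node 4007 cCHS_357 cCHS_358)

def cCHS_360 : Store := (.node 4040 (.node 4034 (.node 4031 (.node 4030 (.leaf 0x0) (.leaf 0x0)) (.node 4032 (.leaf 0x0) (.node 4033 (.leaf 0x0) (.leaf 0x0)))) (.node 4037 (.node 4035 (.leaf 0x0) (.node 4036 (.leaf 0x0) (.leaf 0x0))) (.node 4038 (.leaf 0x0) (.node 4039 (.leaf 0x0) (.leaf 0x0))))) (.node 4045 (.node 4042 (.node 4041 (.leaf 0x0) (.leaf 0x0)) (.node 4043 (.leaf 0x0) (.node 4044 (.leaf 0x0) (.leaf 0x0)))) (.node 4048 (.node 4046 (.leaf 0x0) (.node 4047 (.leaf 0x0) (.leaf 0x0))) (.node 4049 (.leaf 0x0) (.node 4050 (.leaf 0x0) (.leaf 0x0))))))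

def cCHS_361 : Store := (.node 4062 (.node 4056 (.node 4053 (.node 4052 (.leaf 0x0) (.leaf 0x0)) (.node 4054 (.leaf 0x0) (.node 4055 (.leaf 0x0) (.leaf 0x0)))) (.node 4059 (.node 4057 (.leaf 0x0) (.node 4058 (.leaf 0x0) (.leaf 0x0))) (.node 4060 (.leaf 0x0) (.node 4061 (.leaf 0x0) (.leaf 0x0))))) (.node 4068 (.node 4065 (.node 4063 (.leaf 0x0) (.node 4064 (.leaf 0x0) (.leaf 0x0))) (.node 4066 (.leaf 0x0) (.node 4067 (.leaf 0x0) (.leaf 0x0)))) (.node 4071 (.node 4069 (.leaf 0x0) (.node 4070 (.leaf 0x0) (.leaf 0x0))) (.node 4072 (.leaf 0x0) (.node 4073 (.leaf 0x0) (.leaf 0x0))))))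

def cCHS_362 : Store := (.node 4051 cCHS_360 cCHS_361)

def cCHS_363 : Store := (.node 4029 cCHS_359 cCHS_362)

def cCHS_364 : Store := (.node 3985 cCHS_356 cCHS_363)

def cCHS_365 : Store := (.node 4085 (.node 4079 (.node 4076 (.node 4075 (.leaf 0x0) (.leaf 0x0)) (.node 4077 (.leaf 0x0) (.node 4078 (.leaf 0x0) (.leaf 0x0)))) (.node 4082 (.node 4080 (.leaf 0x0) (.node 4081 (.leaf 0x0) (.leaf 0x0))) (.node 4083 (.leaf 0x0) (.node 4084 (.leaf 0x0) (.leaf 0x0))))) (.node 4090 (.node 4087 (.node 4086 (.leaf 0x0) (.leaf 0x0)) (.node 4088 (.leaf 0x0) (.node 4089 (.leaf 0x0) (.leaf 0x0)))) (.node 4093 (.node 4091 (.leaf 0x0) (.node 4092 (.leaf 0x0) (.leaf 0x0))) (.node 4094 (.leaf 0x0) (.node 4095 (.leaf 0x0) (.leaf 0x0))))))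

def cCHS_366 : Store := (.node 4107 (.node 4101 (.node 4098 (.node 4097 (.leaf 0x0) (.leaf 0x0)) (.node 4099 (.leaf 0x0) (.node 4100 (.leaf 0x0) (.leaf 0x0)))) (.node 4104 (.node 4102 (.leaf 0x0) (.node 4103 (.leaf 0x0) (.leaf 0x0))) (.node 4105 (.leaf 0x0) (.node 4106 (.leaf 0x0) (.leaf 0x0))))) (.node 4112 (.node 4109 (.node 4108 (.leaf 0x0) (.leaf 0x0)) (.node 4110 (.leaf 0x0) (.node 4111 (.leaf 0x0) (.leaf 0x0)))) (.node 4115 (.node 4113 (.leaf 0x0) (.node 4114 (.leaf 0x0) (.leaf 0x0))) (.node 4116 (.leaf 0x0) (.node 4117 (.leaf 0x0) (.leaf 0x0))))))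

def cCHS_367 : Store := (.node 4096 cCHS_365 cCHS_366)

def cCHS_368 : Store := (.node 4129 (.node 4123 (.node 4120 (.node 4119 (.leaf 0x0) (.leaf 0x0)) (.node 4121 (.leaf 0x0) (.node 4122 (.leaf 0x0) (.leaf 0x0)))) (.node 4126 (.node 4124 (.leaf 0x0) (.node 4125 (.leaf 0x0) (.leaf 0x0))) (.node 4127 (.leaf 0x0) (.node 4128 (.leaf 0x0) (.leaf 0x0))))) (.node 4134 (.node 4131 (.node 4130 (.leaf 0x0) (.leaf 0x0)) (.node 4132 (.leaf 0x0) (.node 4133 (.leaf 0x0) (.leaf 0x0)))) (.node 4137 (.node 4135 (.leaf 0x0) (.node 4136 (.leaf 0x0) (.leaf 0x0))) (.node 4138 (.leaf 0x0) (.node 4139 (.leaf 0x0) (.leaf 0x0))))))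

def cCHS_369 : Store := (.node 4151 (.node 4145 (.node 4142 (.node 4141 (.leaf 0x0) (.leaf 0x0)) (.node 4143 (.leaf 0x0) (.node 4144 (.leaf 0x0) (.leaf 0x0)))) (.node 4148 (.node 4146 (.leaf 0x0) (.node 4147 (.leaf 0x0) (.leaf 0x0))) (.node 4149 (.leaf 0x0) (.node 4150 (.leaf 0x0) (.leaf 0x0))))) (.node 4157 (.node 4154 (.node 4152 (.leaf 0x0) (.node 4153 (.leaf 0x0) (.leaf 0x0))) (.node 4155 (.leaf 0x0) (.node 4156 (.leaf 0x0) (.leaf 0x0)))) (.node 4160 (.node 4158 (.leaf 0x0) (.node 4159 (.leaf 0x0) (.leaf 0x0))) (.node 4161 (.leaf 0x0) (.node 4162 (.leaf 0x0) (.leaf 0x0))))))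

def cCHS_370 : Store := (.node 4140 cCHS_368 cCHS_369)

def cCHS_371 : Store := (.node 4118 cCHS_367 cCHS_370)

def cCHS_372 : Store := (.node 4174 (.node 4168 (.node 4165 (.node 4164 (.leaf 0x0) (.leaf 0x0)) (.node 4166 (.leaf 0x0) (.node 4167 (.leaf 0x0) (.leaf 0x0)))) (.node 4171 (.node 4169 (.leaf 0x0) (.node 4170 (.leaf 0x0) (.leaf 0x0))) (.node 4172 (.leaf 0x0) (.node 4173 (.leaf 0x0) (.leaf 0x0))))) (.node 4179 (.node 4176 (.node 4175 (.leaf 0x0) (.leaf 0x0)) (.node 4177 (.leaf 0x0) (.node 4178 (.leaf 0x0) (.leaf 0x0)))) (.node 4182 (.node 4180 (.leaf 0x0) (.node 4181 (.leaf 0x0) (.leaf 0x0))) (.node 4183 (.leaf 0x0) (.node 4184 (.leaf 0x0) (.leaf 0x0))))))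

def cCHS_373 : Store := (.node 4196 (.node 4190 (.node 4187 (.node 4186 (.leaf 0x0) (.leaf 0x0)) (.node 4188 (.leaf 0x0) (.node 4189 (.leaf 0x0) (.leaf 0x0)))) (.node 4193 (.node 4191 (.leaf 0x1) (.node 4192 (.leaf 0x0) (.leaf 0x0))) (.node 4194 (.leaf 0x0) (.node 4195 (.leaf 0x0) (.leaf 0x0))))) (.node 4201 (.node 4198 (.node 4197 (.leaf 0x0) (.leaf 0x0)) (.node 4199 (.leaf 0x0) (.node 4200 (.leaf 0x0) (.leaf 0x0)))) (.node 4204 (.node 4202 (.leaf 0x0) (.node 4203 (.leaf 0x1) (.leaf 0x0))) (.node 4205 (.leaf 0x0) (.node 4206 (.leaf 0x0) (.leaf 0x0))))))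

def cCHS_374 : Store := (.node 4185 cCHS_372 cCHS_373)

def cCHS_375 : Store := (.node 4218 (.node 4212 (.node 4209 (.node 4208 (.leaf 0x0) (.leaf 0x0)) (.node 4210 (.leaf 0x0) (.node 4211 (.leaf 0x0) (.leaf 0x0)))) (.node 4215 (.node 4213 (.leaf 0x0) (.node 4214 (.leaf 0x0) (.leaf 0x1))) (.node 4216 (.leaf 0x0) (.node 4217 (.leaf 0x0) (.leaf 0x0))))) (.node 4223 (.node 4220 (.node 4219 (.leaf 0x0) (.leaf 0x0)) (.node 4221 (.leaf 0x0) (.node 4222 (.leaf 0x0) (.leaf 0x0)))) (.node 4226 (.node 4224 (.leaf 0x0) (.node 4225 (.leaf 0x0) (.leaf 0x0))) (.node 4227 (.leaf 0x0) (.node 4228 (.leaf 0x0) (.leaf 0x0))))))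

def cCHS_376 : Store := (.node 4240 (.node 4234 (.node 4231 (.node 4230 (.leaf 0x0) (.leaf 0x0)) (.node 4232 (.leaf 0x1) (.node 4233 (.leaf 0x1) (.leaf 0x0)))) (.node 4237 (.node 4235 (.leaf 0x0) (.node 4236 (.leaf 0x0) (.leaf 0x1))) (.node 4238 (.leaf 0x0) (.node 4239 (.leaf 0x0) (.leaf 0x0))))) (.node 4246 (.node 4243 (.node 4241 (.leaf 0x0) (.node 4242 (.leaf 0x0) (.leaf 0x0))) (.node 4244 (.leaf 0x0) (.node 4245 (.leaf 0x1) (.leaf 0x0)))) (.node 4249 (.node 4247 (.leaf 0x0) (.node 4248 (.leaf 0x0) (.leaf 0x0))) (.node 4250 (.leaf 0x0) (.node 4251 (.leaf 0x0) (.leaf 0x0))))))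

def cCHS_377 : Store := (.node 4229 cCHS_375 cCHS_376)

def cCHS_378 : Store := (.node 4207 cCHS_374 cCHS_377)

def cCHS_379 : Store := (.node 4163 cCHS_371 cCHS_378)

def cCHS_380 : Store := (.node 4074 cCHS_364 cCHS_379)

def cCHS_381 : Store := (.node 3897 cCHS_349 cCHS_380)

def cCHS_382 : Store := (.node 3543 cCHS_318 cCHS_381)

def cCHS_383 : Store := (.node 4263 (.node 4257 (.node 4254 (.node 4253 (.leaf 0x0) (.leaf 0x0)) (.node 4255 (.leaf 0x0) (.node 4256 (.leaf 0x0) (.leaf 0x1)))) (.node 4260 (.node 4258 (.leaf 0x0) (.node 4259 (.leaf 0x0) (.leaf 0x0))) (.node 4261 (.leaf 0x0) (.node 4262 (.leaf 0x0) (.leaf 0x0))))) (.node 4268 (.node 4265 (.node 4264 (.leaf 0x0) (.leaf 0x0)) (.node 4266 (.leaf 0x0) (.node 4267 (.leaf 0x0) (.leaf 0x0)))) (.node 4271 (.node 4269 (.leaf 0x1) (.node 4270 (.leaf 0x0) (.leaf 0x0))) (.node 4272 (.leaf 0x0) (.node 4273 (.leaf 0x0) (.leaf 0x0))))))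

def cCHS_384 : Store := (.node 4285 (.node 4279 (.node 4276 (.node 4275 (.leaf 0x1) (.leaf 0x0)) (.node 4277 (.leaf 0x0) (.node 4278 (.leaf 0x0) (.leaf 0x0)))) (.node 4282 (.node 4280 (.leaf 0x1) (.node 4281 (.leaf 0x1) (.leaf 0x0))) (.node 4283 (.leaf 0x0) (.node 4284 (.leaf 0x0) (.leaf 0x1))))) (.node 4290 (.node 4287 (.node 4286 (.leaf 0x0) (.leaf 0x1)) (.node 4288 (.leaf 0x0) (.node 4289 (.leaf 0x0) (.leaf 0x0)))) (.node 4293 (.node 4291 (.leaf 0x0) (.node 4292 (.leaf 0x0) (.leaf 0x1))) (.node 4294 (.leaf 0x0) (.node 4295 (.leaf 0x0) (.leaf 0x0))))))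

def cCHS_385 : Store := (.node 4274 cCHS_383 cCHS_384)

def cCHS_386 : Store := (.node 4307 (.node 4301 (.node 4298 (.node 4297 (.leaf 0x0) (.leaf 0x0)) (.node 4299 (.leaf 0x0) (.node 4300 (.leaf 0x0) (.leaf 0x0)))) (.node 4304 (.node 4302 (.leaf 0x0) (.node 4303 (.leaf 0x0) (.leaf 0x0))) (.node 4305 (.leaf 0x1) (.node 4306 (.leaf 0x0) (.leaf 0x0))))) (.node 4312 (.node 4309 (.node 4308 (.leaf 0x0) (.leaf 0x0)) (.node 4310 (.leaf 0x0) (.node 4311 (.leaf 0x1) (.leaf 0x0)))) (.node 4315 (.node 4313 (.leaf 0x0) (.node 4314 (.leaf 0x0) (.leaf 0x0))) (.node 4316 (.leaf 0x0) (.node 4317 (.leaf 0x1) (.leaf 0x0))))))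

def cCHS_387 : Store := (.node 4329 (.node 4323 (.node 4320 (.node 4319 (.leaf 0x0) (.leaf 0x0)) (.node 4321 (.leaf 0x1) (.node 4322 (.leaf 0x0) (.leaf 0x0)))) (.node 4326 (.node 4324 (.leaf 0x0) (.node 4325 (.leaf 0x0) (.leaf 0x0))) (.node 4327 (.leaf 0x0) (.node 4328 (.leaf 0x0) (.leaf 0x0))))) (.node 4334 (.node 4331 (.node 4330 (.leaf 0x0) (.leaf 0x0)) (.node 4332 (.leaf 0x0) (.node 4333 (.leaf 0x0) (.leaf 0x0)))) (.node 4337 (.node 4335 (.leaf 0x0) (.node 4336 (.leaf 0x0) (.leaf 0x0))) (.node 4338 (.leaf 0x0) (.node 4339 (.leaf 0x0) (.leaf 0x0))))))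

def cCHS_388 : Store := (.node 4318 cCHS_386 cCHS_387)

def cCHS_389 : Store := (.node 4296 cCHS_385 cCHS_388)

def cCHS_390 : Store := (.node 4351 (.node 4345 (.node 4342 (.node 4341 (.leaf 0x0) (.leaf 0x0)) (.node 4343 (.leaf 0x0) (.node 4344 (.leaf 0x0) (.leaf 0x0)))) (.node 4348 (.node 4346 (.leaf 0x0) (.node 4347 (.leaf 0x0) (.leaf 0x0))) (.node 4349 (.leaf 0x0) (.node 4350 (.leaf 0x0) (.leaf 0x0))))) (.node 4356 (.node 4353 (.node 4352 (.leaf 0x0) (.leaf 0x0)) (.node 4354 (.leaf 0x0) (.node 4355 (.leaf 0x0) (.leaf 0x0)))) (.node 4359 (.node 4357 (.leaf 0x0) (.node 4358 (.leaf 0x0) (.leaf 0x0))) (.node 4360 (.leaf 0x0) (.node 4361 (.leaf 0x0) (.leaf 0x0))))))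

def cCHS_391 : Store := (.node 4373 (.node 4367 (.node 4364 (.node 4363 (.leaf 0x0) (.leaf 0x0)) (.node 4365 (.leaf 0x0) (.node 4366 (.leaf 0x0) (.leaf 0x0)))) (.node 4370 (.node 4368 (.leaf 0x0) (.node 4369 (.leaf 0x0) (.leaf 0x0))) (.node 4371 (.leaf 0x0) (.node 4372 (.leaf 0x0) (.leaf 0x0))))) (.node 4378 (.node 4375 (.node 4374 (.leaf 0x0) (.leaf 0x0)) (.node 4376 (.leaf 0x0) (.node 4377 (.leaf 0x0) (.leaf 0x0)))) (.node 4381 (.node 4379 (.leaf 0x0) (.node 4380 (.leaf 0x0) (.leaf 0x0))) (.node 4382 (.leaf 0x0) (.node 4383 (.leaf 0x0) (.leaf 0x0))))))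

def cCHS_392 : Store := (.node 4362 cCHS_390 cCHS_391)

def cCHS_393 : Store := (.node 4395 (.node 4389 (.node 4386 (.node 4385 (.leaf 0x0) (.leaf 0x0)) (.node 4387 (.leaf 0x0) (.node 4388 (.leaf 0x0) (.leaf 0x0)))) (.node 4392 (.node 4390 (.leaf 0x0) (.node 4391 (.leaf 0x0) (.leaf 0x0))) (.node 4393 (.leaf 0x0) (.node 4394 (.leaf 0x0) (.leaf 0x0))))) (.node 4400 (.node 4397 (.node 4396 (.leaf 0x0) (.leaf 0x0)) (.node 4398 (.leaf 0x0) (.node 4399 (.leaf 0x0) (.leaf 0x0)))) (.node 4403 (.node 4401 (.leaf 0x0) (.node 4402 (.leaf 0x0) (.leaf 0x0))) (.node 4404 (.leaf 0x0) (.node 4405 (.leaf 0x0) (.leaf 0x0))))))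

def cCHS_394 : Store := (.node 4417 (.node 4411 (.node 4408 (.node 4407 (.leaf 0x0) (.leaf 0x0)) (.node 4409 (.leaf 0x0) (.node 4410 (.leaf 0x0) (.leaf 0x0)))) (.node 4414 (.node 4412 (.leaf 0x0) (.node 4413 (.leaf 0x0) (.leaf 0x0))) (.node 4415 (.leaf 0x0) (.node 4416 (.leaf 0x0) (.leaf 0x0))))) (.node 4423 (.node 4420 (.node 4418 (.leaf 0x0) (.node 4419 (.leaf 0x0) (.leaf 0x0))) (.node 4421 (.leaf 0x0) (.node 4422 (.leaf 0x0) (.leaf 0x0)))) (.node 4426 (.node 4424 (.leaf 0x0) (.node 4425 (.leaf 0x0) (.leaf 0x0))) (.node 4427 (.leaf 0x0) (.node 4428 (.leaf 0x0) (.leaf 0x0))))))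

def cCHS_395 : Store := (.node 4406 cCHS_393 cCHS_394)

def cCHS_396 : Store := (.node 4384 cCHS_392 cCHS_395)

def cCHS_397 : Store := (.node 4340 cCHS_389 cCHS_396)

def cCHS_398 : Store := (.node 4440 (.node 4434 (.node 4431 (.node 4430 (.leaf 0x0) (.leaf 0x0)) (.node 4432 (.leaf 0x0) (.node 4433 (.leaf 0x0) (.leaf 0x0)))) (.node 4437 (.node 4435 (.leaf 0x0) (.node 4436 (.leaf 0x0) (.leaf 0x0))) (.node 4438 (.leaf 0x0) (.node 4439 (.leaf 0x0) (.leaf 0x0))))) (.node 4445 (.node 4442 (.node 4441 (.leaf 0x0) (.leaf 0x0)) (.node 4443 (.leaf 0x0) (.node 4444 (.leaf 0x0) (.leaf 0x0)))) (.node 4448 (.node 4446 (.leaf 0x0) (.node 4447 (.leaf 0x0) (.leaf 0x0))) (.node 4449 (.leaf 0x0) (.node 4450 (.leaf 0x0) (.leaf 0x0))))))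

def cCHS_399 : Store := (.node 4462 (.node 4456 (.node 4453 (.node 4452 (.leaf 0x0) (.leaf 0x0)) (.node 4454 (.leaf 0x0) (.node 4455 (.leaf 0x0) (.leaf 0x0)))) (.node 4459 (.node 4457 (.leaf 0x0) (.node 4458 (.leaf 0x0) (.leaf 0x0))) (.node 4460 (.leaf 0x0) (.node 4461 (.leaf 0x0) (.leaf 0x0))))) (.node 4467 (.node 4464 (.node 4463 (.leaf 0x0) (.leaf 0x0)) (.node 4465 (.leaf 0x0) (.node 4466 (.leaf 0x0) (.leaf 0x0)))) (.node 4470 (.node 4468 (.leaf 0x0) (.node 4469 (.leaf 0x0) (.leaf 0x0))) (.node 4471 (.leaf 0x0) (.node 4472 (.leaf 0x0) (.leaf 0x0))))))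

def cCHS_400 : Store := (.node 4451 cCHS_398 cCHS_399)

def cCHS_401 : Store := (.node 4484 (.node 4478 (.node 4475 (.node 4474 (.leaf 0x0) (.leaf 0x0)) (.node 4476 (.leaf 0x0) (.node 4477 (.leaf 0x0) (.leaf 0x0)))) (.node 4481 (.node 4479 (.leaf 0x0) (.node 4480 (.leaf 0x0) (.leaf 0x0))) (.node 4482 (.leaf 0x0) (.node 4483 (.leaf 0x0) (.leaf 0x0))))) (.node 4489 (.node 4486 (.node 4485 (.leaf 0x0) (.leaf 0x0)) (.node 4487 (.leaf 0x0) (.node 4488 (.leaf 0x0) (.leaf 0x0)))) (.node 4492 (.node 4490 (.leaf 0x0) (.node 4491 (.leaf 0x0) (.leaf 0x0))) (.node 4493 (.leaf 0x0) (.node 4494 (.leaf 0x0) (.leaf 0x0))))))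

def cCHS_402 : Store := (.node 4506 (.node 4500 (.node 4497 (.node 4496 (.leaf 0x0) (.leaf 0x0)) (.node 4498 (.leaf 0x0) (.node 4499 (.leaf 0x0) (.leaf 0x0)))) (.node 4503 (.node 4501 (.leaf 0x1) (.node 4502 (.leaf 0x0) (.leaf 0x0))) (.node 4504 (.leaf 0x0) (.node 4505 (.leaf 0x0) (.leaf 0x0))))) (.node 4511 (.node 4508 (.node 4507 (.leaf 0x0) (.leaf 0x0)) (.node 4509 (.leaf 0x0) (.node 4510 (.leaf 0x0) (.leaf 0x0)))) (.node 4514 (.node 4512 (.leaf 0x0) (.node 4513 (.leaf 0x0) (.leaf 0x0))) (.node 4515 (.leaf 0x0) (.node 4516 (.leaf 0x0) (.leaf 0x0))))))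

def cCHS_403 : Store := (.node 4495 cCHS_401 cCHS_402)

def cCHS_404 : Store := (.node 4473 cCHS_400 cCHS_403)

def cCHS_405 : Store := (.node 4528 (.node 4522 (.node 4519 (.node 4518 (.leaf 0x0) (.leaf 0x0)) (.node 4520 (.leaf 0x0) (.node 4521 (.leaf 0x0) (.leaf 0x0)))) (.node 4525 (.node 4523 (.leaf 0x0) (.node 4524 (.leaf 0x0) (.leaf 0x0))) (.node 4526 (.leaf 0x0) (.node 4527 (.leaf 0x0) (.leaf 0x0))))) (.node 4533 (.node 4530 (.node 4529 (.leaf 0x0) (.leaf 0x0)) (.node 4531 (.leaf 0x0) (.node 4532 (.leaf 0x0) (.leaf 0x0)))) (.node 4536 (.node 4534 (.leaf 0x0) (.node 4535 (.leaf 0x0) (.leaf 0x0))) (.node 4537 (.leaf 0x0) (.node 4538 (.leaf 0x0) (.leaf 0x0))))))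

def cCHS_406 : Store := (.node 4550 (.node 4544 (.node 4541 (.node 4540 (.leaf 0x0) (.leaf 0x0)) (.node 4542 (.leaf 0x0) (.node 4543 (.leaf 0x0) (.leaf 0x0)))) (.node 4547 (.node 4545 (.leaf 0x0) (.node 4546 (.leaf 0x0) (.leaf 0x0))) (.node 4548 (.leaf 0x0) (.node 4549 (.leaf 0x0) (.leaf 0x0))))) (.node 4555 (.node 4552 (.node 4551 (.leaf 0x0) (.leaf 0x0)) (.node 4553 (.leaf 0x0) (.node 4554 (.leaf 0x0) (.leaf 0x0)))) (.node 4558 (.node 4556 (.leaf 0x0) (.node 4557 (.leaf 0x0) (.leaf 0x0))) (.node 4559 (.leaf 0x0) (.node 4560 (.leaf 0x0) (.leaf 0x0))))))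

def cCHS_407 : Store := (.node 4539 cCHS_405 cCHS_406)

def cCHS_408 : Store := (.node 4572 (.node 4566 (.node 4563 (.node 4562 (.leaf 0x0) (.leaf 0x0)) (.node 4564 (.leaf 0x0) (.node 4565 (.leaf 0x0) (.leaf 0x0)))) (.node 4569 (.node 4567 (.leaf 0x0) (.node 4568 (.leaf 0x0) (.leaf 0x0))) (.node 4570 (.leaf 0x0) (.node 4571 (.leaf 0x0) (.leaf 0x0))))) (.node 4577 (.node 4574 (.node 4573 (.leaf 0x0) (.leaf 0x0)) (.node 4575 (.leaf 0x0) (.node 4576 (.leaf 0x0) (.leaf 0x0)))) (.node 4580 (.node 4578 (.leaf 0x0) (.node 4579 (.leaf 0x0) (.leaf 0x0))) (.node 4581 (.leaf 0x0) (.node 4582 (.leaf 0x0) (.leaf 0x0))))))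

def cCHS_409 : Store := (.node 4594 (.node 4588 (.node 4585 (.node 4584 (.leaf 0x0) (.leaf 0x0)) (.node 4586 (.leaf 0x0) (.node 4587 (.leaf 0x0) (.leaf 0x0)))) (.node 4591 (.node 4589 (.leaf 0x0) (.node 4590 (.leaf 0x0) (.leaf 0x0))) (.node 4592 (.leaf 0x0) (.node 4593 (.leaf 0x0) (.leaf 0x0))))) (.node 4600 (.node 4597 (.node 4595 (.leaf 0x0) (.node 4596 (.leaf 0x0) (.leaf 0x0))) (.node 4598 (.leaf 0x0) (.node 4599 (.leaf 0x0) (.leaf 0x0)))) (.node 4603 (.node 4601 (.leaf 0x0) (.node 4602 (.leaf 0x0) (.leaf 0x0))) (.node 4604 (.leaf 0x0) (.node 4605 (.leaf 0x0) (.leaf 0x0))))))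

def cCHS_410 : Store := (.node 4583 cCHS_408 cCHS_409)

def cCHS_411 : Store := (.node 4561 cCHS_407 cCHS_410)

def cCHS_412 : Store := (.node 4517 cCHS_404 cCHS_411)

def cCHS_413 : Store := (.node 4429 cCHS_397 cCHS_412)

def cCHS_414 : Store := (.node 4617 (.node 4611 (.node 4608 (.node 4607 (.leaf 0x0) (.leaf 0x0)) (.node 4609 (.leaf 0x0) (.node 4610 (.leaf 0x0) (.leaf 0x0)))) (.node 4614 (.node 4612 (.leaf 0x0) (.node 4613 (.leaf 0x0) (.leaf 0x0))) (.node 4615 (.leaf 0x0) (.node 4616 (.leaf 0x0) (.leaf 0x0))))) (.node 4622 (.node 4619 (.node 4618 (.leaf 0x0) (.leaf 0x0)) (.node 4620 (.leaf 0x0) (.node 4621 (.leaf 0x0) (.leaf 0x0)))) (.node 4625 (.node 4623 (.leaf 0x0) (.node 4624 (.leaf 0x0) (.leaf 0x0))) (.node 4626 (.leaf 0x0) (.node 4627 (.leaf 0x0) (.leaf 0x0))))))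

def cCHS_415 : Store := (.node 4639 (.node 4633 (.node 4630 (.node 4629 (.leaf 0x0) (.leaf 0x0)) (.node 4631 (.leaf 0x0) (.node 4632 (.leaf 0x0) (.leaf 0x0)))) (.node 4636 (.node 4634 (.leaf 0x0) (.node 4635 (.leaf 0x0) (.leaf 0x0))) (.node 4637 (.leaf 0x0) (.node 4638 (.leaf 0x0) (.leaf 0x0))))) (.node 4644 (.node 4641 (.node 4640 (.leaf 0x0) (.leaf 0x0)) (.node 4642 (.leaf 0x0) (.node 4643 (.leaf 0x0) (.leaf 0x0)))) (.node 4647 (.node 4645 (.leaf 0x0) (.node 4646 (.leaf 0x0) (.leaf 0x0))) (.node 4648 (.leaf 0x0) (.node 4649 (.leaf 0x0) (.leaf 0x0))))))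

def cCHS_416 : Store := (.node 4628 cCHS_414 cCHS_415)

def cCHS_417 : Store := (.node 4661 (.node 4655 (.node 4652 (.node 4651 (.leaf 0x0) (.leaf 0x0)) (.node 4653 (.leaf 0x0) (.node 4654 (.leaf 0x0) (.leaf 0x0)))) (.node 4658 (.node 4656 (.leaf 0x0) (.node 4657 (.leaf 0x0) (.leaf 0x0))) (.node 4659 (.leaf 0x0) (.node 4660 (.leaf 0x0) (.leaf 0x0))))) (.node 4666 (.node 4663 (.node 4662 (.leaf 0x0) (.leaf 0x0)) (.node 4664 (.leaf 0x0) (.node 4665 (.leaf 0x0) (.leaf 0x0)))) (.node 4669 (.node 4667 (.leaf 0x0) (.node 4668 (.leaf 0x0) (.leaf 0x0))) (.node 4670 (.leaf 0x0) (.node 4671 (.leaf 0x0) (.leaf 0x0))))))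

def cCHS_418 : Store := (.node 4683 (.node 4677 (.node 4674 (.node 4673 (.leaf 0x0) (.leaf 0x0)) (.node 4675 (.leaf 0x0) (.node 4676 (.leaf 0x0) (.leaf 0x0)))) (.node 4680 (.node 4678 (.leaf 0x0) (.node 4679 (.leaf 0x0) (.leaf 0x0))) (.node 4681 (.leaf 0x0) (.node 4682 (.leaf 0x0) (.leaf 0x0))))) (.node 4688 (.node 4685 (.node 4684 (.leaf 0x0) (.leaf 0x0)) (.node 4686 (.leaf 0x0) (.node 4687 (.leaf 0x0) (.leaf 0x0)))) (.node 4691 (.node 4689 (.leaf 0x0) (.node 4690 (.leaf 0x0) (.leaf 0x0))) (.node 4692 (.leaf 0x0) (.node 4693 (.leaf 0x0) (.leaf 0x0))))))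

def cCHS_419 : Store := (.node 4672 cCHS_417 cCHS_418)

def cCHS_420 : Store := (.node 4650 cCHS_416 cCHS_419)

def cCHS_421 : Store := (.node 4705 (.node 4699 (.node 4696 (.node 4695 (.leaf 0x0) (.leaf 0x0)) (.node 4697 (.leaf 0x0) (.node 4698 (.leaf 0x0) (.leaf 0x0)))) (.node 4702 (.node 4700 (.leaf 0x0) (.node 4701 (.leaf 0x0) (.leaf 0x0))) (.node 4703 (.leaf 0x0) (.node 4704 (.leaf 0x0) (.leaf 0x0))))) (.node 4710 (.node 4707 (.node 4706 (.leaf 0x0) (.leaf 0x0)) (.node 4708 (.leaf 0x0) (.node 4709 (.leaf 0x0) (.leaf 0x0)))) (.node 4713 (.node 4711 (.leaf 0x0) (.node 4712 (.leaf 0x0) (.leaf 0x0))) (.node 4714 (.leaf 0x0) (.node 4715 (.leaf 0x0) (.leaf 0x0))))))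

def cCHS_422 : Store := (.node 4727 (.node 4721 (.node 4718 (.node 4717 (.leaf 0x0) (.leaf 0x0)) (.node 4719 (.leaf 0x0) (.node 4720 (.leaf 0x0) (.leaf 0x0)))) (.node 4724 (.node 4722 (.leaf 0x0) (.node 4723 (.leaf 0x0) (.leaf 0x0))) (.node 4725 (.leaf 0x0) (.node 4726 (.leaf 0x0) (.leaf 0x0))))) (.node 4732 (.node 4729 (.node 4728 (.leaf 0x0) (.leaf 0x0)) (.node 4730 (.leaf 0x0) (.node 4731 (.leaf 0x0) (.leaf 0x0)))) (.node 4735 (.node 4733 (.leaf 0x0) (.node 4734 (.leaf 0x0) (.leaf 0x0))) (.node 4736 (.leaf 0x0) (.node 4737 (.leaf 0x0) (.leaf 0x0))))))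

def cCHS_423 : Store := (.node 4716 cCHS_421 cCHS_422)

def cCHS_424 : Store := (.node 4749 (.node 4743 (.node 4740 (.node 4739 (.leaf 0x0) (.leaf 0x0)) (.node 4741 (.leaf 0x0) (.node 4742 (.leaf 0x0) (.leaf 0x0)))) (.node 4746 (.node 4744 (.leaf 0x0) (.node 4745 (.leaf 0x0) (.leaf 0x0))) (.node 4747 (.leaf 0x0) (.node 4748 (.leaf 0x0) (.leaf 0x0))))) (.node 4754 (.node 4751 (.node 4750 (.leaf 0x0) (.leaf 0x0)) (.node 4752 (.leaf 0x0) (.node 4753 (.leaf 0x0) (.leaf 0x0)))) (.node 4757 (.node 4755 (.leaf 0x0) (.node 4756 (.leaf 0x0) (.leaf 0x0))) (.node 4758 (.leaf 0x0) (.node 4759 (.leaf 0x0) (.leaf 0x0))))))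

def cCHS_425 : Store := (.node 4771 (.node 4765 (.node 4762 (.node 4761 (.leaf 0x0) (.leaf 0x0)) (.node 4763 (.leaf 0x0) (.node 4764 (.leaf 0x0) (.leaf 0x0)))) (.node 4768 (.node 4766 (.leaf 0x0) (.node 4767 (.leaf 0x0) (.leaf 0x0))) (.node 4769 (.leaf 0x0) (.node 4770 (.leaf 0x0) (.leaf 0x0))))) (.node 4777 (.node 4774 (.node 4772 (.leaf 0x0) (.node 4773 (.leaf 0x0) (.leaf 0x0))) (.node 4775 (.leaf 0x0) (.node 4776 (.leaf 0x0) (.leaf 0x0)))) (.node 4780 (.node 4778 (.leaf 0x0) (.node 4779 (.leaf 0x0) (.leaf 0x0))) (.node 4781 (.leaf 0x0) (.node 4782 (.leaf 0x0) (.leaf 0x0))))))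

def cCHS_426 : Store := (.node 4760 cCHS_424 cCHS_425)

def cCHS_427 : Store := (.node 4738 cCHS_423 cCHS_426)

def cCHS_428 : Store := (.node 4694 cCHS_420 cCHS_427)

def cCHS_429 : Store := (.node 4794 (.node 4788 (.node 4785 (.node 4784 (.leaf 0x0) (.leaf 0x0)) (.node 4786 (.leaf 0x0) (.node 4787 (.leaf 0x0) (.leaf 0x0)))) (.node 4791 (.node 4789 (.leaf 0x0) (.node 4790 (.leaf 0x0) (.leaf 0x0))) (.node 4792 (.leaf 0x0) (.node 4793 (.leaf 0x0) (.leaf 0x0))))) (.node 4799 (.node 4796 (.node 4795 (.leaf 0x0) (.leaf 0x0)) (.node 4797 (.leaf 0x0) (.node 4798 (.leaf 0x0) (.leaf 0x0)))) (.node 4802 (.node 4800 (.leaf 0x0) (.node 4801 (.leaf 0x0) (.leaf 0x0))) (.node 4803 (.leaf 0x0) (.node 4804 (.leaf 0x0) (.leaf 0x0))))))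

def cCHS_430 : Store := (.node 4816 (.node 4810 (.node 4807 (.node 4806 (.leaf 0x0) (.leaf 0x0)) (.node 4808 (.leaf 0x0) (.node 4809 (.leaf 0x0) (.leaf 0x0)))) (.node 4813 (.node 4811 (.leaf 0x0) (.node 4812 (.leaf 0x0) (.leaf 0x0))) (.node 4814 (.leaf 0x0) (.node 4815 (.leaf 0x0) (.leaf 0x0))))) (.node 4821 (.node 4818 (.node 4817 (.leaf 0x0) (.leaf 0x0)) (.node 4819 (.leaf 0x0) (.node 4820 (.leaf 0x0) (.leaf 0x0)))) (.node 4824 (.node 4822 (.leaf 0x0) (.node 4823 (.leaf 0x0) (.leaf 0x0))) (.node 4825 (.leaf 0x0) (.node 4826 (.leaf 0x0) (.leaf 0x0))))))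

def cCHS_431 : Store := (.node 4805 cCHS_429 cCHS_430)

def cCHS_432 : Store := (.node 4838 (.node 4832 (.node 4829 (.node 4828 (.leaf 0x0) (.leaf 0x0)) (.node 4830 (.leaf 0x0) (.node 4831 (.leaf 0x0) (.leaf 0x0)))) (.node 4835 (.node 4833 (.leaf 0x0) (.node 4834 (.leaf 0x0) (.leaf 0x0))) (.node 4836 (.leaf 0x0) (.node 4837 (.leaf 0x0) (.leaf 0x0))))) (.node 4843 (.node 4840 (.node 4839 (.leaf 0x0) (.leaf 0x0)) (.node 4841 (.leaf 0x0) (.node 4842 (.leaf 0x0) (.leaf 0x0)))) (.node 4846 (.node 4844 (.leaf 0x0) (.node 4845 (.leaf 0x0) (.leaf 0x0))) (.node 4847 (.leaf 0x0) (.node 4848 (.leaf 0x0) (.leaf 0x0))))))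

def cCHS_433 : Store := (.node 4860 (.node 4854 (.node 4851 (.node 4850 (.leaf 0x0) (.leaf 0x0)) (.node 4852 (.leaf 0x0) (.node 4853 (.leaf 0x0) (.leaf 0x0)))) (.node 4857 (.node 4855 (.leaf 0x0) (.node 4856 (.leaf 0x0) (.leaf 0x0))) (.node 4858 (.leaf 0x0) (.node 4859 (.leaf 0x0) (.leaf 0x0))))) (.node 4866 (.node 4863 (.node 4861 (.leaf 0x0) (.node 4862 (.leaf 0x0) (.leaf 0x0))) (.node 4864 (.leaf 0x0) (.node 4865 (.leaf 0x0) (.leaf 0x0)))) (.node 4869 (.node 4867 (.leaf 0x0) (.node 4868 (.leaf 0x0) (.leaf 0x0))) (.node 4870 (.leaf 0x0) (.node 4871 (.leaf 0x0) (.leaf 0x0))))))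

def cCHS_434 : Store := (.node 4849 cCHS_432 cCHS_433)

def cCHS_435 : Store := (.node 4827 cCHS_431 cCHS_434)

def cCHS_436 : Store := (.node 4883 (.node 4877 (.node 4874 (.node 4873 (.leaf 0x0) (.leaf 0x0)) (.node 4875 (.leaf 0x0) (.node 4876 (.leaf 0x0) (.leaf 0x0)))) (.node 4880 (.node 4878 (.leaf 0x0) (.node 4879 (.leaf 0x0) (.leaf 0x0))) (.node 4881 (.leaf 0x0) (.node 4882 (.leaf 0x0) (.leaf 0x0))))) (.node 4888 (.node 4885 (.node 4884 (.leaf 0x0) (.leaf 0x0)) (.node 4886 (.leaf 0x0) (.node 4887 (.leaf 0x0) (.leaf 0x0)))) (.node 4891 (.node 4889 (.leaf 0x0) (.node 4890 (.leaf 0x0) (.leaf 0x0))) (.node 4892 (.leaf 0x0) (.node 4893 (.leaf 0x0) (.leaf 0x0))))))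

def cCHS_437 : Store := (.node 4905 (.node 4899 (.node 4896 (.node 4895 (.leaf 0x0) (.leaf 0x0)) (.node 4897 (.leaf 0x0) (.node 4898 (.leaf 0x0) (.leaf 0x0)))) (.node 4902 (.node 4900 (.leaf 0x0) (.node 4901 (.leaf 0x0) (.leaf 0x0))) (.node 4903 (.leaf 0x0) (.node 4904 (.leaf 0x0) (.leaf 0x0))))) (.node 4910 (.node 4907 (.node 4906 (.leaf 0x0) (.leaf 0x0)) (.node 4908 (.leaf 0x0) (.node 4909 (.leaf 0x0) (.leaf 0x0)))) (.node 4913 (.node 4911 (.leaf 0x0) (.node 4912 (.leaf 0x0) (.leaf 0x0))) (.node 4914 (.leaf 0x0) (.node 4915 (.leaf 0x0) (.leaf 0x0))))))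

def cCHS_438 : Store := (.node 4894 cCHS_436 cCHS_437)

def cCHS_439 : Store := (.node 4927 (.node 4921 (.node 4918 (.node 4917 (.leaf 0x0) (.leaf 0x0)) (.node 4919 (.leaf 0x0) (.node 4920 (.leaf 0x0) (.leaf 0x0)))) (.node 4924 (.node 4922 (.leaf 0x0) (.node 4923 (.leaf 0x0) (.leaf 0x0))) (.node 4925 (.leaf 0x0) (.node 4926 (.leaf 0x0) (.leaf 0x0))))) (.node 4932 (.node 4929 (.node 4928 (.leaf 0x0) (.leaf 0x0)) (.node 4930 (.leaf 0x0) (.node 4931 (.leaf 0x0) (.leaf 0x0)))) (.node 4935 (.node 4933 (.leaf 0x0) (.node 4934 (.leaf 0x0) (.leaf 0x0))) (.node 4936 (.leaf 0x0) (.node 4937 (.leaf 0x0) (.leaf 0x0))))))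

def cCHS_440 : Store := (.node 4949 (.node 4943 (.node 4940 (.node 4939 (.leaf 0x0) (.leaf 0x0)) (.node 4941 (.leaf 0x0) (.node 4942 (.leaf 0x0) (.leaf 0x0)))) (.node 4946 (.node 4944 (.leaf 0x0) (.node 4945 (.leaf 0x0) (.leaf 0x0))) (.node 4947 (.leaf 0x0) (.node 4948 (.leaf 0x0) (.leaf 0x0))))) (.node 4955 (.node 4952 (.node 4950 (.leaf 0x0) (.node 4951 (.leaf 0x0) (.leaf 0x0))) (.node 4953 (.leaf 0x0) (.node 4954 (.leaf 0x0) (.leaf 0x0)))) (.node 4958 (.node 4956 (.leaf 0x0) (.node 4957 (.leaf 0x0) (.leaf 0x0))) (.node 4959 (.leaf 0x0) (.node 4960 (.leaf 0x0) (.leaf 0x0))))))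

def cCHS_441 : Store := (.node 4938 cCHS_439 cCHS_440)

def cCHS_442 : Store := (.node 4916 cCHS_438 cCHS_441)

def cCHS_443 : Store := (.node 4872 cCHS_435 cCHS_442)

def cCHS_444 : Store := (.node 4783 cCHS_428 cCHS_443)

def cCHS_445 : Store := (.node 4606 cCHS_413 cCHS_444)

def cCHS_446 : Store := (.node 4972 (.node 4966 (.node 4963 (.node 4962 (.leaf 0x0) (.leaf 0x0)) (.node 4964 (.leaf 0x0) (.node 4965 (.leaf 0x0) (.leaf 0x0)))) (.node 4969 (.node 4967 (.leaf 0x0) (.node 4968 (.leaf 0x0) (.leaf 0x0))) (.node 4970 (.leaf 0x0) (.node 4971 (.leaf 0x0) (.leaf 0x0))))) (.node 4977 (.node 4974 (.node 4973 (.leaf 0x0) (.leaf 0x0)) (.node 4975 (.leaf 0x0) (.node 4976 (.leaf 0x0) (.leaf 0x0)))) (.node 4980 (.node 4978 (.leaf 0x0) (.node 4979 (.leaf 0x0) (.leaf 0x0))) (.node 4981 (.leaf 0x0) (.node 4982 (.leaf 0x0) (.leaf 0x0))))))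

def cCHS_447 : Store := (.node 4994 (.node 4988 (.node 4985 (.node 4984 (.leaf 0x0) (.leaf 0x0)) (.node 4986 (.leaf 0x0) (.node 4987 (.leaf 0x0) (.leaf 0x0)))) (.node 4991 (.node 4989 (.leaf 0x0) (.node 4990 (.leaf 0x0) (.leaf 0x0))) (.node 4992 (.leaf 0x0) (.node 4993 (.leaf 0x0) (.leaf 0x0))))) (.node 4999 (.node 4996 (.node 4995 (.leaf 0x0) (.leaf 0x0)) (.node 4997 (.leaf 0x0) (.node 4998 (.leaf 0x0) (.leaf 0x0)))) (.node 5002 (.node 5000 (.leaf 0x0) (.node 5001 (.leaf 0x0) (.leaf 0x0))) (.node 5003 (.leaf 0x0) (.node 5004 (.leaf 0x0) (.leaf 0x0))))))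

def cCHS_448 : Store := (.node 4983 cCHS_446 cCHS_447)

def cCHS_449 : Store := (.node 5016 (.node 5010 (.node 5007 (.node 5006 (.leaf 0x0) (.leaf 0x0)) (.node 5008 (.leaf 0x0) (.node 5009 (.leaf 0x0) (.leaf 0x0)))) (.node 5013 (.node 5011 (.leaf 0x0) (.node 5012 (.leaf 0x0) (.leaf 0x0))) (.node 5014 (.leaf 0x0) (.node 5015 (.leaf 0x0) (.leaf 0x0))))) (.node 5021 (.node 5018 (.node 5017 (.leaf 0x0) (.leaf 0x0)) (.node 5019 (.leaf 0x0) (.node 5020 (.leaf 0x0) (.leaf 0x0)))) (.node 5024 (.node 5022 (.leaf 0x0) (.node 5023 (.leaf 0x0) (.leaf 0x0))) (.node 5025 (.leaf 0x0) (.node 5026 (.leaf 0x0) (.leaf 0x0))))))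

def cCHS_450 : Store := (.node 5038 (.node 5032 (.node 5029 (.node 5028 (.leaf 0x0) (.leaf 0x0)) (.node 5030 (.leaf 0x0) (.node 5031 (.leaf 0x0) (.leaf 0x0)))) (.node 5035 (.node 5033 (.leaf 0x0) (.node 5034 (.leaf 0x0) (.leaf 0x0))) (.node 5036 (.leaf 0x0) (.node 5037 (.leaf 0x0) (.leaf 0x0))))) (.node 5043 (.node 5040 (.node 5039 (.leaf 0x0) (.leaf 0x0)) (.node 5041 (.leaf 0x0) (.node 5042 (.leaf 0x10001) (.leaf 0x1)))) (.node 5046 (.node 5044 (.leaf 0x0) (.node 5045 (.leaf 0x0) (.leaf 0x0))) (.node 5047 (.leaf 0x1) (.node 5048 (.leaf 0x1000002) (.leaf 0x0))))))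

def cCHS_451 : Store := (.node 5027 cCHS_449 cCHS_450)

def cCHS_452 : Store := (.node 5005 cCHS_448 cCHS_451)

def cCHS_453 : Store := (.node 5060 (.node 5054 (.node 5051 (.node 5050 (.leaf 0x0) (.leaf 0x0)) (.node 5052 (.leaf 0x0) (.node 5053 (.leaf 0x0) (.leaf 0x0)))) (.node 5057 (.node 5055 (.leaf 0x0) (.node 5056 (.leaf 0x0) (.leaf 0x0))) (.node 5058 (.leaf 0x0) (.node 5059 (.leaf 0x0) (.leaf 0x0))))) (.node 5065 (.node 5062 (.node 5061 (.leaf 0x0) (.leaf 0x0)) (.node 5063 (.leaf 0x0) (.node 5064 (.leaf 0x0) (.leaf 0x0)))) (.node 5068 (.node 5066 (.leaf 0x0) (.node 5067 (.leaf 0x0) (.leaf 0x0))) (.node 5069 (.leaf 0x0) (.node 5070 (.leaf 0x0) (.leaf 0x0))))))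

def cCHS_454 : Store := (.node 5082 (.node 5076 (.node 5073 (.node 5072 (.leaf 0x0) (.leaf 0x0)) (.node 5074 (.leaf 0x0) (.node 5075 (.leaf 0x0) (.leaf 0x0)))) (.node 5079 (.node 5077 (.leaf 0x0) (.node 5078 (.leaf 0x0) (.leaf 0x0))) (.node 5080 (.leaf 0x0) (.node 5081 (.leaf 0x0) (.leaf 0x0))))) (.node 5087 (.node 5084 (.node 5083 (.leaf 0x0) (.leaf 0x0)) (.node 5085 (.leaf 0x0) (.node 5086 (.leaf 0x0) (.leaf 0x0)))) (.node 5090 (.node 5088 (.leaf 0x0) (.node 5089 (.leaf 0x0) (.leaf 0x0))) (.node 5091 (.leaf 0x0) (.node 5092 (.leaf 0x0) (.leaf 0x0))))))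

def cCHS_455 : Store := (.node 5071 cCHS_453 cCHS_454)

def cCHS_456 : Store := (.node 5104 (.node 5098 (.node 5095 (.node 5094 (.leaf 0x0) (.leaf 0x0)) (.node 5096 (.leaf 0x0) (.node 5097 (.leaf 0x0) (.leaf 0x0)))) (.node 5101 (.node 5099 (.leaf 0x0) (.node 5100 (.leaf 0x0) (.leaf 0x0))) (.node 5102 (.leaf 0x0) (.node 5103 (.leaf 0x0) (.leaf 0x0))))) (.node 5109 (.node 5106 (.node 5105 (.leaf 0x0) (.leaf 0x0)) (.node 5107 (.leaf 0x0) (.node 5108 (.leaf 0x0) (.leaf 0x0)))) (.node 5112 (.node 5110 (.leaf 0x0) (.node 5111 (.leaf 0x0) (.leaf 0x0))) (.node 5113 (.leaf 0x0) (.node 5114 (.leaf 0x0) (.leaf 0x0))))))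

def cCHS_457 : Store := (.node 5126 (.node 5120 (.node 5117 (.node 5116 (.leaf 0x0) (.leaf 0x0)) (.node 5118 (.leaf 0x0) (.node 5119 (.leaf 0x0) (.leaf 0x0)))) (.node 5123 (.node 5121 (.leaf 0x0) (.node 5122 (.leaf 0x0) (.leaf 0x0))) (.node 5124 (.leaf 0x0) (.node 5125 (.leaf 0x0) (.leaf 0x0))))) (.node 5132 (.node 5129 (.node 5127 (.leaf 0x0) (.node 5128 (.leaf 0x0) (.leaf 0x0))) (.node 5130 (.leaf 0x0) (.node 5131 (.leaf 0x0) (.leaf 0x0)))) (.node 5135 (.node 5133 (.leaf 0x0) (.node 5134 (.leaf 0x0) (.leaf 0x0))) (.node 5136 (.leaf 0x0) (.node 5137 (.leaf 0x0) (.leaf 0x0))))))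

def cCHS_458 : Store := (.node 5115 cCHS_456 cCHS_457)

def cCHS_459 : Store := (.node 5093 cCHS_455 cCHS_458)

def cCHS_460 : Store := (.node 5049 cCHS_452 cCHS_459)

def cCHS_461 : Store := (.node 5149 (.node 5143 (.node 5140 (.node 5139 (.leaf 0x0) (.leaf 0x0)) (.node 5141 (.leaf 0x0) (.node 5142 (.leaf 0x0) (.leaf 0x0)))) (.node 5146 (.node 5144 (.leaf 0x0) (.node 5145 (.leaf 0x0) (.leaf 0x0))) (.node 5147 (.leaf 0x0) (.node 5148 (.leaf 0x0) (.leaf 0x0))))) (.node 5154 (.node 5151 (.node 5150 (.leaf 0x0) (.leaf 0x0)) (.node 5152 (.leaf 0x0) (.node 5153 (.leaf 0x0) (.leaf 0x0)))) (.node 5157 (.node 5155 (.leaf 0x0) (.node 5156 (.leaf 0x0) (.leaf 0x0))) (.node 5158 (.leaf 0x0) (.node 5159 (.leaf 0x0) (.leaf 0x0))))))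

def cCHS_462 : Store := (.node 5171 (.node 5165 (.node 5162 (.node 5161 (.leaf 0x0) (.leaf 0x0)) (.node 5163 (.leaf 0x0) (.node 5164 (.leaf 0x0) (.leaf 0x0)))) (.node 5168 (.node 5166 (.leaf 0x0) (.node 5167 (.leaf 0x0) (.leaf 0x0))) (.node 5169 (.leaf 0x0) (.node 5170 (.leaf 0x0) (.leaf 0x0))))) (.node 5176 (.node 5173 (.node 5172 (.leaf 0x0) (.leaf 0x0)) (.node 5174 (.leaf 0x0) (.node 5175 (.leaf 0x0) (.leaf 0x0)))) (.node 5179 (.node 5177 (.leaf 0x0) (.node 5178 (.leaf 0x0) (.leaf 0x0))) (.node 5180 (.leaf 0x0) (.node 5181 (.leaf 0x0) (.leaf 0x0))))))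

def cCHS_463 : Store := (.node 5160 cCHS_461 cCHS_462)

def cCHS_464 : Store := (.node 5193 (.node 5187 (.node 5184 (.node 5183 (.leaf 0x0) (.leaf 0x0)) (.node 5185 (.leaf 0x0) (.node 5186 (.leaf 0x0) (.leaf 0x0)))) (.node 5190 (.node 5188 (.leaf 0x0) (.node 5189 (.leaf 0x0) (.leaf 0x0))) (.node 5191 (.leaf 0x0) (.node 5192 (.leaf 0x0) (.leaf 0x0))))) (.node 5198 (.node 5195 (.node 5194 (.leaf 0x0) (.leaf 0x0)) (.node 5196 (.leaf 0x0) (.node 5197 (.leaf 0x0) (.leaf 0x0)))) (.node 5201 (.node 5199 (.leaf 0x0) (.node 5200 (.leaf 0x0) (.leaf 0x0))) (.node 5202 (.leaf 0x0) (.node 5203 (.leaf 0x0) (.leaf 0x0))))))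

def cCHS_465 : Store := (.node 5215 (.node 5209 (.node 5206 (.node 5205 (.leaf 0x0) (.leaf 0x0)) (.node 5207 (.leaf 0x0) (.node 5208 (.leaf 0x0) (.leaf 0x0)))) (.node 5212 (.node 5210 (.leaf 0x0) (.node 5211 (.leaf 0x0) (.leaf 0x0))) (.node 5213 (.leaf 0x0) (.node 5214 (.leaf 0x0) (.leaf 0x0))))) (.node 5220 (.node 5217 (.node 5216 (.leaf 0x0) (.leaf 0x0)) (.node 5218 (.leaf 0x0) (.node 5219 (.leaf 0x0) (.leaf 0x0)))) (.node 5223 (.node 5221 (.leaf 0x1) (.node 5222 (.leaf 0x0) (.leaf 0x0))) (.node 5224 (.leaf 0x0) (.node 5225 (.leaf 0x0) (.leaf 0x0))))))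

def cCHS_466 : Store := (.node 5204 cCHS_464 cCHS_465)

def cCHS_467 : Store := (.node 5182 cCHS_463 cCHS_466)

def cCHS_468 : Store := (.node 5237 (.node 5231 (.node 5228 (.node 5227 (.leaf 0x1) (.leaf 0x0)) (.node 5229 (.leaf 0x0) (.node 5230 (.leaf 0x0) (.leaf 0x0)))) (.node 5234 (.node 5232 (.leaf 0x0) (.node 5233 (.leaf 0x0) (.leaf 0x0))) (.node 5235 (.leaf 0x0) (.node 5236 (.leaf 0x0) (.leaf 0x0))))) (.node 5242 (.node 5239 (.node 5238 (.leaf 0x0) (.leaf 0x0)) (.node 5240 (.leaf 0x0) (.node 5241 (.leaf 0x0) (.leaf 0x0)))) (.node 5245 (.node 5243 (.leaf 0x0) (.node 5244 (.leaf 0x0) (.leaf 0x0))) (.node 5246 (.leaf 0x0) (.node 5247 (.leaf 0x0) (.leaf 0x0))))))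

def cCHS_469 : Store := (.node 5259 (.node 5253 (.node 5250 (.node 5249 (.leaf 0x0) (.leaf 0x0)) (.node 5251 (.leaf 0x0) (.node 5252 (.leaf 0x0) (.leaf 0x0)))) (.node 5256 (.node 5254 (.leaf 0x0) (.node 5255 (.leaf 0x0) (.leaf 0x0))) (.node 5257 (.leaf 0x0) (.node 5258 (.leaf 0x0) (.leaf 0x0))))) (.node 5264 (.node 5261 (.node 5260 (.leaf 0x0) (.leaf 0x0)) (.node 5262 (.leaf 0x0) (.node 5263 (.leaf 0x0) (.leaf 0x0)))) (.node 5267 (.node 5265 (.leaf 0x0) (.node 5266 (.leaf 0x0) (.leaf 0x0))) (.node 5268 (.leaf 0x0) (.node 5269 (.leaf 0x0) (.leaf 0x0))))))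

def cCHS_470 : Store := (.node 5248 cCHS_468 cCHS_469)

def cCHS_471 : Store := (.node 5281 (.node 5275 (.node 5272 (.node 5271 (.leaf 0x0) (.leaf 0x0)) (.node 5273 (.leaf 0x0) (.node 5274 (.leaf 0x0) (.leaf 0x0)))) (.node 5278 (.node 5276 (.leaf 0x0) (.node 5277 (.leaf 0x0) (.leaf 0x0))) (.node 5279 (.leaf 0x0) (.node 5280 (.leaf 0x0) (.leaf 0x0))))) (.node 5286 (.node 5283 (.node 5282 (.leaf 0x0) (.leaf 0x0)) (.node 5284 (.leaf 0x0) (.node 5285 (.leaf 0x0) (.leaf 0x0)))) (.node 5289 (.node 5287 (.leaf 0x0) (.node 5288 (.leaf 0x0) (.leaf 0x0))) (.node 5290 (.leaf 0x0) (.node 5291 (.leaf 0x0) (.leaf 0x0))))))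

def cCHS_472 : Store := (.node 5303 (.node 5297 (.node 5294 (.node 5293 (.leaf 0x0) (.leaf 0x0)) (.node 5295 (.leaf 0x0) (.node 5296 (.leaf 0x0) (.leaf 0x0)))) (.node 5300 (.node 5298 (.leaf 0x0) (.node 5299 (.leaf 0x0) (.leaf 0x0))) (.node 5301 (.leaf 0x0) (.node 5302 (.leaf 0x0) (.leaf 0x0))))) (.node 5309 (.node 5306 (.node 5304 (.leaf 0x0) (.node 5305 (.leaf 0x0) (.leaf 0x0))) (.node 5307 (.leaf 0x0) (.node 5308 (.leaf 0x0) (.leaf 0x0)))) (.node 5312 (.node 5310 (.leaf 0x0) (.node 5311 (.leaf 0x0) (.leaf 0x0))) (.node 5313 (.leaf 0x0) (.node 5314 (.leaf 0x0) (.leaf 0x0))))))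

def cCHS_473 : Store := (.node 5292 cCHS_471 cCHS_472)

def cCHS_474 : Store := (.node 5270 cCHS_470 cCHS_473)

def cCHS_475 : Store := (.node 5226 cCHS_467 cCHS_474)

def cCHS_476 : Store := (.node 5138 cCHS_460 cCHS_475)

def cCHS_477 : Store := (.node 5326 (.node 5320 (.node 5317 (.node 5316 (.leaf 0x0) (.leaf 0x0)) (.node 5318 (.leaf 0x0) (.node 5319 (.leaf 0x0) (.leaf 0x0)))) (.node 5323 (.node 5321 (.leaf 0x0) (.node 5322 (.leaf 0x0) (.leaf 0x0))) (.node 5324 (.leaf 0x0) (.node 5325 (.leaf 0x0) (.leaf 0x0))))) (.node 5331 (.node 5328 (.node 5327 (.leaf 0x0) (.leaf 0x0)) (.node 5329 (.leaf 0x0) (.node 5330 (.leaf 0x0) (.leaf 0x0)))) (.node 5334 (.node 5332 (.leaf 0x0) (.node 5333 (.leaf 0x0) (.leaf 0x0))) (.node 5335 (.leaf 0x0) (.node 5336 (.leaf 0x0) (.leaf 0x0))))))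

def cCHS_478 : Store := (.node 5348 (.node 5342 (.node 5339 (.node 5338 (.leaf 0x0) (.leaf 0x0)) (.node 5340 (.leaf 0x0) (.node 5341 (.leaf 0x0) (.leaf 0x0)))) (.node 5345 (.node 5343 (.leaf 0x0) (.node 5344 (.leaf 0x0) (.leaf 0x0))) (.node 5346 (.leaf 0x0) (.node 5347 (.leaf 0x0) (.leaf 0x0))))) (.node 5353 (.node 5350 (.node 5349 (.leaf 0x0) (.leaf 0x0)) (.node 5351 (.leaf 0x0) (.node 5352 (.leaf 0x0) (.leaf 0x0)))) (.node 5356 (.node 5354 (.leaf 0x0) (.node 5355 (.leaf 0x0) (.leaf 0x0))) (.node 5357 (.leaf 0x0) (.node 5358 (.leaf 0x0) (.leaf 0x0))))))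

def cCHS_479 : Store := (.node 5337 cCHS_477 cCHS_478)

def cCHS_480 : Store := (.node 5370 (.node 5364 (.node 5361 (.node 5360 (.leaf 0x0) (.leaf 0x0)) (.node 5362 (.leaf 0x0) (.node 5363 (.leaf 0x0) (.leaf 0x0)))) (.node 5367 (.node 5365 (.leaf 0x0) (.node 5366 (.leaf 0x0) (.leaf 0x0))) (.node 5368 (.leaf 0x0) (.node 5369 (.leaf 0x0) (.leaf 0x0))))) (.node 5375 (.node 5372 (.node 5371 (.leaf 0x0) (.leaf 0x0)) (.node 5373 (.leaf 0x0) (.node 5374 (.leaf 0x0) (.leaf 0x0)))) (.node 5378 (.node 5376 (.leaf 0x0) (.node 5377 (.leaf 0x0) (.leaf 0x0))) (.node 5379 (.leaf 0x0) (.node 5380 (.leaf 0x0) (.leaf 0x0))))))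

def cCHS_481 : Store := (.node 5392 (.node 5386 (.node 5383 (.node 5382 (.leaf 0x0) (.leaf 0x0)) (.node 5384 (.leaf 0x0) (.node 5385 (.leaf 0x0) (.leaf 0x0)))) (.node 5389 (.node 5387 (.leaf 0x0) (.node 5388 (.leaf 0x0) (.leaf 0x0))) (.node 5390 (.leaf 0x0) (.node 5391 (.leaf 0x0) (.leaf 0x0))))) (.node 5397 (.node 5394 (.node 5393 (.leaf 0x0) (.leaf 0x0)) (.node 5395 (.leaf 0x0) (.node 5396 (.leaf 0x0) (.leaf 0x0)))) (.node 5400 (.node 5398 (.leaf 0x0) (.node 5399 (.leaf 0x0) (.leaf 0x0))) (.node 5401 (.leaf 0x0) (.node 5402 (.leaf 0x0) (.leaf 0x0))))))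

def cCHS_482 : Store := (.node 5381 cCHS_480 cCHS_481)

def cCHS_483 : Store := (.node 5359 cCHS_479 cCHS_482)

def cCHS_484 : Store := (.node 5414 (.node 5408 (.node 5405 (.node 5404 (.leaf 0x0) (.leaf 0x0)) (.node 5406 (.leaf 0x0) (.node 5407 (.leaf 0x0) (.leaf 0x0)))) (.node 5411 (.node 5409 (.leaf 0x0) (.node 5410 (.leaf 0x0) (.leaf 0x0))) (.node 5412 (.leaf 0x0) (.node 5413 (.leaf 0x0) (.leaf 0x0))))) (.node 5419 (.node 5416 (.node 5415 (.leaf 0x0) (.leaf 0x0)) (.node 5417 (.leaf 0x0) (.node 5418 (.leaf 0x0) (.leaf 0x0)))) (.node 5422 (.node 5420 (.leaf 0x0) (.node 5421 (.leaf 0x0) (.leaf 0x0))) (.node 5423 (.leaf 0x0) (.node 5424 (.leaf 0x0) (.leaf 0x0))))))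

def cCHS_485 : Store := (.node 5436 (.node 5430 (.node 5427 (.node 5426 (.leaf 0x0) (.leaf 0x0)) (.node 5428 (.leaf 0x0) (.node 5429 (.leaf 0x0) (.leaf 0x0)))) (.node 5433 (.node 5431 (.leaf 0x0) (.node 5432 (.leaf 0x0) (.leaf 0x0))) (.node 5434 (.leaf 0x0) (.node 5435 (.leaf 0x0) (.leaf 0x0))))) (.node 5441 (.node 5438 (.node 5437 (.leaf 0x0) (.leaf 0x0)) (.node 5439 (.leaf 0x0) (.node 5440 (.leaf 0x0) (.leaf 0x0)))) (.node 5444 (.node 5442 (.leaf 0x0) (.node 5443 (.leaf 0x0) (.leaf 0x0))) (.node 5445 (.leaf 0x0) (.node 5446 (.leaf 0x0) (.leaf 0x0))))))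

def cCHS_486 : Store := (.node 5425 cCHS_484 cCHS_485)

def cCHS_487 : Store := (.node 5458 (.node 5452 (.node 5449 (.node 5448 (.leaf 0x0) (.leaf 0x0)) (.node 5450 (.leaf 0x0) (.node 5451 (.leaf 0x0) (.leaf 0x0)))) (.node 5455 (.node 5453 (.leaf 0x0) (.node 5454 (.leaf 0x0) (.leaf 0x0))) (.node 5456 (.leaf 0x0) (.node 5457 (.leaf 0x0) (.leaf 0x0))))) (.node 5463 (.node 5460 (.node 5459 (.leaf 0x0) (.leaf 0x0)) (.node 5461 (.leaf 0x0) (.node 5462 (.leaf 0x0) (.leaf 0x0)))) (.node 5466 (.node 5464 (.leaf 0x0) (.node 5465 (.leaf 0x0) (.leaf 0x0))) (.node 5467 (.leaf 0x0) (.node 5468 (.leaf 0x0) (.leaf 0x0))))))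

def cCHS_488 : Store := (.node 5480 (.node 5474 (.node 5471 (.node 5470 (.leaf 0x0) (.leaf 0x0)) (.node 5472 (.leaf 0x0) (.node 5473 (.leaf 0x0) (.leaf 0x0)))) (.node 5477 (.node 5475 (.leaf 0x0) (.node 5476 (.leaf 0x0) (.leaf 0x0))) (.node 5478 (.leaf 0x0) (.node 5479 (.leaf 0x0) (.leaf 0x0))))) (.node 5486 (.node 5483 (.node 5481 (.leaf 0x0) (.node 5482 (.leaf 0x0) (.leaf 0x0))) (.node 5484 (.leaf 0x0) (.node 5485 (.leaf 0x0) (.leaf 0x0)))) (.node 5489 (.node 5487 (.leaf 0x0) (.node 5488 (.leaf 0x0) (.leaf 0x0))) (.node 5490 (.leaf 0x0) (.node 5491 (.leaf 0x0) (.leaf 0x0))))))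

def cCHS_489 : Store := (.node 5469 cCHS_487 cCHS_488)

def cCHS_490 : Store := (.node 5447 cCHS_486 cCHS_489)

def cCHS_491 : Store := (.node 5403 cCHS_483 cCHS_490)

def cCHS_492 : Store := (.node 5503 (.node 5497 (.node 5494 (.node 5493 (.leaf 0x0) (.leaf 0x0)) (.node 5495 (.leaf 0x0) (.node 5496 (.leaf 0x0) (.leaf 0x0)))) (.node 5500 (.node 5498 (.leaf 0x0) (.node 5499 (.leaf 0x0) (.leaf 0x0))) (.node 5501 (.leaf 0x0) (.node 5502 (.leaf 0x0) (.leaf 0x0))))) (.node 5508 (.node 5505 (.node 5504 (.leaf 0x0) (.leaf 0x0)) (.node 5506 (.leaf 0x0) (.node 5507 (.leaf 0x0) (.leaf 0x0)))) (.node 5511 (.node 5509 (.leaf 0x0) (.node 5510 (.leaf 0x0) (.leaf 0x0))) (.node 5512 (.leaf 0x0) (.node 5513 (.leaf 0x0) (.leaf 0x0))))))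

def cCHS_493 : Store := (.node 5525 (.node 5519 (.node 5516 (.node 5515 (.leaf 0x0) (.leaf 0x0)) (.node 5517 (.leaf 0x0) (.node 5518 (.leaf 0x0) (.leaf 0x0)))) (.node 5522 (.node 5520 (.leaf 0x0) (.node 5521 (.leaf 0x0) (.leaf 0x0))) (.node 5523 (.leaf 0x0) (.node 5524 (.leaf 0x0) (.leaf 0x0))))) (.node 5530 (.node 5527 (.node 5526 (.leaf 0x0) (.leaf 0x0)) (.node 5528 (.leaf 0x0) (.node 5529 (.leaf 0x0) (.leaf 0x0)))) (.node 5533 (.node 5531 (.leaf 0x0) (.node 5532 (.leaf 0x0) (.leaf 0x0))) (.node 5534 (.leaf 0x0) (.node 5535 (.leaf 0x0) (.leaf 0x0))))))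

def cCHS_494 : Store := (.node 5514 cCHS_492 cCHS_493)

def cCHS_495 : Store := (.node 5547 (.node 5541 (.node 5538 (.node 5537 (.leaf 0x0) (.leaf 0x0)) (.node 5539 (.leaf 0x0) (.node 5540 (.leaf 0x0) (.leaf 0x0)))) (.node 5544 (.node 5542 (.leaf 0x0) (.node 5543 (.leaf 0x0) (.leaf 0x0))) (.node 5545 (.leaf 0x0) (.node 5546 (.leaf 0x0) (.leaf 0x0))))) (.node 5552 (.node 5549 (.node 5548 (.leaf 0x0) (.leaf 0x0)) (.node 5550 (.leaf 0x0) (.node 5551 (.leaf 0x0) (.leaf 0x0)))) (.node 5555 (.node 5553 (.leaf 0x0) (.node 5554 (.leaf 0x0) (.leaf 0x0))) (.node 5556 (.leaf 0x0) (.node 5557 (.leaf 0x0) (.leaf 0x0))))))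

def cCHS_496 : Store := (.node 5569 (.node 5563 (.node 5560 (.node 5559 (.leaf 0x0) (.leaf 0x0)) (.node 5561 (.leaf 0x0) (.node 5562 (.leaf 0x0) (.leaf 0x0)))) (.node 5566 (.node 5564 (.leaf 0x0) (.node 5565 (.leaf 0x0) (.leaf 0x0))) (.node 5567 (.leaf 0x0) (.node 5568 (.leaf 0x0) (.leaf 0x0))))) (.node 5575 (.node 5572 (.node 5570 (.leaf 0x0) (.node 5571 (.leaf 0x0) (.leaf 0x0))) (.node 5573 (.leaf 0x0) (.node 5574 (.leaf 0x0) (.leaf 0x0)))) (.node 5578 (.node 5576 (.leaf 0x0) (.node 5577 (.leaf 0x0) (.leaf 0x0))) (.node 5579 (.leaf 0x0) (.node 5580 (.leaf 0x0) (.leaf 0x0))))))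

def cCHS_497 : Store := (.node 5558 cCHS_495 cCHS_496)

def cCHS_498 : Store := (.node 5536 cCHS_494 cCHS_497)

def cCHS_499 : Store := (.node 5592 (.node 5586 (.node 5583 (.node 5582 (.leaf 0x0) (.leaf 0x0)) (.node 5584 (.leaf 0x0) (.node 5585 (.leaf 0x0) (.leaf 0x0)))) (.node 5589 (.node 5587 (.leaf 0x0) (.node 5588 (.leaf 0x0) (.leaf 0x0))) (.node 5590 (.leaf 0x0) (.node 5591 (.leaf 0x0) (.leaf 0x0))))) (.node 5597 (.node 5594 (.node 5593 (.leaf 0x0) (.leaf 0x0)) (.node 5595 (.leaf 0x0) (.node 5596 (.leaf 0x0) (.leaf 0x0)))) (.node 5600 (.node 5598 (.leaf 0x0) (.node 5599 (.leaf 0x0) (.leaf 0x0))) (.node 5601 (.leaf 0x0) (.node 5602 (.leaf 0x0) (.leaf 0x0))))))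

def cCHS_500 : Store := (.node 5614 (.node 5608 (.node 5605 (.node 5604 (.leaf 0x0) (.leaf 0x0)) (.node 5606 (.leaf 0x0) (.node 5607 (.leaf 0x0) (.leaf 0x0)))) (.node 5611 (.node 5609 (.leaf 0x0) (.node 5610 (.leaf 0x0) (.leaf 0x0))) (.node 5612 (.leaf 0x0) (.node 5613 (.leaf 0x0) (.leaf 0x0))))) (.node 5619 (.node 5616 (.node 5615 (.leaf 0x0) (.leaf 0x0)) (.node 5617 (.leaf 0x0) (.node 5618 (.leaf 0x0) (.leaf 0x0)))) (.node 5622 (.node 5620 (.leaf 0x0) (.node 5621 (.leaf 0x0) (.leaf 0x0))) (.node 5623 (.leaf 0x0) (.node 5624 (.leaf 0x0) (.leaf 0x0))))))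

def cCHS_501 : Store := (.node 5603 cCHS_499 cCHS_500)

def cCHS_502 : Store := (.node 5636 (.node 5630 (.node 5627 (.node 5626 (.leaf 0x0) (.leaf 0x0)) (.node 5628 (.leaf 0x0) (.node 5629 (.leaf 0x0) (.leaf 0x0)))) (.node 5633 (.node 5631 (.leaf 0x0) (.node 5632 (.leaf 0x0) (.leaf 0x0))) (.node 5634 (.leaf 0x0) (.node 5635 (.leaf 0x0) (.leaf 0x0))))) (.node 5641 (.node 5638 (.node 5637 (.leaf 0x0) (.leaf 0x0)) (.node 5639 (.leaf 0x0) (.node 5640 (.leaf 0x0) (.leaf 0x0)))) (.node 5644 (.node 5642 (.leaf 0x0) (.node 5643 (.leaf 0x0) (.leaf 0x0))) (.node 5645 (.leaf 0x0) (.node 5646 (.leaf 0x0) (.leaf 0x0))))))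

def cCHS_503 : Store := (.node 5658 (.node 5652 (.node 5649 (.node 5648 (.leaf 0x0) (.leaf 0x0)) (.node 5650 (.leaf 0x0) (.node 5651 (.leaf 0x0) (.leaf 0x0)))) (.node 5655 (.node 5653 (.leaf 0x0) (.node 5654 (.leaf 0x0) (.leaf 0x0))) (.node 5656 (.leaf 0x0) (.node 5657 (.leaf 0x0) (.leaf 0x0))))) (.node 5664 (.node 5661 (.node 5659 (.leaf 0x0) (.node 5660 (.leaf 0x0) (.leaf 0x0))) (.node 5662 (.leaf 0x0) (.node 5663 (.leaf 0x0) (.leaf 0x0)))) (.node 5667 (.node 5665 (.leaf 0x0) (.node 5666 (.leaf 0x0) (.leaf 0x0))) (.node 5668 (.leaf 0x0) (.node 5669 (.leaf 0x0) (.leaf 0x0))))))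

def cCHS_504 : Store := (.node 5647 cCHS_502 cCHS_503)

def cCHS_505 : Store := (.node 5625 cCHS_501 cCHS_504)

def cCHS_506 : Store := (.node 5581 cCHS_498 cCHS_505)

def cCHS_507 : Store := (.node 5492 cCHS_491 cCHS_506)

def cCHS_508 : Store := (.node 5315 cCHS_476 cCHS_507)

def cCHS_509 : Store := (.node 4961 cCHS_445 cCHS_508)

def cCHS_510 : Store := (.node 4252 cCHS_382 cCHS_509)

def cCHS_511 : Store := (.node 2835 cCHS_255 cCHS_510)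

def cCHS_512 : Store := (.node 5681 (.node 5675 (.node 5672 (.node 5671 (.leaf 0x0) (.leaf 0x0)) (.node 5673 (.leaf 0x0) (.node 5674 (.leaf 0x0) (.leaf 0x0)))) (.node 5678 (.node 5676 (.leaf 0x0) (.node 5677 (.leaf 0x0) (.leaf 0x0))) (.node 5679 (.leaf 0x0) (.node 5680 (.leaf 0x0) (.leaf 0x0))))) (.node 5686 (.node 5683 (.node 5682 (.leaf 0x0) (.leaf 0x0)) (.node 5684 (.leaf 0x0) (.node 5685 (.leaf 0x0) (.leaf 0x0)))) (.node 5689 (.node 5687 (.leaf 0x0) (.node 5688 (.leaf 0x0) (.leaf 0x0))) (.node 5690 (.leaf 0x0) (.node 5691 (.leaf 0x0) (.leaf 0x0))))))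

def cCHS_513 : Store := (.node 5703 (.node 5697 (.node 5694 (.node 5693 (.leaf 0x0) (.leaf 0x0)) (.node 5695 (.leaf 0x0) (.node 5696 (.leaf 0x0) (.leaf 0x0)))) (.node 5700 (.node 5698 (.leaf 0x0) (.node 5699 (.leaf 0x0) (.leaf 0x0))) (.node 5701 (.leaf 0x0) (.node 5702 (.leaf 0x0) (.leaf 0x0))))) (.node 5708 (.node 5705 (.node 5704 (.leaf 0x0) (.leaf 0x0)) (.node 5706 (.leaf 0x0) (.node 5707 (.leaf 0x0) (.leaf 0x0)))) (.node 5711 (.node 5709 (.leaf 0x0) (.node 5710 (.leaf 0x0) (.leaf 0x0))) (.node 5712 (.leaf 0x0) (.node 5713 (.leaf 0x0) (.leaf 0x0))))))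

def cCHS_514 : Store := (.node 5692 cCHS_512 cCHS_513)

def cCHS_515 : Store := (.node 5725 (.node 5719 (.node 5716 (.node 5715 (.leaf 0x0) (.leaf 0x0)) (.node 5717 (.leaf 0x0) (.node 5718 (.leaf 0x0) (.leaf 0x0)))) (.node 5722 (.node 5720 (.leaf 0x0) (.node 5721 (.leaf 0x0) (.leaf 0x0))) (.node 5723 (.leaf 0x0) (.node 5724 (.leaf 0x0) (.leaf 0x0))))) (.node 5730 (.node 5727 (.node 5726 (.leaf 0x0) (.leaf 0x0)) (.node 5728 (.leaf 0x0) (.node 5729 (.leaf 0x0) (.leaf 0x0)))) (.node 5733 (.node 5731 (.leaf 0x0) (.node 5732 (.leaf 0x0) (.leaf 0x0))) (.node 5734 (.leaf 0x0) (.node 5735 (.leaf 0x0) (.leaf 0x0))))))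

def cCHS_516 : Store := (.node 5747 (.node 5741 (.node 5738 (.node 5737 (.leaf 0x0) (.leaf 0x0)) (.node 5739 (.leaf 0x0) (.node 5740 (.leaf 0x0) (.leaf 0x0)))) (.node 5744 (.node 5742 (.leaf 0x0) (.node 5743 (.leaf 0x0) (.leaf 0x0))) (.node 5745 (.leaf 0x0) (.node 5746 (.leaf 0x0) (.leaf 0x0))))) (.node 5752 (.node 5749 (.node 5748 (.leaf 0x0) (.leaf 0x0)) (.node 5750 (.leaf 0x0) (.node 5751 (.leaf 0x0) (.leaf 0x0)))) (.node 5755 (.node 5753 (.leaf 0x0) (.node 5754 (.leaf 0x0) (.leaf 0x0))) (.node 5756 (.leaf 0x0) (.node 5757 (.leaf 0x0) (.leaf 0x0))))))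

def cCHS_517 : Store := (.node 5736 cCHS_515 cCHS_516)

def cCHS_518 : Store := (.node 5714 cCHS_514 cCHS_517)

def cCHS_519 : Store := (.node 5769 (.node 5763 (.node 5760 (.node 5759 (.leaf 0x0) (.leaf 0x0)) (.node 5761 (.leaf 0x0) (.node 5762 (.leaf 0x0) (.leaf 0x0)))) (.node 5766 (.node 5764 (.leaf 0x0) (.node 5765 (.leaf 0x0) (.leaf 0x0))) (.node 5767 (.leaf 0x0) (.node 5768 (.leaf 0x0) (.leaf 0x0))))) (.node 5774 (.node 5771 (.node 5770 (.leaf 0x0) (.leaf 0x0)) (.node 5772 (.leaf 0x0) (.node 5773 (.leaf 0x0) (.leaf 0x0)))) (.node 5777 (.node 5775 (.leaf 0x0) (.node 5776 (.leaf 0x0) (.leaf 0x0))) (.node 5778 (.leaf 0x0) (.node 5779 (.leaf 0x0) (.leaf 0x0))))))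

def cCHS_520 : Store := (.node 5791 (.node 5785 (.node 5782 (.node 5781 (.leaf 0x0) (.leaf 0x0)) (.node 5783 (.leaf 0x0) (.node 5784 (.leaf 0x0) (.leaf 0x0)))) (.node 5788 (.node 5786 (.leaf 0x0) (.node 5787 (.leaf 0x0) (.leaf 0x0))) (.node 5789 (.leaf 0x0) (.node 5790 (.leaf 0x0) (.leaf 0x0))))) (.node 5796 (.node 5793 (.node 5792 (.leaf 0x0) (.leaf 0x0)) (.node 5794 (.leaf 0x0) (.node 5795 (.leaf 0x0) (.leaf 0x0)))) (.node 5799 (.node 5797 (.leaf 0x0) (.node 5798 (.leaf 0x0) (.leaf 0x0))) (.node 5800 (.leaf 0x0) (.node 5801 (.leaf 0x0) (.leaf 0x0))))))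

def cCHS_521 : Store := (.node 5780 cCHS_519 cCHS_520)

def cCHS_522 : Store := (.node 5813 (.node 5807 (.node 5804 (.node 5803 (.leaf 0x0) (.leaf 0x0)) (.node 5805 (.leaf 0x0) (.node 5806 (.leaf 0x0) (.leaf 0x0)))) (.node 5810 (.node 5808 (.leaf 0x0) (.node 5809 (.leaf 0x0) (.leaf 0x0))) (.node 5811 (.leaf 0x0) (.node 5812 (.leaf 0x0) (.leaf 0x0))))) (.node 5818 (.node 5815 (.node 5814 (.leaf 0x0) (.leaf 0x0)) (.node 5816 (.leaf 0x0) (.node 5817 (.leaf 0x0) (.leaf 0x0)))) (.node 5821 (.node 5819 (.leaf 0x0) (.node 5820 (.leaf 0x0) (.leaf 0x0))) (.node 5822 (.leaf 0x0) (.node 5823 (.leaf 0x0) (.leaf 0x0))))))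

def cCHS_523 : Store := (.node 5835 (.node 5829 (.node 5826 (.node 5825 (.leaf 0x0) (.leaf 0x0)) (.node 5827 (.leaf 0x0) (.node 5828 (.leaf 0x0) (.leaf 0x0)))) (.node 5832 (.node 5830 (.leaf 0x0) (.node 5831 (.leaf 0x0) (.leaf 0x0))) (.node 5833 (.leaf 0x0) (.node 5834 (.leaf 0x0) (.leaf 0x0))))) (.node 5841 (.node 5838 (.node 5836 (.leaf 0x0) (.node 5837 (.leaf 0x0) (.leaf 0x0))) (.node 5839 (.leaf 0x0) (.node 5840 (.leaf 0x0) (.leaf 0x0)))) (.node 5844 (.node 5842 (.leaf 0x0) (.node 5843 (.leaf 0x0) (.leaf 0x0))) (.node 5845 (.leaf 0x0) (.node 5846 (.leaf 0x0) (.leaf 0x0))))))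

def cCHS_524 : Store := (.node 5824 cCHS_522 cCHS_523)

def cCHS_525 : Store := (.node 5802 cCHS_521 cCHS_524)

def cCHS_526 : Store := (.node 5758 cCHS_518 cCHS_525)

def cCHS_527 : Store := (.node 5858 (.node 5852 (.node 5849 (.node 5848 (.leaf 0x0) (.leaf 0x0)) (.node 5850 (.leaf 0x0) (.node 5851 (.leaf 0x0) (.leaf 0x0)))) (.node 5855 (.node 5853 (.leaf 0x0) (.node 5854 (.leaf 0x0) (.leaf 0x0))) (.node 5856 (.leaf 0x0) (.node 5857 (.leaf 0x0) (.leaf 0x0))))) (.node 5863 (.node 5860 (.node 5859 (.leaf 0x0) (.leaf 0x0)) (.node 5861 (.leaf 0x0) (.node 5862 (.leaf 0x0) (.leaf 0x0)))) (.node 5866 (.node 5864 (.leaf 0x0) (.node 5865 (.leaf 0x0) (.leaf 0x0))) (.node 5867 (.leaf 0x0) (.node 5868 (.leaf 0x0) (.leaf 0x0))))))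

def cCHS_528 : Store := (.node 5880 (.node 5874 (.node 5871 (.node 5870 (.leaf 0x0) (.leaf 0x0)) (.node 5872 (.leaf 0x0) (.node 5873 (.leaf 0x0) (.leaf 0x0)))) (.node 5877 (.node 5875 (.leaf 0x0) (.node 5876 (.leaf 0x0) (.leaf 0x0))) (.node 5878 (.leaf 0x0) (.node 5879 (.leaf 0x0) (.leaf 0x0))))) (.node 5885 (.node 5882 (.node 5881 (.leaf 0x0) (.leaf 0x0)) (.node 5883 (.leaf 0x0) (.node 5884 (.leaf 0x0) (.leaf 0x0)))) (.node 5888 (.node 5886 (.leaf 0x0) (.node 5887 (.leaf 0x0) (.leaf 0x0))) (.node 5889 (.leaf 0x0) (.node 5890 (.leaf 0x0) (.leaf 0x0))))))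

def cCHS_529 : Store := (.node 5869 cCHS_527 cCHS_528)

def cCHS_530 : Store := (.node 5902 (.node 5896 (.node 5893 (.node 5892 (.leaf 0x0) (.leaf 0x0)) (.node 5894 (.leaf 0x0) (.node 5895 (.leaf 0x0) (.leaf 0x0)))) (.node 5899 (.node 5897 (.leaf 0x0) (.node 5898 (.leaf 0x0) (.leaf 0x0))) (.node 5900 (.leaf 0x0) (.node 5901 (.leaf 0x0) (.leaf 0x0))))) (.node 5907 (.node 5904 (.node 5903 (.leaf 0x0) (.leaf 0x0)) (.node 5905 (.leaf 0x0) (.node 5906 (.leaf 0x0) (.leaf 0x0)))) (.node 5910 (.node 5908 (.leaf 0x0) (.node 5909 (.leaf 0x0) (.leaf 0x0))) (.node 5911 (.leaf 0x0) (.node 5912 (.leaf 0x0) (.leaf 0x0))))))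

def cCHS_531 : Store := (.node 5924 (.node 5918 (.node 5915 (.node 5914 (.leaf 0x0) (.leaf 0x0)) (.node 5916 (.leaf 0x0) (.node 5917 (.leaf 0x0) (.leaf 0x0)))) (.node 5921 (.node 5919 (.leaf 0x0) (.node 5920 (.leaf 0x0) (.leaf 0x0))) (.node 5922 (.leaf 0x0) (.node 5923 (.leaf 0x0) (.leaf 0x0))))) (.node 5929 (.node 5926 (.node 5925 (.leaf 0x0) (.leaf 0x0)) (.node 5927 (.leaf 0x0) (.node 5928 (.leaf 0x0) (.leaf 0x0)))) (.node 5932 (.node 5930 (.leaf 0x0) (.node 5931 (.leaf 0x0) (.leaf 0x0))) (.node 5933 (.leaf 0x0) (.node 5934 (.leaf 0x0) (.leaf 0x0))))))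

def cCHS_532 : Store := (.node 5913 cCHS_530 cCHS_531)

def cCHS_533 : Store := (.node 5891 cCHS_529 cCHS_532)

def cCHS_534 : Store := (.node 5946 (.node 5940 (.node 5937 (.node 5936 (.leaf 0x0) (.leaf 0x0)) (.node 5938 (.leaf 0x0) (.node 5939 (.leaf 0x0) (.leaf 0x0)))) (.node 5943 (.node 5941 (.leaf 0x0) (.node 5942 (.leaf 0x0) (.leaf 0x0))) (.node 5944 (.leaf 0x0) (.node 5945 (.leaf 0x0) (.leaf 0x0))))) (.node 5951 (.node 5948 (.node 5947 (.leaf 0x0) (.leaf 0x0)) (.node 5949 (.leaf 0x0) (.node 5950 (.leaf 0x0) (.leaf 0x0)))) (.node 5954 (.node 5952 (.leaf 0x0) (.node 5953 (.leaf 0x0) (.leaf 0x0))) (.node 5955 (.leaf 0x0) (.node 5956 (.leaf 0x0) (.leaf 0x0))))))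

def cCHS_535 : Store := (.node 5968 (.node 5962 (.node 5959 (.node 5958 (.leaf 0x0) (.leaf 0x0)) (.node 5960 (.leaf 0x0) (.node 5961 (.leaf 0x0) (.leaf 0x0)))) (.node 5965 (.node 5963 (.leaf 0x0) (.node 5964 (.leaf 0x0) (.leaf 0x0))) (.node 5966 (.leaf 0x0) (.node 5967 (.leaf 0x0) (.leaf 0x0))))) (.node 5973 (.node 5970 (.node 5969 (.leaf 0x0) (.leaf 0x0)) (.node 5971 (.leaf 0x0) (.node 5972 (.leaf 0x0) (.leaf 0x0)))) (.node 5976 (.node 5974 (.leaf 0x0) (.node 5975 (.leaf 0x0) (.leaf 0x0))) (.node 5977 (.leaf 0x0) (.node 5978 (.leaf 0x0) (.leaf 0x0))))))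

def cCHS_536 : Store := (.node 5957 cCHS_534 cCHS_535)

def cCHS_537 : Store := (.node 5990 (.node 5984 (.node 5981 (.node 5980 (.leaf 0x0) (.leaf 0x0)) (.node 5982 (.leaf 0x0) (.node 5983 (.leaf 0x0) (.leaf 0x0)))) (.node 5987 (.node 5985 (.leaf 0x0) (.node 5986 (.leaf 0x0) (.leaf 0x0))) (.node 5988 (.leaf 0x0) (.node 5989 (.leaf 0x0) (.leaf 0x0))))) (.node 5995 (.node 5992 (.node 5991 (.leaf 0x0) (.leaf 0x0)) (.node 5993 (.leaf 0x0) (.node 5994 (.leaf 0x0) (.leaf 0x0)))) (.node 5998 (.node 5996 (.leaf 0x0) (.node 5997 (.leaf 0x0) (.leaf 0x0))) (.node 5999 (.leaf 0x0) (.node 6000 (.leaf 0x0) (.leaf 0x0))))))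

def cCHS_538 : Store := (.node 6012 (.node 6006 (.node 6003 (.node 6002 (.leaf 0x0) (.leaf 0x0)) (.node 6004 (.leaf 0x0) (.node 6005 (.leaf 0x0) (.leaf 0x0)))) (.node 6009 (.node 6007 (.leaf 0x0) (.node 6008 (.leaf 0x0) (.leaf 0x0))) (.node 6010 (.leaf 0x0) (.node 6011 (.leaf 0x0) (.leaf 0x0))))) (.node 6018 (.node 6015 (.node 6013 (.leaf 0x0) (.node 6014 (.leaf 0x0) (.leaf 0x0))) (.node 6016 (.leaf 0x0) (.node 6017 (.leaf 0x0) (.leaf 0x0)))) (.node 6021 (.node 6019 (.leaf 0x0) (.node 6020 (.leaf 0x0) (.leaf 0x0))) (.node 6022 (.leaf 0x0) (.node 6023 (.leaf 0x0) (.leaf 0x0))))))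

def cCHS_539 : Store := (.node 6001 cCHS_537 cCHS_538)

def cCHS_540 : Store := (.node 5979 cCHS_536 cCHS_539)

def cCHS_541 : Store := (.node 5935 cCHS_533 cCHS_540)

def cCHS_542 : Store := (.node 5847 cCHS_526 cCHS_541)

def cCHS_543 : Store := (.node 6035 (.node 6029 (.node 6026 (.node 6025 (.leaf 0x0) (.leaf 0x0)) (.node 6027 (.leaf 0x0) (.node 6028 (.leaf 0x0) (.leaf 0x0)))) (.node 6032 (.node 6030 (.leaf 0x0) (.node 6031 (.leaf 0x0) (.leaf 0x0))) (.node 6033 (.leaf 0x0) (.node 6034 (.leaf 0x0) (.leaf 0x0))))) (.node 6040 (.node 6037 (.node 6036 (.leaf 0x0) (.leaf 0x0)) (.node 6038 (.leaf 0x0) (.node 6039 (.leaf 0x0) (.leaf 0x0)))) (.node 6043 (.node 6041 (.leaf 0x0) (.node 6042 (.leaf 0x0) (.leaf 0x0))) (.node 6044 (.leaf 0x0) (.node 6045 (.leaf 0x0) (.leaf 0x0))))))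

def cCHS_544 : Store := (.node 6057 (.node 6051 (.node 6048 (.node 6047 (.leaf 0x0) (.leaf 0x0)) (.node 6049 (.leaf 0x0) (.node 6050 (.leaf 0x0) (.leaf 0x0)))) (.node 6054 (.node 6052 (.leaf 0x0) (.node 6053 (.leaf 0x0) (.leaf 0x0))) (.node 6055 (.leaf 0x0) (.node 6056 (.leaf 0x0) (.leaf 0x0))))) (.node 6062 (.node 6059 (.node 6058 (.leaf 0x0) (.leaf 0x0)) (.node 6060 (.leaf 0x0) (.node 6061 (.leaf 0x0) (.leaf 0x0)))) (.node 6065 (.node 6063 (.leaf 0x0) (.node 6064 (.leaf 0x0) (.leaf 0x0))) (.node 6066 (.leaf 0x0) (.node 6067 (.leaf 0x0) (.leaf 0x0))))))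

def cCHS_545 : Store := (.node 6046 cCHS_543 cCHS_544)

def cCHS_546 : Store := (.node 6079 (.node 6073 (.node 6070 (.node 6069 (.leaf 0x0) (.leaf 0x0)) (.node 6071 (.leaf 0x0) (.node 6072 (.leaf 0x0) (.leaf 0x0)))) (.node 6076 (.node 6074 (.leaf 0x0) (.node 6075 (.leaf 0x0) (.leaf 0x0))) (.node 6077 (.leaf 0x0) (.node 6078 (.leaf 0x0) (.leaf 0x0))))) (.node 6084 (.node 6081 (.node 6080 (.leaf 0x0) (.leaf 0x0)) (.node 6082 (.leaf 0x0) (.node 6083 (.leaf 0x0) (.leaf 0x0)))) (.node 6087 (.node 6085 (.leaf 0x0) (.node 6086 (.leaf 0x0) (.leaf 0x0))) (.node 6088 (.leaf 0x0) (.node 6089 (.leaf 0x0) (.leaf 0x0))))))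

def cCHS_547 : Store := (.node 6101 (.node 6095 (.node 6092 (.node 6091 (.leaf 0x0) (.leaf 0x0)) (.node 6093 (.leaf 0x0) (.node 6094 (.leaf 0x0) (.leaf 0x0)))) (.node 6098 (.node 6096 (.leaf 0x0) (.node 6097 (.leaf 0x0) (.leaf 0x0))) (.node 6099 (.leaf 0x0) (.node 6100 (.leaf 0x0) (.leaf 0x0))))) (.node 6106 (.node 6103 (.node 6102 (.leaf 0x0) (.leaf 0x0)) (.node 6104 (.leaf 0x0) (.node 6105 (.leaf 0x0) (.leaf 0x0)))) (.node 6109 (.node 6107 (.leaf 0x0) (.node 6108 (.leaf 0x0) (.leaf 0x0))) (.node 6110 (.leaf 0x0) (.node 6111 (.leaf 0x0) (.leaf 0x0))))))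

def cCHS_548 : Store := (.node 6090 cCHS_546 cCHS_547)

def cCHS_549 : Store := (.node 6068 cCHS_545 cCHS_548)

def cCHS_550 : Store := (.node 6123 (.node 6117 (.node 6114 (.node 6113 (.leaf 0x0) (.leaf 0x0)) (.node 6115 (.leaf 0x0) (.node 6116 (.leaf 0x0) (.leaf 0x0)))) (.node 6120 (.node 6118 (.leaf 0x0) (.node 6119 (.leaf 0x0) (.leaf 0x0))) (.node 6121 (.leaf 0x0) (.node 6122 (.leaf 0x0) (.leaf 0x0))))) (.node 6128 (.node 6125 (.node 6124 (.leaf 0x0) (.leaf 0x0)) (.node 6126 (.leaf 0x0) (.node 6127 (.leaf 0x0) (.leaf 0x0)))) (.node 6131 (.node 6129 (.leaf 0x0) (.node 6130 (.leaf 0x0) (.leaf 0x0))) (.node 6132 (.leaf 0x0) (.node 6133 (.leaf 0x0) (.leaf 0x0))))))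

def cCHS_551 : Store := (.node 6145 (.node 6139 (.node 6136 (.node 6135 (.leaf 0x0) (.leaf 0x0)) (.node 6137 (.leaf 0x0) (.node 6138 (.leaf 0x0) (.leaf 0x0)))) (.node 6142 (.node 6140 (.leaf 0x0) (.node 6141 (.leaf 0x0) (.leaf 0x0))) (.node 6143 (.leaf 0x0) (.node 6144 (.leaf 0x0) (.leaf 0x0))))) (.node 6150 (.node 6147 (.node 6146 (.leaf 0x0) (.leaf 0x0)) (.node 6148 (.leaf 0x0) (.node 6149 (.leaf 0x0) (.leaf 0x0)))) (.node 6153 (.node 6151 (.leaf 0x0) (.node 6152 (.leaf 0x0) (.leaf 0x0))) (.node 6154 (.leaf 0x0) (.node 6155 (.leaf 0x0) (.leaf 0x0))))))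

def cCHS_552 : Store := (.node 6134 cCHS_550 cCHS_551)

def cCHS_553 : Store := (.node 6167 (.node 6161 (.node 6158 (.node 6157 (.leaf 0x0) (.leaf 0x0)) (.node 6159 (.leaf 0x0) (.node 6160 (.leaf 0x0) (.leaf 0x0)))) (.node 6164 (.node 6162 (.leaf 0x0) (.node 6163 (.leaf 0x0) (.leaf 0x0))) (.node 6165 (.leaf 0x0) (.node 6166 (.leaf 0x0) (.leaf 0x0))))) (.node 6172 (.node 6169 (.node 6168 (.leaf 0x0) (.leaf 0x0)) (.node 6170 (.leaf 0x0) (.node 6171 (.leaf 0x0) (.leaf 0x0)))) (.node 6175 (.node 6173 (.leaf 0x0) (.node 6174 (.leaf 0x0) (.leaf 0x0))) (.node 6176 (.leaf 0x0) (.node 6177 (.leaf 0x0) (.leaf 0x0))))))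

def cCHS_554 : Store := (.node 6189 (.node 6183 (.node 6180 (.node 6179 (.leaf 0x0) (.leaf 0x0)) (.node 6181 (.leaf 0x0) (.node 6182 (.leaf 0x0) (.leaf 0x0)))) (.node 6186 (.node 6184 (.leaf 0x0) (.node 6185 (.leaf 0x0) (.leaf 0x0))) (.node 6187 (.leaf 0x0) (.node 6188 (.leaf 0x0) (.leaf 0x0))))) (.node 6195 (.node 6192 (.node 6190 (.leaf 0x0) (.node 6191 (.leaf 0x0) (.leaf 0x0))) (.node 6193 (.leaf 0x0) (.node 6194 (.leaf 0x0) (.leaf 0x0)))) (.node 6198 (.node 6196 (.leaf 0x0) (.node 6197 (.leaf 0x0) (.leaf 0x0))) (.node 6199 (.leaf 0x0) (.node 6200 (.leaf 0x0) (.leaf 0x0))))))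

def cCHS_555 : Store := (.node 6178 cCHS_553 cCHS_554)

def cCHS_556 : Store := (.node 6156 cCHS_552 cCHS_555)

def cCHS_557 : Store := (.node 6112 cCHS_549 cCHS_556)

def cCHS_558 : Store := (.node 6212 (.node 6206 (.node 6203 (.node 6202 (.leaf 0x0) (.leaf 0x0)) (.node 6204 (.leaf 0x0) (.node 6205 (.leaf 0x0) (.leaf 0x0)))) (.node 6209 (.node 6207 (.leaf 0x0) (.node 6208 (.leaf 0x0) (.leaf 0x0))) (.node 6210 (.leaf 0x0) (.node 6211 (.leaf 0x0) (.leaf 0x0))))) (.node 6217 (.node 6214 (.node 6213 (.leaf 0x0) (.leaf 0x0)) (.node 6215 (.leaf 0x0) (.node 6216 (.leaf 0x0) (.leaf 0x0)))) (.node 6220 (.node 6218 (.leaf 0x0) (.node 6219 (.leaf 0x0) (.leaf 0x0))) (.node 6221 (.leaf 0x0) (.node 6222 (.leaf 0x0) (.leaf 0x0))))))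

def cCHS_559 : Store := (.node 6234 (.node 6228 (.node 6225 (.node 6224 (.leaf 0x0) (.leaf 0x0)) (.node 6226 (.leaf 0x0) (.node 6227 (.leaf 0x0) (.leaf 0x0)))) (.node 6231 (.node 6229 (.leaf 0x0) (.node 6230 (.leaf 0x0) (.leaf 0x0))) (.node 6232 (.leaf 0x0) (.node 6233 (.leaf 0x0) (.leaf 0x0))))) (.node 6239 (.node 6236 (.node 6235 (.leaf 0x0) (.leaf 0x0)) (.node 6237 (.leaf 0x0) (.node 6238 (.leaf 0x0) (.leaf 0x0)))) (.node 6242 (.node 6240 (.leaf 0x0) (.node 6241 (.leaf 0x0) (.leaf 0x0))) (.node 6243 (.leaf 0x0) (.node 6244 (.leaf 0x0) (.leaf 0x0))))))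

def cCHS_560 : Store := (.node 6223 cCHS_558 cCHS_559)

def cCHS_561 : Store := (.node 6256 (.node 6250 (.node 6247 (.node 6246 (.leaf 0x0) (.leaf 0x0)) (.node 6248 (.leaf 0x0) (.node 6249 (.leaf 0x0) (.leaf 0x0)))) (.node 6253 (.node 6251 (.leaf 0x0) (.node 6252 (.leaf 0x0) (.leaf 0x0))) (.node 6254 (.leaf 0x0) (.node 6255 (.leaf 0x0) (.leaf 0x0))))) (.node 6261 (.node 6258 (.node 6257 (.leaf 0x0) (.leaf 0x0)) (.node 6259 (.leaf 0x0) (.node 6260 (.leaf 0x0) (.leaf 0x0)))) (.node 6264 (.node 6262 (.leaf 0x0) (.node 6263 (.leaf 0x0) (.leaf 0x0))) (.node 6265 (.leaf 0x0) (.node 6266 (.leaf 0x0) (.leaf 0x0))))))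

def cCHS_562 : Store := (.node 6278 (.node 6272 (.node 6269 (.node 6268 (.leaf 0x0) (.leaf 0x0)) (.node 6270 (.leaf 0x0) (.node 6271 (.leaf 0x0) (.leaf 0x0)))) (.node 6275 (.node 6273 (.leaf 0x0) (.node 6274 (.leaf 0x0) (.leaf 0x0))) (.node 6276 (.leaf 0x0) (.node 6277 (.leaf 0x0) (.leaf 0x0))))) (.node 6283 (.node 6280 (.node 6279 (.leaf 0x0) (.leaf 0x0)) (.node 6281 (.leaf 0x0) (.node 6282 (.leaf 0x0) (.leaf 0x0)))) (.node 6286 (.node 6284 (.leaf 0x0) (.node 6285 (.leaf 0x0) (.leaf 0x0))) (.node 6287 (.leaf 0x0) (.node 6288 (.leaf 0x0) (.leaf 0x0))))))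

def cCHS_563 : Store := (.node 6267 cCHS_561 cCHS_562)

def cCHS_564 : Store := (.node 6245 cCHS_560 cCHS_563)

def cCHS_565 : Store := (.node 6300 (.node 6294 (.node 6291 (.node 6290 (.leaf 0x0) (.leaf 0x0)) (.node 6292 (.leaf 0x0) (.node 6293 (.leaf 0x0) (.leaf 0x0)))) (.node 6297 (.node 6295 (.leaf 0x0) (.node 6296 (.leaf 0x0) (.leaf 0x0))) (.node 6298 (.leaf 0x0) (.node 6299 (.leaf 0x0) (.leaf 0x0))))) (.node 6305 (.node 6302 (.node 6301 (.leaf 0x1) (.leaf 0x0)) (.node 6303 (.leaf 0x0) (.node 6304 (.leaf 0x0) (.leaf 0x0)))) (.node 6308 (.node 6306 (.leaf 0x0) (.node 6307 (.leaf 0x0) (.leaf 0x0))) (.node 6309 (.leaf 0x0) (.node 6310 (.leaf 0x0) (.leaf 0x0))))))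

def cCHS_566 : Store := (.node 6322 (.node 6316 (.node 6313 (.node 6312 (.leaf 0x0) (.leaf 0x0)) (.node 6314 (.leaf 0x0) (.node 6315 (.leaf 0x0) (.leaf 0x0)))) (.node 6319 (.node 6317 (.leaf 0x0) (.node 6318 (.leaf 0x0) (.leaf 0x0))) (.node 6320 (.leaf 0x0) (.node 6321 (.leaf 0x0) (.leaf 0x0))))) (.node 6327 (.node 6324 (.node 6323 (.leaf 0x0) (.leaf 0x0)) (.node 6325 (.leaf 0x0) (.node 6326 (.leaf 0x0) (.leaf 0x0)))) (.node 6330 (.node 6328 (.leaf 0x0) (.node 6329 (.leaf 0x0) (.leaf 0x0))) (.node 6331 (.leaf 0x0) (.node 6332 (.leaf 0x0) (.leaf 0x0))))))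

def cCHS_567 : Store := (.node 6311 cCHS_565 cCHS_566)

def cCHS_568 : Store := (.node 6344 (.node 6338 (.node 6335 (.node 6334 (.leaf 0x0) (.leaf 0x0)) (.node 6336 (.leaf 0x0) (.node 6337 (.leaf 0x0) (.leaf 0x0)))) (.node 6341 (.node 6339 (.leaf 0x0) (.node 6340 (.leaf 0x0) (.leaf 0x0))) (.node 6342 (.leaf 0x0) (.node 6343 (.leaf 0x0) (.leaf 0x0))))) (.node 6349 (.node 6346 (.node 6345 (.leaf 0x0) (.leaf 0x0)) (.node 6347 (.leaf 0x0) (.node 6348 (.leaf 0x0) (.leaf 0x0)))) (.node 6352 (.node 6350 (.leaf 0x0) (.node 6351 (.leaf 0x0) (.leaf 0x0))) (.node 6353 (.leaf 0x0) (.node 6354 (.leaf 0x0) (.leaf 0x0))))))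

def cCHS_569 : Store := (.node 6366 (.node 6360 (.node 6357 (.node 6356 (.leaf 0x0) (.leaf 0x0)) (.node 6358 (.leaf 0x0) (.node 6359 (.leaf 0x0) (.leaf 0x0)))) (.node 6363 (.node 6361 (.leaf 0x0) (.node 6362 (.leaf 0x0) (.leaf 0x0))) (.node 6364 (.leaf 0x0) (.node 6365 (.leaf 0x0) (.leaf 0x0))))) (.node 6372 (.node 6369 (.node 6367 (.leaf 0x0) (.node 6368 (.leaf 0x0) (.leaf 0x0))) (.node 6370 (.leaf 0x0) (.node 6371 (.leaf 0x0) (.leaf 0x0)))) (.node 6375 (.node 6373 (.leaf 0x0) (.node 6374 (.leaf 0x0) (.leaf 0x0))) (.node 6376 (.leaf 0x0) (.node 6377 (.leaf 0x0) (.leaf 0x0))))))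

def cCHS_570 : Store := (.node 6355 cCHS_568 cCHS_569)

def cCHS_571 : Store := (.node 6333 cCHS_567 cCHS_570)

def cCHS_572 : Store := (.node 6289 cCHS_564 cCHS_571)

def cCHS_573 : Store := (.node 6201 cCHS_557 cCHS_572)

def cCHS_574 : Store := (.node 6024 cCHS_542 cCHS_573)

def cCHS_575 : Store := (.node 6389 (.node 6383 (.node 6380 (.node 6379 (.leaf 0x0) (.leaf 0x0)) (.node 6381 (.leaf 0x0) (.node 6382 (.leaf 0x0) (.leaf 0x0)))) (.node 6386 (.node 6384 (.leaf 0x0) (.node 6385 (.leaf 0x0) (.leaf 0x0))) (.node 6387 (.leaf 0x0) (.node 6388 (.leaf 0x0) (.leaf 0x0))))) (.node 6394 (.node 6391 (.node 6390 (.leaf 0x0) (.leaf 0x0)) (.node 6392 (.leaf 0x0) (.node 6393 (.leaf 0x0) (.leaf 0x0)))) (.node 6397 (.node 6395 (.leaf 0x0) (.node 6396 (.leaf 0x0) (.leaf 0x0))) (.node 6398 (.leaf 0x0) (.node 6399 (.leaf 0x0) (.leaf 0x0))))))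

def cCHS_576 : Store := (.node 6411 (.node 6405 (.node 6402 (.node 6401 (.leaf 0x0) (.leaf 0x0)) (.node 6403 (.leaf 0x0) (.node 6404 (.leaf 0x0) (.leaf 0x0)))) (.node 6408 (.node 6406 (.leaf 0x0) (.node 6407 (.leaf 0x0) (.leaf 0x0))) (.node 6409 (.leaf 0x0) (.node 6410 (.leaf 0x0) (.leaf 0x0))))) (.node 6416 (.node 6413 (.node 6412 (.leaf 0x0) (.leaf 0x0)) (.node 6414 (.leaf 0x0) (.node 6415 (.leaf 0x0) (.leaf 0x0)))) (.node 6419 (.node 6417 (.leaf 0x0) (.node 6418 (.leaf 0x0) (.leaf 0x0))) (.node 6420 (.leaf 0x0) (.node 6421 (.leaf 0x0) (.leaf 0x0))))))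

def cCHS_577 : Store := (.node 6400 cCHS_575 cCHS_576)

def cCHS_578 : Store := (.node 6433 (.node 6427 (.node 6424 (.node 6423 (.leaf 0x0) (.leaf 0x0)) (.node 6425 (.leaf 0x0) (.node 6426 (.leaf 0x0) (.leaf 0x0)))) (.node 6430 (.node 6428 (.leaf 0x0) (.node 6429 (.leaf 0x0) (.leaf 0x0))) (.node 6431 (.leaf 0x0) (.node 6432 (.leaf 0x0) (.leaf 0x0))))) (.node 6438 (.node 6435 (.node 6434 (.leaf 0x0) (.leaf 0x0)) (.node 6436 (.leaf 0x0) (.node 6437 (.leaf 0x0) (.leaf 0x0)))) (.node 6441 (.node 6439 (.leaf 0x0) (.node 6440 (.leaf 0x0) (.leaf 0x0))) (.node 6442 (.leaf 0x0) (.node 6443 (.leaf 0x0) (.leaf 0x0))))))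

def cCHS_579 : Store := (.node 6455 (.node 6449 (.node 6446 (.node 6445 (.leaf 0x0) (.leaf 0x0)) (.node 6447 (.leaf 0x0) (.node 6448 (.leaf 0x0) (.leaf 0x0)))) (.node 6452 (.node 6450 (.leaf 0x0) (.node 6451 (.leaf 0x0) (.leaf 0x0))) (.node 6453 (.leaf 0x0) (.node 6454 (.leaf 0x0) (.leaf 0x0))))) (.node 6460 (.node 6457 (.node 6456 (.leaf 0x0) (.leaf 0x0)) (.node 6458 (.leaf 0x0) (.node 6459 (.leaf 0x0) (.leaf 0x0)))) (.node 6463 (.node 6461 (.leaf 0x0) (.node 6462 (.leaf 0x0) (.leaf 0x0))) (.node 6464 (.leaf 0x0) (.node 6465 (.leaf 0x0) (.leaf 0x0))))))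

def cCHS_580 : Store := (.node 6444 cCHS_578 cCHS_579)

def cCHS_581 : Store := (.node 6422 cCHS_577 cCHS_580)

def cCHS_582 : Store := (.node 6477 (.node 6471 (.node 6468 (.node 6467 (.leaf 0x0) (.leaf 0x0)) (.node 6469 (.leaf 0x0) (.node 6470 (.leaf 0x0) (.leaf 0x0)))) (.node 6474 (.node 6472 (.leaf 0x0) (.node 6473 (.leaf 0x0) (.leaf 0x0))) (.node 6475 (.leaf 0x0) (.node 6476 (.leaf 0x0) (.leaf 0x0))))) (.node 6482 (.node 6479 (.node 6478 (.leaf 0x0) (.leaf 0x0)) (.node 6480 (.leaf 0x0) (.node 6481 (.leaf 0x0) (.leaf 0x0)))) (.node 6485 (.node 6483 (.leaf 0x0) (.node 6484 (.leaf 0x0) (.leaf 0x0))) (.node 6486 (.leaf 0x0) (.node 6487 (.leaf 0x0) (.leaf 0x0))))))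

def cCHS_583 : Store := (.node 6499 (.node 6493 (.node 6490 (.node 6489 (.leaf 0x0) (.leaf 0x0)) (.node 6491 (.leaf 0x0) (.node 6492 (.leaf 0x0) (.leaf 0x0)))) (.node 6496 (.node 6494 (.leaf 0x0) (.node 6495 (.leaf 0x0) (.leaf 0x0))) (.node 6497 (.leaf 0x0) (.node 6498 (.leaf 0x0) (.leaf 0x0))))) (.node 6504 (.node 6501 (.node 6500 (.leaf 0x0) (.leaf 0x0)) (.node 6502 (.leaf 0x0) (.node 6503 (.leaf 0x0) (.leaf 0x0)))) (.node 6507 (.node 6505 (.leaf 0x0) (.node 6506 (.leaf 0x0) (.leaf 0x0))) (.node 6508 (.leaf 0x0) (.node 6509 (.leaf 0x0) (.leaf 0x0))))))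

def cCHS_584 : Store := (.node 6488 cCHS_582 cCHS_583)

def cCHS_585 : Store := (.node 6521 (.node 6515 (.node 6512 (.node 6511 (.leaf 0x0) (.leaf 0x0)) (.node 6513 (.leaf 0x0) (.node 6514 (.leaf 0x0) (.leaf 0x0)))) (.node 6518 (.node 6516 (.leaf 0x0) (.node 6517 (.leaf 0x0) (.leaf 0x0))) (.node 6519 (.leaf 0x0) (.node 6520 (.leaf 0x0) (.leaf 0x0))))) (.node 6526 (.node 6523 (.node 6522 (.leaf 0x0) (.leaf 0x0)) (.node 6524 (.leaf 0x0) (.node 6525 (.leaf 0x0) (.leaf 0x0)))) (.node 6529 (.node 6527 (.leaf 0x0) (.node 6528 (.leaf 0x0) (.leaf 0x0))) (.node 6530 (.leaf 0x0) (.node 6531 (.leaf 0x0) (.leaf 0x0))))))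

def cCHS_586 : Store := (.node 6543 (.node 6537 (.node 6534 (.node 6533 (.leaf 0x0) (.leaf 0x0)) (.node 6535 (.leaf 0x0) (.node 6536 (.leaf 0x0) (.leaf 0x0)))) (.node 6540 (.node 6538 (.leaf 0x0) (.node 6539 (.leaf 0x0) (.leaf 0x0))) (.node 6541 (.leaf 0x0) (.node 6542 (.leaf 0x0) (.leaf 0x0))))) (.node 6549 (.node 6546 (.node 6544 (.leaf 0x0) (.node 6545 (.leaf 0x0) (.leaf 0x0))) (.node 6547 (.leaf 0x0) (.node 6548 (.leaf 0x0) (.leaf 0x0)))) (.node 6552 (.node 6550 (.leaf 0x0) (.node 6551 (.leaf 0x0) (.leaf 0x0))) (.node 6553 (.leaf 0x0) (.node 6554 (.leaf 0x0) (.leaf 0x0))))))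

def cCHS_587 : Store := (.node 6532 cCHS_585 cCHS_586)

def cCHS_588 : Store := (.node 6510 cCHS_584 cCHS_587)

def cCHS_589 : Store := (.node 6466 cCHS_581 cCHS_588)

def cCHS_590 : Store := (.node 6566 (.node 6560 (.node 6557 (.node 6556 (.leaf 0x0) (.leaf 0x0)) (.node 6558 (.leaf 0x0) (.node 6559 (.leaf 0x0) (.leaf 0x0)))) (.node 6563 (.node 6561 (.leaf 0x0) (.node 6562 (.leaf 0x0) (.leaf 0x0))) (.node 6564 (.leaf 0x0) (.node 6565 (.leaf 0x0) (.leaf 0x0))))) (.node 6571 (.node 6568 (.node 6567 (.leaf 0x0) (.leaf 0x0)) (.node 6569 (.leaf 0x0) (.node 6570 (.leaf 0x0) (.leaf 0x0)))) (.node 6574 (.node 6572 (.leaf 0x0) (.node 6573 (.leaf 0x0) (.leaf 0x0))) (.node 6575 (.leaf 0x0) (.node 6576 (.leaf 0x0) (.leaf 0x0))))))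

def cCHS_591 : Store := (.node 6588 (.node 6582 (.node 6579 (.node 6578 (.leaf 0x0) (.leaf 0x0)) (.node 6580 (.leaf 0x0) (.node 6581 (.leaf 0x0) (.leaf 0x0)))) (.node 6585 (.node 6583 (.leaf 0x0) (.node 6584 (.leaf 0x0) (.leaf 0x0))) (.node 6586 (.leaf 0x0) (.node 6587 (.leaf 0x0) (.leaf 0x0))))) (.node 6593 (.node 6590 (.node 6589 (.leaf 0x0) (.leaf 0x0)) (.node 6591 (.leaf 0x0) (.node 6592 (.leaf 0x0) (.leaf 0x0)))) (.node 6596 (.node 6594 (.leaf 0x0) (.node 6595 (.leaf 0x0) (.leaf 0x0))) (.node 6597 (.leaf 0x0) (.node 6598 (.leaf 0x0) (.leaf 0x0))))))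

def cCHS_592 : Store := (.node 6577 cCHS_590 cCHS_591)

def cCHS_593 : Store := (.node 6610 (.node 6604 (.node 6601 (.node 6600 (.leaf 0x0) (.leaf 0x0)) (.node 6602 (.leaf 0x0) (.node 6603 (.leaf 0x0) (.leaf 0x0)))) (.node 6607 (.node 6605 (.leaf 0x0) (.node 6606 (.leaf 0x0) (.leaf 0x0))) (.node 6608 (.leaf 0x0) (.node 6609 (.leaf 0x0) (.leaf 0x0))))) (.node 6615 (.node 6612 (.node 6611 (.leaf 0x0) (.leaf 0x0)) (.node 6613 (.leaf 0x0) (.node 6614 (.leaf 0x0) (.leaf 0x0)))) (.node 6618 (.node 6616 (.leaf 0x0) (.node 6617 (.leaf 0x0) (.leaf 0x0))) (.node 6619 (.leaf 0x0) (.node 6620 (.leaf 0x0) (.leaf 0x0))))))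

def cCHS_594 : Store := (.node 6632 (.node 6626 (.node 6623 (.node 6622 (.leaf 0x0) (.leaf 0x0)) (.node 6624 (.leaf 0x0) (.node 6625 (.leaf 0x0) (.leaf 0x0)))) (.node 6629 (.node 6627 (.leaf 0x0) (.node 6628 (.leaf 0x0) (.leaf 0x0))) (.node 6630 (.leaf 0x0) (.node 6631 (.leaf 0x0) (.leaf 0x0))))) (.node 6637 (.node 6634 (.node 6633 (.leaf 0x0) (.leaf 0x0)) (.node 6635 (.leaf 0x0) (.node 6636 (.leaf 0x0) (.leaf 0x0)))) (.node 6640 (.node 6638 (.leaf 0x0) (.node 6639 (.leaf 0x0) (.leaf 0x0))) (.node 6641 (.leaf 0x0) (.node 6642 (.leaf 0x0) (.leaf 0x0))))))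

def cCHS_595 : Store := (.node 6621 cCHS_593 cCHS_594)

def cCHS_596 : Store := (.node 6599 cCHS_592 cCHS_595)

def cCHS_597 : Store := (.node 6654 (.node 6648 (.node 6645 (.node 6644 (.leaf 0x0) (.leaf 0x0)) (.node 6646 (.leaf 0x0) (.node 6647 (.leaf 0x0) (.leaf 0x0)))) (.node 6651 (.node 6649 (.leaf 0x0) (.node 6650 (.leaf 0x0) (.leaf 0x0))) (.node 6652 (.leaf 0x0) (.node 6653 (.leaf 0x0) (.leaf 0x0))))) (.node 6659 (.node 6656 (.node 6655 (.leaf 0x0) (.leaf 0x0)) (.node 6657 (.leaf 0x0) (.node 6658 (.leaf 0x0) (.leaf 0x0)))) (.node 6662 (.node 6660 (.leaf 0x0) (.node 6661 (.leaf 0x0) (.leaf 0x0))) (.node 6663 (.leaf 0x0) (.node 6664 (.leaf 0x0) (.leaf 0x0))))))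

def cCHS_598 : Store := (.node 6676 (.node 6670 (.node 6667 (.node 6666 (.leaf 0x0) (.leaf 0x0)) (.node 6668 (.leaf 0x0) (.node 6669 (.leaf 0x0) (.leaf 0x0)))) (.node 6673 (.node 6671 (.leaf 0x0) (.node 6672 (.leaf 0x0) (.leaf 0x0))) (.node 6674 (.leaf 0x0) (.node 6675 (.leaf 0x0) (.leaf 0x0))))) (.node 6681 (.node 6678 (.node 6677 (.leaf 0x0) (.leaf 0x0)) (.node 6679 (.leaf 0x0) (.node 6680 (.leaf 0x0) (.leaf 0x0)))) (.node 6684 (.node 6682 (.leaf 0x0) (.node 6683 (.leaf 0x0) (.leaf 0x0))) (.node 6685 (.leaf 0x0) (.node 6686 (.leaf 0x0) (.leaf 0x0))))))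

def cCHS_599 : Store := (.node 6665 cCHS_597 cCHS_598)

def cCHS_600 : Store := (.node 6698 (.node 6692 (.node 6689 (.node 6688 (.leaf 0x0) (.leaf 0x0)) (.node 6690 (.leaf 0x0) (.node 6691 (.leaf 0x0) (.leaf 0x0)))) (.node 6695 (.node 6693 (.leaf 0x0) (.node 6694 (.leaf 0x0) (.leaf 0x0))) (.node 6696 (.leaf 0x0) (.node 6697 (.leaf 0x0) (.leaf 0x0))))) (.node 6703 (.node 6700 (.node 6699 (.leaf 0x0) (.leaf 0x0)) (.node 6701 (.leaf 0x0) (.node 6702 (.leaf 0x0) (.leaf 0x0)))) (.node 6706 (.node 6704 (.leaf 0x0) (.node 6705 (.leaf 0x0) (.leaf 0x0))) (.node 6707 (.leaf 0x0) (.node 6708 (.leaf 0x0) (.leaf 0x0))))))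

def cCHS_601 : Store := (.node 6720 (.node 6714 (.node 6711 (.node 6710 (.leaf 0x0) (.leaf 0x0)) (.node 6712 (.leaf 0x0) (.node 6713 (.leaf 0x0) (.leaf 0x0)))) (.node 6717 (.node 6715 (.leaf 0x0) (.node 6716 (.leaf 0x0) (.leaf 0x0))) (.node 6718 (.leaf 0x0) (.node 6719 (.leaf 0x0) (.leaf 0x0))))) (.node 6726 (.node 6723 (.node 6721 (.leaf 0x0) (.node 6722 (.leaf 0x0) (.leaf 0x0))) (.node 6724 (.leaf 0x0) (.node 6725 (.leaf 0x0) (.leaf 0x0)))) (.node 6729 (.node 6727 (.leaf 0x0) (.node 6728 (.leaf 0x0) (.leaf 0x0))) (.node 6730 (.leaf 0x0) (.node 6731 (.leaf 0x0) (.leaf 0x0))))))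

def cCHS_602 : Store := (.node 6709 cCHS_600 cCHS_601)

def cCHS_603 : Store := (.node 6687 cCHS_599 cCHS_602)

def cCHS_604 : Store := (.node 6643 cCHS_596 cCHS_603)

def cCHS_605 : Store := (.node 6555 cCHS_589 cCHS_604)

def cCHS_606 : Store := (.node 6743 (.node 6737 (.node 6734 (.node 6733 (.leaf 0x0) (.leaf 0x0)) (.node 6735 (.leaf 0x0) (.node 6736 (.leaf 0x0) (.leaf 0x0)))) (.node 6740 (.node 6738 (.leaf 0x0) (.node 6739 (.leaf 0x0) (.leaf 0x0))) (.node 6741 (.leaf 0x0) (.node 6742 (.leaf 0x0) (.leaf 0x0))))) (.node 6748 (.node 6745 (.node 6744 (.leaf 0x0) (.leaf 0x0)) (.node 6746 (.leaf 0x0) (.node 6747 (.leaf 0x0) (.leaf 0x0)))) (.node 6751 (.node 6749 (.leaf 0x0) (.node 6750 (.leaf 0x0) (.leaf 0x0))) (.node 6752 (.leaf 0x0) (.node 6753 (.leaf 0x0) (.leaf 0x0))))))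

def cCHS_607 : Store := (.node 6765 (.node 6759 (.node 6756 (.node 6755 (.leaf 0x0) (.leaf 0x0)) (.node 6757 (.leaf 0x0) (.node 6758 (.leaf 0x0) (.leaf 0x0)))) (.node 6762 (.node 6760 (.leaf 0x0) (.node 6761 (.leaf 0x0) (.leaf 0x0))) (.node 6763 (.leaf 0x0) (.node 6764 (.leaf 0x0) (.leaf 0x0))))) (.node 6770 (.node 6767 (.node 6766 (.leaf 0x0) (.leaf 0x0)) (.node 6768 (.leaf 0x0) (.node 6769 (.leaf 0x0) (.leaf 0x0)))) (.node 6773 (.node 6771 (.leaf 0x0) (.node 6772 (.leaf 0x0) (.leaf 0x0))) (.node 6774 (.leaf 0x0) (.node 6775 (.leaf 0x0) (.leaf 0x0))))))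

def cCHS_608 : Store := (.node 6754 cCHS_606 cCHS_607)

def cCHS_609 : Store := (.node 6787 (.node 6781 (.node 6778 (.node 6777 (.leaf 0x0) (.leaf 0x0)) (.node 6779 (.leaf 0x0) (.node 6780 (.leaf 0x0) (.leaf 0x0)))) (.node 6784 (.node 6782 (.leaf 0x0) (.node 6783 (.leaf 0x0) (.leaf 0x0))) (.node 6785 (.leaf 0x0) (.node 6786 (.leaf 0x0) (.leaf 0x0))))) (.node 6792 (.node 6789 (.node 6788 (.leaf 0x0) (.leaf 0x0)) (.node 6790 (.leaf 0x0) (.node 6791 (.leaf 0x0) (.leaf 0x0)))) (.node 6795 (.node 6793 (.leaf 0x0) (.node 6794 (.leaf 0x0) (.leaf 0x0))) (.node 6796 (.leaf 0x0) (.node 6797 (.leaf 0x0) (.leaf 0x0))))))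

def cCHS_610 : Store := (.node 6809 (.node 6803 (.node 6800 (.node 6799 (.leaf 0x0) (.leaf 0x0)) (.node 6801 (.leaf 0x0) (.node 6802 (.leaf 0x0) (.leaf 0x0)))) (.node 6806 (.node 6804 (.leaf 0x0) (.node 6805 (.leaf 0x0) (.leaf 0x0))) (.node 6807 (.leaf 0x0) (.node 6808 (.leaf 0x0) (.leaf 0x0))))) (.node 6814 (.node 6811 (.node 6810 (.leaf 0x0) (.leaf 0x0)) (.node 6812 (.leaf 0x0) (.node 6813 (.leaf 0x0) (.leaf 0x0)))) (.node 6817 (.node 6815 (.leaf 0x0) (.node 6816 (.leaf 0x0) (.leaf 0x0))) (.node 6818 (.leaf 0x0) (.node 6819 (.leaf 0x0) (.leaf 0x0))))))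

def cCHS_611 : Store := (.node 6798 cCHS_609 cCHS_610)

def cCHS_612 : Store := (.node 6776 cCHS_608 cCHS_611)

def cCHS_613 : Store := (.node 6831 (.node 6825 (.node 6822 (.node 6821 (.leaf 0x0) (.leaf 0x0)) (.node 6823 (.leaf 0x0) (.node 6824 (.leaf 0x0) (.leaf 0x0)))) (.node 6828 (.node 6826 (.leaf 0x0) (.node 6827 (.leaf 0x0) (.leaf 0x0))) (.node 6829 (.leaf 0x0) (.node 6830 (.leaf 0x0) (.leaf 0x0))))) (.node 6836 (.node 6833 (.node 6832 (.leaf 0x0) (.leaf 0x0)) (.node 6834 (.leaf 0x0) (.node 6835 (.leaf 0x0) (.leaf 0x0)))) (.node 6839 (.node 6837 (.leaf 0x0) (.node 6838 (.leaf 0x0) (.leaf 0x0))) (.node 6840 (.leaf 0x0) (.node 6841 (.leaf 0x0) (.leaf 0x0))))))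

def cCHS_614 : Store := (.node 6853 (.node 6847 (.node 6844 (.node 6843 (.leaf 0x0) (.leaf 0x0)) (.node 6845 (.leaf 0x0) (.node 6846 (.leaf 0x0) (.leaf 0x0)))) (.node 6850 (.node 6848 (.leaf 0x0) (.node 6849 (.leaf 0x0) (.leaf 0x0))) (.node 6851 (.leaf 0x0) (.node 6852 (.leaf 0x0) (.leaf 0x0))))) (.node 6858 (.node 6855 (.node 6854 (.leaf 0x0) (.leaf 0x0)) (.node 6856 (.leaf 0x0) (.node 6857 (.leaf 0x0) (.leaf 0x0)))) (.node 6861 (.node 6859 (.leaf 0x0) (.node 6860 (.leaf 0x0) (.leaf 0x0))) (.node 6862 (.leaf 0x0) (.node 6863 (.leaf 0x0) (.leaf 0x0))))))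

def cCHS_615 : Store := (.node 6842 cCHS_613 cCHS_614)

def cCHS_616 : Store := (.node 6875 (.node 6869 (.node 6866 (.node 6865 (.leaf 0x0) (.leaf 0x0)) (.node 6867 (.leaf 0x0) (.node 6868 (.leaf 0x0) (.leaf 0x0)))) (.node 6872 (.node 6870 (.leaf 0x0) (.node 6871 (.leaf 0x0) (.leaf 0x0))) (.node 6873 (.leaf 0x0) (.node 6874 (.leaf 0x0) (.leaf 0x0))))) (.node 6880 (.node 6877 (.node 6876 (.leaf 0x0) (.leaf 0x0)) (.node 6878 (.leaf 0x0) (.node 6879 (.leaf 0x0) (.leaf 0x0)))) (.node 6883 (.node 6881 (.leaf 0x0) (.node 6882 (.leaf 0x0) (.leaf 0x0))) (.node 6884 (.leaf 0x0) (.node 6885 (.leaf 0x0) (.leaf 0x0))))))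

def cCHS_617 : Store := (.node 6897 (.node 6891 (.node 6888 (.node 6887 (.leaf 0x0) (.leaf 0x0)) (.node 6889 (.leaf 0x0) (.node 6890 (.leaf 0x0) (.leaf 0x0)))) (.node 6894 (.node 6892 (.leaf 0x0) (.node 6893 (.leaf 0x0) (.leaf 0x0))) (.node 6895 (.leaf 0x0) (.node 6896 (.leaf 0x0) (.leaf 0x0))))) (.node 6903 (.node 6900 (.node 6898 (.leaf 0x0) (.node 6899 (.leaf 0x0) (.leaf 0x0))) (.node 6901 (.leaf 0x0) (.node 6902 (.leaf 0x0) (.leaf 0x0)))) (.node 6906 (.node 6904 (.leaf 0x0) (.node 6905 (.leaf 0x0) (.leaf 0x0))) (.node 6907 (.leaf 0x0) (.node 6908 (.leaf 0x0) (.leaf 0x0))))))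

def cCHS_618 : Store := (.node 6886 cCHS_616 cCHS_617)

def cCHS_619 : Store := (.node 6864 cCHS_615 cCHS_618)

def cCHS_620 : Store := (.node 6820 cCHS_612 cCHS_619)

def cCHS_621 : Store := (.node 6920 (.node 6914 (.node 6911 (.node 6910 (.leaf 0x0) (.leaf 0x0)) (.node 6912 (.leaf 0x0) (.node 6913 (.leaf 0x0) (.leaf 0x0)))) (.node 6917 (.node 6915 (.leaf 0x0) (.node 6916 (.leaf 0x0) (.leaf 0x0))) (.node 6918 (.leaf 0x0) (.node 6919 (.leaf 0x0) (.leaf 0x0))))) (.node 6925 (.node 6922 (.node 6921 (.leaf 0x0) (.leaf 0x0)) (.node 6923 (.leaf 0x0) (.node 6924 (.leaf 0x0) (.leaf 0x0)))) (.node 6928 (.node 6926 (.leaf 0x0) (.node 6927 (.leaf 0x0) (.leaf 0x0))) (.node 6929 (.leaf 0x0) (.node 6930 (.leaf 0x0) (.leaf 0x0))))))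

def cCHS_622 : Store := (.node 6942 (.node 6936 (.node 6933 (.node 6932 (.leaf 0x0) (.leaf 0x0)) (.node 6934 (.leaf 0x0) (.node 6935 (.leaf 0x0) (.leaf 0x0)))) (.node 6939 (.node 6937 (.leaf 0x0) (.node 6938 (.leaf 0x0) (.leaf 0x0))) (.node 6940 (.leaf 0x0) (.node 6941 (.leaf 0x0) (.leaf 0x0))))) (.node 6947 (.node 6944 (.node 6943 (.leaf 0x0) (.leaf 0x0)) (.node 6945 (.leaf 0x0) (.node 6946 (.leaf 0x0) (.leaf 0x0)))) (.node 6950 (.node 6948 (.leaf 0x0) (.node 6949 (.leaf 0x0) (.leaf 0x0))) (.node 6951 (.leaf 0x0) (.node 6952 (.leaf 0x0) (.leaf 0x0))))))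

def cCHS_623 : Store := (.node 6931 cCHS_621 cCHS_622)

def cCHS_624 : Store := (.node 6964 (.node 6958 (.node 6955 (.node 6954 (.leaf 0x0) (.leaf 0x0)) (.node 6956 (.leaf 0x0) (.node 6957 (.leaf 0x0) (.leaf 0x0)))) (.node 6961 (.node 6959 (.leaf 0x0) (.node 6960 (.leaf 0x0) (.leaf 0x0))) (.node 6962 (.leaf 0x0) (.node 6963 (.leaf 0x0) (.leaf 0x0))))) (.node 6969 (.node 6966 (.node 6965 (.leaf 0x0) (.leaf 0x0)) (.node 6967 (.leaf 0x0) (.node 6968 (.leaf 0x0) (.leaf 0x0)))) (.node 6972 (.node 6970 (.leaf 0x0) (.node 6971 (.leaf 0x0) (.leaf 0x0))) (.node 6973 (.leaf 0x0) (.node 6974 (.leaf 0x0) (.leaf 0x0))))))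

def cCHS_625 : Store := (.node 6986 (.node 6980 (.node 6977 (.node 6976 (.leaf 0x0) (.leaf 0x0)) (.node 6978 (.leaf 0x0) (.node 6979 (.leaf 0x0) (.leaf 0x0)))) (.node 6983 (.node 6981 (.leaf 0x0) (.node 6982 (.leaf 0x0) (.leaf 0x0))) (.node 6984 (.leaf 0x0) (.node 6985 (.leaf 0x0) (.leaf 0x0))))) (.node 6992 (.node 6989 (.node 6987 (.leaf 0x0) (.node 6988 (.leaf 0x0) (.leaf 0x0))) (.node 6990 (.leaf 0x0) (.node 6991 (.leaf 0x0) (.leaf 0x0)))) (.node 6995 (.node 6993 (.leaf 0x0) (.node 6994 (.leaf 0x0) (.leaf 0x0))) (.node 6996 (.leaf 0x0) (.node 6997 (.leaf 0x0) (.leaf 0x0))))))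

def cCHS_626 : Store := (.node 6975 cCHS_624 cCHS_625)

def cCHS_627 : Store := (.node 6953 cCHS_623 cCHS_626)

def cCHS_628 : Store := (.node 7009 (.node 7003 (.node 7000 (.node 6999 (.leaf 0x0) (.leaf 0x0)) (.node 7001 (.leaf 0x0) (.node 7002 (.leaf 0x0) (.leaf 0x0)))) (.node 7006 (.node 7004 (.leaf 0x0) (.node 7005 (.leaf 0x0) (.leaf 0x0))) (.node 7007 (.leaf 0x0) (.node 7008 (.leaf 0x0) (.leaf 0x0))))) (.node 7014 (.node 7011 (.node 7010 (.leaf 0x0) (.leaf 0x0)) (.node 7012 (.leaf 0x0) (.node 7013 (.leaf 0x0) (.leaf 0x0)))) (.node 7017 (.node 7015 (.leaf 0x0) (.node 7016 (.leaf 0x0) (.leaf 0x0))) (.node 7018 (.leaf 0x0) (.node 7019 (.leaf 0x0) (.leaf 0x0))))))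

def cCHS_629 : Store := (.node 7031 (.node 7025 (.node 7022 (.node 7021 (.leaf 0x0) (.leaf 0x0)) (.node 7023 (.leaf 0x0) (.node 7024 (.leaf 0x0) (.leaf 0x0)))) (.node 7028 (.node 7026 (.leaf 0x0) (.node 7027 (.leaf 0x0) (.leaf 0x0))) (.node 7029 (.leaf 0x0) (.node 7030 (.leaf 0x0) (.leaf 0x0))))) (.node 7036 (.node 7033 (.node 7032 (.leaf 0x0) (.leaf 0x0)) (.node 7034 (.leaf 0x0) (.node 7035 (.leaf 0x0) (.leaf 0x0)))) (.node 7039 (.node 7037 (.leaf 0x0) (.node 7038 (.leaf 0x0) (.leaf 0x0))) (.node 7040 (.leaf 0x0) (.node 7041 (.leaf 0x0) (.leaf 0x0))))))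

def cCHS_630 : Store := (.node 7020 cCHS_628 cCHS_629)

def cCHS_631 : Store := (.node 7053 (.node 7047 (.node 7044 (.node 7043 (.leaf 0x0) (.leaf 0x0)) (.node 7045 (.leaf 0x0) (.node 7046 (.leaf 0x0) (.leaf 0x0)))) (.node 7050 (.node 7048 (.leaf 0x0) (.node 7049 (.leaf 0x0) (.leaf 0x0))) (.node 7051 (.leaf 0x0) (.node 7052 (.leaf 0x0) (.leaf 0x0))))) (.node 7058 (.node 7055 (.node 7054 (.leaf 0x0) (.leaf 0x0)) (.node 7056 (.leaf 0x0) (.node 7057 (.leaf 0x0) (.leaf 0x0)))) (.node 7061 (.node 7059 (.leaf 0x0) (.node 7060 (.leaf 0x0) (.leaf 0x0))) (.node 7062 (.leaf 0x0) (.node 7063 (.leaf 0x0) (.leaf 0x0))))))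

def cCHS_632 : Store := (.node 7075 (.node 7069 (.node 7066 (.node 7065 (.leaf 0x0) (.leaf 0x0)) (.node 7067 (.leaf 0x0) (.node 7068 (.leaf 0x0) (.leaf 0x0)))) (.node 7072 (.node 7070 (.leaf 0x0) (.node 7071 (.leaf 0x0) (.leaf 0x0))) (.node 7073 (.leaf 0x0) (.node 7074 (.leaf 0x0) (.leaf 0x0))))) (.node 7081 (.node 7078 (.node 7076 (.leaf 0x0) (.node 7077 (.leaf 0x0) (.leaf 0x0))) (.node 7079 (.leaf 0x0) (.node 7080 (.leaf 0x0) (.leaf 0x0)))) (.node 7084 (.node 7082 (.leaf 0x0) (.node 7083 (.leaf 0x0) (.leaf 0x0))) (.node 7085 (.leaf 0x0) (.node 7086 (.leaf 0x0) (.leaf 0x0))))))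

def cCHS_633 : Store := (.node 7064 cCHS_631 cCHS_632)

def cCHS_634 : Store := (.node 7042 cCHS_630 cCHS_633)

def cCHS_635 : Store := (.node 6998 cCHS_627 cCHS_634)

def cCHS_636 : Store := (.node 6909 cCHS_620 cCHS_635)

def cCHS_637 : Store := (.node 6732 cCHS_605 cCHS_636)

def cCHS_638 : Store := (.node 6378 cCHS_574 cCHS_637)

def cCHS_639 : Store := (.node 7098 (.node 7092 (.node 7089 (.node 7088 (.leaf 0x0) (.leaf 0x0)) (.node 7090 (.leaf 0x0) (.node 7091 (.leaf 0x0) (.leaf 0x0)))) (.node 7095 (.node 7093 (.leaf 0x0) (.node 7094 (.leaf 0x0) (.leaf 0x0))) (.node 7096 (.leaf 0x0) (.node 7097 (.leaf 0x0) (.leaf 0x0))))) (.node 7103 (.node 7100 (.node 7099 (.leaf 0x0) (.leaf 0x0)) (.node 7101 (.leaf 0x0) (.node 7102 (.leaf 0x0) (.leaf 0x0)))) (.node 7106 (.node 7104 (.leaf 0x0) (.node 7105 (.leaf 0x0) (.leaf 0x0))) (.node 7107 (.leaf 0x0) (.node 7108 (.leaf 0x0) (.leaf 0x0))))))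

def cCHS_640 : Store := (.node 7120 (.node 7114 (.node 7111 (.node 7110 (.leaf 0x0) (.leaf 0x0)) (.node 7112 (.leaf 0x0) (.node 7113 (.leaf 0x0) (.leaf 0x0)))) (.node 7117 (.node 7115 (.leaf 0x0) (.node 7116 (.leaf 0x0) (.leaf 0x0))) (.node 7118 (.leaf 0x0) (.node 7119 (.leaf 0x0) (.leaf 0x0))))) (.node 7125 (.node 7122 (.node 7121 (.leaf 0x0) (.leaf 0x0)) (.node 7123 (.leaf 0x0) (.node 7124 (.leaf 0x0) (.leaf 0x0)))) (.node 7128 (.node 7126 (.leaf 0x0) (.node 7127 (.leaf 0x0) (.leaf 0x0))) (.node 7129 (.leaf 0x0) (.node 7130 (.leaf 0x0) (.leaf 0x0))))))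

def cCHS_641 : Store := (.node 7109 cCHS_639 cCHS_640)

def cCHS_642 : Store := (.node 7142 (.node 7136 (.node 7133 (.node 7132 (.leaf 0x0) (.leaf 0x0)) (.node 7134 (.leaf 0x0) (.node 7135 (.leaf 0x0) (.leaf 0x0)))) (.node 7139 (.node 7137 (.leaf 0x0) (.node 7138 (.leaf 0x0) (.leaf 0x0))) (.node 7140 (.leaf 0x0) (.node 7141 (.leaf 0x0) (.leaf 0x0))))) (.node 7147 (.node 7144 (.node 7143 (.leaf 0x0) (.leaf 0x0)) (.node 7145 (.leaf 0x0) (.node 7146 (.leaf 0x0) (.leaf 0x0)))) (.node 7150 (.node 7148 (.leaf 0x0) (.node 7149 (.leaf 0x0) (.leaf 0x0))) (.node 7151 (.leaf 0x0) (.node 7152 (.leaf 0x0) (.leaf 0x0))))))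

def cCHS_643 : Store := (.node 7164 (.node 7158 (.node 7155 (.node 7154 (.leaf 0x0) (.leaf 0x0)) (.node 7156 (.leaf 0x0) (.node 7157 (.leaf 0x0) (.leaf 0x0)))) (.node 7161 (.node 7159 (.leaf 0x0) (.node 7160 (.leaf 0x0) (.leaf 0x0))) (.node 7162 (.leaf 0x0) (.node 7163 (.leaf 0x0) (.leaf 0x0))))) (.node 7169 (.node 7166 (.node 7165 (.leaf 0x0) (.leaf 0x0)) (.node 7167 (.leaf 0x0) (.node 7168 (.leaf 0x0) (.leaf 0x0)))) (.node 7172 (.node 7170 (.leaf 0x0) (.node 7171 (.leaf 0x0) (.leaf 0x0))) (.node 7173 (.leaf 0x0) (.node 7174 (.leaf 0x0) (.leaf 0x0))))))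

def cCHS_644 : Store := (.node 7153 cCHS_642 cCHS_643)

def cCHS_645 : Store := (.node 7131 cCHS_641 cCHS_644)

def cCHS_646 : Store := (.node 7186 (.node 7180 (.node 7177 (.node 7176 (.leaf 0x0) (.leaf 0x0)) (.node 7178 (.leaf 0x0) (.node 7179 (.leaf 0x0) (.leaf 0x0)))) (.node 7183 (.node 7181 (.leaf 0x0) (.node 7182 (.leaf 0x0) (.leaf 0x0))) (.node 7184 (.leaf 0x0) (.node 7185 (.leaf 0x0) (.leaf 0x0))))) (.node 7191 (.node 7188 (.node 7187 (.leaf 0x0) (.leaf 0x0)) (.node 7189 (.leaf 0x0) (.node 7190 (.leaf 0x0) (.leaf 0x0)))) (.node 7194 (.node 7192 (.leaf 0x0) (.node 7193 (.leaf 0x0) (.leaf 0x0))) (.node 7195 (.leaf 0x0) (.node 7196 (.leaf 0x0) (.leaf 0x0))))))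

def cCHS_647 : Store := (.node 7208 (.node 7202 (.node 7199 (.node 7198 (.leaf 0x0) (.leaf 0x0)) (.node 7200 (.leaf 0x0) (.node 7201 (.leaf 0x0) (.leaf 0x0)))) (.node 7205 (.node 7203 (.leaf 0x0) (.node 7204 (.leaf 0x0) (.leaf 0x0))) (.node 7206 (.leaf 0x0) (.node 7207 (.leaf 0x0) (.leaf 0x0))))) (.node 7213 (.node 7210 (.node 7209 (.leaf 0x0) (.leaf 0x0)) (.node 7211 (.leaf 0x0) (.node 7212 (.leaf 0x0) (.leaf 0x0)))) (.node 7216 (.node 7214 (.leaf 0x0) (.node 7215 (.leaf 0x0) (.leaf 0x0))) (.node 7217 (.leaf 0x0) (.node 7218 (.leaf 0x0) (.leaf 0x0))))))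

def cCHS_648 : Store := (.node 7197 cCHS_646 cCHS_647)

def cCHS_649 : Store := (.node 7230 (.node 7224 (.node 7221 (.node 7220 (.leaf 0x0) (.leaf 0x0)) (.node 7222 (.leaf 0x0) (.node 7223 (.leaf 0x0) (.leaf 0x0)))) (.node 7227 (.node 7225 (.leaf 0x0) (.node 7226 (.leaf 0x0) (.leaf 0x0))) (.node 7228 (.leaf 0x0) (.node 7229 (.leaf 0x0) (.leaf 0x0))))) (.node 7235 (.node 7232 (.node 7231 (.leaf 0x0) (.leaf 0x0)) (.node 7233 (.leaf 0x0) (.node 7234 (.leaf 0x0) (.leaf 0x0)))) (.node 7238 (.node 7236 (.leaf 0x0) (.node 7237 (.leaf 0x0) (.leaf 0x0))) (.node 7239 (.leaf 0x0) (.node 7240 (.leaf 0x0) (.leaf 0x0))))))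

def cCHS_650 : Store := (.node 7252 (.node 7246 (.node 7243 (.node 7242 (.leaf 0x0) (.leaf 0x0)) (.node 7244 (.leaf 0x0) (.node 7245 (.leaf 0x0) (.leaf 0x0)))) (.node 7249 (.node 7247 (.leaf 0x0) (.node 7248 (.leaf 0x0) (.leaf 0x0))) (.node 7250 (.leaf 0x0) (.node 7251 (.leaf 0x0) (.leaf 0x0))))) (.node 7258 (.node 7255 (.node 7253 (.leaf 0x0) (.node 7254 (.leaf 0x0) (.leaf 0x0))) (.node 7256 (.leaf 0x0) (.node 7257 (.leaf 0x0) (.leaf 0x0)))) (.node 7261 (.node 7259 (.leaf 0x0) (.node 7260 (.leaf 0x0) (.leaf 0x0))) (.node 7262 (.leaf 0x0) (.node 7263 (.leaf 0x0) (.leaf 0x0))))))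

def cCHS_651 : Store := (.node 7241 cCHS_649 cCHS_650)

def cCHS_652 : Store := (.node 7219 cCHS_648 cCHS_651)

def cCHS_653 : Store := (.node 7175 cCHS_645 cCHS_652)

def cCHS_654 : Store := (.node 7275 (.node 7269 (.node 7266 (.node 7265 (.leaf 0x0) (.leaf 0x0)) (.node 7267 (.leaf 0x0) (.node 7268 (.leaf 0x0) (.leaf 0x0)))) (.node 7272 (.node 7270 (.leaf 0x0) (.node 7271 (.leaf 0x0) (.leaf 0x0))) (.node 7273 (.leaf 0x0) (.node 7274 (.leaf 0x0) (.leaf 0x0))))) (.node 7280 (.node 7277 (.node 7276 (.leaf 0x0) (.leaf 0x0)) (.node 7278 (.leaf 0x0) (.node 7279 (.leaf 0x0) (.leaf 0x0)))) (.node 7283 (.node 7281 (.leaf 0x0) (.node 7282 (.leaf 0x0) (.leaf 0x0))) (.node 7284 (.leaf 0x0) (.node 7285 (.leaf 0x0) (.leaf 0x0))))))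

def cCHS_655 : Store := (.node 7297 (.node 7291 (.node 7288 (.node 7287 (.leaf 0x0) (.leaf 0x0)) (.node 7289 (.leaf 0x0) (.node 7290 (.leaf 0x0) (.leaf 0x0)))) (.node 7294 (.node 7292 (.leaf 0x0) (.node 7293 (.leaf 0x0) (.leaf 0x0))) (.node 7295 (.leaf 0x0) (.node 7296 (.leaf 0x0) (.leaf 0x0))))) (.node 7302 (.node 7299 (.node 7298 (.leaf 0x0) (.leaf 0x0)) (.node 7300 (.leaf 0x0) (.node 7301 (.leaf 0x0) (.leaf 0x0)))) (.node 7305 (.node 7303 (.leaf 0x0) (.node 7304 (.leaf 0x0) (.leaf 0x0))) (.node 7306 (.leaf 0x0) (.node 7307 (.leaf 0x0) (.leaf 0x0))))))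

def cCHS_656 : Store := (.node 7286 cCHS_654 cCHS_655)

def cCHS_657 : Store := (.node 7319 (.node 7313 (.node 7310 (.node 7309 (.leaf 0x0) (.leaf 0x0)) (.node 7311 (.leaf 0x0) (.node 7312 (.leaf 0x0) (.leaf 0x0)))) (.node 7316 (.node 7314 (.leaf 0x0) (.node 7315 (.leaf 0x0) (.leaf 0x0))) (.node 7317 (.leaf 0x0) (.node 7318 (.leaf 0x0) (.leaf 0x0))))) (.node 7324 (.node 7321 (.node 7320 (.leaf 0x0) (.leaf 0x0)) (.node 7322 (.leaf 0x0) (.node 7323 (.leaf 0x0) (.leaf 0x0)))) (.node 7327 (.node 7325 (.leaf 0x0) (.node 7326 (.leaf 0x0) (.leaf 0x0))) (.node 7328 (.leaf 0x0) (.node 7329 (.leaf 0x0) (.leaf 0x0))))))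

def cCHS_658 : Store := (.node 7341 (.node 7335 (.node 7332 (.node 7331 (.leaf 0x0) (.leaf 0x0)) (.node 7333 (.leaf 0x0) (.node 7334 (.leaf 0x0) (.leaf 0x0)))) (.node 7338 (.node 7336 (.leaf 0x0) (.node 7337 (.leaf 0x0) (.leaf 0x0))) (.node 7339 (.leaf 0x0) (.node 7340 (.leaf 0x0) (.leaf 0x0))))) (.node 7346 (.node 7343 (.node 7342 (.leaf 0x0) (.leaf 0x0)) (.node 7344 (.leaf 0x0) (.node 7345 (.leaf 0x0) (.leaf 0x0)))) (.node 7349 (.node 7347 (.leaf 0x0) (.node 7348 (.leaf 0x0) (.leaf 0x0))) (.node 7350 (.leaf 0x0) (.node 7351 (.leaf 0x0) (.leaf 0x0))))))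

def cCHS_659 : Store := (.node 7330 cCHS_657 cCHS_658)

def cCHS_660 : Store := (.node 7308 cCHS_656 cCHS_659)

def cCHS_661 : Store := (.node 7363 (.node 7357 (.node 7354 (.node 7353 (.leaf 0x0) (.leaf 0x0)) (.node 7355 (.leaf 0x0) (.node 7356 (.leaf 0x0) (.leaf 0x0)))) (.node 7360 (.node 7358 (.leaf 0x0) (.node 7359 (.leaf 0x0) (.leaf 0x0))) (.node 7361 (.leaf 0x0) (.node 7362 (.leaf 0x0) (.leaf 0x0))))) (.node 7368 (.node 7365 (.node 7364 (.leaf 0x0) (.leaf 0x0)) (.node 7366 (.leaf 0x0) (.node 7367 (.leaf 0x0) (.leaf 0x0)))) (.node 7371 (.node 7369 (.leaf 0x0) (.node 7370 (.leaf 0x0) (.leaf 0x0))) (.node 7372 (.leaf 0x0) (.node 7373 (.leaf 0x0) (.leaf 0x0))))))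

def cCHS_662 : Store := (.node 7385 (.node 7379 (.node 7376 (.node 7375 (.leaf 0x0) (.leaf 0x0)) (.node 7377 (.leaf 0x0) (.node 7378 (.leaf 0x0) (.leaf 0x0)))) (.node 7382 (.node 7380 (.leaf 0x0) (.node 7381 (.leaf 0x0) (.leaf 0x0))) (.node 7383 (.leaf 0x0) (.node 7384 (.leaf 0x0) (.leaf 0x0))))) (.node 7390 (.node 7387 (.node 7386 (.leaf 0x0) (.leaf 0x0)) (.node 7388 (.leaf 0x0) (.node 7389 (.leaf 0x0) (.leaf 0x0)))) (.node 7393 (.node 7391 (.leaf 0x0) (.node 7392 (.leaf 0x0) (.leaf 0x0))) (.node 7394 (.leaf 0x0) (.node 7395 (.leaf 0x0) (.leaf 0x0))))))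

def cCHS_663 : Store := (.node 7374 cCHS_661 cCHS_662)

def cCHS_664 : Store := (.node 7407 (.node 7401 (.node 7398 (.node 7397 (.leaf 0x0) (.leaf 0x0)) (.node 7399 (.leaf 0x0) (.node 7400 (.leaf 0x0) (.leaf 0x0)))) (.node 7404 (.node 7402 (.leaf 0x0) (.node 7403 (.leaf 0x0) (.leaf 0x0))) (.node 7405 (.leaf 0x0) (.node 7406 (.leaf 0x0) (.leaf 0x0))))) (.node 7412 (.node 7409 (.node 7408 (.leaf 0x0) (.leaf 0x0)) (.node 7410 (.leaf 0x0) (.node 7411 (.leaf 0x0) (.leaf 0x0)))) (.node 7415 (.node 7413 (.leaf 0x0) (.node 7414 (.leaf 0x0) (.leaf 0x0))) (.node 7416 (.leaf 0x0) (.node 7417 (.leaf 0x0) (.leaf 0x0))))))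

def cCHS_665 : Store := (.node 7429 (.node 7423 (.node 7420 (.node 7419 (.leaf 0x0) (.leaf 0x0)) (.node 7421 (.leaf 0x0) (.node 7422 (.leaf 0x0) (.leaf 0x0)))) (.node 7426 (.node 7424 (.leaf 0x0) (.node 7425 (.leaf 0x0) (.leaf 0x0))) (.node 7427 (.leaf 0x0) (.node 7428 (.leaf 0x0) (.leaf 0x0))))) (.node 7435 (.node 7432 (.node 7430 (.leaf 0x0) (.node 7431 (.leaf 0x0) (.leaf 0x0))) (.node 7433 (.leaf 0x0) (.node 7434 (.leaf 0x0) (.leaf 0x0)))) (.node 7438 (.node 7436 (.leaf 0x0) (.node 7437 (.leaf 0x0) (.leaf 0x0))) (.node 7439 (.leaf 0x0) (.node 7440 (.leaf 0x0) (.leaf 0x0))))))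

def cCHS_666 : Store := (.node 7418 cCHS_664 cCHS_665)

def cCHS_667 : Store := (.node 7396 cCHS_663 cCHS_666)

def cCHS_668 : Store := (.node 7352 cCHS_660 cCHS_667)

def cCHS_669 : Store := (.node 7264 cCHS_653 cCHS_668)

def cCHS_670 : Store := (.node 7452 (.node 7446 (.node 7443 (.node 7442 (.leaf 0x0) (.leaf 0x0)) (.node 7444 (.leaf 0x0) (.node 7445 (.leaf 0x0) (.leaf 0x0)))) (.node 7449 (.node 7447 (.leaf 0x0) (.node 7448 (.leaf 0x0) (.leaf 0x0))) (.node 7450 (.leaf 0x0) (.node 7451 (.leaf 0x0) (.leaf 0x0))))) (.node 7457 (.node 7454 (.node 7453 (.leaf 0x0) (.leaf 0x0)) (.node 7455 (.leaf 0x0) (.node 7456 (.leaf 0x0) (.leaf 0x0)))) (.node 7460 (.node 7458 (.leaf 0x0) (.node 7459 (.leaf 0x0) (.leaf 0x0))) (.node 7461 (.leaf 0x0) (.node 7462 (.leaf 0x0) (.leaf 0x0))))))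

def cCHS_671 : Store := (.node 7474 (.node 7468 (.node 7465 (.node 7464 (.leaf 0x0) (.leaf 0x0)) (.node 7466 (.leaf 0x0) (.node 7467 (.leaf 0x0) (.leaf 0x0)))) (.node 7471 (.node 7469 (.leaf 0x0) (.node 7470 (.leaf 0x0) (.leaf 0x0))) (.node 7472 (.leaf 0x0) (.node 7473 (.leaf 0x0) (.leaf 0x0))))) (.node 7479 (.node 7476 (.node 7475 (.leaf 0x0) (.leaf 0x0)) (.node 7477 (.leaf 0x0) (.node 7478 (.leaf 0x0) (.leaf 0x0)))) (.node 7482 (.node 7480 (.leaf 0x0) (.node 7481 (.leaf 0x0) (.leaf 0x0))) (.node 7483 (.leaf 0x0) (.node 7484 (.leaf 0x0) (.leaf 0x0))))))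

def cCHS_672 : Store := (.node 7463 cCHS_670 cCHS_671)

def cCHS_673 : Store := (.node 7496 (.node 7490 (.node 7487 (.node 7486 (.leaf 0x0) (.leaf 0x0)) (.node 7488 (.leaf 0x0) (.node 7489 (.leaf 0x0) (.leaf 0x0)))) (.node 7493 (.node 7491 (.leaf 0x0) (.node 7492 (.leaf 0x0) (.leaf 0x0))) (.node 7494 (.leaf 0x0) (.node 7495 (.leaf 0x0) (.leaf 0x0))))) (.node 7501 (.node 7498 (.node 7497 (.leaf 0x0) (.leaf 0x0)) (.node 7499 (.leaf 0x0) (.node 7500 (.leaf 0x0) (.leaf 0x0)))) (.node 7504 (.node 7502 (.leaf 0x0) (.node 7503 (.leaf 0x0) (.leaf 0x0))) (.node 7505 (.leaf 0x0) (.node 7506 (.leaf 0x0) (.leaf 0x0))))))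

def cCHS_674 : Store := (.node 7518 (.node 7512 (.node 7509 (.node 7508 (.leaf 0x0) (.leaf 0x0)) (.node 7510 (.leaf 0x0) (.node 7511 (.leaf 0x0) (.leaf 0x0)))) (.node 7515 (.node 7513 (.leaf 0x0) (.node 7514 (.leaf 0x0) (.leaf 0x0))) (.node 7516 (.leaf 0x0) (.node 7517 (.leaf 0x0) (.leaf 0x0))))) (.node 7523 (.node 7520 (.node 7519 (.leaf 0x0) (.leaf 0x0)) (.node 7521 (.leaf 0x0) (.node 7522 (.leaf 0x0) (.leaf 0x0)))) (.node 7526 (.node 7524 (.leaf 0x0) (.node 7525 (.leaf 0x0) (.leaf 0x0))) (.node 7527 (.leaf 0x0) (.node 7528 (.leaf 0x0) (.leaf 0x0))))))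

def cCHS_675 : Store := (.node 7507 cCHS_673 cCHS_674)

def cCHS_676 : Store := (.node 7485 cCHS_672 cCHS_675)

def cCHS_677 : Store := (.node 7540 (.node 7534 (.node 7531 (.node 7530 (.leaf 0x0) (.leaf 0x0)) (.node 7532 (.leaf 0x0) (.node 7533 (.leaf 0x0) (.leaf 0x0)))) (.node 7537 (.node 7535 (.leaf 0x0) (.node 7536 (.leaf 0x0) (.leaf 0x0))) (.node 7538 (.leaf 0x0) (.node 7539 (.leaf 0x0) (.leaf 0x0))))) (.node 7545 (.node 7542 (.node 7541 (.leaf 0x0) (.leaf 0x0)) (.node 7543 (.leaf 0x0) (.node 7544 (.leaf 0x0) (.leaf 0x0)))) (.node 7548 (.node 7546 (.leaf 0x0) (.node 7547 (.leaf 0x0) (.leaf 0x0))) (.node 7549 (.leaf 0x0) (.node 7550 (.leaf 0x0) (.leaf 0x0))))))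

def cCHS_678 : Store := (.node 7562 (.node 7556 (.node 7553 (.node 7552 (.leaf 0x0) (.leaf 0x0)) (.node 7554 (.leaf 0x0) (.node 7555 (.leaf 0x0) (.leaf 0x0)))) (.node 7559 (.node 7557 (.leaf 0x0) (.node 7558 (.leaf 0x0) (.leaf 0x0))) (.node 7560 (.leaf 0x0) (.node 7561 (.leaf 0x1) (.leaf 0x0))))) (.node 7567 (.node 7564 (.node 7563 (.leaf 0x0) (.leaf 0x0)) (.node 7565 (.leaf 0x0) (.node 7566 (.leaf 0x0) (.leaf 0x0)))) (.node 7570 (.node 7568 (.leaf 0x0) (.node 7569 (.leaf 0x0) (.leaf 0x0))) (.node 7571 (.leaf 0x0) (.node 7572 (.leaf 0x0) (.leaf 0x0))))))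

def cCHS_679 : Store := (.node 7551 cCHS_677 cCHS_678)

def cCHS_680 : Store := (.node 7584 (.node 7578 (.node 7575 (.node 7574 (.leaf 0x0) (.leaf 0x0)) (.node 7576 (.leaf 0x0) (.node 7577 (.leaf 0x0) (.leaf 0x0)))) (.node 7581 (.node 7579 (.leaf 0x0) (.node 7580 (.leaf 0x0) (.leaf 0x0))) (.node 7582 (.leaf 0x0) (.node 7583 (.leaf 0x0) (.leaf 0x0))))) (.node 7589 (.node 7586 (.node 7585 (.leaf 0x0) (.leaf 0x0)) (.node 7587 (.leaf 0x0) (.node 7588 (.leaf 0x0) (.leaf 0x0)))) (.node 7592 (.node 7590 (.leaf 0x0) (.node 7591 (.leaf 0x0) (.leaf 0x0))) (.node 7593 (.leaf 0x0) (.node 7594 (.leaf 0x0) (.leaf 0x0))))))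

def cCHS_681 : Store := (.node 7606 (.node 7600 (.node 7597 (.node 7596 (.leaf 0x0) (.leaf 0x0)) (.node 7598 (.leaf 0x0) (.node 7599 (.leaf 0x0) (.leaf 0x0)))) (.node 7603 (.node 7601 (.leaf 0x0) (.node 7602 (.leaf 0x0) (.leaf 0x0))) (.node 7604 (.leaf 0x0) (.node 7605 (.leaf 0x0) (.leaf 0x0))))) (.node 7612 (.node 7609 (.node 7607 (.leaf 0x0) (.node 7608 (.leaf 0x0) (.leaf 0x0))) (.node 7610 (.leaf 0x0) (.node 7611 (.leaf 0x0) (.leaf 0x0)))) (.node 7615 (.node 7613 (.leaf 0x0) (.node 7614 (.leaf 0x0) (.leaf 0x0))) (.node 7616 (.leaf 0x0) (.node 7617 (.leaf 0x0) (.leaf 0x0))))))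

def cCHS_682 : Store := (.node 7595 cCHS_680 cCHS_681)

def cCHS_683 : Store := (.node 7573 cCHS_679 cCHS_682)

def cCHS_684 : Store := (.node 7529 cCHS_676 cCHS_683)

def cCHS_685 : Store := (.node 7629 (.node 7623 (.node 7620 (.node 7619 (.leaf 0x0) (.leaf 0x0)) (.node 7621 (.leaf 0x0) (.node 7622 (.leaf 0x0) (.leaf 0x0)))) (.node 7626 (.node 7624 (.leaf 0x0) (.node 7625 (.leaf 0x0) (.leaf 0x0))) (.node 7627 (.leaf 0x0) (.node 7628 (.leaf 0x0) (.leaf 0x0))))) (.node 7634 (.node 7631 (.node 7630 (.leaf 0x0) (.leaf 0x0)) (.node 7632 (.leaf 0x0) (.node 7633 (.leaf 0x0) (.leaf 0x0)))) (.node 7637 (.node 7635 (.leaf 0x0) (.node 7636 (.leaf 0x0) (.leaf 0x0))) (.node 7638 (.leaf 0x0) (.node 7639 (.leaf 0x0) (.leaf 0x0))))))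

def cCHS_686 : Store := (.node 7651 (.node 7645 (.node 7642 (.node 7641 (.leaf 0x0) (.leaf 0x0)) (.node 7643 (.leaf 0x0) (.node 7644 (.leaf 0x0) (.leaf 0x0)))) (.node 7648 (.node 7646 (.leaf 0x0) (.node 7647 (.leaf 0x0) (.leaf 0x0))) (.node 7649 (.leaf 0x0) (.node 7650 (.leaf 0x0) (.leaf 0x0))))) (.node 7656 (.node 7653 (.node 7652 (.leaf 0x0) (.leaf 0x0)) (.node 7654 (.leaf 0x0) (.node 7655 (.leaf 0x0) (.leaf 0x0)))) (.node 7659 (.node 7657 (.leaf 0x0) (.node 7658 (.leaf 0x0) (.leaf 0x0))) (.node 7660 (.leaf 0x0) (.node 7661 (.leaf 0x0) (.leaf 0x0))))))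

def cCHS_687 : Store := (.node 7640 cCHS_685 cCHS_686)

def cCHS_688 : Store := (.node 7673 (.node 7667 (.node 7664 (.node 7663 (.leaf 0x0) (.leaf 0x0)) (.node 7665 (.leaf 0x0) (.node 7666 (.leaf 0x0) (.leaf 0x0)))) (.node 7670 (.node 7668 (.leaf 0x0) (.node 7669 (.leaf 0x0) (.leaf 0x0))) (.node 7671 (.leaf 0x0) (.node 7672 (.leaf 0x0) (.leaf 0x0))))) (.node 7678 (.node 7675 (.node 7674 (.leaf 0x0) (.leaf 0x0)) (.node 7676 (.leaf 0x0) (.node 7677 (.leaf 0x0) (.leaf 0x0)))) (.node 7681 (.node 7679 (.leaf 0x0) (.node 7680 (.leaf 0x0) (.leaf 0x0))) (.node 7682 (.leaf 0x0) (.node 7683 (.leaf 0x0) (.leaf 0x0))))))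

def cCHS_689 : Store := (.node 7695 (.node 7689 (.node 7686 (.node 7685 (.leaf 0x0) (.leaf 0x0)) (.node 7687 (.leaf 0x0) (.node 7688 (.leaf 0x0) (.leaf 0x0)))) (.node 7692 (.node 7690 (.leaf 0x0) (.node 7691 (.leaf 0x0) (.leaf 0x0))) (.node 7693 (.leaf 0x0) (.node 7694 (.leaf 0x0) (.leaf 0x0))))) (.node 7701 (.node 7698 (.node 7696 (.leaf 0x0) (.node 7697 (.leaf 0x0) (.leaf 0x0))) (.node 7699 (.leaf 0x0) (.node 7700 (.leaf 0x0) (.leaf 0x0)))) (.node 7704 (.node 7702 (.leaf 0x0) (.node 7703 (.leaf 0x0) (.leaf 0x0))) (.node 7705 (.leaf 0x0) (.node 7706 (.leaf 0x0) (.leaf 0x0))))))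

def cCHS_690 : Store := (.node 7684 cCHS_688 cCHS_689)

def cCHS_691 : Store := (.node 7662 cCHS_687 cCHS_690)

def cCHS_692 : Store := (.node 7718 (.node 7712 (.node 7709 (.node 7708 (.leaf 0x0) (.leaf 0x0)) (.node 7710 (.leaf 0x0) (.node 7711 (.leaf 0x0) (.leaf 0x0)))) (.node 7715 (.node 7713 (.leaf 0x0) (.node 7714 (.leaf 0x0) (.leaf 0x0))) (.node 7716 (.leaf 0x0) (.node 7717 (.leaf 0x0) (.leaf 0x0))))) (.node 7723 (.node 7720 (.node 7719 (.leaf 0x0) (.leaf 0x0)) (.node 7721 (.leaf 0x0) (.node 7722 (.leaf 0x0) (.leaf 0x0)))) (.node 7726 (.node 7724 (.leaf 0x0) (.node 7725 (.leaf 0x0) (.leaf 0x0))) (.node 7727 (.leaf 0x0) (.node 7728 (.leaf 0x0) (.leaf 0x0))))))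

def cCHS_693 : Store := (.node 7740 (.node 7734 (.node 7731 (.node 7730 (.leaf 0x0) (.leaf 0x0)) (.node 7732 (.leaf 0x0) (.node 7733 (.leaf 0x0) (.leaf 0x0)))) (.node 7737 (.node 7735 (.leaf 0x0) (.node 7736 (.leaf 0x0) (.leaf 0x0))) (.node 7738 (.leaf 0x0) (.node 7739 (.leaf 0x0) (.leaf 0x0))))) (.node 7745 (.node 7742 (.node 7741 (.leaf 0x1) (.leaf 0x0)) (.node 7743 (.leaf 0x0) (.node 7744 (.leaf 0x0) (.leaf 0x0)))) (.node 7748 (.node 7746 (.leaf 0x0) (.node 7747 (.leaf 0x0) (.leaf 0x0))) (.node 7749 (.leaf 0x0) (.node 7750 (.leaf 0x0) (.leaf 0x0))))))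

def cCHS_694 : Store := (.node 7729 cCHS_692 cCHS_693)

def cCHS_695 : Store := (.node 7762 (.node 7756 (.node 7753 (.node 7752 (.leaf 0x0) (.leaf 0x0)) (.node 7754 (.leaf 0x0) (.node 7755 (.leaf 0x0) (.leaf 0x0)))) (.node 7759 (.node 7757 (.leaf 0x0) (.node 7758 (.leaf 0x0) (.leaf 0x0))) (.node 7760 (.leaf 0x0) (.node 7761 (.leaf 0x0) (.leaf 0x0))))) (.node 7767 (.node 7764 (.node 7763 (.leaf 0x0) (.leaf 0x0)) (.node 7765 (.leaf 0x0) (.node 7766 (.leaf 0x0) (.leaf 0x0)))) (.node 7770 (.node 7768 (.leaf 0x0) (.node 7769 (.leaf 0x0) (.leaf 0x0))) (.node 7771 (.leaf 0x0) (.node 7772 (.leaf 0x0) (.leaf 0x0))))))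

def cCHS_696 : Store := (.node 7784 (.node 7778 (.node 7775 (.node 7774 (.leaf 0x0) (.leaf 0x0)) (.node 7776 (.leaf 0x0) (.node 7777 (.leaf 0x0) (.leaf 0x0)))) (.node 7781 (.node 7779 (.leaf 0x0) (.node 7780 (.leaf 0x0) (.leaf 0x0))) (.node 7782 (.leaf 0x0) (.node 7783 (.leaf 0x0) (.leaf 0x0))))) (.node 7790 (.node 7787 (.node 7785 (.leaf 0x0) (.node 7786 (.leaf 0x0) (.leaf 0x0))) (.node 7788 (.leaf 0x0) (.node 7789 (.leaf 0x0) (.leaf 0x0)))) (.node 7793 (.node 7791 (.leaf 0x0) (.node 7792 (.leaf 0x0) (.leaf 0x0))) (.node 7794 (.leaf 0x0) (.node 7795 (.leaf 0x0) (.leaf 0x0))))))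

def cCHS_697 : Store := (.node 7773 cCHS_695 cCHS_696)

def cCHS_698 : Store := (.node 7751 cCHS_694 cCHS_697)

def cCHS_699 : Store := (.node 7707 cCHS_691 cCHS_698)

def cCHS_700 : Store := (.node 7618 cCHS_684 cCHS_699)

def cCHS_701 : Store := (.node 7441 cCHS_669 cCHS_700)

def cCHS_702 : Store := (.node 7807 (.node 7801 (.node 7798 (.node 7797 (.leaf 0x0) (.leaf 0x0)) (.node 7799 (.leaf 0x0) (.node 7800 (.leaf 0x0) (.leaf 0x0)))) (.node 7804 (.node 7802 (.leaf 0x0) (.node 7803 (.leaf 0x0) (.leaf 0x0))) (.node 7805 (.leaf 0x0) (.node 7806 (.leaf 0x0) (.leaf 0x0))))) (.node 7812 (.node 7809 (.node 7808 (.leaf 0x0) (.leaf 0x0)) (.node 7810 (.leaf 0x0) (.node 7811 (.leaf 0x0) (.leaf 0x0)))) (.node 7815 (.node 7813 (.leaf 0x0) (.node 7814 (.leaf 0x0) (.leaf 0x0))) (.node 7816 (.leaf 0x0) (.node 7817 (.leaf 0x0) (.leaf 0x0))))))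

def cCHS_703 : Store := (.node 7829 (.node 7823 (.node 7820 (.node 7819 (.leaf 0x0) (.leaf 0x0)) (.node 7821 (.leaf 0x0) (.node 7822 (.leaf 0x0) (.leaf 0x0)))) (.node 7826 (.node 7824 (.leaf 0x0) (.node 7825 (.leaf 0x0) (.leaf 0x0))) (.node 7827 (.leaf 0x0) (.node 7828 (.leaf 0x0) (.leaf 0x0))))) (.node 7834 (.node 7831 (.node 7830 (.leaf 0x0) (.leaf 0x0)) (.node 7832 (.leaf 0x0) (.node 7833 (.leaf 0x0) (.leaf 0x0)))) (.node 7837 (.node 7835 (.leaf 0x0) (.node 7836 (.leaf 0x0) (.leaf 0x0))) (.node 7838 (.leaf 0x0) (.node 7839 (.leaf 0x0) (.leaf 0x0))))))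

def cCHS_704 : Store := (.node 7818 cCHS_702 cCHS_703)

def cCHS_705 : Store := (.node 7851 (.node 7845 (.node 7842 (.node 7841 (.leaf 0x0) (.leaf 0x0)) (.node 7843 (.leaf 0x0) (.node 7844 (.leaf 0x0) (.leaf 0x0)))) (.node 7848 (.node 7846 (.leaf 0x0) (.node 7847 (.leaf 0x0) (.leaf 0x0))) (.node 7849 (.leaf 0x0) (.node 7850 (.leaf 0x0) (.leaf 0x0))))) (.node 7856 (.node 7853 (.node 7852 (.leaf 0x0) (.leaf 0x0)) (.node 7854 (.leaf 0x0) (.node 7855 (.leaf 0x0) (.leaf 0x0)))) (.node 7859 (.node 7857 (.leaf 0x0) (.node 7858 (.leaf 0x0) (.leaf 0x0))) (.node 7860 (.leaf 0x0) (.node 7861 (.leaf 0x0) (.leaf 0x0))))))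

def cCHS_706 : Store := (.node 7873 (.node 7867 (.node 7864 (.node 7863 (.leaf 0x0) (.leaf 0x0)) (.node 7865 (.leaf 0x0) (.node 7866 (.leaf 0x0) (.leaf 0x0)))) (.node 7870 (.node 7868 (.leaf 0x0) (.node 7869 (.leaf 0x0) (.leaf 0x0))) (.node 7871 (.leaf 0x0) (.node 7872 (.leaf 0x0) (.leaf 0x0))))) (.node 7878 (.node 7875 (.node 7874 (.leaf 0x0) (.leaf 0x0)) (.node 7876 (.leaf 0x0) (.node 7877 (.leaf 0x0) (.leaf 0x0)))) (.node 7881 (.node 7879 (.leaf 0x0) (.node 7880 (.leaf 0x0) (.leaf 0x0))) (.node 7882 (.leaf 0x0) (.node 7883 (.leaf 0x0) (.leaf 0x0))))))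

def cCHS_707 : Store := (.node 7862 cCHS_705 cCHS_706)

def cCHS_708 : Store := (.node 7840 cCHS_704 cCHS_707)

def cCHS_709 : Store := (.node 7895 (.node 7889 (.node 7886 (.node 7885 (.leaf 0x0) (.leaf 0x0)) (.node 7887 (.leaf 0x0) (.node 7888 (.leaf 0x0) (.leaf 0x0)))) (.node 7892 (.node 7890 (.leaf 0x0) (.node 7891 (.leaf 0x0) (.leaf 0x0))) (.node 7893 (.leaf 0x0) (.node 7894 (.leaf 0x0) (.leaf 0x0))))) (.node 7900 (.node 7897 (.node 7896 (.leaf 0x0) (.leaf 0x0)) (.node 7898 (.leaf 0x0) (.node 7899 (.leaf 0x0) (.leaf 0x0)))) (.node 7903 (.node 7901 (.leaf 0x0) (.node 7902 (.leaf 0x0) (.leaf 0x0))) (.node 7904 (.leaf 0x0) (.node 7905 (.leaf 0x0) (.leaf 0x0))))))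

def cCHS_710 : Store := (.node 7917 (.node 7911 (.node 7908 (.node 7907 (.leaf 0x0) (.leaf 0x0)) (.node 7909 (.leaf 0x0) (.node 7910 (.leaf 0x0) (.leaf 0x0)))) (.node 7914 (.node 7912 (.leaf 0x0) (.node 7913 (.leaf 0x0) (.leaf 0x0))) (.node 7915 (.leaf 0x0) (.node 7916 (.leaf 0x0) (.leaf 0x0))))) (.node 7922 (.node 7919 (.node 7918 (.leaf 0x0) (.leaf 0x0)) (.node 7920 (.leaf 0x0) (.node 7921 (.leaf 0x0) (.leaf 0x0)))) (.node 7925 (.node 7923 (.leaf 0x0) (.node 7924 (.leaf 0x0) (.leaf 0x0))) (.node 7926 (.leaf 0x0) (.node 7927 (.leaf 0x0) (.leaf 0x0))))))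

def cCHS_711 : Store := (.node 7906 cCHS_709 cCHS_710)

def cCHS_712 : Store := (.node 7939 (.node 7933 (.node 7930 (.node 7929 (.leaf 0x0) (.leaf 0x0)) (.node 7931 (.leaf 0x0) (.node 7932 (.leaf 0x0) (.leaf 0x0)))) (.node 7936 (.node 7934 (.leaf 0x0) (.node 7935 (.leaf 0x0) (.leaf 0x0))) (.node 7937 (.leaf 0x0) (.node 7938 (.leaf 0x0) (.leaf 0x0))))) (.node 7944 (.node 7941 (.node 7940 (.leaf 0x0) (.leaf 0x0)) (.node 7942 (.leaf 0x0) (.node 7943 (.leaf 0x0) (.leaf 0x0)))) (.node 7947 (.node 7945 (.leaf 0x0) (.node 7946 (.leaf 0x0) (.leaf 0x0))) (.node 7948 (.leaf 0x0) (.node 7949 (.leaf 0x0) (.leaf 0x0))))))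

def cCHS_713 : Store := (.node 7961 (.node 7955 (.node 7952 (.node 7951 (.leaf 0x0) (.leaf 0x0)) (.node 7953 (.leaf 0x0) (.node 7954 (.leaf 0x0) (.leaf 0x0)))) (.node 7958 (.node 7956 (.leaf 0x0) (.node 7957 (.leaf 0x0) (.leaf 0x0))) (.node 7959 (.leaf 0x0) (.node 7960 (.leaf 0x0) (.leaf 0x0))))) (.node 7967 (.node 7964 (.node 7962 (.leaf 0x0) (.node 7963 (.leaf 0x0) (.leaf 0x0))) (.node 7965 (.leaf 0x0) (.node 7966 (.leaf 0x0) (.leaf 0x0)))) (.node 7970 (.node 7968 (.leaf 0x0) (.node 7969 (.leaf 0x0) (.leaf 0x0))) (.node 7971 (.leaf 0x0) (.node 7972 (.leaf 0x0) (.leaf 0x0))))))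

def cCHS_714 : Store := (.node 7950 cCHS_712 cCHS_713)

def cCHS_715 : Store := (.node 7928 cCHS_711 cCHS_714)

def cCHS_716 : Store := (.node 7884 cCHS_708 cCHS_715)

def cCHS_717 : Store := (.node 7984 (.node 7978 (.node 7975 (.node 7974 (.leaf 0x0) (.leaf 0x0)) (.node 7976 (.leaf 0x0) (.node 7977 (.leaf 0x0) (.leaf 0x0)))) (.node 7981 (.node 7979 (.leaf 0x0) (.node 7980 (.leaf 0x0) (.leaf 0x0))) (.node 7982 (.leaf 0x0) (.node 7983 (.leaf 0x0) (.leaf 0x0))))) (.node 7989 (.node 7986 (.node 7985 (.leaf 0x0) (.leaf 0x0)) (.node 7987 (.leaf 0x0) (.node 7988 (.leaf 0x0) (.leaf 0x0)))) (.node 7992 (.node 7990 (.leaf 0x0) (.node 7991 (.leaf 0x0) (.leaf 0x0))) (.node 7993 (.leaf 0x0) (.node 7994 (.leaf 0x0) (.leaf 0x0))))))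

def cCHS_718 : Store := (.node 8006 (.node 8000 (.node 7997 (.node 7996 (.leaf 0x0) (.leaf 0x0)) (.node 7998 (.leaf 0x0) (.node 7999 (.leaf 0x0) (.leaf 0x0)))) (.node 8003 (.node 8001 (.leaf 0x0) (.node 8002 (.leaf 0x0) (.leaf 0x0))) (.node 8004 (.leaf 0x0) (.node 8005 (.leaf 0x0) (.leaf 0x0))))) (.node 8011 (.node 8008 (.node 8007 (.leaf 0x0) (.leaf 0x0)) (.node 8009 (.leaf 0x0) (.node 8010 (.leaf 0x0) (.leaf 0x0)))) (.node 8014 (.node 8012 (.leaf 0x0) (.node 8013 (.leaf 0x0) (.leaf 0x0))) (.node 8015 (.leaf 0x0) (.node 8016 (.leaf 0x0) (.leaf 0x0))))))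

def cCHS_719 : Store := (.node 7995 cCHS_717 cCHS_718)

def cCHS_720 : Store := (.node 8028 (.node 8022 (.node 8019 (.node 8018 (.leaf 0x0) (.leaf 0x0)) (.node 8020 (.leaf 0x0) (.node 8021 (.leaf 0x0) (.leaf 0x0)))) (.node 8025 (.node 8023 (.leaf 0x0) (.node 8024 (.leaf 0x0) (.leaf 0x0))) (.node 8026 (.leaf 0x0) (.node 8027 (.leaf 0x0) (.leaf 0x0))))) (.node 8033 (.node 8030 (.node 8029 (.leaf 0x0) (.leaf 0x0)) (.node 8031 (.leaf 0x0) (.node 8032 (.leaf 0x0) (.leaf 0x0)))) (.node 8036 (.node 8034 (.leaf 0x0) (.node 8035 (.leaf 0x0) (.leaf 0x0))) (.node 8037 (.leaf 0x0) (.node 8038 (.leaf 0x0) (.leaf 0x0))))))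

def cCHS_721 : Store := (.node 8050 (.node 8044 (.node 8041 (.node 8040 (.leaf 0x0) (.leaf 0x0)) (.node 8042 (.leaf 0x0) (.node 8043 (.leaf 0x0) (.leaf 0x0)))) (.node 8047 (.node 8045 (.leaf 0x0) (.node 8046 (.leaf 0x0) (.leaf 0x0))) (.node 8048 (.leaf 0x0) (.node 8049 (.leaf 0x0) (.leaf 0x0))))) (.node 8055 (.node 8052 (.node 8051 (.leaf 0x0) (.leaf 0x0)) (.node 8053 (.leaf 0x0) (.node 8054 (.leaf 0x0) (.leaf 0x0)))) (.node 8058 (.node 8056 (.leaf 0x0) (.node 8057 (.leaf 0x0) (.leaf 0x0))) (.node 8059 (.leaf 0x0) (.node 8060 (.leaf 0x0) (.leaf 0x0))))))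

def cCHS_722 : Store := (.node 8039 cCHS_720 cCHS_721)

def cCHS_723 : Store := (.node 8017 cCHS_719 cCHS_722)

def cCHS_724 : Store := (.node 8072 (.node 8066 (.node 8063 (.node 8062 (.leaf 0x0) (.leaf 0x0)) (.node 8064 (.leaf 0x0) (.node 8065 (.leaf 0x0) (.leaf 0x0)))) (.node 8069 (.node 8067 (.leaf 0x0) (.node 8068 (.leaf 0x0) (.leaf 0x0))) (.node 8070 (.leaf 0x0) (.node 8071 (.leaf 0x0) (.leaf 0x0))))) (.node 8077 (.node 8074 (.node 8073 (.leaf 0x0) (.leaf 0x0)) (.node 8075 (.leaf 0x0) (.node 8076 (.leaf 0x0) (.leaf 0x0)))) (.node 8080 (.node 8078 (.leaf 0x0) (.node 8079 (.leaf 0x0) (.leaf 0x0))) (.node 8081 (.leaf 0x0) (.node 8082 (.leaf 0x0) (.leaf 0x0))))))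

def cCHS_725 : Store := (.node 8094 (.node 8088 (.node 8085 (.node 8084 (.leaf 0x0) (.leaf 0x0)) (.node 8086 (.leaf 0x0) (.node 8087 (.leaf 0x0) (.leaf 0x0)))) (.node 8091 (.node 8089 (.leaf 0x0) (.node 8090 (.leaf 0x0) (.leaf 0x0))) (.node 8092 (.leaf 0x0) (.node 8093 (.leaf 0x0) (.leaf 0x0))))) (.node 8099 (.node 8096 (.node 8095 (.leaf 0x0) (.leaf 0x0)) (.node 8097 (.leaf 0x0) (.node 8098 (.leaf 0x0) (.leaf 0x0)))) (.node 8102 (.node 8100 (.leaf 0x0) (.node 8101 (.leaf 0x0) (.leaf 0x0))) (.node 8103 (.leaf 0x0) (.node 8104 (.leaf 0x0) (.leaf 0x0))))))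

def cCHS_726 : Store := (.node 8083 cCHS_724 cCHS_725)

def cCHS_727 : Store := (.node 8116 (.node 8110 (.node 8107 (.node 8106 (.leaf 0x0) (.leaf 0x0)) (.node 8108 (.leaf 0x0) (.node 8109 (.leaf 0x0) (.leaf 0x0)))) (.node 8113 (.node 8111 (.leaf 0x0) (.node 8112 (.leaf 0x0) (.leaf 0x0))) (.node 8114 (.leaf 0x0) (.node 8115 (.leaf 0x0) (.leaf 0x0))))) (.node 8121 (.node 8118 (.node 8117 (.leaf 0x0) (.leaf 0x0)) (.node 8119 (.leaf 0x0) (.node 8120 (.leaf 0x0) (.leaf 0x0)))) (.node 8124 (.node 8122 (.leaf 0x0) (.node 8123 (.leaf 0x0) (.leaf 0x0))) (.node 8125 (.leaf 0x0) (.node 8126 (.leaf 0x0) (.leaf 0x0))))))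

def cCHS_728 : Store := (.node 8138 (.node 8132 (.node 8129 (.node 8128 (.leaf 0x0) (.leaf 0x0)) (.node 8130 (.leaf 0x0) (.node 8131 (.leaf 0x0) (.leaf 0x0)))) (.node 8135 (.node 8133 (.leaf 0x0) (.node 8134 (.leaf 0x0) (.leaf 0x0))) (.node 8136 (.leaf 0x0) (.node 8137 (.leaf 0x0) (.leaf 0x0))))) (.node 8144 (.node 8141 (.node 8139 (.leaf 0x0) (.node 8140 (.leaf 0x0) (.leaf 0x0))) (.node 8142 (.leaf 0x0) (.node 8143 (.leaf 0x0) (.leaf 0x0)))) (.node 8147 (.node 8145 (.leaf 0x0) (.node 8146 (.leaf 0x0) (.leaf 0x0))) (.node 8148 (.leaf 0x0) (.node 8149 (.leaf 0x0) (.leaf 0x0))))))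

def cCHS_729 : Store := (.node 8127 cCHS_727 cCHS_728)

def cCHS_730 : Store := (.node 8105 cCHS_726 cCHS_729)

def cCHS_731 : Store := (.node 8061 cCHS_723 cCHS_730)

def cCHS_732 : Store := (.node 7973 cCHS_716 cCHS_731)

def cCHS_733 : Store := (.node 8161 (.node 8155 (.node 8152 (.node 8151 (.leaf 0x0) (.leaf 0x0)) (.node 8153 (.leaf 0x0) (.node 8154 (.leaf 0x0) (.leaf 0x0)))) (.node 8158 (.node 8156 (.leaf 0x0) (.node 8157 (.leaf 0x0) (.leaf 0x0))) (.node 8159 (.leaf 0x0) (.node 8160 (.leaf 0x0) (.leaf 0x0))))) (.node 8166 (.node 8163 (.node 8162 (.leaf 0x0) (.leaf 0x0)) (.node 8164 (.leaf 0x0) (.node 8165 (.leaf 0x0) (.leaf 0x0)))) (.node 8169 (.node 8167 (.leaf 0x0) (.node 8168 (.leaf 0x0) (.leaf 0x0))) (.node 8170 (.leaf 0x0) (.node 8171 (.leaf 0x0) (.leaf 0x0))))))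

def cCHS_734 : Store := (.node 8183 (.node 8177 (.node 8174 (.node 8173 (.leaf 0x0) (.leaf 0x0)) (.node 8175 (.leaf 0x0) (.node 8176 (.leaf 0x0) (.leaf 0x0)))) (.node 8180 (.node 8178 (.leaf 0x0) (.node 8179 (.leaf 0x0) (.leaf 0x0))) (.node 8181 (.leaf 0x0) (.node 8182 (.leaf 0x0) (.leaf 0x0))))) (.node 8188 (.node 8185 (.node 8184 (.leaf 0x0) (.leaf 0x0)) (.node 8186 (.leaf 0x0) (.node 8187 (.leaf 0x0) (.leaf 0x0)))) (.node 8191 (.node 8189 (.leaf 0x0) (.node 8190 (.leaf 0x0) (.leaf 0x0))) (.node 8192 (.leaf 0x0) (.node 8193 (.leaf 0x0) (.leaf 0x0))))))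

def cCHS_735 : Store := (.node 8172 cCHS_733 cCHS_734)

def cCHS_736 : Store := (.node 8205 (.node 8199 (.node 8196 (.node 8195 (.leaf 0x0) (.leaf 0x0)) (.node 8197 (.leaf 0x0) (.node 8198 (.leaf 0x0) (.leaf 0x0)))) (.node 8202 (.node 8200 (.leaf 0x0) (.node 8201 (.leaf 0x0) (.leaf 0x0))) (.node 8203 (.leaf 0x0) (.node 8204 (.leaf 0x0) (.leaf 0x0))))) (.node 8210 (.node 8207 (.node 8206 (.leaf 0x0) (.leaf 0x0)) (.node 8208 (.leaf 0x0) (.node 8209 (.leaf 0x0) (.leaf 0x0)))) (.node 8213 (.node 8211 (.leaf 0x0) (.node 8212 (.leaf 0x0) (.leaf 0x0))) (.node 8214 (.leaf 0x0) (.node 8215 (.leaf 0x0) (.leaf 0x0))))))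

def cCHS_737 : Store := (.node 8227 (.node 8221 (.node 8218 (.node 8217 (.leaf 0x0) (.leaf 0x0)) (.node 8219 (.leaf 0x0) (.node 8220 (.leaf 0x0) (.leaf 0x0)))) (.node 8224 (.node 8222 (.leaf 0x0) (.node 8223 (.leaf 0x0) (.leaf 0x0))) (.node 8225 (.leaf 0x0) (.node 8226 (.leaf 0x0) (.leaf 0x0))))) (.node 8232 (.node 8229 (.node 8228 (.leaf 0x0) (.leaf 0x0)) (.node 8230 (.leaf 0x0) (.node 8231 (.leaf 0x0) (.leaf 0x0)))) (.node 8235 (.node 8233 (.leaf 0x0) (.node 8234 (.leaf 0x0) (.leaf 0x0))) (.node 8236 (.leaf 0x0) (.node 8237 (.leaf 0x0) (.leaf 0x0))))))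

def cCHS_738 : Store := (.node 8216 cCHS_736 cCHS_737)

def cCHS_739 : Store := (.node 8194 cCHS_735 cCHS_738)

def cCHS_740 : Store := (.node 8249 (.node 8243 (.node 8240 (.node 8239 (.leaf 0x0) (.leaf 0x0)) (.node 8241 (.leaf 0x0) (.node 8242 (.leaf 0x0) (.leaf 0x0)))) (.node 8246 (.node 8244 (.leaf 0x0) (.node 8245 (.leaf 0x0) (.leaf 0x0))) (.node 8247 (.leaf 0x0) (.node 8248 (.leaf 0x0) (.leaf 0x0))))) (.node 8254 (.node 8251 (.node 8250 (.leaf 0x0) (.leaf 0x0)) (.node 8252 (.leaf 0x0) (.node 8253 (.leaf 0x0) (.leaf 0x0)))) (.node 8257 (.node 8255 (.leaf 0x0) (.node 8256 (.leaf 0x0) (.leaf 0x0))) (.node 8258 (.leaf 0x0) (.node 8259 (.leaf 0x0) (.leaf 0x0))))))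

def cCHS_741 : Store := (.node 8271 (.node 8265 (.node 8262 (.node 8261 (.leaf 0x0) (.leaf 0x0)) (.node 8263 (.leaf 0x0) (.node 8264 (.leaf 0x0) (.leaf 0x0)))) (.node 8268 (.node 8266 (.leaf 0x0) (.node 8267 (.leaf 0x0) (.leaf 0x0))) (.node 8269 (.leaf 0x0) (.node 8270 (.leaf 0x0) (.leaf 0x0))))) (.node 8276 (.node 8273 (.node 8272 (.leaf 0x0) (.leaf 0x0)) (.node 8274 (.leaf 0x0) (.node 8275 (.leaf 0x0) (.leaf 0x0)))) (.node 8279 (.node 8277 (.leaf 0x0) (.node 8278 (.leaf 0x0) (.leaf 0x0))) (.node 8280 (.leaf 0x0) (.node 8281 (.leaf 0x0) (.leaf 0x0))))))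

def cCHS_742 : Store := (.node 8260 cCHS_740 cCHS_741)

def cCHS_743 : Store := (.node 8293 (.node 8287 (.node 8284 (.node 8283 (.leaf 0x0) (.leaf 0x0)) (.node 8285 (.leaf 0x0) (.node 8286 (.leaf 0x0) (.leaf 0x0)))) (.node 8290 (.node 8288 (.leaf 0x0) (.node 8289 (.leaf 0x0) (.leaf 0x0))) (.node 8291 (.leaf 0x0) (.node 8292 (.leaf 0x0) (.leaf 0x0))))) (.node 8298 (.node 8295 (.node 8294 (.leaf 0x0) (.leaf 0x0)) (.node 8296 (.leaf 0x0) (.node 8297 (.leaf 0x0) (.leaf 0x0)))) (.node 8301 (.node 8299 (.leaf 0x0) (.node 8300 (.leaf 0x0) (.leaf 0x0))) (.node 8302 (.leaf 0x0) (.node 8303 (.leaf 0x0) (.leaf 0x0))))))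

def cCHS_744 : Store := (.node 8315 (.node 8309 (.node 8306 (.node 8305 (.leaf 0x0) (.leaf 0x0)) (.node 8307 (.leaf 0x0) (.node 8308 (.leaf 0x0) (.leaf 0x0)))) (.node 8312 (.node 8310 (.leaf 0x0) (.node 8311 (.leaf 0x0) (.leaf 0x0))) (.node 8313 (.leaf 0x0) (.node 8314 (.leaf 0x0) (.leaf 0x0))))) (.node 8321 (.node 8318 (.node 8316 (.leaf 0x0) (.node 8317 (.leaf 0x0) (.leaf 0x0))) (.node 8319 (.leaf 0x0) (.node 8320 (.leaf 0x0) (.leaf 0x0)))) (.node 8324 (.node 8322 (.leaf 0x0) (.node 8323 (.leaf 0x0) (.leaf 0x0))) (.node 8325 (.leaf 0x0) (.node 8326 (.leaf 0x0) (.leaf 0x0))))))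

def cCHS_745 : Store := (.node 8304 cCHS_743 cCHS_744)

def cCHS_746 : Store := (.node 8282 cCHS_742 cCHS_745)

def cCHS_747 : Store := (.node 8238 cCHS_739 cCHS_746)

def cCHS_748 : Store := (.node 8338 (.node 8332 (.node 8329 (.node 8328 (.leaf 0x0) (.leaf 0x0)) (.node 8330 (.leaf 0x0) (.node 8331 (.leaf 0x0) (.leaf 0x0)))) (.node 8335 (.node 8333 (.leaf 0x0) (.node 8334 (.leaf 0x0) (.leaf 0x0))) (.node 8336 (.leaf 0x0) (.node 8337 (.leaf 0x0) (.leaf 0x0))))) (.node 8343 (.node 8340 (.node 8339 (.leaf 0x0) (.leaf 0x0)) (.node 8341 (.leaf 0x0) (.node 8342 (.leaf 0x0) (.leaf 0x0)))) (.node 8346 (.node 8344 (.leaf 0x0) (.node 8345 (.leaf 0x0) (.leaf 0x0))) (.node 8347 (.leaf 0x0) (.node 8348 (.leaf 0x0) (.leaf 0x0))))))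

def cCHS_749 : Store := (.node 8360 (.node 8354 (.node 8351 (.node 8350 (.leaf 0x0) (.leaf 0x0)) (.node 8352 (.leaf 0x0) (.node 8353 (.leaf 0x0) (.leaf 0x0)))) (.node 8357 (.node 8355 (.leaf 0x0) (.node 8356 (.leaf 0x0) (.leaf 0x0))) (.node 8358 (.leaf 0x0) (.node 8359 (.leaf 0x0) (.leaf 0x0))))) (.node 8365 (.node 8362 (.node 8361 (.leaf 0x0) (.leaf 0x0)) (.node 8363 (.leaf 0x0) (.node 8364 (.leaf 0x0) (.leaf 0x0)))) (.node 8368 (.node 8366 (.leaf 0x0) (.node 8367 (.leaf 0x0) (.leaf 0x0))) (.node 8369 (.leaf 0x0) (.node 8370 (.leaf 0x0) (.leaf 0x0))))))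

def cCHS_750 : Store := (.node 8349 cCHS_748 cCHS_749)

def cCHS_751 : Store := (.node 8382 (.node 8376 (.node 8373 (.node 8372 (.leaf 0x0) (.leaf 0x0)) (.node 8374 (.leaf 0x0) (.node 8375 (.leaf 0x0) (.leaf 0x0)))) (.node 8379 (.node 8377 (.leaf 0x0) (.node 8378 (.leaf 0x0) (.leaf 0x0))) (.node 8380 (.leaf 0x0) (.node 8381 (.leaf 0x0) (.leaf 0x0))))) (.node 8387 (.node 8384 (.node 8383 (.leaf 0x0) (.leaf 0x0)) (.node 8385 (.leaf 0x0) (.node 8386 (.leaf 0x0) (.leaf 0x0)))) (.node 8390 (.node 8388 (.leaf 0x0) (.node 8389 (.leaf 0x0) (.leaf 0x0))) (.node 8391 (.leaf 0x0) (.node 8392 (.leaf 0x0) (.leaf 0x0))))))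

def cCHS_752 : Store := (.node 8404 (.node 8398 (.node 8395 (.node 8394 (.leaf 0x0) (.leaf 0x0)) (.node 8396 (.leaf 0x0) (.node 8397 (.leaf 0x0) (.leaf 0x0)))) (.node 8401 (.node 8399 (.leaf 0x0) (.node 8400 (.leaf 0x0) (.leaf 0x0))) (.node 8402 (.leaf 0x0) (.node 8403 (.leaf 0x0) (.leaf 0x0))))) (.node 8410 (.node 8407 (.node 8405 (.leaf 0x0) (.node 8406 (.leaf 0x0) (.leaf 0x0))) (.node 8408 (.leaf 0x0) (.node 8409 (.leaf 0x0) (.leaf 0x0)))) (.node 8413 (.node 8411 (.leaf 0x0) (.node 8412 (.leaf 0x0) (.leaf 0x0))) (.node 8414 (.leaf 0x0) (.node 8415 (.leaf 0x0) (.leaf 0x0))))))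

def cCHS_753 : Store := (.node 8393 cCHS_751 cCHS_752)

def cCHS_754 : Store := (.node 8371 cCHS_750 cCHS_753)

def cCHS_755 : Store := (.node 8427 (.node 8421 (.node 8418 (.node 8417 (.leaf 0x0) (.leaf 0x0)) (.node 8419 (.leaf 0x0) (.node 8420 (.leaf 0x0) (.leaf 0x0)))) (.node 8424 (.node 8422 (.leaf 0x0) (.node 8423 (.leaf 0x0) (.leaf 0x0))) (.node 8425 (.leaf 0x0) (.node 8426 (.leaf 0x0) (.leaf 0x0))))) (.node 8432 (.node 8429 (.node 8428 (.leaf 0x0) (.leaf 0x0)) (.node 8430 (.leaf 0x0) (.node 8431 (.leaf 0x0) (.leaf 0x0)))) (.node 8435 (.node 8433 (.leaf 0x0) (.node 8434 (.leaf 0x0) (.leaf 0x0))) (.node 8436 (.leaf 0x0) (.node 8437 (.leaf 0x0) (.leaf 0x0))))))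

def cCHS_756 : Store := (.node 8449 (.node 8443 (.node 8440 (.node 8439 (.leaf 0x0) (.leaf 0x0)) (.node 8441 (.leaf 0x0) (.node 8442 (.leaf 0x0) (.leaf 0x0)))) (.node 8446 (.node 8444 (.leaf 0x0) (.node 8445 (.leaf 0x0) (.leaf 0x0))) (.node 8447 (.leaf 0x0) (.node 8448 (.leaf 0x0) (.leaf 0x0))))) (.node 8454 (.node 8451 (.node 8450 (.leaf 0x0) (.leaf 0x0)) (.node 8452 (.leaf 0x0) (.node 8453 (.leaf 0x0) (.leaf 0x0)))) (.node 8457 (.node 8455 (.leaf 0x0) (.node 8456 (.leaf 0x0) (.leaf 0x0))) (.node 8458 (.leaf 0x0) (.node 8459 (.leaf 0x0) (.leaf 0x0))))))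

def cCHS_757 : Store := (.node 8438 cCHS_755 cCHS_756)

def cCHS_758 : Store := (.node 8471 (.node 8465 (.node 8462 (.node 8461 (.leaf 0x0) (.leaf 0x0)) (.node 8463 (.leaf 0x0) (.node 8464 (.leaf 0x0) (.leaf 0x0)))) (.node 8468 (.node 8466 (.leaf 0x0) (.node 8467 (.leaf 0x0) (.leaf 0x0))) (.node 8469 (.leaf 0x0) (.node 8470 (.leaf 0x0) (.leaf 0x0))))) (.node 8476 (.node 8473 (.node 8472 (.leaf 0x0) (.leaf 0x0)) (.node 8474 (.leaf 0x0) (.node 8475 (.leaf 0x0) (.leaf 0x0)))) (.node 8479 (.node 8477 (.leaf 0x0) (.node 8478 (.leaf 0x0) (.leaf 0x0))) (.node 8480 (.leaf 0x0) (.node 8481 (.leaf 0x0) (.leaf 0x0))))))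

def cCHS_759 : Store := (.node 8493 (.node 8487 (.node 8484 (.node 8483 (.leaf 0x0) (.leaf 0x0)) (.node 8485 (.leaf 0x0) (.node 8486 (.leaf 0x0) (.leaf 0x0)))) (.node 8490 (.node 8488 (.leaf 0x0) (.node 8489 (.leaf 0x0) (.leaf 0x0))) (.node 8491 (.leaf 0x0) (.node 8492 (.leaf 0x0) (.leaf 0x0))))) (.node 8499 (.node 8496 (.node 8494 (.leaf 0x0) (.node 8495 (.leaf 0x0) (.leaf 0x0))) (.node 8497 (.leaf 0x0) (.node 8498 (.leaf 0x0) (.leaf 0x0)))) (.node 8502 (.node 8500 (.leaf 0x0) (.node 8501 (.leaf 0x0) (.leaf 0x0))) (.node 8503 (.leaf 0x0) (.node 8504 (.leaf 0x0) (.leaf 0x0))))))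

def cCHS_760 : Store := (.node 8482 cCHS_758 cCHS_759)

def cCHS_761 : Store := (.node 8460 cCHS_757 cCHS_760)

def cCHS_762 : Store := (.node 8416 cCHS_754 cCHS_761)

def cCHS_763 : Store := (.node 8327 cCHS_747 cCHS_762)

def cCHS_764 : Store := (.node 8150 cCHS_732 cCHS_763)

def cCHS_765 : Store := (.node 7796 cCHS_701 cCHS_764)

def cCHS_766 : Store := (.node 7087 cCHS_638 cCHS_765)

def cCHS_767 : Store := (.node 8516 (.node 8510 (.node 8507 (.node 8506 (.leaf 0x0) (.leaf 0x0)) (.node 8508 (.leaf 0x0) (.node 8509 (.leaf 0x0) (.leaf 0x0)))) (.node 8513 (.node 8511 (.leaf 0x0) (.node 8512 (.leaf 0x0) (.leaf 0x0))) (.node 8514 (.leaf 0x0) (.node 8515 (.leaf 0x0) (.leaf 0x0))))) (.node 8521 (.node 8518 (.node 8517 (.leaf 0x0) (.leaf 0x0)) (.node 8519 (.leaf 0x0) (.node 8520 (.leaf 0x0) (.leaf 0x0)))) (.node 8524 (.node 8522 (.leaf 0x0) (.node 8523 (.leaf 0x0) (.leaf 0x0))) (.node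 8525 (.leaf 0x0) (.node 8526 (.leaf 0x0) (.leaf 0x0))))))

def cCHS_768 : Store := (.node 8538 (.node 8532 (.node 8529 (.node 8528 (.leaf 0x0) (.leaf 0x0)) (.node 8530 (.leaf 0x0) (.node 8531 (.leaf 0x0) (.leaf 0x0)))) (.node 8535 (.node 8533 (.leaf 0x0) (.node 8534 (.leaf 0x0) (.leaf 0x0))) (.node 8536 (.leaf 0x0) (.node 8537 (.leaf 0x0) (.leaf 0x0))))) (.node 8543 (.node 8540 (.node 8539 (.leaf 0x0) (.leaf 0x0)) (.node 8541 (.leaf 0x0) (.node 8542 (.leaf 0x0) (.leaf 0x0)))) (.node 8546 (.node 8544 (.leaf 0x0) (.node 8545 (.leaf 0x0) (.leaf 0x0))) (.node 8547 (.leaf 0x0) (.node 8548 (.leaf 0x0) (.leaf 0x0))))))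

def cCHS_769 : Store := (.node 8527 cCHS_767 cCHS_768)

def cCHS_770 : Store := (.node 8560 (.node 8554 (.node 8551 (.node 8550 (.leaf 0x0) (.leaf 0x0)) (.node 8552 (.leaf 0x0) (.node 8553 (.leaf 0x0) (.leaf 0x0)))) (.node 8557 (.node 8555 (.leaf 0x0) (.node 8556 (.leaf 0x0) (.leaf 0x0))) (.node 8558 (.leaf 0x0) (.node 8559 (.leaf 0x0) (.leaf 0x0))))) (.node 8565 (.node 8562 (.node 8561 (.leaf 0x0) (.leaf 0x0)) (.node 8563 (.leaf 0x0) (.node 8564 (.leaf 0x0) (.leaf 0x0)))) (.node 8568 (.node 8566 (.leaf 0x0) (.node 8567 (.leaf 0x0) (.leaf 0x0))) (.node 8569 (.leaf 0x0) (.node 8570 (.leaf 0x0) (.leaf 0x0))))))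

def cCHS_771 : Store := (.node 8582 (.node 8576 (.node 8573 (.node 8572 (.leaf 0x0) (.leaf 0x0)) (.node 8574 (.leaf 0x0) (.node 8575 (.leaf 0x0) (.leaf 0x0)))) (.node 8579 (.node 8577 (.leaf 0x0) (.node 8578 (.leaf 0x0) (.leaf 0x0))) (.node 8580 (.leaf 0x0) (.node 8581 (.leaf 0x0) (.leaf 0x0))))) (.node 8587 (.node 8584 (.node 8583 (.leaf 0x0) (.leaf 0x0)) (.node 8585 (.leaf 0x0) (.node 8586 (.leaf 0x0) (.leaf 0x0)))) (.node 8590 (.node 8588 (.leaf 0x0) (.node 8589 (.leaf 0x0) (.leaf 0x0))) (.node 8591 (.leaf 0x0) (.node 8592 (.leaf 0x0) (.leaf 0x0))))))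

def cCHS_772 : Store := (.node 8571 cCHS_770 cCHS_771)

def cCHS_773 : Store := (.node 8549 cCHS_769 cCHS_772)

def cCHS_774 : Store := (.node 8604 (.node 8598 (.node 8595 (.node 8594 (.leaf 0x0) (.leaf 0x0)) (.node 8596 (.leaf 0x0) (.node 8597 (.leaf 0x0) (.leaf 0x0)))) (.node 8601 (.node 8599 (.leaf 0x0) (.node 8600 (.leaf 0x0) (.leaf 0x0))) (.node 8602 (.leaf 0x0) (.node 8603 (.leaf 0x0) (.leaf 0x0))))) (.node 8609 (.node 8606 (.node 8605 (.leaf 0x0) (.leaf 0x0)) (.node 8607 (.leaf 0x0) (.node 8608 (.leaf 0x0) (.leaf 0x0)))) (.node 8612 (.node 8610 (.leaf 0x0) (.node 8611 (.leaf 0x0) (.leaf 0x0))) (.node 8613 (.leaf 0x0) (.node 8614 (.leaf 0x0) (.leaf 0x0))))))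

def cCHS_775 : Store := (.node 8626 (.node 8620 (.node 8617 (.node 8616 (.leaf 0x0) (.leaf 0x0)) (.node 8618 (.leaf 0x0) (.node 8619 (.leaf 0x0) (.leaf 0x0)))) (.node 8623 (.node 8621 (.leaf 0x0) (.node 8622 (.leaf 0x0) (.leaf 0x0))) (.node 8624 (.leaf 0x0) (.node 8625 (.leaf 0x0) (.leaf 0x0))))) (.node 8631 (.node 8628 (.node 8627 (.leaf 0x0) (.leaf 0x0)) (.node 8629 (.leaf 0x0) (.node 8630 (.leaf 0x0) (.leaf 0x0)))) (.node 8634 (.node 8632 (.leaf 0x0) (.node 8633 (.leaf 0x0) (.leaf 0x0))) (.node 8635 (.leaf 0x0) (.node 8636 (.leaf 0x0) (.leaf 0x0))))))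

def cCHS_776 : Store := (.node 8615 cCHS_774 cCHS_775)

def cCHS_777 : Store := (.node 8648 (.node 8642 (.node 8639 (.node 8638 (.leaf 0x0) (.leaf 0x0)) (.node 8640 (.leaf 0x0) (.node 8641 (.leaf 0x0) (.leaf 0x0)))) (.node 8645 (.node 8643 (.leaf 0x0) (.node 8644 (.leaf 0x0) (.leaf 0x0))) (.node 8646 (.leaf 0x0) (.node 8647 (.leaf 0x0) (.leaf 0x0))))) (.node 8653 (.node 8650 (.node 8649 (.leaf 0x0) (.leaf 0x0)) (.node 8651 (.leaf 0x0) (.node 8652 (.leaf 0x0) (.leaf 0x0)))) (.node 8656 (.node 8654 (.leaf 0x0) (.node 8655 (.leaf 0x0) (.leaf 0x0))) (.node 8657 (.leaf 0x0) (.node 8658 (.leaf 0x0) (.leaf 0x0))))))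

def cCHS_778 : Store := (.node 8670 (.node 8664 (.node 8661 (.node 8660 (.leaf 0x0) (.leaf 0x0)) (.node 8662 (.leaf 0x0) (.node 8663 (.leaf 0x0) (.leaf 0x0)))) (.node 8667 (.node 8665 (.leaf 0x0) (.node 8666 (.leaf 0x0) (.leaf 0x0))) (.node 8668 (.leaf 0x0) (.node 8669 (.leaf 0x0) (.leaf 0x0))))) (.node 8676 (.node 8673 (.node 8671 (.leaf 0x0) (.node 8672 (.leaf 0x0) (.leaf 0x0))) (.node 8674 (.leaf 0x0) (.node 8675 (.leaf 0x0) (.leaf 0x0)))) (.node 8679 (.node 8677 (.leaf 0x0) (.node 8678 (.leaf 0x0) (.leaf 0x0))) (.node 8680 (.leaf 0x0) (.node 8681 (.leaf 0x0) (.leaf 0x0))))))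

def cCHS_779 : Store := (.node 8659 cCHS_777 cCHS_778)

def cCHS_780 : Store := (.node 8637 cCHS_776 cCHS_779)

def cCHS_781 : Store := (.node 8593 cCHS_773 cCHS_780)

def cCHS_782 : Store := (.node 8693 (.node 8687 (.node 8684 (.node 8683 (.leaf 0x0) (.leaf 0x0)) (.node 8685 (.leaf 0x0) (.node 8686 (.leaf 0x0) (.leaf 0x0)))) (.node 8690 (.node 8688 (.leaf 0x0) (.node 8689 (.leaf 0x0) (.leaf 0x0))) (.node 8691 (.leaf 0x0) (.node 8692 (.leaf 0x0) (.leaf 0x0))))) (.node 8698 (.node 8695 (.node 8694 (.leaf 0x0) (.leaf 0x0)) (.node 8696 (.leaf 0x0) (.node 8697 (.leaf 0x0) (.leaf 0x0)))) (.node 8701 (.node 8699 (.leaf 0x0) (.node 8700 (.leaf 0x0) (.leaf 0x0))) (.node 8702 (.leaf 0x0) (.node 8703 (.leaf 0x0) (.leaf 0x0))))))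

def cCHS_783 : Store := (.node 8715 (.node 8709 (.node 8706 (.node 8705 (.leaf 0x0) (.leaf 0x0)) (.node 8707 (.leaf 0x0) (.node 8708 (.leaf 0x0) (.leaf 0x0)))) (.node 8712 (.node 8710 (.leaf 0x0) (.node 8711 (.leaf 0x0) (.leaf 0x0))) (.node 8713 (.leaf 0x0) (.node 8714 (.leaf 0x0) (.leaf 0x0))))) (.node 8720 (.node 8717 (.node 8716 (.leaf 0x0) (.leaf 0x0)) (.node 8718 (.leaf 0x0) (.node 8719 (.leaf 0x0) (.leaf 0x0)))) (.node 8723 (.node 8721 (.leaf 0x0) (.node 8722 (.leaf 0x0) (.leaf 0x0))) (.node 8724 (.leaf 0x0) (.node 8725 (.leaf 0x0) (.leaf 0x0))))))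

def cCHS_784 : Store := (.node 8704 cCHS_782 cCHS_783)

def cCHS_785 : Store := (.node 8737 (.node 8731 (.node 8728 (.node 8727 (.leaf 0x0) (.leaf 0x0)) (.node 8729 (.leaf 0x0) (.node 8730 (.leaf 0x0) (.leaf 0x0)))) (.node 8734 (.node 8732 (.leaf 0x0) (.node 8733 (.leaf 0x0) (.leaf 0x0))) (.node 8735 (.leaf 0x0) (.node 8736 (.leaf 0x0) (.leaf 0x0))))) (.node 8742 (.node 8739 (.node 8738 (.leaf 0x0) (.leaf 0x0)) (.node 8740 (.leaf 0x0) (.node 8741 (.leaf 0x0) (.leaf 0x0)))) (.node 8745 (.node 8743 (.leaf 0x0) (.node 8744 (.leaf 0x0) (.leaf 0x0))) (.node 8746 (.leaf 0x0) (.node 8747 (.leaf 0x0) (.leaf 0x0))))))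

def cCHS_786 : Store := (.node 8759 (.node 8753 (.node 8750 (.node 8749 (.leaf 0x0) (.leaf 0x0)) (.node 8751 (.leaf 0x0) (.node 8752 (.leaf 0x0) (.leaf 0x0)))) (.node 8756 (.node 8754 (.leaf 0x0) (.node 8755 (.leaf 0x0) (.leaf 0x0))) (.node 8757 (.leaf 0x0) (.node 8758 (.leaf 0x0) (.leaf 0x0))))) (.node 8764 (.node 8761 (.node 8760 (.leaf 0x0) (.leaf 0x0)) (.node 8762 (.leaf 0x0) (.node 8763 (.leaf 0x0) (.leaf 0x0)))) (.node 8767 (.node 8765 (.leaf 0x0) (.node 8766 (.leaf 0x0) (.leaf 0x0))) (.node 8768 (.leaf 0x0) (.node 8769 (.leaf 0x0) (.leaf 0x0))))))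

def cCHS_787 : Store := (.node 8748 cCHS_785 cCHS_786)

def cCHS_788 : Store := (.node 8726 cCHS_784 cCHS_787)

def cCHS_789 : Store := (.node 8781 (.node 8775 (.node 8772 (.node 8771 (.leaf 0x0) (.leaf 0x0)) (.node 8773 (.leaf 0x0) (.node 8774 (.leaf 0x0) (.leaf 0x0)))) (.node 8778 (.node 8776 (.leaf 0x0) (.node 8777 (.leaf 0x0) (.leaf 0x0))) (.node 8779 (.leaf 0x0) (.node 8780 (.leaf 0x0) (.leaf 0x0))))) (.node 8786 (.node 8783 (.node 8782 (.leaf 0x0) (.leaf 0x0)) (.node 8784 (.leaf 0x0) (.node 8785 (.leaf 0x0) (.leaf 0x0)))) (.node 8789 (.node 8787 (.leaf 0x0) (.node 8788 (.leaf 0x0) (.leaf 0x0))) (.node 8790 (.leaf 0x0) (.node 8791 (.leaf 0x0) (.leaf 0x0))))))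

def cCHS_790 : Store := (.node 8803 (.node 8797 (.node 8794 (.node 8793 (.leaf 0x0) (.leaf 0x0)) (.node 8795 (.leaf 0x0) (.node 8796 (.leaf 0x0) (.leaf 0x0)))) (.node 8800 (.node 8798 (.leaf 0x0) (.node 8799 (.leaf 0x0) (.leaf 0x0))) (.node 8801 (.leaf 0x0) (.node 8802 (.leaf 0x0) (.leaf 0x0))))) (.node 8808 (.node 8805 (.node 8804 (.leaf 0x0) (.leaf 0x0)) (.node 8806 (.leaf 0x0) (.node 8807 (.leaf 0x0) (.leaf 0x0)))) (.node 8811 (.node 8809 (.leaf 0x0) (.node 8810 (.leaf 0x0) (.leaf 0x0))) (.node 8812 (.leaf 0x0) (.node 8813 (.leaf 0x0) (.leaf 0x0))))))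

def cCHS_791 : Store := (.node 8792 cCHS_789 cCHS_790)

def cCHS_792 : Store := (.node 8825 (.node 8819 (.node 8816 (.node 8815 (.leaf 0x0) (.leaf 0x0)) (.node 8817 (.leaf 0x0) (.node 8818 (.leaf 0x0) (.leaf 0x0)))) (.node 8822 (.node 8820 (.leaf 0x0) (.node 8821 (.leaf 0x10001) (.leaf 0x1))) (.node 8823 (.leaf 0x0) (.node 8824 (.leaf 0x0) (.leaf 0x0))))) (.node 8830 (.node 8827 (.node 8826 (.leaf 0x0) (.leaf 0x0)) (.node 8828 (.leaf 0x0) (.node 8829 (.leaf 0x0) (.leaf 0x0)))) (.node 8833 (.node 8831 (.leaf 0x0) (.node 8832 (.leaf 0x0) (.leaf 0x0))) (.node 8834 (.leaf 0x0) (.node 8835 (.leaf 0x0) (.leaf 0x0))))))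

def cCHS_793 : Store := (.node 8847 (.node 8841 (.node 8838 (.node 8837 (.leaf 0x0) (.leaf 0x0)) (.node 8839 (.leaf 0x0) (.node 8840 (.leaf 0x0) (.leaf 0x0)))) (.node 8844 (.node 8842 (.leaf 0x0) (.node 8843 (.leaf 0x0) (.leaf 0x0))) (.node 8845 (.leaf 0x0) (.node 8846 (.leaf 0x0) (.leaf 0x0))))) (.node 8853 (.node 8850 (.node 8848 (.leaf 0x0) (.node 8849 (.leaf 0x0) (.leaf 0x0))) (.node 8851 (.leaf 0x0) (.node 8852 (.leaf 0x0) (.leaf 0x0)))) (.node 8856 (.node 8854 (.leaf 0x0) (.node 8855 (.leaf 0x0) (.leaf 0x0))) (.node 8857 (.leaf 0x0) (.node 8858 (.leaf 0x0) (.leaf 0x0))))))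

def cCHS_794 : Store := (.node 8836 cCHS_792 cCHS_793)

def cCHS_795 : Store := (.node 8814 cCHS_791 cCHS_794)

def cCHS_796 : Store := (.node 8770 cCHS_788 cCHS_795)

def cCHS_797 : Store := (.node 8682 cCHS_781 cCHS_796)

def cCHS_798 : Store := (.node 8870 (.node 8864 (.node 8861 (.node 8860 (.leaf 0x0) (.leaf 0x0)) (.node 8862 (.leaf 0x0) (.node 8863 (.leaf 0x0) (.leaf 0x0)))) (.node 8867 (.node 8865 (.leaf 0x0) (.node 8866 (.leaf 0x0) (.leaf 0x0))) (.node 8868 (.leaf 0x0) (.node 8869 (.leaf 0x0) (.leaf 0x0))))) (.node 8875 (.node 8872 (.node 8871 (.leaf 0x0) (.leaf 0x0)) (.node 8873 (.leaf 0x0) (.node 8874 (.leaf 0x0) (.leaf 0x0)))) (.node 8878 (.node 8876 (.leaf 0x0) (.node 8877 (.leaf 0x0) (.leaf 0x0))) (.node 8879 (.leaf 0x0) (.node 8880 (.leaf 0x0) (.leaf 0x0))))))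

def cCHS_799 : Store := (.node 8892 (.node 8886 (.node 8883 (.node 8882 (.leaf 0x0) (.leaf 0x0)) (.node 8884 (.leaf 0x0) (.node 8885 (.leaf 0x0) (.leaf 0x0)))) (.node 8889 (.node 8887 (.leaf 0x0) (.node 8888 (.leaf 0x0) (.leaf 0x0))) (.node 8890 (.leaf 0x0) (.node 8891 (.leaf 0x0) (.leaf 0x0))))) (.node 8897 (.node 8894 (.node 8893 (.leaf 0x0) (.leaf 0x0)) (.node 8895 (.leaf 0x0) (.node 8896 (.leaf 0x0) (.leaf 0x0)))) (.node 8900 (.node 8898 (.leaf 0x0) (.node 8899 (.leaf 0x0) (.leaf 0x0))) (.node 8901 (.leaf 0x0) (.node 8902 (.leaf 0x0) (.leaf 0x0))))))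

def cCHS_800 : Store := (.node 8881 cCHS_798 cCHS_799)

def cCHS_801 : Store := (.node 8914 (.node 8908 (.node 8905 (.node 8904 (.leaf 0x0) (.leaf 0x0)) (.node 8906 (.leaf 0x0) (.node 8907 (.leaf 0x0) (.leaf 0x0)))) (.node 8911 (.node 8909 (.leaf 0x0) (.node 8910 (.leaf 0x0) (.leaf 0x0))) (.node 8912 (.leaf 0x0) (.node 8913 (.leaf 0x0) (.leaf 0x0))))) (.node 8919 (.node 8916 (.node 8915 (.leaf 0x0) (.leaf 0x0)) (.node 8917 (.leaf 0x0) (.node 8918 (.leaf 0x0) (.leaf 0x0)))) (.node 8922 (.node 8920 (.leaf 0x0) (.node 8921 (.leaf 0x0) (.leaf 0x0))) (.node 8923 (.leaf 0x0) (.node 8924 (.leaf 0x0) (.leaf 0x0))))))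

def cCHS_802 : Store := (.node 8936 (.node 8930 (.node 8927 (.node 8926 (.leaf 0x0) (.leaf 0x0)) (.node 8928 (.leaf 0x0) (.node 8929 (.leaf 0x0) (.leaf 0x0)))) (.node 8933 (.node 8931 (.leaf 0x0) (.node 8932 (.leaf 0x0) (.leaf 0x0))) (.node 8934 (.leaf 0x0) (.node 8935 (.leaf 0x0) (.leaf 0x0))))) (.node 8941 (.node 8938 (.node 8937 (.leaf 0x0) (.leaf 0x0)) (.node 8939 (.leaf 0x0) (.node 8940 (.leaf 0x0) (.leaf 0x0)))) (.node 8944 (.node 8942 (.leaf 0x0) (.node 8943 (.leaf 0x0) (.leaf 0x0))) (.node 8945 (.leaf 0x0) (.node 8946 (.leaf 0x0) (.leaf 0x0))))))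

def cCHS_803 : Store := (.node 8925 cCHS_801 cCHS_802)

def cCHS_804 : Store := (.node 8903 cCHS_800 cCHS_803)

def cCHS_805 : Store := (.node 8958 (.node 8952 (.node 8949 (.node 8948 (.leaf 0x0) (.leaf 0x0)) (.node 8950 (.leaf 0x0) (.node 8951 (.leaf 0x0) (.leaf 0x0)))) (.node 8955 (.node 8953 (.leaf 0x0) (.node 8954 (.leaf 0x0) (.leaf 0x0))) (.node 8956 (.leaf 0x0) (.node 8957 (.leaf 0x0) (.leaf 0x0))))) (.node 8963 (.node 8960 (.node 8959 (.leaf 0x0) (.leaf 0x0)) (.node 8961 (.leaf 0x0) (.node 8962 (.leaf 0x0) (.leaf 0x0)))) (.node 8966 (.node 8964 (.leaf 0x0) (.node 8965 (.leaf 0x0) (.leaf 0x0))) (.node 8967 (.leaf 0x0) (.node 8968 (.leaf 0x0) (.leaf 0x0))))))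

def cCHS_806 : Store := (.node 8980 (.node 8974 (.node 8971 (.node 8970 (.leaf 0x0) (.leaf 0x0)) (.node 8972 (.leaf 0x0) (.node 8973 (.leaf 0x0) (.leaf 0x0)))) (.node 8977 (.node 8975 (.leaf 0x0) (.node 8976 (.leaf 0x0) (.leaf 0x0))) (.node 8978 (.leaf 0x0) (.node 8979 (.leaf 0x0) (.leaf 0x0))))) (.node 8985 (.node 8982 (.node 8981 (.leaf 0x0) (.leaf 0x0)) (.node 8983 (.leaf 0x0) (.node 8984 (.leaf 0x0) (.leaf 0x0)))) (.node 8988 (.node 8986 (.leaf 0x0) (.node 8987 (.leaf 0x0) (.leaf 0x0))) (.node 8989 (.leaf 0x0) (.node 8990 (.leaf 0x0) (.leaf 0x0))))))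

def cCHS_807 : Store := (.node 8969 cCHS_805 cCHS_806)

def cCHS_808 : Store := (.node 9002 (.node 8996 (.node 8993 (.node 8992 (.leaf 0x0) (.leaf 0x0)) (.node 8994 (.leaf 0x0) (.node 8995 (.leaf 0x0) (.leaf 0x0)))) (.node 8999 (.node 8997 (.leaf 0x0) (.node 8998 (.leaf 0x0) (.leaf 0x0))) (.node 9000 (.leaf 0x0) (.node 9001 (.leaf 0x1) (.leaf 0x0))))) (.node 9007 (.node 9004 (.node 9003 (.leaf 0x0) (.leaf 0x0)) (.node 9005 (.leaf 0x0) (.node 9006 (.leaf 0x0) (.leaf 0x1)))) (.node 9010 (.node 9008 (.leaf 0x0) (.node 9009 (.leaf 0x0) (.leaf 0x0))) (.node 9011 (.leaf 0x0) (.node 9012 (.leaf 0x0) (.leaf 0x0))))))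

def cCHS_809 : Store := (.node 9024 (.node 9018 (.node 9015 (.node 9014 (.leaf 0x0) (.leaf 0x0)) (.node 9016 (.leaf 0x0) (.node 9017 (.leaf 0x0) (.leaf 0x0)))) (.node 9021 (.node 9019 (.leaf 0x0) (.node 9020 (.leaf 0x0) (.leaf 0x0))) (.node 9022 (.leaf 0x0) (.node 9023 (.leaf 0x0) (.leaf 0x0))))) (.node 9030 (.node 9027 (.node 9025 (.leaf 0x0) (.node 9026 (.leaf 0x0) (.leaf 0x0))) (.node 9028 (.leaf 0x0) (.node 9029 (.leaf 0x0) (.leaf 0x0)))) (.node 9033 (.node 9031 (.leaf 0x0) (.node 9032 (.leaf 0x0) (.leaf 0x0))) (.node 9034 (.leaf 0x0) (.node 9035 (.leaf 0x0) (.leaf 0x0))))))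

def cCHS_810 : Store := (.node 9013 cCHS_808 cCHS_809)

def cCHS_811 : Store := (.node 8991 cCHS_807 cCHS_810)

def cCHS_812 : Store := (.node 8947 cCHS_804 cCHS_811)

def cCHS_813 : Store := (.node 9047 (.node 9041 (.node 9038 (.node 9037 (.leaf 0x0) (.leaf 0x0)) (.node 9039 (.leaf 0x0) (.node 9040 (.leaf 0x0) (.leaf 0x0)))) (.node 9044 (.node 9042 (.leaf 0x0) (.node 9043 (.leaf 0x0) (.leaf 0x0))) (.node 9045 (.leaf 0x0) (.node 9046 (.leaf 0x0) (.leaf 0x0))))) (.node 9052 (.node 9049 (.node 9048 (.leaf 0x0) (.leaf 0x0)) (.node 9050 (.leaf 0x0) (.node 9051 (.leaf 0x0) (.leaf 0x0)))) (.node 9055 (.node 9053 (.leaf 0x0) (.node 9054 (.leaf 0x0) (.leaf 0x0))) (.node 9056 (.leaf 0x0) (.node 9057 (.leaf 0x0) (.leaf 0x0))))))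

def cCHS_814 : Store := (.node 9069 (.node 9063 (.node 9060 (.node 9059 (.leaf 0x0) (.leaf 0x0)) (.node 9061 (.leaf 0x0) (.node 9062 (.leaf 0x0) (.leaf 0x0)))) (.node 9066 (.node 9064 (.leaf 0x0) (.node 9065 (.leaf 0x0) (.leaf 0x0))) (.node 9067 (.leaf 0x0) (.node 9068 (.leaf 0x0) (.leaf 0x0))))) (.node 9074 (.node 9071 (.node 9070 (.leaf 0x0) (.leaf 0x0)) (.node 9072 (.leaf 0x0) (.node 9073 (.leaf 0x0) (.leaf 0x0)))) (.node 9077 (.node 9075 (.leaf 0x0) (.node 9076 (.leaf 0x0) (.leaf 0x0))) (.node 9078 (.leaf 0x0) (.node 9079 (.leaf 0x0) (.leaf 0x0))))))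

def cCHS_815 : Store := (.node 9058 cCHS_813 cCHS_814)

def cCHS_816 : Store := (.node 9091 (.node 9085 (.node 9082 (.node 9081 (.leaf 0x0) (.leaf 0x0)) (.node 9083 (.leaf 0x0) (.node 9084 (.leaf 0x0) (.leaf 0x0)))) (.node 9088 (.node 9086 (.leaf 0x0) (.node 9087 (.leaf 0x0) (.leaf 0x0))) (.node 9089 (.leaf 0x0) (.node 9090 (.leaf 0x0) (.leaf 0x0))))) (.node 9096 (.node 9093 (.node 9092 (.leaf 0x0) (.leaf 0x0)) (.node 9094 (.leaf 0x0) (.node 9095 (.leaf 0x0) (.leaf 0x0)))) (.node 9099 (.node 9097 (.leaf 0x0) (.node 9098 (.leaf 0x0) (.leaf 0x0))) (.node 9100 (.leaf 0x0) (.node 9101 (.leaf 0x0) (.leaf 0x0))))))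

def cCHS_817 : Store := (.node 9113 (.node 9107 (.node 9104 (.node 9103 (.leaf 0x0) (.leaf 0x0)) (.node 9105 (.leaf 0x0) (.node 9106 (.leaf 0x0) (.leaf 0x0)))) (.node 9110 (.node 9108 (.leaf 0x0) (.node 9109 (.leaf 0x0) (.leaf 0x0))) (.node 9111 (.leaf 0x0) (.node 9112 (.leaf 0x0) (.leaf 0x0))))) (.node 9118 (.node 9115 (.node 9114 (.leaf 0x0) (.leaf 0x0)) (.node 9116 (.leaf 0x0) (.node 9117 (.leaf 0x0) (.leaf 0x0)))) (.node 9121 (.node 9119 (.leaf 0x0) (.node 9120 (.leaf 0x0) (.leaf 0x0))) (.node 9122 (.leaf 0x0) (.node 9123 (.leaf 0x0) (.leaf 0x0))))))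

def cCHS_818 : Store := (.node 9102 cCHS_816 cCHS_817)

def cCHS_819 : Store := (.node 9080 cCHS_815 cCHS_818)

def cCHS_820 : Store := (.node 9135 (.node 9129 (.node 9126 (.node 9125 (.leaf 0x0) (.leaf 0x0)) (.node 9127 (.leaf 0x0) (.node 9128 (.leaf 0x0) (.leaf 0x0)))) (.node 9132 (.node 9130 (.leaf 0x0) (.node 9131 (.leaf 0x0) (.leaf 0x0))) (.node 9133 (.leaf 0x0) (.node 9134 (.leaf 0x0) (.leaf 0x0))))) (.node 9140 (.node 9137 (.node 9136 (.leaf 0x0) (.leaf 0x0)) (.node 9138 (.leaf 0x0) (.node 9139 (.leaf 0x0) (.leaf 0x0)))) (.node 9143 (.node 9141 (.leaf 0x0) (.node 9142 (.leaf 0x0) (.leaf 0x0))) (.node 9144 (.leaf 0x0) (.node 9145 (.leaf 0x0) (.leaf 0x0))))))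

def cCHS_821 : Store := (.node 9157 (.node 9151 (.node 9148 (.node 9147 (.leaf 0x0) (.leaf 0x0)) (.node 9149 (.leaf 0x0) (.node 9150 (.leaf 0x0) (.leaf 0x0)))) (.node 9154 (.node 9152 (.leaf 0x0) (.node 9153 (.leaf 0x0) (.leaf 0x0))) (.node 9155 (.leaf 0x0) (.node 9156 (.leaf 0x0) (.leaf 0x0))))) (.node 9162 (.node 9159 (.node 9158 (.leaf 0x0) (.leaf 0x0)) (.node 9160 (.leaf 0x0) (.node 9161 (.leaf 0x0) (.leaf 0x0)))) (.node 9165 (.node 9163 (.leaf 0x0) (.node 9164 (.leaf 0x0) (.leaf 0x0))) (.node 9166 (.leaf 0x0) (.node 9167 (.leaf 0x0) (.leaf 0x0))))))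

def cCHS_822 : Store := (.node 9146 cCHS_820 cCHS_821)

def cCHS_823 : Store := (.node 9179 (.node 9173 (.node 9170 (.node 9169 (.leaf 0x0) (.leaf 0x0)) (.node 9171 (.leaf 0x0) (.node 9172 (.leaf 0x0) (.leaf 0x0)))) (.node 9176 (.node 9174 (.leaf 0x0) (.node 9175 (.leaf 0x0) (.leaf 0x0))) (.node 9177 (.leaf 0x0) (.node 9178 (.leaf 0x0) (.leaf 0x0))))) (.node 9184 (.node 9181 (.node 9180 (.leaf 0x0) (.leaf 0x0)) (.node 9182 (.leaf 0x0) (.node 9183 (.leaf 0x0) (.leaf 0x0)))) (.node 9187 (.node 9185 (.leaf 0x0) (.node 9186 (.leaf 0x0) (.leaf 0x0))) (.node 9188 (.leaf 0x0) (.node 9189 (.leaf 0x0) (.leaf 0x0))))))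

def cCHS_824 : Store := (.node 9201 (.node 9195 (.node 9192 (.node 9191 (.leaf 0x0) (.leaf 0x0)) (.node 9193 (.leaf 0x0) (.node 9194 (.leaf 0x0) (.leaf 0x0)))) (.node 9198 (.node 9196 (.leaf 0x0) (.node 9197 (.leaf 0x0) (.leaf 0x0))) (.node 9199 (.leaf 0x0) (.node 9200 (.leaf 0x0) (.leaf 0x0))))) (.node 9207 (.node 9204 (.node 9202 (.leaf 0x0) (.node 9203 (.leaf 0x0) (.leaf 0x0))) (.node 9205 (.leaf 0x0) (.node 9206 (.leaf 0x0) (.leaf 0x0)))) (.node 9210 (.node 9208 (.leaf 0x0) (.node 9209 (.leaf 0x0) (.leaf 0x0))) (.node 9211 (.leaf 0x0) (.node 9212 (.leaf 0x0) (.leaf 0x0))))))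

def cCHS_825 : Store := (.node 9190 cCHS_823 cCHS_824)

def cCHS_826 : Store := (.node 9168 cCHS_822 cCHS_825)

def cCHS_827 : Store := (.node 9124 cCHS_819 cCHS_826)

def cCHS_828 : Store := (.node 9036 cCHS_812 cCHS_827)

def cCHS_829 : Store := (.node 8859 cCHS_797 cCHS_828)

def cCHS_830 : Store := (.node 9224 (.node 9218 (.node 9215 (.node 9214 (.leaf 0x0) (.leaf 0x0)) (.node 9216 (.leaf 0x0) (.node 9217 (.leaf 0x0) (.leaf 0x0)))) (.node 9221 (.node 9219 (.leaf 0x0) (.node 9220 (.leaf 0x0) (.leaf 0x0))) (.node 9222 (.leaf 0x0) (.node 9223 (.leaf 0x0) (.leaf 0x0))))) (.node 9229 (.node 9226 (.node 9225 (.leaf 0x0) (.leaf 0x0)) (.node 9227 (.leaf 0x0) (.node 9228 (.leaf 0x0) (.leaf 0x0)))) (.node 9232 (.node 9230 (.leaf 0x0) (.node 9231 (.leaf 0x0) (.leaf 0x0))) (.node 9233 (.leaf 0x0) (.node 9234 (.leaf 0x0) (.leaf 0x0))))))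

def cCHS_831 : Store := (.node 9246 (.node 9240 (.node 9237 (.node 9236 (.leaf 0x0) (.leaf 0x0)) (.node 9238 (.leaf 0x0) (.node 9239 (.leaf 0x0) (.leaf 0x0)))) (.node 9243 (.node 9241 (.leaf 0x0) (.node 9242 (.leaf 0x0) (.leaf 0x0))) (.node 9244 (.leaf 0x0) (.node 9245 (.leaf 0x0) (.leaf 0x0))))) (.node 9251 (.node 9248 (.node 9247 (.leaf 0x0) (.leaf 0x0)) (.node 9249 (.leaf 0x0) (.node 9250 (.leaf 0x0) (.leaf 0x0)))) (.node 9254 (.node 9252 (.leaf 0x0) (.node 9253 (.leaf 0x0) (.leaf 0x0))) (.node 9255 (.leaf 0x0) (.node 9256 (.leaf 0x0) (.leaf 0x0))))))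

def cCHS_832 : Store := (.node 9235 cCHS_830 cCHS_831)

def cCHS_833 : Store := (.node 9268 (.node 9262 (.node 9259 (.node 9258 (.leaf 0x0) (.leaf 0x0)) (.node 9260 (.leaf 0x0) (.node 9261 (.leaf 0x0) (.leaf 0x0)))) (.node 9265 (.node 9263 (.leaf 0x0) (.node 9264 (.leaf 0x0) (.leaf 0x0))) (.node 9266 (.leaf 0x0) (.node 9267 (.leaf 0x0) (.leaf 0x0))))) (.node 9273 (.node 9270 (.node 9269 (.leaf 0x0) (.leaf 0x0)) (.node 9271 (.leaf 0x0) (.node 9272 (.leaf 0x0) (.leaf 0x0)))) (.node 9276 (.node 9274 (.leaf 0x0) (.node 9275 (.leaf 0x0) (.leaf 0x0))) (.node 9277 (.leaf 0x0) (.node 9278 (.leaf 0x0) (.leaf 0x0))))))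

def cCHS_834 : Store := (.node 9290 (.node 9284 (.node 9281 (.node 9280 (.leaf 0x0) (.leaf 0x0)) (.node 9282 (.leaf 0x0) (.node 9283 (.leaf 0x0) (.leaf 0x0)))) (.node 9287 (.node 9285 (.leaf 0x0) (.node 9286 (.leaf 0x0) (.leaf 0x0))) (.node 9288 (.leaf 0x0) (.node 9289 (.leaf 0x0) (.leaf 0x0))))) (.node 9295 (.node 9292 (.node 9291 (.leaf 0x0) (.leaf 0x0)) (.node 9293 (.leaf 0x0) (.node 9294 (.leaf 0x0) (.leaf 0x0)))) (.node 9298 (.node 9296 (.leaf 0x0) (.node 9297 (.leaf 0x0) (.leaf 0x0))) (.node 9299 (.leaf 0x0) (.node 9300 (.leaf 0x0) (.leaf 0x0))))))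

def cCHS_835 : Store := (.node 9279 cCHS_833 cCHS_834)

def cCHS_836 : Store := (.node 9257 cCHS_832 cCHS_835)

def cCHS_837 : Store := (.node 9312 (.node 9306 (.node 9303 (.node 9302 (.leaf 0x0) (.leaf 0x0)) (.node 9304 (.leaf 0x0) (.node 9305 (.leaf 0x0) (.leaf 0x0)))) (.node 9309 (.node 9307 (.leaf 0x0) (.node 9308 (.leaf 0x0) (.leaf 0x0))) (.node 9310 (.leaf 0x0) (.node 9311 (.leaf 0x0) (.leaf 0x0))))) (.node 9317 (.node 9314 (.node 9313 (.leaf 0x0) (.leaf 0x0)) (.node 9315 (.leaf 0x0) (.node 9316 (.leaf 0x0) (.leaf 0x0)))) (.node 9320 (.node 9318 (.leaf 0x0) (.node 9319 (.leaf 0x0) (.leaf 0x0))) (.node 9321 (.leaf 0x0) (.node 9322 (.leaf 0x0) (.leaf 0x0))))))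

def cCHS_838 : Store := (.node 9334 (.node 9328 (.node 9325 (.node 9324 (.leaf 0x0) (.leaf 0x0)) (.node 9326 (.leaf 0x0) (.node 9327 (.leaf 0x0) (.leaf 0x0)))) (.node 9331 (.node 9329 (.leaf 0x0) (.node 9330 (.leaf 0x0) (.leaf 0x0))) (.node 9332 (.leaf 0x0) (.node 9333 (.leaf 0x0) (.leaf 0x0))))) (.node 9339 (.node 9336 (.node 9335 (.leaf 0x0) (.leaf 0x0)) (.node 9337 (.leaf 0x0) (.node 9338 (.leaf 0x0) (.leaf 0x0)))) (.node 9342 (.node 9340 (.leaf 0x0) (.node 9341 (.leaf 0x0) (.leaf 0x0))) (.node 9343 (.leaf 0x0) (.node 9344 (.leaf 0x0) (.leaf 0x0))))))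

def cCHS_839 : Store := (.node 9323 cCHS_837 cCHS_838)

def cCHS_840 : Store := (.node 9356 (.node 9350 (.node 9347 (.node 9346 (.leaf 0x0) (.leaf 0x0)) (.node 9348 (.leaf 0x0) (.node 9349 (.leaf 0x0) (.leaf 0x0)))) (.node 9353 (.node 9351 (.leaf 0x0) (.node 9352 (.leaf 0x0) (.leaf 0x0))) (.node 9354 (.leaf 0x0) (.node 9355 (.leaf 0x0) (.leaf 0x0))))) (.node 9361 (.node 9358 (.node 9357 (.leaf 0x0) (.leaf 0x0)) (.node 9359 (.leaf 0x0) (.node 9360 (.leaf 0x0) (.leaf 0x0)))) (.node 9364 (.node 9362 (.leaf 0x0) (.node 9363 (.leaf 0x0) (.leaf 0x0))) (.node 9365 (.leaf 0x0) (.node 9366 (.leaf 0x0) (.leaf 0x0))))))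

def cCHS_841 : Store := (.node 9378 (.node 9372 (.node 9369 (.node 9368 (.leaf 0x0) (.leaf 0x0)) (.node 9370 (.leaf 0x0) (.node 9371 (.leaf 0x0) (.leaf 0x0)))) (.node 9375 (.node 9373 (.leaf 0x0) (.node 9374 (.leaf 0x0) (.leaf 0x0))) (.node 9376 (.leaf 0x0) (.node 9377 (.leaf 0x0) (.leaf 0x0))))) (.node 9384 (.node 9381 (.node 9379 (.leaf 0x0) (.node 9380 (.leaf 0x0) (.leaf 0x0))) (.node 9382 (.leaf 0x0) (.node 9383 (.leaf 0x0) (.leaf 0x0)))) (.node 9387 (.node 9385 (.leaf 0x0) (.node 9386 (.leaf 0x0) (.leaf 0x0))) (.node 9388 (.leaf 0x0) (.node 9389 (.leaf 0x0) (.leaf 0x0))))))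

def cCHS_842 : Store := (.node 9367 cCHS_840 cCHS_841)

def cCHS_843 : Store := (.node 9345 cCHS_839 cCHS_842)

def cCHS_844 : Store := (.node 9301 cCHS_836 cCHS_843)

def cCHS_845 : Store := (.node 9401 (.node 9395 (.node 9392 (.node 9391 (.leaf 0x0) (.leaf 0x0)) (.node 9393 (.leaf 0x0) (.node 9394 (.leaf 0x0) (.leaf 0x0)))) (.node 9398 (.node 9396 (.leaf 0x0) (.node 9397 (.leaf 0x0) (.leaf 0x0))) (.node 9399 (.leaf 0x0) (.node 9400 (.leaf 0x0) (.leaf 0x0))))) (.node 9406 (.node 9403 (.node 9402 (.leaf 0x0) (.leaf 0x0)) (.node 9404 (.leaf 0x0) (.node 9405 (.leaf 0x0) (.leaf 0x0)))) (.node 9409 (.node 9407 (.leaf 0x0) (.node 9408 (.leaf 0x0) (.leaf 0x0))) (.node 9410 (.leaf 0x0) (.node 9411 (.leaf 0x0) (.leaf 0x0))))))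

def cCHS_846 : Store := (.node 9423 (.node 9417 (.node 9414 (.node 9413 (.leaf 0x0) (.leaf 0x0)) (.node 9415 (.leaf 0x0) (.node 9416 (.leaf 0x0) (.leaf 0x0)))) (.node 9420 (.node 9418 (.leaf 0x0) (.node 9419 (.leaf 0x0) (.leaf 0x0))) (.node 9421 (.leaf 0x0) (.node 9422 (.leaf 0x0) (.leaf 0x0))))) (.node 9428 (.node 9425 (.node 9424 (.leaf 0x0) (.leaf 0x0)) (.node 9426 (.leaf 0x0) (.node 9427 (.leaf 0x0) (.leaf 0x0)))) (.node 9431 (.node 9429 (.leaf 0x0) (.node 9430 (.leaf 0x0) (.leaf 0x0))) (.node 9432 (.leaf 0x0) (.node 9433 (.leaf 0x0) (.leaf 0x0))))))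

def cCHS_847 : Store := (.node 9412 cCHS_845 cCHS_846)

def cCHS_848 : Store := (.node 9445 (.node 9439 (.node 9436 (.node 9435 (.leaf 0x0) (.leaf 0x0)) (.node 9437 (.leaf 0x0) (.node 9438 (.leaf 0x0) (.leaf 0x0)))) (.node 9442 (.node 9440 (.leaf 0x0) (.node 9441 (.leaf 0x0) (.leaf 0x0))) (.node 9443 (.leaf 0x0) (.node 9444 (.leaf 0x0) (.leaf 0x0))))) (.node 9450 (.node 9447 (.node 9446 (.leaf 0x0) (.leaf 0x0)) (.node 9448 (.leaf 0x0) (.node 9449 (.leaf 0x0) (.leaf 0x0)))) (.node 9453 (.node 9451 (.leaf 0x0) (.node 9452 (.leaf 0x0) (.leaf 0x0))) (.node 9454 (.leaf 0x0) (.node 9455 (.leaf 0x0) (.leaf 0x0))))))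

def cCHS_849 : Store := (.node 9467 (.node 9461 (.node 9458 (.node 9457 (.leaf 0x0) (.leaf 0x0)) (.node 9459 (.leaf 0x0) (.node 9460 (.leaf 0x0) (.leaf 0x0)))) (.node 9464 (.node 9462 (.leaf 0x0) (.node 9463 (.leaf 0x0) (.leaf 0x0))) (.node 9465 (.leaf 0x0) (.node 9466 (.leaf 0x0) (.leaf 0x0))))) (.node 9472 (.node 9469 (.node 9468 (.leaf 0x0) (.leaf 0x0)) (.node 9470 (.leaf 0x0) (.node 9471 (.leaf 0x0) (.leaf 0x0)))) (.node 9475 (.node 9473 (.leaf 0x0) (.node 9474 (.leaf 0x0) (.leaf 0x0))) (.node 9476 (.leaf 0x0) (.node 9477 (.leaf 0x0) (.leaf 0x0))))))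

def cCHS_850 : Store := (.node 9456 cCHS_848 cCHS_849)

def cCHS_851 : Store := (.node 9434 cCHS_847 cCHS_850)

def cCHS_852 : Store := (.node 9489 (.node 9483 (.node 9480 (.node 9479 (.leaf 0x0) (.leaf 0x0)) (.node 9481 (.leaf 0x0) (.node 9482 (.leaf 0x0) (.leaf 0x0)))) (.node 9486 (.node 9484 (.leaf 0x0) (.node 9485 (.leaf 0x0) (.leaf 0x0))) (.node 9487 (.leaf 0x0) (.node 9488 (.leaf 0x0) (.leaf 0x0))))) (.node 9494 (.node 9491 (.node 9490 (.leaf 0x0) (.leaf 0x0)) (.node 9492 (.leaf 0x0) (.node 9493 (.leaf 0x0) (.leaf 0x0)))) (.node 9497 (.node 9495 (.leaf 0x0) (.node 9496 (.leaf 0x0) (.leaf 0x0))) (.node 9498 (.leaf 0x0) (.node 9499 (.leaf 0x0) (.leaf 0x0))))))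

def cCHS_853 : Store := (.node 9511 (.node 9505 (.node 9502 (.node 9501 (.leaf 0x0) (.leaf 0x0)) (.node 9503 (.leaf 0x0) (.node 9504 (.leaf 0x0) (.leaf 0x0)))) (.node 9508 (.node 9506 (.leaf 0x0) (.node 9507 (.leaf 0x0) (.leaf 0x0))) (.node 9509 (.leaf 0x0) (.node 9510 (.leaf 0x0) (.leaf 0x0))))) (.node 9516 (.node 9513 (.node 9512 (.leaf 0x0) (.leaf 0x0)) (.node 9514 (.leaf 0x0) (.node 9515 (.leaf 0x0) (.leaf 0x0)))) (.node 9519 (.node 9517 (.leaf 0x0) (.node 9518 (.leaf 0x0) (.leaf 0x0))) (.node 9520 (.leaf 0x0) (.node 9521 (.leaf 0x0) (.leaf 0x0))))))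

def cCHS_854 : Store := (.node 9500 cCHS_852 cCHS_853)

def cCHS_855 : Store := (.node 9533 (.node 9527 (.node 9524 (.node 9523 (.leaf 0x0) (.leaf 0x0)) (.node 9525 (.leaf 0x0) (.node 9526 (.leaf 0x0) (.leaf 0x0)))) (.node 9530 (.node 9528 (.leaf 0x0) (.node 9529 (.leaf 0x0) (.leaf 0x0))) (.node 9531 (.leaf 0x0) (.node 9532 (.leaf 0x0) (.leaf 0x0))))) (.node 9538 (.node 9535 (.node 9534 (.leaf 0x0) (.leaf 0x0)) (.node 9536 (.leaf 0x0) (.node 9537 (.leaf 0x0) (.leaf 0x0)))) (.node 9541 (.node 9539 (.leaf 0x0) (.node 9540 (.leaf 0x0) (.leaf 0x0))) (.node 9542 (.leaf 0x0) (.node 9543 (.leaf 0x0) (.leaf 0x0))))))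

def cCHS_856 : Store := (.node 9555 (.node 9549 (.node 9546 (.node 9545 (.leaf 0x0) (.leaf 0x0)) (.node 9547 (.leaf 0x0) (.node 9548 (.leaf 0x0) (.leaf 0x0)))) (.node 9552 (.node 9550 (.leaf 0x0) (.node 9551 (.leaf 0x0) (.leaf 0x0))) (.node 9553 (.leaf 0x0) (.node 9554 (.leaf 0x0) (.leaf 0x0))))) (.node 9561 (.node 9558 (.node 9556 (.leaf 0x0) (.node 9557 (.leaf 0x0) (.leaf 0x0))) (.node 9559 (.leaf 0x0) (.node 9560 (.leaf 0x0) (.leaf 0x0)))) (.node 9564 (.node 9562 (.leaf 0x0) (.node 9563 (.leaf 0x0) (.leaf 0x0))) (.node 9565 (.leaf 0x0) (.node 9566 (.leaf 0x0) (.leaf 0x0))))))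

def cCHS_857 : Store := (.node 9544 cCHS_855 cCHS_856)

def cCHS_858 : Store := (.node 9522 cCHS_854 cCHS_857)

def cCHS_859 : Store := (.node 9478 cCHS_851 cCHS_858)

def cCHS_860 : Store := (.node 9390 cCHS_844 cCHS_859)

def cCHS_861 : Store := (.node 9578 (.node 9572 (.node 9569 (.node 9568 (.leaf 0x0) (.leaf 0x0)) (.node 9570 (.leaf 0x0) (.node 9571 (.leaf 0x0) (.leaf 0x0)))) (.node 9575 (.node 9573 (.leaf 0x0) (.node 9574 (.leaf 0x0) (.leaf 0x0))) (.node 9576 (.leaf 0x0) (.node 9577 (.leaf 0x0) (.leaf 0x0))))) (.node 9583 (.node 9580 (.node 9579 (.leaf 0x0) (.leaf 0x0)) (.node 9581 (.leaf 0x0) (.node 9582 (.leaf 0x0) (.leaf 0x0)))) (.node 9586 (.node 9584 (.leaf 0x0) (.node 9585 (.leaf 0x0) (.leaf 0x0))) (.node 9587 (.leaf 0x0) (.node 9588 (.leaf 0x0) (.leaf 0x0))))))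

def cCHS_862 : Store := (.node 9600 (.node 9594 (.node 9591 (.node 9590 (.leaf 0x0) (.leaf 0x0)) (.node 9592 (.leaf 0x0) (.node 9593 (.leaf 0x0) (.leaf 0x0)))) (.node 9597 (.node 9595 (.leaf 0x0) (.node 9596 (.leaf 0x0) (.leaf 0x0))) (.node 9598 (.leaf 0x0) (.node 9599 (.leaf 0x0) (.leaf 0x0))))) (.node 9605 (.node 9602 (.node 9601 (.leaf 0x0) (.leaf 0x0)) (.node 9603 (.leaf 0x0) (.node 9604 (.leaf 0x0) (.leaf 0x0)))) (.node 9608 (.node 9606 (.leaf 0x0) (.node 9607 (.leaf 0x0) (.leaf 0x0))) (.node 9609 (.leaf 0x0) (.node 9610 (.leaf 0x0) (.leaf 0x0))))))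

def cCHS_863 : Store := (.node 9589 cCHS_861 cCHS_862)

def cCHS_864 : Store := (.node 9622 (.node 9616 (.node 9613 (.node 9612 (.leaf 0x0) (.leaf 0x0)) (.node 9614 (.leaf 0x0) (.node 9615 (.leaf 0x0) (.leaf 0x0)))) (.node 9619 (.node 9617 (.leaf 0x0) (.node 9618 (.leaf 0x0) (.leaf 0x0))) (.node 9620 (.leaf 0x0) (.node 9621 (.leaf 0x0) (.leaf 0x0))))) (.node 9627 (.node 9624 (.node 9623 (.leaf 0x0) (.leaf 0x0)) (.node 9625 (.leaf 0x0) (.node 9626 (.leaf 0x0) (.leaf 0x0)))) (.node 9630 (.node 9628 (.leaf 0x0) (.node 9629 (.leaf 0x0) (.leaf 0x0))) (.node 9631 (.leaf 0x0) (.node 9632 (.leaf 0x0) (.leaf 0x0))))))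

def cCHS_865 : Store := (.node 9644 (.node 9638 (.node 9635 (.node 9634 (.leaf 0x0) (.leaf 0x0)) (.node 9636 (.leaf 0x0) (.node 9637 (.leaf 0x0) (.leaf 0x0)))) (.node 9641 (.node 9639 (.leaf 0x0) (.node 9640 (.leaf 0x0) (.leaf 0x0))) (.node 9642 (.leaf 0x0) (.node 9643 (.leaf 0x0) (.leaf 0x0))))) (.node 9649 (.node 9646 (.node 9645 (.leaf 0x0) (.leaf 0x0)) (.node 9647 (.leaf 0x0) (.node 9648 (.leaf 0x0) (.leaf 0x0)))) (.node 9652 (.node 9650 (.leaf 0x0) (.node 9651 (.leaf 0x0) (.leaf 0x0))) (.node 9653 (.leaf 0x0) (.node 9654 (.leaf 0x0) (.leaf 0x0))))))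

def cCHS_866 : Store := (.node 9633 cCHS_864 cCHS_865)

def cCHS_867 : Store := (.node 9611 cCHS_863 cCHS_866)

def cCHS_868 : Store := (.node 9666 (.node 9660 (.node 9657 (.node 9656 (.leaf 0x0) (.leaf 0x0)) (.node 9658 (.leaf 0x0) (.node 9659 (.leaf 0x0) (.leaf 0x0)))) (.node 9663 (.node 9661 (.leaf 0x0) (.node 9662 (.leaf 0x0) (.leaf 0x0))) (.node 9664 (.leaf 0x0) (.node 9665 (.leaf 0x0) (.leaf 0x0))))) (.node 9671 (.node 9668 (.node 9667 (.leaf 0x0) (.leaf 0x0)) (.node 9669 (.leaf 0x0) (.node 9670 (.leaf 0x0) (.leaf 0x0)))) (.node 9674 (.node 9672 (.leaf 0x0) (.node 9673 (.leaf 0x0) (.leaf 0x0))) (.node 9675 (.leaf 0x0) (.node 9676 (.leaf 0x0) (.leaf 0x0))))))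

def cCHS_869 : Store := (.node 9688 (.node 9682 (.node 9679 (.node 9678 (.leaf 0x0) (.leaf 0x0)) (.node 9680 (.leaf 0x0) (.node 9681 (.leaf 0x0) (.leaf 0x0)))) (.node 9685 (.node 9683 (.leaf 0x0) (.node 9684 (.leaf 0x0) (.leaf 0x0))) (.node 9686 (.leaf 0x0) (.node 9687 (.leaf 0x0) (.leaf 0x0))))) (.node 9693 (.node 9690 (.node 9689 (.leaf 0x0) (.leaf 0x0)) (.node 9691 (.leaf 0x0) (.node 9692 (.leaf 0x0) (.leaf 0x0)))) (.node 9696 (.node 9694 (.leaf 0x0) (.node 9695 (.leaf 0x0) (.leaf 0x0))) (.node 9697 (.leaf 0x0) (.node 9698 (.leaf 0x0) (.leaf 0x0))))))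

def cCHS_870 : Store := (.node 9677 cCHS_868 cCHS_869)

def cCHS_871 : Store := (.node 9710 (.node 9704 (.node 9701 (.node 9700 (.leaf 0x0) (.leaf 0x0)) (.node 9702 (.leaf 0x0) (.node 9703 (.leaf 0x0) (.leaf 0x0)))) (.node 9707 (.node 9705 (.leaf 0x0) (.node 9706 (.leaf 0x0) (.leaf 0x0))) (.node 9708 (.leaf 0x0) (.node 9709 (.leaf 0x0) (.leaf 0x0))))) (.node 9715 (.node 9712 (.node 9711 (.leaf 0x0) (.leaf 0x0)) (.node 9713 (.leaf 0x0) (.node 9714 (.leaf 0x0) (.leaf 0x0)))) (.node 9718 (.node 9716 (.leaf 0x0) (.node 9717 (.leaf 0x0) (.leaf 0x0))) (.node 9719 (.leaf 0x0) (.node 9720 (.leaf 0x0) (.leaf 0x0))))))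

def cCHS_872 : Store := (.node 9732 (.node 9726 (.node 9723 (.node 9722 (.leaf 0x0) (.leaf 0x0)) (.node 9724 (.leaf 0x0) (.node 9725 (.leaf 0x0) (.leaf 0x0)))) (.node 9729 (.node 9727 (.leaf 0x0) (.node 9728 (.leaf 0x0) (.leaf 0x0))) (.node 9730 (.leaf 0x0) (.node 9731 (.leaf 0x0) (.leaf 0x0))))) (.node 9738 (.node 9735 (.node 9733 (.leaf 0x0) (.node 9734 (.leaf 0x0) (.leaf 0x0))) (.node 9736 (.leaf 0x0) (.node 9737 (.leaf 0x0) (.leaf 0x0)))) (.node 9741 (.node 9739 (.leaf 0x0) (.node 9740 (.leaf 0x0) (.leaf 0x0))) (.node 9742 (.leaf 0x0) (.node 9743 (.leaf 0x0) (.leaf 0x0))))))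

def cCHS_873 : Store := (.node 9721 cCHS_871 cCHS_872)

def cCHS_874 : Store := (.node 9699 cCHS_870 cCHS_873)

def cCHS_875 : Store := (.node 9655 cCHS_867 cCHS_874)

def cCHS_876 : Store := (.node 9755 (.node 9749 (.node 9746 (.node 9745 (.leaf 0x0) (.leaf 0x0)) (.node 9747 (.leaf 0x0) (.node 9748 (.leaf 0x0) (.leaf 0x0)))) (.node 9752 (.node 9750 (.leaf 0x0) (.node 9751 (.leaf 0x0) (.leaf 0x0))) (.node 9753 (.leaf 0x0) (.node 9754 (.leaf 0x0) (.leaf 0x0))))) (.node 9760 (.node 9757 (.node 9756 (.leaf 0x0) (.leaf 0x0)) (.node 9758 (.leaf 0x0) (.node 9759 (.leaf 0x0) (.leaf 0x0)))) (.node 9763 (.node 9761 (.leaf 0x0) (.node 9762 (.leaf 0x0) (.leaf 0x0))) (.node 9764 (.leaf 0x0) (.node 9765 (.leaf 0x0) (.leaf 0x0))))))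

def cCHS_877 : Store := (.node 9777 (.node 9771 (.node 9768 (.node 9767 (.leaf 0x0) (.leaf 0x0)) (.node 9769 (.leaf 0x0) (.node 9770 (.leaf 0x0) (.leaf 0x0)))) (.node 9774 (.node 9772 (.leaf 0x0) (.node 9773 (.leaf 0x0) (.leaf 0x0))) (.node 9775 (.leaf 0x0) (.node 9776 (.leaf 0x0) (.leaf 0x0))))) (.node 9782 (.node 9779 (.node 9778 (.leaf 0x0) (.leaf 0x0)) (.node 9780 (.leaf 0x0) (.node 9781 (.leaf 0x0) (.leaf 0x0)))) (.node 9785 (.node 9783 (.leaf 0x0) (.node 9784 (.leaf 0x0) (.leaf 0x0))) (.node 9786 (.leaf 0x0) (.node 9787 (.leaf 0x0) (.leaf 0x0))))))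

def cCHS_878 : Store := (.node 9766 cCHS_876 cCHS_877)

def cCHS_879 : Store := (.node 9799 (.node 9793 (.node 9790 (.node 9789 (.leaf 0x0) (.leaf 0x0)) (.node 9791 (.leaf 0x0) (.node 9792 (.leaf 0x0) (.leaf 0x0)))) (.node 9796 (.node 9794 (.leaf 0x0) (.node 9795 (.leaf 0x0) (.leaf 0x0))) (.node 9797 (.leaf 0x0) (.node 9798 (.leaf 0x0) (.leaf 0x0))))) (.node 9804 (.node 9801 (.node 9800 (.leaf 0x0) (.leaf 0x0)) (.node 9802 (.leaf 0x0) (.node 9803 (.leaf 0x0) (.leaf 0x0)))) (.node 9807 (.node 9805 (.leaf 0x0) (.node 9806 (.leaf 0x0) (.leaf 0x0))) (.node 9808 (.leaf 0x0) (.node 9809 (.leaf 0x0) (.leaf 0x0))))))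

def cCHS_880 : Store := (.node 9821 (.node 9815 (.node 9812 (.node 9811 (.leaf 0x0) (.leaf 0x0)) (.node 9813 (.leaf 0x0) (.node 9814 (.leaf 0x0) (.leaf 0x0)))) (.node 9818 (.node 9816 (.leaf 0x0) (.node 9817 (.leaf 0x0) (.leaf 0x0))) (.node 9819 (.leaf 0x0) (.node 9820 (.leaf 0x0) (.leaf 0x0))))) (.node 9827 (.node 9824 (.node 9822 (.leaf 0x0) (.node 9823 (.leaf 0x0) (.leaf 0x0))) (.node 9825 (.leaf 0x0) (.node 9826 (.leaf 0x0) (.leaf 0x0)))) (.node 9830 (.node 9828 (.leaf 0x0) (.node 9829 (.leaf 0x0) (.leaf 0x0))) (.node 9831 (.leaf 0x0) (.node 9832 (.leaf 0x0) (.leaf 0x0))))))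

def cCHS_881 : Store := (.node 9810 cCHS_879 cCHS_880)

def cCHS_882 : Store := (.node 9788 cCHS_878 cCHS_881)

def cCHS_883 : Store := (.node 9844 (.node 9838 (.node 9835 (.node 9834 (.leaf 0x0) (.leaf 0x0)) (.node 9836 (.leaf 0x0) (.node 9837 (.leaf 0x0) (.leaf 0x0)))) (.node 9841 (.node 9839 (.leaf 0x0) (.node 9840 (.leaf 0x0) (.leaf 0x0))) (.node 9842 (.leaf 0x0) (.node 9843 (.leaf 0x0) (.leaf 0x0))))) (.node 9849 (.node 9846 (.node 9845 (.leaf 0x0) (.leaf 0x0)) (.node 9847 (.leaf 0x0) (.node 9848 (.leaf 0x0) (.leaf 0x0)))) (.node 9852 (.node 9850 (.leaf 0x0) (.node 9851 (.leaf 0x0) (.leaf 0x0))) (.node 9853 (.leaf 0x0) (.node 9854 (.leaf 0x0) (.leaf 0x0))))))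

def cCHS_884 : Store := (.node 9866 (.node 9860 (.node 9857 (.node 9856 (.leaf 0x0) (.leaf 0x0)) (.node 9858 (.leaf 0x0) (.node 9859 (.leaf 0x0) (.leaf 0x0)))) (.node 9863 (.node 9861 (.leaf 0x0) (.node 9862 (.leaf 0x0) (.leaf 0x0))) (.node 9864 (.leaf 0x0) (.node 9865 (.leaf 0x0) (.leaf 0x0))))) (.node 9871 (.node 9868 (.node 9867 (.leaf 0x0) (.leaf 0x0)) (.node 9869 (.leaf 0x0) (.node 9870 (.leaf 0x0) (.leaf 0x0)))) (.node 9874 (.node 9872 (.leaf 0x0) (.node 9873 (.leaf 0x0) (.leaf 0x0))) (.node 9875 (.leaf 0x0) (.node 9876 (.leaf 0x0) (.leaf 0x0))))))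

def cCHS_885 : Store := (.node 9855 cCHS_883 cCHS_884)

def cCHS_886 : Store := (.node 9888 (.node 9882 (.node 9879 (.node 9878 (.leaf 0x0) (.leaf 0x0)) (.node 9880 (.leaf 0x0) (.node 9881 (.leaf 0x0) (.leaf 0x0)))) (.node 9885 (.node 9883 (.leaf 0x0) (.node 9884 (.leaf 0x0) (.leaf 0x0))) (.node 9886 (.leaf 0x0) (.node 9887 (.leaf 0x0) (.leaf 0x0))))) (.node 9893 (.node 9890 (.node 9889 (.leaf 0x0) (.leaf 0x0)) (.node 9891 (.leaf 0x0) (.node 9892 (.leaf 0x0) (.leaf 0x0)))) (.node 9896 (.node 9894 (.leaf 0x0) (.node 9895 (.leaf 0x0) (.leaf 0x0))) (.node 9897 (.leaf 0x0) (.node 9898 (.leaf 0x0) (.leaf 0x0))))))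

def cCHS_887 : Store := (.node 9910 (.node 9904 (.node 9901 (.node 9900 (.leaf 0x0) (.leaf 0x0)) (.node 9902 (.leaf 0x0) (.node 9903 (.leaf 0x0) (.leaf 0x0)))) (.node 9907 (.node 9905 (.leaf 0x0) (.node 9906 (.leaf 0x0) (.leaf 0x0))) (.node 9908 (.leaf 0x0) (.node 9909 (.leaf 0x0) (.leaf 0x0))))) (.node 9916 (.node 9913 (.node 9911 (.leaf 0x0) (.node 9912 (.leaf 0x0) (.leaf 0x0))) (.node 9914 (.leaf 0x0) (.node 9915 (.leaf 0x0) (.leaf 0x0)))) (.node 9919 (.node 9917 (.leaf 0x0) (.node 9918 (.leaf 0x0) (.leaf 0x0))) (.node 9920 (.leaf 0x0) (.node 9921 (.leaf 0x0) (.leaf 0x0))))))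

def cCHS_888 : Store := (.node 9899 cCHS_886 cCHS_887)

def cCHS_889 : Store := (.node 9877 cCHS_885 cCHS_888)

def cCHS_890 : Store := (.node 9833 cCHS_882 cCHS_889)

def cCHS_891 : Store := (.node 9744 cCHS_875 cCHS_890)

def cCHS_892 : Store := (.node 9567 cCHS_860 cCHS_891)

def cCHS_893 : Store := (.node 9213 cCHS_829 cCHS_892)

def cCHS_894 : Store := (.node 9933 (.node 9927 (.node 9924 (.node 9923 (.leaf 0x0) (.leaf 0x0)) (.node 9925 (.leaf 0x0) (.node 9926 (.leaf 0x0) (.leaf 0x0)))) (.node 9930 (.node 9928 (.leaf 0x0) (.node 9929 (.leaf 0x0) (.leaf 0x0))) (.node 9931 (.leaf 0x0) (.node 9932 (.leaf 0x0) (.leaf 0x0))))) (.node 9938 (.node 9935 (.node 9934 (.leaf 0x0) (.leaf 0x0)) (.node 9936 (.leaf 0x0) (.node 9937 (.leaf 0x0) (.leaf 0x0)))) (.node 9941 (.node 9939 (.leaf 0x0) (.node 9940 (.leaf 0x0) (.leaf 0x0))) (.node 9942 (.leaf 0x0) (.node 9943 (.leaf 0x0) (.leaf 0x0))))))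

def cCHS_895 : Store := (.node 9955 (.node 9949 (.node 9946 (.node 9945 (.leaf 0x0) (.leaf 0x0)) (.node 9947 (.leaf 0x0) (.node 9948 (.leaf 0x0) (.leaf 0x0)))) (.node 9952 (.node 9950 (.leaf 0x0) (.node 9951 (.leaf 0x0) (.leaf 0x0))) (.node 9953 (.leaf 0x0) (.node 9954 (.leaf 0x0) (.leaf 0x0))))) (.node 9960 (.node 9957 (.node 9956 (.leaf 0x0) (.leaf 0x0)) (.node 9958 (.leaf 0x0) (.node 9959 (.leaf 0x0) (.leaf 0x0)))) (.node 9963 (.node 9961 (.leaf 0x0) (.node 9962 (.leaf 0x0) (.leaf 0x0))) (.node 9964 (.leaf 0x0) (.node 9965 (.leaf 0x0) (.leaf 0x0))))))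

def cCHS_896 : Store := (.node 9944 cCHS_894 cCHS_895)

def cCHS_897 : Store := (.node 9977 (.node 9971 (.node 9968 (.node 9967 (.leaf 0x0) (.leaf 0x0)) (.node 9969 (.leaf 0x0) (.node 9970 (.leaf 0x0) (.leaf 0x0)))) (.node 9974 (.node 9972 (.leaf 0x0) (.node 9973 (.leaf 0x0) (.leaf 0x0))) (.node 9975 (.leaf 0x0) (.node 9976 (.leaf 0x0) (.leaf 0x0))))) (.node 9982 (.node 9979 (.node 9978 (.leaf 0x0) (.leaf 0x0)) (.node 9980 (.leaf 0x0) (.node 9981 (.leaf 0x0) (.leaf 0x0)))) (.node 9985 (.node 9983 (.leaf 0x0) (.node 9984 (.leaf 0x0) (.leaf 0x0))) (.node 9986 (.leaf 0x0) (.node 9987 (.leaf 0x0) (.leaf 0x0))))))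

def cCHS_898 : Store := (.node 9999 (.node 9993 (.node 9990 (.node 9989 (.leaf 0x0) (.leaf 0x0)) (.node 9991 (.leaf 0x0) (.node 9992 (.leaf 0x0) (.leaf 0x0)))) (.node 9996 (.node 9994 (.leaf 0x0) (.node 9995 (.leaf 0x0) (.leaf 0x0))) (.node 9997 (.leaf 0x0) (.node 9998 (.leaf 0x0) (.leaf 0x0))))) (.node 10004 (.node 10001 (.node 10000 (.leaf 0x0) (.leaf 0x0)) (.node 10002 (.leaf 0x0) (.node 10003 (.leaf 0x0) (.leaf 0x0)))) (.node 10007 (.node 10005 (.leaf 0x0) (.node 10006 (.leaf 0x0) (.leaf 0x0))) (.node 10008 (.leaf 0x0) (.node 10009 (.leaf 0x0) (.leaf 0x0))))))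

def cCHS_899 : Store := (.node 9988 cCHS_897 cCHS_898)

def cCHS_900 : Store := (.node 9966 cCHS_896 cCHS_899)

def cCHS_901 : Store := (.node 10021 (.node 10015 (.node 10012 (.node 10011 (.leaf 0x0) (.leaf 0x0)) (.node 10013 (.leaf 0x0) (.node 10014 (.leaf 0x0) (.leaf 0x0)))) (.node 10018 (.node 10016 (.leaf 0x0) (.node 10017 (.leaf 0x0) (.leaf 0x0))) (.node 10019 (.leaf 0x0) (.node 10020 (.leaf 0x0) (.leaf 0x0))))) (.node 10026 (.node 10023 (.node 10022 (.leaf 0x0) (.leaf 0x0)) (.node 10024 (.leaf 0x0) (.node 10025 (.leaf 0x0) (.leaf 0x0)))) (.node 10029 (.node 10027 (.leaf 0x0) (.node 10028 (.leaf 0x0) (.leaf 0x0))) (.node 10030 (.leaf 0x0) (.node 10031 (.leaf 0x0) (.leaf 0x0))))))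

def cCHS_902 : Store := (.node 10043 (.node 10037 (.node 10034 (.node 10033 (.leaf 0x0) (.leaf 0x0)) (.node 10035 (.leaf 0x0) (.node 10036 (.leaf 0x0) (.leaf 0x0)))) (.node 10040 (.node 10038 (.leaf 0x0) (.node 10039 (.leaf 0x0) (.leaf 0x0))) (.node 10041 (.leaf 0x0) (.node 10042 (.leaf 0x0) (.leaf 0x0))))) (.node 10048 (.node 10045 (.node 10044 (.leaf 0x0) (.leaf 0x0)) (.node 10046 (.leaf 0x0) (.node 10047 (.leaf 0x0) (.leaf 0x0)))) (.node 10051 (.node 10049 (.leaf 0x0) (.node 10050 (.leaf 0x0) (.leaf 0x0))) (.node 10052 (.leaf 0x0) (.node 10053 (.leaf 0x0) (.leaf 0x0))))))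

def cCHS_903 : Store := (.node 10032 cCHS_901 cCHS_902)

def cCHS_904 : Store := (.node 10065 (.node 10059 (.node 10056 (.node 10055 (.leaf 0x0) (.leaf 0x0)) (.node 10057 (.leaf 0x0) (.node 10058 (.leaf 0x0) (.leaf 0x0)))) (.node 10062 (.node 10060 (.leaf 0x0) (.node 10061 (.leaf 0x0) (.leaf 0x0))) (.node 10063 (.leaf 0x0) (.node 10064 (.leaf 0x0) (.leaf 0x0))))) (.node 10070 (.node 10067 (.node 10066 (.leaf 0x0) (.leaf 0x0)) (.node 10068 (.leaf 0x0) (.node 10069 (.leaf 0x0) (.leaf 0x0)))) (.node 10073 (.node 10071 (.leaf 0x0) (.node 10072 (.leaf 0x0) (.leaf 0x0))) (.node 10074 (.leaf 0x0) (.node 10075 (.leaf 0x0) (.leaf 0x0))))))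

def cCHS_905 : Store := (.node 10087 (.node 10081 (.node 10078 (.node 10077 (.leaf 0x0) (.leaf 0x0)) (.node 10079 (.leaf 0x0) (.node 10080 (.leaf 0x0) (.leaf 0x0)))) (.node 10084 (.node 10082 (.leaf 0x20001) (.node 10083 (.leaf 0x1) (.leaf 0x0))) (.node 10085 (.leaf 0x1) (.node 10086 (.leaf 0x0) (.leaf 0x0))))) (.node 10093 (.node 10090 (.node 10088 (.leaf 0x10001) (.node 10089 (.leaf 0x1) (.leaf 0x0))) (.node 10091 (.leaf 0x1) (.node 10092 (.leaf 0x0) (.leaf 0x0)))) (.node 10096 (.node 10094 (.leaf 0x10001) (.node 10095 (.leaf 0x1) (.leaf 0x0))) (.node 10097 (.leaf 0x1) (.node 10098 (.leaf 0x0) (.leaf 0x0))))))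

def cCHS_906 : Store := (.node 10076 cCHS_904 cCHS_905)

def cCHS_907 : Store := (.node 10054 cCHS_903 cCHS_906)

def cCHS_908 : Store := (.node 10010 cCHS_900 cCHS_907)

def cCHS_909 : Store := (.node 10110 (.node 10104 (.node 10101 (.node 10100 (.leaf 0x20001) (.leaf 0x1)) (.node 10102 (.leaf 0x0) (.node 10103 (.leaf 0x1) (.leaf 0x0)))) (.node 10107 (.node 10105 (.leaf 0x0) (.node 10106 (.leaf 0x0) (.leaf 0x0))) (.node 10108 (.leaf 0x0) (.node 10109 (.leaf 0x0) (.leaf 0x0))))) (.node 10115 (.node 10112 (.node 10111 (.leaf 0x0) (.leaf 0x0)) (.node 10113 (.leaf 0x0) (.node 10114 (.leaf 0x0) (.leaf 0x0)))) (.node 10118 (.node 10116 (.leaf 0x0) (.node 10117 (.leaf 0x0) (.leaf 0x0))) (.node 10119 (.leaf 0x0) (.node 10120 (.leaf 0x0) (.leaf 0x0))))))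

def cCHS_910 : Store := (.node 10132 (.node 10126 (.node 10123 (.node 10122 (.leaf 0x0) (.leaf 0x0)) (.node 10124 (.leaf 0x0) (.node 10125 (.leaf 0x0) (.leaf 0x0)))) (.node 10129 (.node 10127 (.leaf 0x0) (.node 10128 (.leaf 0x0) (.leaf 0x0))) (.node 10130 (.leaf 0x0) (.node 10131 (.leaf 0x0) (.leaf 0x0))))) (.node 10137 (.node 10134 (.node 10133 (.leaf 0x0) (.leaf 0x0)) (.node 10135 (.leaf 0x0) (.node 10136 (.leaf 0x0) (.leaf 0x0)))) (.node 10140 (.node 10138 (.leaf 0x0) (.node 10139 (.leaf 0x0) (.leaf 0x0))) (.node 10141 (.leaf 0x0) (.node 10142 (.leaf 0x0) (.leaf 0x0))))))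

def cCHS_911 : Store := (.node 10121 cCHS_909 cCHS_910)

def cCHS_912 : Store := (.node 10154 (.node 10148 (.node 10145 (.node 10144 (.leaf 0x0) (.leaf 0x0)) (.node 10146 (.leaf 0x0) (.node 10147 (.leaf 0x0) (.leaf 0x0)))) (.node 10151 (.node 10149 (.leaf 0x0) (.node 10150 (.leaf 0x0) (.leaf 0x0))) (.node 10152 (.leaf 0x0) (.node 10153 (.leaf 0x0) (.leaf 0x0))))) (.node 10159 (.node 10156 (.node 10155 (.leaf 0x0) (.leaf 0x0)) (.node 10157 (.leaf 0x0) (.node 10158 (.leaf 0x0) (.leaf 0x0)))) (.node 10162 (.node 10160 (.leaf 0x0) (.node 10161 (.leaf 0x0) (.leaf 0x0))) (.node 10163 (.leaf 0x0) (.node 10164 (.leaf 0x0) (.leaf 0x0))))))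

def cCHS_913 : Store := (.node 10176 (.node 10170 (.node 10167 (.node 10166 (.leaf 0x0) (.leaf 0x0)) (.node 10168 (.leaf 0x0) (.node 10169 (.leaf 0x0) (.leaf 0x0)))) (.node 10173 (.node 10171 (.leaf 0x0) (.node 10172 (.leaf 0x0) (.leaf 0x0))) (.node 10174 (.leaf 0x0) (.node 10175 (.leaf 0x0) (.leaf 0x0))))) (.node 10181 (.node 10178 (.node 10177 (.leaf 0x0) (.leaf 0x0)) (.node 10179 (.leaf 0x0) (.node 10180 (.leaf 0x0) (.leaf 0x0)))) (.node 10184 (.node 10182 (.leaf 0x0) (.node 10183 (.leaf 0x0) (.leaf 0x0))) (.node 10185 (.leaf 0x0) (.node 10186 (.leaf 0x0) (.leaf 0x0))))))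

def cCHS_914 : Store := (.node 10165 cCHS_912 cCHS_913)

def cCHS_915 : Store := (.node 10143 cCHS_911 cCHS_914)

def cCHS_916 : Store := (.node 10198 (.node 10192 (.node 10189 (.node 10188 (.leaf 0x0) (.leaf 0x0)) (.node 10190 (.leaf 0x0) (.node 10191 (.leaf 0x0) (.leaf 0x0)))) (.node 10195 (.node 10193 (.leaf 0x0) (.node 10194 (.leaf 0x0) (.leaf 0x0))) (.node 10196 (.leaf 0x0) (.node 10197 (.leaf 0x0) (.leaf 0x0))))) (.node 10203 (.node 10200 (.node 10199 (.leaf 0x0) (.leaf 0x0)) (.node 10201 (.leaf 0x0) (.node 10202 (.leaf 0x0) (.leaf 0x0)))) (.node 10206 (.node 10204 (.leaf 0x0) (.node 10205 (.leaf 0x0) (.leaf 0x0))) (.node 10207 (.leaf 0x0) (.node 10208 (.leaf 0x0) (.leaf 0x0))))))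

def cCHS_917 : Store := (.node 10220 (.node 10214 (.node 10211 (.node 10210 (.leaf 0x0) (.leaf 0x0)) (.node 10212 (.leaf 0x0) (.node 10213 (.leaf 0x0) (.leaf 0x0)))) (.node 10217 (.node 10215 (.leaf 0x0) (.node 10216 (.leaf 0x0) (.leaf 0x0))) (.node 10218 (.leaf 0x0) (.node 10219 (.leaf 0x0) (.leaf 0x0))))) (.node 10225 (.node 10222 (.node 10221 (.leaf 0x0) (.leaf 0x0)) (.node 10223 (.leaf 0x0) (.node 10224 (.leaf 0x0) (.leaf 0x0)))) (.node 10228 (.node 10226 (.leaf 0x0) (.node 10227 (.leaf 0x0) (.leaf 0x0))) (.node 10229 (.leaf 0x0) (.node 10230 (.leaf 0x0) (.leaf 0x0))))))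

def cCHS_918 : Store := (.node 10209 cCHS_916 cCHS_917)

def cCHS_919 : Store := (.node 10242 (.node 10236 (.node 10233 (.node 10232 (.leaf 0x0) (.leaf 0x0)) (.node 10234 (.leaf 0x0) (.node 10235 (.leaf 0x0) (.leaf 0x0)))) (.node 10239 (.node 10237 (.leaf 0x0) (.node 10238 (.leaf 0x0) (.leaf 0x0))) (.node 10240 (.leaf 0x0) (.node 10241 (.leaf 0x0) (.leaf 0x0))))) (.node 10247 (.node 10244 (.node 10243 (.leaf 0x0) (.leaf 0x0)) (.node 10245 (.leaf 0x0) (.node 10246 (.leaf 0x0) (.leaf 0x0)))) (.node 10250 (.node 10248 (.leaf 0x0) (.node 10249 (.leaf 0x0) (.leaf 0x0))) (.node 10251 (.leaf 0x0) (.node 10252 (.leaf 0x0) (.leaf 0x0))))))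

def cCHS_920 : Store := (.node 10264 (.node 10258 (.node 10255 (.node 10254 (.leaf 0x0) (.leaf 0x0)) (.node 10256 (.leaf 0x0) (.node 10257 (.leaf 0x0) (.leaf 0x0)))) (.node 10261 (.node 10259 (.leaf 0x0) (.node 10260 (.leaf 0x0) (.leaf 0x10001))) (.node 10262 (.leaf 0x0) (.node 10263 (.leaf 0x1) (.leaf 0x0))))) (.node 10270 (.node 10267 (.node 10265 (.leaf 0x0) (.node 10266 (.leaf 0x0) (.leaf 0x201000003))) (.node 10268 (.leaf 0x0) (.node 10269 (.leaf 0x20001) (.leaf 0x0)))) (.node 10273 (.node 10271 (.leaf 0x0) (.node 10272 (.leaf 0x0) (.leaf 0x0))) (.node 10274 (.leaf 0x0) (.node 10275 (.leaf 0x0) (.leaf 0x0))))))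

def cCHS_921 : Store := (.node 10253 cCHS_919 cCHS_920)

def cCHS_922 : Store := (.node 10231 cCHS_918 cCHS_921)

def cCHS_923 : Store := (.node 10187 cCHS_915 cCHS_922)

def cCHS_924 : Store := (.node 10099 cCHS_908 cCHS_923)

def cCHS_925 : Store := (.node 10287 (.node 10281 (.node 10278 (.node 10277 (.leaf 0x0) (.leaf 0x0)) (.node 10279 (.leaf 0x0) (.node 10280 (.leaf 0x0) (.leaf 0x0)))) (.node 10284 (.node 10282 (.leaf 0x0) (.node 10283 (.leaf 0x0) (.leaf 0x0))) (.node 10285 (.leaf 0x0) (.node 10286 (.leaf 0x0) (.leaf 0x0))))) (.node 10292 (.node 10289 (.node 10288 (.leaf 0x0) (.leaf 0x0)) (.node 10290 (.leaf 0x0) (.node 10291 (.leaf 0x0) (.leaf 0x0)))) (.node 10295 (.node 10293 (.leaf 0x0) (.node 10294 (.leaf 0x0) (.leaf 0x0))) (.node 10296 (.leaf 0x0) (.node 10297 (.leaf 0x0) (.leaf 0x0))))))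

def cCHS_926 : Store := (.node 10309 (.node 10303 (.node 10300 (.node 10299 (.leaf 0x0) (.leaf 0x0)) (.node 10301 (.leaf 0x0) (.node 10302 (.leaf 0x0) (.leaf 0x0)))) (.node 10306 (.node 10304 (.leaf 0x0) (.node 10305 (.leaf 0x0) (.leaf 0x0))) (.node 10307 (.leaf 0x0) (.node 10308 (.leaf 0x0) (.leaf 0x0))))) (.node 10314 (.node 10311 (.node 10310 (.leaf 0x0) (.leaf 0x0)) (.node 10312 (.leaf 0x0) (.node 10313 (.leaf 0x0) (.leaf 0x0)))) (.node 10317 (.node 10315 (.leaf 0x0) (.node 10316 (.leaf 0x0) (.leaf 0x0))) (.node 10318 (.leaf 0x0) (.node 10319 (.leaf 0x0) (.leaf 0x0))))))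

def cCHS_927 : Store := (.node 10298 cCHS_925 cCHS_926)

def cCHS_928 : Store := (.node 10331 (.node 10325 (.node 10322 (.node 10321 (.leaf 0x0) (.leaf 0x0)) (.node 10323 (.leaf 0x0) (.node 10324 (.leaf 0x0) (.leaf 0x0)))) (.node 10328 (.node 10326 (.leaf 0x0) (.node 10327 (.leaf 0x0) (.leaf 0x0))) (.node 10329 (.leaf 0x0) (.node 10330 (.leaf 0x0) (.leaf 0x0))))) (.node 10336 (.node 10333 (.node 10332 (.leaf 0x0) (.leaf 0x0)) (.node 10334 (.leaf 0x0) (.node 10335 (.leaf 0x0) (.leaf 0x0)))) (.node 10339 (.node 10337 (.leaf 0x0) (.node 10338 (.leaf 0x0) (.leaf 0x0))) (.node 10340 (.leaf 0x0) (.node 10341 (.leaf 0x0) (.leaf 0x0))))))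

def cCHS_929 : Store := (.node 10353 (.node 10347 (.node 10344 (.node 10343 (.leaf 0x0) (.leaf 0x0)) (.node 10345 (.leaf 0x0) (.node 10346 (.leaf 0x0) (.leaf 0x0)))) (.node 10350 (.node 10348 (.leaf 0x0) (.node 10349 (.leaf 0x0) (.leaf 0x0))) (.node 10351 (.leaf 0x0) (.node 10352 (.leaf 0x0) (.leaf 0x0))))) (.node 10358 (.node 10355 (.node 10354 (.leaf 0x0) (.leaf 0x0)) (.node 10356 (.leaf 0x0) (.node 10357 (.leaf 0x0) (.leaf 0x0)))) (.node 10361 (.node 10359 (.leaf 0x0) (.node 10360 (.leaf 0x0) (.leaf 0x0))) (.node 10362 (.leaf 0x0) (.node 10363 (.leaf 0x0) (.leaf 0x0))))))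

def cCHS_930 : Store := (.node 10342 cCHS_928 cCHS_929)

def cCHS_931 : Store := (.node 10320 cCHS_927 cCHS_930)

def cCHS_932 : Store := (.node 10375 (.node 10369 (.node 10366 (.node 10365 (.leaf 0x0) (.leaf 0x0)) (.node 10367 (.leaf 0x0) (.node 10368 (.leaf 0x0) (.leaf 0x0)))) (.node 10372 (.node 10370 (.leaf 0x0) (.node 10371 (.leaf 0x0) (.leaf 0x0))) (.node 10373 (.leaf 0x0) (.node 10374 (.leaf 0x0) (.leaf 0x0))))) (.node 10380 (.node 10377 (.node 10376 (.leaf 0x0) (.leaf 0x0)) (.node 10378 (.leaf 0x0) (.node 10379 (.leaf 0x0) (.leaf 0x0)))) (.node 10383 (.node 10381 (.leaf 0x0) (.node 10382 (.leaf 0x0) (.leaf 0x0))) (.node 10384 (.leaf 0x0) (.node 10385 (.leaf 0x0) (.leaf 0x0))))))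

def cCHS_933 : Store := (.node 10397 (.node 10391 (.node 10388 (.node 10387 (.leaf 0x0) (.leaf 0x0)) (.node 10389 (.leaf 0x0) (.node 10390 (.leaf 0x0) (.leaf 0x0)))) (.node 10394 (.node 10392 (.leaf 0x0) (.node 10393 (.leaf 0x0) (.leaf 0x0))) (.node 10395 (.leaf 0x0) (.node 10396 (.leaf 0x0) (.leaf 0x0))))) (.node 10402 (.node 10399 (.node 10398 (.leaf 0x0) (.leaf 0x0)) (.node 10400 (.leaf 0x0) (.node 10401 (.leaf 0x0) (.leaf 0x0)))) (.node 10405 (.node 10403 (.leaf 0x0) (.node 10404 (.leaf 0x0) (.leaf 0x0))) (.node 10406 (.leaf 0x0) (.node 10407 (.leaf 0x0) (.leaf 0x0))))))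

def cCHS_934 : Store := (.node 10386 cCHS_932 cCHS_933)

def cCHS_935 : Store := (.node 10419 (.node 10413 (.node 10410 (.node 10409 (.leaf 0x0) (.leaf 0x0)) (.node 10411 (.leaf 0x0) (.node 10412 (.leaf 0x0) (.leaf 0x0)))) (.node 10416 (.node 10414 (.leaf 0x0) (.node 10415 (.leaf 0x0) (.leaf 0x0))) (.node 10417 (.leaf 0x0) (.node 10418 (.leaf 0x0) (.leaf 0x0))))) (.node 10424 (.node 10421 (.node 10420 (.leaf 0x0) (.leaf 0x0)) (.node 10422 (.leaf 0x0) (.node 10423 (.leaf 0x0) (.leaf 0x0)))) (.node 10427 (.node 10425 (.leaf 0x0) (.node 10426 (.leaf 0x0) (.leaf 0x0))) (.node 10428 (.leaf 0x0) (.node 10429 (.leaf 0x0) (.leaf 0x0))))))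

def cCHS_936 : Store := (.node 10441 (.node 10435 (.node 10432 (.node 10431 (.leaf 0x0) (.leaf 0x0)) (.node 10433 (.leaf 0x0) (.node 10434 (.leaf 0x0) (.leaf 0x0)))) (.node 10438 (.node 10436 (.leaf 0x0) (.node 10437 (.leaf 0x0) (.leaf 0x0))) (.node 10439 (.leaf 0x0) (.node 10440 (.leaf 0x0) (.leaf 0x1))))) (.node 10447 (.node 10444 (.node 10442 (.leaf 0x10001) (.node 10443 (.leaf 0x20001) (.leaf 0x0))) (.node 10445 (.leaf 0x0) (.node 10446 (.leaf 0x0) (.leaf 0x0)))) (.node 10450 (.node 10448 (.leaf 0x0) (.node 10449 (.leaf 0x0) (.leaf 0x0))) (.node 10451 (.leaf 0x0) (.node 10452 (.leaf 0x0) (.leaf 0x0))))))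

def cCHS_937 : Store := (.node 10430 cCHS_935 cCHS_936)

def cCHS_938 : Store := (.node 10408 cCHS_934 cCHS_937)

def cCHS_939 : Store := (.node 10364 cCHS_931 cCHS_938)

def cCHS_940 : Store := (.node 10464 (.node 10458 (.node 10455 (.node 10454 (.leaf 0x0) (.leaf 0x0)) (.node 10456 (.leaf 0x0) (.node 10457 (.leaf 0x0) (.leaf 0x0)))) (.node 10461 (.node 10459 (.leaf 0x0) (.node 10460 (.leaf 0x0) (.leaf 0x0))) (.node 10462 (.leaf 0x0) (.node 10463 (.leaf 0x0) (.leaf 0x0))))) (.node 10469 (.node 10466 (.node 10465 (.leaf 0x0) (.leaf 0x0)) (.node 10467 (.leaf 0x0) (.node 10468 (.leaf 0x0) (.leaf 0x0)))) (.node 10472 (.node 10470 (.leaf 0x0) (.node 10471 (.leaf 0x0) (.leaf 0x0))) (.node 10473 (.leaf 0x0) (.node 10474 (.leaf 0x0) (.leaf 0x0))))))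

def cCHS_941 : Store := (.node 10486 (.node 10480 (.node 10477 (.node 10476 (.leaf 0x0) (.leaf 0x0)) (.node 10478 (.leaf 0x0) (.node 10479 (.leaf 0x0) (.leaf 0x0)))) (.node 10483 (.node 10481 (.leaf 0x0) (.node 10482 (.leaf 0x0) (.leaf 0x0))) (.node 10484 (.leaf 0x0) (.node 10485 (.leaf 0x0) (.leaf 0x0))))) (.node 10491 (.node 10488 (.node 10487 (.leaf 0x0) (.leaf 0x0)) (.node 10489 (.leaf 0x0) (.node 10490 (.leaf 0x0) (.leaf 0x0)))) (.node 10494 (.node 10492 (.leaf 0x0) (.node 10493 (.leaf 0x0) (.leaf 0x0))) (.node 10495 (.leaf 0x0) (.node 10496 (.leaf 0x0) (.leaf 0x0))))))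

def cCHS_942 : Store := (.node 10475 cCHS_940 cCHS_941)

def cCHS_943 : Store := (.node 10508 (.node 10502 (.node 10499 (.node 10498 (.leaf 0x0) (.leaf 0x0)) (.node 10500 (.leaf 0x0) (.node 10501 (.leaf 0x0) (.leaf 0x0)))) (.node 10505 (.node 10503 (.leaf 0x0) (.node 10504 (.leaf 0x0) (.leaf 0x0))) (.node 10506 (.leaf 0x0) (.node 10507 (.leaf 0x0) (.leaf 0x0))))) (.node 10513 (.node 10510 (.node 10509 (.leaf 0x0) (.leaf 0x0)) (.node 10511 (.leaf 0x0) (.node 10512 (.leaf 0x0) (.leaf 0x0)))) (.node 10516 (.node 10514 (.leaf 0x0) (.node 10515 (.leaf 0x0) (.leaf 0x0))) (.node 10517 (.leaf 0x0) (.node 10518 (.leaf 0x0) (.leaf 0x0))))))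

def cCHS_944 : Store := (.node 10530 (.node 10524 (.node 10521 (.node 10520 (.leaf 0x0) (.leaf 0x0)) (.node 10522 (.leaf 0x0) (.node 10523 (.leaf 0x0) (.leaf 0x0)))) (.node 10527 (.node 10525 (.leaf 0x0) (.node 10526 (.leaf 0x0) (.leaf 0x0))) (.node 10528 (.leaf 0x0) (.node 10529 (.leaf 0x0) (.leaf 0x0))))) (.node 10536 (.node 10533 (.node 10531 (.leaf 0x0) (.node 10532 (.leaf 0x0) (.leaf 0x0))) (.node 10534 (.leaf 0x0) (.node 10535 (.leaf 0x0) (.leaf 0x0)))) (.node 10539 (.node 10537 (.leaf 0x0) (.node 10538 (.leaf 0x0) (.leaf 0x0))) (.node 10540 (.leaf 0x0) (.node 10541 (.leaf 0x0) (.leaf 0x0))))))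

def cCHS_945 : Store := (.node 10519 cCHS_943 cCHS_944)

def cCHS_946 : Store := (.node 10497 cCHS_942 cCHS_945)

def cCHS_947 : Store := (.node 10553 (.node 10547 (.node 10544 (.node 10543 (.leaf 0x0) (.leaf 0x0)) (.node 10545 (.leaf 0x0) (.node 10546 (.leaf 0x0) (.leaf 0x0)))) (.node 10550 (.node 10548 (.leaf 0x0) (.node 10549 (.leaf 0x0) (.leaf 0x0))) (.node 10551 (.leaf 0x0) (.node 10552 (.leaf 0x0) (.leaf 0x0))))) (.node 10558 (.node 10555 (.node 10554 (.leaf 0x0) (.leaf 0x0)) (.node 10556 (.leaf 0x0) (.node 10557 (.leaf 0x0) (.leaf 0x0)))) (.node 10561 (.node 10559 (.leaf 0x0) (.node 10560 (.leaf 0x0) (.leaf 0x0))) (.node 10562 (.leaf 0x0) (.node 10563 (.leaf 0x0) (.leaf 0x0))))))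

def cCHS_948 : Store := (.node 10575 (.node 10569 (.node 10566 (.node 10565 (.leaf 0x0) (.leaf 0x0)) (.node 10567 (.leaf 0x0) (.node 10568 (.leaf 0x0) (.leaf 0x0)))) (.node 10572 (.node 10570 (.leaf 0x0) (.node 10571 (.leaf 0x0) (.leaf 0x0))) (.node 10573 (.leaf 0x0) (.node 10574 (.leaf 0x0) (.leaf 0x0))))) (.node 10580 (.node 10577 (.node 10576 (.leaf 0x0) (.leaf 0x0)) (.node 10578 (.leaf 0x0) (.node 10579 (.leaf 0x0) (.leaf 0x0)))) (.node 10583 (.node 10581 (.leaf 0x0) (.node 10582 (.leaf 0x0) (.leaf 0x0))) (.node 10584 (.leaf 0x0) (.node 10585 (.leaf 0x0) (.leaf 0x0))))))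

def cCHS_949 : Store := (.node 10564 cCHS_947 cCHS_948)

def cCHS_950 : Store := (.node 10597 (.node 10591 (.node 10588 (.node 10587 (.leaf 0x0) (.leaf 0x0)) (.node 10589 (.leaf 0x0) (.node 10590 (.leaf 0x0) (.leaf 0x0)))) (.node 10594 (.node 10592 (.leaf 0x0) (.node 10593 (.leaf 0x0) (.leaf 0x0))) (.node 10595 (.leaf 0x0) (.node 10596 (.leaf 0x0) (.leaf 0x0))))) (.node 10602 (.node 10599 (.node 10598 (.leaf 0x0) (.leaf 0x0)) (.node 10600 (.leaf 0x0) (.node 10601 (.leaf 0x0) (.leaf 0x0)))) (.node 10605 (.node 10603 (.leaf 0x0) (.node 10604 (.leaf 0x0) (.leaf 0x0))) (.node 10606 (.leaf 0x0) (.node 10607 (.leaf 0x0) (.leaf 0x0))))))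

def cCHS_951 : Store := (.node 10619 (.node 10613 (.node 10610 (.node 10609 (.leaf 0x0) (.leaf 0x0)) (.node 10611 (.leaf 0x0) (.node 10612 (.leaf 0x0) (.leaf 0x0)))) (.node 10616 (.node 10614 (.leaf 0x0) (.node 10615 (.leaf 0x0) (.leaf 0x0))) (.node 10617 (.leaf 0x0) (.node 10618 (.leaf 0x0) (.leaf 0x0))))) (.node 10625 (.node 10622 (.node 10620 (.leaf 0x0) (.node 10621 (.leaf 0x0) (.leaf 0x1))) (.node 10623 (.leaf 0x0) (.node 10624 (.leaf 0x0) (.leaf 0x0)))) (.node 10628 (.node 10626 (.leaf 0x0) (.node 10627 (.leaf 0x0) (.leaf 0x0))) (.node 10629 (.leaf 0x0) (.node 10630 (.leaf 0x0) (.leaf 0x0))))))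

def cCHS_952 : Store := (.node 10608 cCHS_950 cCHS_951)

def cCHS_953 : Store := (.node 10586 cCHS_949 cCHS_952)

def cCHS_954 : Store := (.node 10542 cCHS_946 cCHS_953)

def cCHS_955 : Store := (.node 10453 cCHS_939 cCHS_954)

def cCHS_956 : Store := (.node 10276 cCHS_924 cCHS_955)

def cCHS_957 : Store := (.node 10642 (.node 10636 (.node 10633 (.node 10632 (.leaf 0x0) (.leaf 0x0)) (.node 10634 (.leaf 0x0) (.node 10635 (.leaf 0x0) (.leaf 0x0)))) (.node 10639 (.node 10637 (.leaf 0x0) (.node 10638 (.leaf 0x0) (.leaf 0x1))) (.node 10640 (.leaf 0x0) (.node 10641 (.leaf 0x0) (.leaf 0x0))))) (.node 10647 (.node 10644 (.node 10643 (.leaf 0x0) (.leaf 0x0)) (.node 10645 (.leaf 0x1) (.node 10646 (.leaf 0x0) (.leaf 0x1)))) (.node 10650 (.node 10648 (.leaf 0x0) (.node 10649 (.leaf 0x0) (.leaf 0x0))) (.node 10651 (.leaf 0x0) (.node 10652 (.leaf 0x1) (.leaf 0x1))))))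

def cCHS_958 : Store := (.node 10664 (.node 10658 (.node 10655 (.node 10654 (.leaf 0x0) (.leaf 0x0)) (.node 10656 (.leaf 0x0) (.node 10657 (.leaf 0x0) (.leaf 0x0)))) (.node 10661 (.node 10659 (.leaf 0x0) (.node 10660 (.leaf 0x0) (.leaf 0x0))) (.node 10662 (.leaf 0x0) (.node 10663 (.leaf 0x0) (.leaf 0x0))))) (.node 10669 (.node 10666 (.node 10665 (.leaf 0x0) (.leaf 0x0)) (.node 10667 (.leaf 0x0) (.node 10668 (.leaf 0x0) (.leaf 0x0)))) (.node 10672 (.node 10670 (.leaf 0x0) (.node 10671 (.leaf 0x0) (.leaf 0x0))) (.node 10673 (.leaf 0x0) (.node 10674 (.leaf 0x0) (.leaf 0x0))))))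

def cCHS_959 : Store := (.node 10653 cCHS_957 cCHS_958)

def cCHS_960 : Store := (.node 10686 (.node 10680 (.node 10677 (.node 10676 (.leaf 0x0) (.leaf 0x0)) (.node 10678 (.leaf 0x0) (.node 10679 (.leaf 0x0) (.leaf 0x0)))) (.node 10683 (.node 10681 (.leaf 0x0) (.node 10682 (.leaf 0x0) (.leaf 0x0))) (.node 10684 (.leaf 0x0) (.node 10685 (.leaf 0x0) (.leaf 0x0))))) (.node 10691 (.node 10688 (.node 10687 (.leaf 0x0) (.leaf 0x0)) (.node 10689 (.leaf 0x0) (.node 10690 (.leaf 0x0) (.leaf 0x0)))) (.node 10694 (.node 10692 (.leaf 0x0) (.node 10693 (.leaf 0x0) (.leaf 0x0))) (.node 10695 (.leaf 0x0) (.node 10696 (.leaf 0x0) (.leaf 0x0))))))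

def cCHS_961 : Store := (.node 10708 (.node 10702 (.node 10699 (.node 10698 (.leaf 0x0) (.leaf 0x0)) (.node 10700 (.leaf 0x0) (.node 10701 (.leaf 0x0) (.leaf 0x0)))) (.node 10705 (.node 10703 (.leaf 0x0) (.node 10704 (.leaf 0x0) (.leaf 0x0))) (.node 10706 (.leaf 0x0) (.node 10707 (.leaf 0x0) (.leaf 0x0))))) (.node 10713 (.node 10710 (.node 10709 (.leaf 0x0) (.leaf 0x0)) (.node 10711 (.leaf 0x0) (.node 10712 (.leaf 0x0) (.leaf 0x0)))) (.node 10716 (.node 10714 (.leaf 0x0) (.node 10715 (.leaf 0x0) (.leaf 0x0))) (.node 10717 (.leaf 0x0) (.node 10718 (.leaf 0x0) (.leaf 0x0))))))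

def cCHS_962 : Store := (.node 10697 cCHS_960 cCHS_961)

def cCHS_963 : Store := (.node 10675 cCHS_959 cCHS_962)

def cCHS_964 : Store := (.node 10730 (.node 10724 (.node 10721 (.node 10720 (.leaf 0x0) (.leaf 0x0)) (.node 10722 (.leaf 0x0) (.node 10723 (.leaf 0x0) (.leaf 0x0)))) (.node 10727 (.node 10725 (.leaf 0x0) (.node 10726 (.leaf 0x0) (.leaf 0x0))) (.node 10728 (.leaf 0x0) (.node 10729 (.leaf 0x0) (.leaf 0x0))))) (.node 10735 (.node 10732 (.node 10731 (.leaf 0x0) (.leaf 0x0)) (.node 10733 (.leaf 0x0) (.node 10734 (.leaf 0x0) (.leaf 0x0)))) (.node 10738 (.node 10736 (.leaf 0x0) (.node 10737 (.leaf 0x0) (.leaf 0x0))) (.node 10739 (.leaf 0x0) (.node 10740 (.leaf 0x0) (.leaf 0x0))))))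

def cCHS_965 : Store := (.node 10752 (.node 10746 (.node 10743 (.node 10742 (.leaf 0x0) (.leaf 0x0)) (.node 10744 (.leaf 0x0) (.node 10745 (.leaf 0x0) (.leaf 0x0)))) (.node 10749 (.node 10747 (.leaf 0x0) (.node 10748 (.leaf 0x0) (.leaf 0x0))) (.node 10750 (.leaf 0x0) (.node 10751 (.leaf 0x0) (.leaf 0x0))))) (.node 10757 (.node 10754 (.node 10753 (.leaf 0x0) (.leaf 0x0)) (.node 10755 (.leaf 0x0) (.node 10756 (.leaf 0x0) (.leaf 0x0)))) (.node 10760 (.node 10758 (.leaf 0x0) (.node 10759 (.leaf 0x0) (.leaf 0x0))) (.node 10761 (.leaf 0x0) (.node 10762 (.leaf 0x0) (.leaf 0x0))))))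

def cCHS_966 : Store := (.node 10741 cCHS_964 cCHS_965)

def cCHS_967 : Store := (.node 10774 (.node 10768 (.node 10765 (.node 10764 (.leaf 0x0) (.leaf 0x0)) (.node 10766 (.leaf 0x0) (.node 10767 (.leaf 0x0) (.leaf 0x0)))) (.node 10771 (.node 10769 (.leaf 0x0) (.node 10770 (.leaf 0x0) (.leaf 0x0))) (.node 10772 (.leaf 0x0) (.node 10773 (.leaf 0x0) (.leaf 0x0))))) (.node 10779 (.node 10776 (.node 10775 (.leaf 0x0) (.leaf 0x0)) (.node 10777 (.leaf 0x0) (.node 10778 (.leaf 0x0) (.leaf 0x0)))) (.node 10782 (.node 10780 (.leaf 0x0) (.node 10781 (.leaf 0x0) (.leaf 0x0))) (.node 10783 (.leaf 0x0) (.node 10784 (.leaf 0x0) (.leaf 0x0))))))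

def cCHS_968 : Store := (.node 10796 (.node 10790 (.node 10787 (.node 10786 (.leaf 0x0) (.leaf 0x0)) (.node 10788 (.leaf 0x0) (.node 10789 (.leaf 0x0) (.leaf 0x0)))) (.node 10793 (.node 10791 (.leaf 0x0) (.node 10792 (.leaf 0x0) (.leaf 0x0))) (.node 10794 (.leaf 0x0) (.node 10795 (.leaf 0x0) (.leaf 0x0))))) (.node 10802 (.node 10799 (.node 10797 (.leaf 0x0) (.node 10798 (.leaf 0x0) (.leaf 0x0))) (.node 10800 (.leaf 0x0) (.node 10801 (.leaf 0x1) (.leaf 0x0)))) (.node 10805 (.node 10803 (.leaf 0x0) (.node 10804 (.leaf 0x0) (.leaf 0x0))) (.node 10806 (.leaf 0x0) (.node 10807 (.leaf 0x0) (.leaf 0x0))))))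

def cCHS_969 : Store := (.node 10785 cCHS_967 cCHS_968)

def cCHS_970 : Store := (.node 10763 cCHS_966 cCHS_969)

def cCHS_971 : Store := (.node 10719 cCHS_963 cCHS_970)

def cCHS_972 : Store := (.node 10819 (.node 10813 (.node 10810 (.node 10809 (.leaf 0x0) (.leaf 0x0)) (.node 10811 (.leaf 0x0) (.node 10812 (.leaf 0x0) (.leaf 0x0)))) (.node 10816 (.node 10814 (.leaf 0x0) (.node 10815 (.leaf 0x0) (.leaf 0x0))) (.node 10817 (.leaf 0x0) (.node 10818 (.leaf 0x0) (.leaf 0x0))))) (.node 10824 (.node 10821 (.node 10820 (.leaf 0x0) (.leaf 0x0)) (.node 10822 (.leaf 0x0) (.node 10823 (.leaf 0x0) (.leaf 0x0)))) (.node 10827 (.node 10825 (.leaf 0x0) (.node 10826 (.leaf 0x0) (.leaf 0x0))) (.node 10828 (.leaf 0x0) (.node 10829 (.leaf 0x0) (.leaf 0x0))))))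

def cCHS_973 : Store := (.node 10841 (.node 10835 (.node 10832 (.node 10831 (.leaf 0x0) (.leaf 0x0)) (.node 10833 (.leaf 0x0) (.node 10834 (.leaf 0x0) (.leaf 0x0)))) (.node 10838 (.node 10836 (.leaf 0x0) (.node 10837 (.leaf 0x0) (.leaf 0x0))) (.node 10839 (.leaf 0x0) (.node 10840 (.leaf 0x0) (.leaf 0x0))))) (.node 10846 (.node 10843 (.node 10842 (.leaf 0x0) (.leaf 0x0)) (.node 10844 (.leaf 0x0) (.node 10845 (.leaf 0x0) (.leaf 0x0)))) (.node 10849 (.node 10847 (.leaf 0x0) (.node 10848 (.leaf 0x0) (.leaf 0x0))) (.node 10850 (.leaf 0x0) (.node 10851 (.leaf 0x0) (.leaf 0x0))))))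

def cCHS_974 : Store := (.node 10830 cCHS_972 cCHS_973)

def cCHS_975 : Store := (.node 10863 (.node 10857 (.node 10854 (.node 10853 (.leaf 0x0) (.leaf 0x0)) (.node 10855 (.leaf 0x0) (.node 10856 (.leaf 0x0) (.leaf 0x0)))) (.node 10860 (.node 10858 (.leaf 0x0) (.node 10859 (.leaf 0x0) (.leaf 0x0))) (.node 10861 (.leaf 0x0) (.node 10862 (.leaf 0x0) (.leaf 0x0))))) (.node 10868 (.node 10865 (.node 10864 (.leaf 0x0) (.leaf 0x0)) (.node 10866 (.leaf 0x0) (.node 10867 (.leaf 0x0) (.leaf 0x0)))) (.node 10871 (.node 10869 (.leaf 0x0) (.node 10870 (.leaf 0x0) (.leaf 0x0))) (.node 10872 (.leaf 0x0) (.node 10873 (.leaf 0x0) (.leaf 0x0))))))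

def cCHS_976 : Store := (.node 10885 (.node 10879 (.node 10876 (.node 10875 (.leaf 0x0) (.leaf 0x0)) (.node 10877 (.leaf 0x0) (.node 10878 (.leaf 0x0) (.leaf 0x0)))) (.node 10882 (.node 10880 (.leaf 0x0) (.node 10881 (.leaf 0x0) (.leaf 0x0))) (.node 10883 (.leaf 0x0) (.node 10884 (.leaf 0x0) (.leaf 0x0))))) (.node 10890 (.node 10887 (.node 10886 (.leaf 0x0) (.leaf 0x0)) (.node 10888 (.leaf 0x0) (.node 10889 (.leaf 0x0) (.leaf 0x0)))) (.node 10893 (.node 10891 (.leaf 0x0) (.node 10892 (.leaf 0x0) (.leaf 0x0))) (.node 10894 (.leaf 0x0) (.node 10895 (.leaf 0x0) (.leaf 0x0))))))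

def cCHS_977 : Store := (.node 10874 cCHS_975 cCHS_976)

def cCHS_978 : Store := (.node 10852 cCHS_974 cCHS_977)

def cCHS_979 : Store := (.node 10907 (.node 10901 (.node 10898 (.node 10897 (.leaf 0x0) (.leaf 0x0)) (.node 10899 (.leaf 0x0) (.node 10900 (.leaf 0x0) (.leaf 0x0)))) (.node 10904 (.node 10902 (.leaf 0x0) (.node 10903 (.leaf 0x0) (.leaf 0x0))) (.node 10905 (.leaf 0x0) (.node 10906 (.leaf 0x0) (.leaf 0x0))))) (.node 10912 (.node 10909 (.node 10908 (.leaf 0x0) (.leaf 0x0)) (.node 10910 (.leaf 0x0) (.node 10911 (.leaf 0x0) (.leaf 0x0)))) (.node 10915 (.node 10913 (.leaf 0x0) (.node 10914 (.leaf 0x0) (.leaf 0x0))) (.node 10916 (.leaf 0x0) (.node 10917 (.leaf 0x0) (.leaf 0x0))))))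

def cCHS_980 : Store := (.node 10929 (.node 10923 (.node 10920 (.node 10919 (.leaf 0x0) (.leaf 0x0)) (.node 10921 (.leaf 0x0) (.node 10922 (.leaf 0x0) (.leaf 0x0)))) (.node 10926 (.node 10924 (.leaf 0x0) (.node 10925 (.leaf 0x0) (.leaf 0x0))) (.node 10927 (.leaf 0x0) (.node 10928 (.leaf 0x0) (.leaf 0x0))))) (.node 10934 (.node 10931 (.node 10930 (.leaf 0x0) (.leaf 0x0)) (.node 10932 (.leaf 0x0) (.node 10933 (.leaf 0x0) (.leaf 0x0)))) (.node 10937 (.node 10935 (.leaf 0x0) (.node 10936 (.leaf 0x0) (.leaf 0x0))) (.node 10938 (.leaf 0x0) (.node 10939 (.leaf 0x0) (.leaf 0x0))))))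

def cCHS_981 : Store := (.node 10918 cCHS_979 cCHS_980)

def cCHS_982 : Store := (.node 10951 (.node 10945 (.node 10942 (.node 10941 (.leaf 0x0) (.leaf 0x0)) (.node 10943 (.leaf 0x0) (.node 10944 (.leaf 0x0) (.leaf 0x0)))) (.node 10948 (.node 10946 (.leaf 0x0) (.node 10947 (.leaf 0x0) (.leaf 0x0))) (.node 10949 (.leaf 0x0) (.node 10950 (.leaf 0x0) (.leaf 0x0))))) (.node 10956 (.node 10953 (.node 10952 (.leaf 0x0) (.leaf 0x0)) (.node 10954 (.leaf 0x0) (.node 10955 (.leaf 0x0) (.leaf 0x0)))) (.node 10959 (.node 10957 (.leaf 0x0) (.node 10958 (.leaf 0x0) (.leaf 0x0))) (.node 10960 (.leaf 0x0) (.node 10961 (.leaf 0x0) (.leaf 0x0))))))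

def cCHS_983 : Store := (.node 10973 (.node 10967 (.node 10964 (.node 10963 (.leaf 0x0) (.leaf 0x0)) (.node 10965 (.leaf 0x0) (.node 10966 (.leaf 0x0) (.leaf 0x0)))) (.node 10970 (.node 10968 (.leaf 0x0) (.node 10969 (.leaf 0x0) (.leaf 0x0))) (.node 10971 (.leaf 0x0) (.node 10972 (.leaf 0x0) (.leaf 0x0))))) (.node 10979 (.node 10976 (.node 10974 (.leaf 0x0) (.node 10975 (.leaf 0x0) (.leaf 0x0))) (.node 10977 (.leaf 0x0) (.node 10978 (.leaf 0x0) (.leaf 0x0)))) (.node 10982 (.node 10980 (.leaf 0x0) (.node 10981 (.leaf 0x0) (.leaf 0x0))) (.node 10983 (.leaf 0x0) (.node 10984 (.leaf 0x0) (.leaf 0x0))))))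

def cCHS_984 : Store := (.node 10962 cCHS_982 cCHS_983)

def cCHS_985 : Store := (.node 10940 cCHS_981 cCHS_984)

def cCHS_986 : Store := (.node 10896 cCHS_978 cCHS_985)

def cCHS_987 : Store := (.node 10808 cCHS_971 cCHS_986)

def cCHS_988 : Store := (.node 10996 (.node 10990 (.node 10987 (.node 10986 (.leaf 0x0) (.leaf 0x0)) (.node 10988 (.leaf 0x0) (.node 10989 (.leaf 0x0) (.leaf 0x0)))) (.node 10993 (.node 10991 (.leaf 0x0) (.node 10992 (.leaf 0x0) (.leaf 0x0))) (.node 10994 (.leaf 0x0) (.node 10995 (.leaf 0x0) (.leaf 0x0))))) (.node 11001 (.node 10998 (.node 10997 (.leaf 0x0) (.leaf 0x0)) (.node 10999 (.leaf 0x0) (.node 11000 (.leaf 0x0) (.leaf 0x0)))) (.node 11004 (.node 11002 (.leaf 0x0) (.node 11003 (.leaf 0x0) (.leaf 0x0))) (.node 11005 (.leaf 0x0) (.node 11006 (.leaf 0x0) (.leaf 0x0))))))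

def cCHS_989 : Store := (.node 11018 (.node 11012 (.node 11009 (.node 11008 (.leaf 0x0) (.leaf 0x0)) (.node 11010 (.leaf 0x0) (.node 11011 (.leaf 0x0) (.leaf 0x0)))) (.node 11015 (.node 11013 (.leaf 0x0) (.node 11014 (.leaf 0x0) (.leaf 0x0))) (.node 11016 (.leaf 0x0) (.node 11017 (.leaf 0x0) (.leaf 0x0))))) (.node 11023 (.node 11020 (.node 11019 (.leaf 0x0) (.leaf 0x0)) (.node 11021 (.leaf 0x0) (.node 11022 (.leaf 0x0) (.leaf 0x0)))) (.node 11026 (.node 11024 (.leaf 0x0) (.node 11025 (.leaf 0x0) (.leaf 0x0))) (.node 11027 (.leaf 0x0) (.node 11028 (.leaf 0x0) (.leaf 0x0))))))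

def cCHS_990 : Store := (.node 11007 cCHS_988 cCHS_989)

def cCHS_991 : Store := (.node 11040 (.node 11034 (.node 11031 (.node 11030 (.leaf 0x0) (.leaf 0x0)) (.node 11032 (.leaf 0x0) (.node 11033 (.leaf 0x0) (.leaf 0x0)))) (.node 11037 (.node 11035 (.leaf 0x0) (.node 11036 (.leaf 0x0) (.leaf 0x0))) (.node 11038 (.leaf 0x0) (.node 11039 (.leaf 0x0) (.leaf 0x0))))) (.node 11045 (.node 11042 (.node 11041 (.leaf 0x0) (.leaf 0x0)) (.node 11043 (.leaf 0x0) (.node 11044 (.leaf 0x0) (.leaf 0x0)))) (.node 11048 (.node 11046 (.leaf 0x0) (.node 11047 (.leaf 0x0) (.leaf 0x0))) (.node 11049 (.leaf 0x0) (.node 11050 (.leaf 0x0) (.leaf 0x0))))))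

def cCHS_992 : Store := (.node 11062 (.node 11056 (.node 11053 (.node 11052 (.leaf 0x0) (.leaf 0x0)) (.node 11054 (.leaf 0x0) (.node 11055 (.leaf 0x0) (.leaf 0x0)))) (.node 11059 (.node 11057 (.leaf 0x0) (.node 11058 (.leaf 0x0) (.leaf 0x0))) (.node 11060 (.leaf 0x0) (.node 11061 (.leaf 0x0) (.leaf 0x0))))) (.node 11067 (.node 11064 (.node 11063 (.leaf 0x0) (.leaf 0x0)) (.node 11065 (.leaf 0x0) (.node 11066 (.leaf 0x0) (.leaf 0x0)))) (.node 11070 (.node 11068 (.leaf 0x0) (.node 11069 (.leaf 0x0) (.leaf 0x0))) (.node 11071 (.leaf 0x0) (.node 11072 (.leaf 0x0) (.leaf 0x0))))))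

def cCHS_993 : Store := (.node 11051 cCHS_991 cCHS_992)

def cCHS_994 : Store := (.node 11029 cCHS_990 cCHS_993)

def cCHS_995 : Store := (.node 11084 (.node 11078 (.node 11075 (.node 11074 (.leaf 0x0) (.leaf 0x0)) (.node 11076 (.leaf 0x0) (.node 11077 (.leaf 0x0) (.leaf 0x0)))) (.node 11081 (.node 11079 (.leaf 0x0) (.node 11080 (.leaf 0x0) (.leaf 0x0))) (.node 11082 (.leaf 0x0) (.node 11083 (.leaf 0x0) (.leaf 0x0))))) (.node 11089 (.node 11086 (.node 11085 (.leaf 0x0) (.leaf 0x0)) (.node 11087 (.leaf 0x0) (.node 11088 (.leaf 0x0) (.leaf 0x0)))) (.node 11092 (.node 11090 (.leaf 0x0) (.node 11091 (.leaf 0x0) (.leaf 0x0))) (.node 11093 (.leaf 0x0) (.node 11094 (.leaf 0x0) (.leaf 0x0))))))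

def cCHS_996 : Store := (.node 11106 (.node 11100 (.node 11097 (.node 11096 (.leaf 0x0) (.leaf 0x0)) (.node 11098 (.leaf 0x0) (.node 11099 (.leaf 0x0) (.leaf 0x0)))) (.node 11103 (.node 11101 (.leaf 0x0) (.node 11102 (.leaf 0x0) (.leaf 0x0))) (.node 11104 (.leaf 0x0) (.node 11105 (.leaf 0x0) (.leaf 0x0))))) (.node 11111 (.node 11108 (.node 11107 (.leaf 0x0) (.leaf 0x0)) (.node 11109 (.leaf 0x0) (.node 11110 (.leaf 0x0) (.leaf 0x0)))) (.node 11114 (.node 11112 (.leaf 0x0) (.node 11113 (.leaf 0x0) (.leaf 0x0))) (.node 11115 (.leaf 0x0) (.node 11116 (.leaf 0x0) (.leaf 0x0))))))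

def cCHS_997 : Store := (.node 11095 cCHS_995 cCHS_996)

def cCHS_998 : Store := (.node 11128 (.node 11122 (.node 11119 (.node 11118 (.leaf 0x0) (.leaf 0x0)) (.node 11120 (.leaf 0x0) (.node 11121 (.leaf 0x0) (.leaf 0x0)))) (.node 11125 (.node 11123 (.leaf 0x0) (.node 11124 (.leaf 0x0) (.leaf 0x0))) (.node 11126 (.leaf 0x0) (.node 11127 (.leaf 0x0) (.leaf 0x0))))) (.node 11133 (.node 11130 (.node 11129 (.leaf 0x0) (.leaf 0x0)) (.node 11131 (.leaf 0x0) (.node 11132 (.leaf 0x0) (.leaf 0x0)))) (.node 11136 (.node 11134 (.leaf 0x0) (.node 11135 (.leaf 0x0) (.leaf 0x0))) (.node 11137 (.leaf 0x0) (.node 11138 (.leaf 0x0) (.leaf 0x0))))))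

def cCHS_999 : Store := (.node 11150 (.node 11144 (.node 11141 (.node 11140 (.leaf 0x0) (.leaf 0x0)) (.node 11142 (.leaf 0x0) (.node 11143 (.leaf 0x0) (.leaf 0x0)))) (.node 11147 (.node 11145 (.leaf 0x0) (.node 11146 (.leaf 0x0) (.leaf 0x0))) (.node 11148 (.leaf 0x0) (.node 11149 (.leaf 0x0) (.leaf 0x0))))) (.node 11156 (.node 11153 (.node 11151 (.leaf 0x0) (.node 11152 (.leaf 0x0) (.leaf 0x0))) (.node 11154 (.leaf 0x0) (.node 11155 (.leaf 0x0) (.leaf 0x0)))) (.node 11159 (.node 11157 (.leaf 0x0) (.node 11158 (.leaf 0x0) (.leaf 0x0))) (.node 11160 (.leaf 0x0) (.node 11161 (.leaf 0x0) (.leaf 0x0))))))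

def cCHS_1000 : Store := (.node 11139 cCHS_998 cCHS_999)

def cCHS_1001 : Store := (.node 11117 cCHS_997 cCHS_1000)

def cCHS_1002 : Store := (.node 11073 cCHS_994 cCHS_1001)

def cCHS_1003 : Store := (.node 11173 (.node 11167 (.node 11164 (.node 11163 (.leaf 0x0) (.leaf 0x0)) (.node 11165 (.leaf 0x0) (.node 11166 (.leaf 0x0) (.leaf 0x0)))) (.node 11170 (.node 11168 (.leaf 0x0) (.node 11169 (.leaf 0x0) (.leaf 0x0))) (.node 11171 (.leaf 0x0) (.node 11172 (.leaf 0x0) (.leaf 0x0))))) (.node 11178 (.node 11175 (.node 11174 (.leaf 0x0) (.leaf 0x0)) (.node 11176 (.leaf 0x0) (.node 11177 (.leaf 0x0) (.leaf 0x0)))) (.node 11181 (.node 11179 (.leaf 0x0) (.node 11180 (.leaf 0x0) (.leaf 0x0))) (.node 11182 (.leaf 0x0) (.node 11183 (.leaf 0x0) (.leaf 0x0))))))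

def cCHS_1004 : Store := (.node 11195 (.node 11189 (.node 11186 (.node 11185 (.leaf 0x0) (.leaf 0x0)) (.node 11187 (.leaf 0x0) (.node 11188 (.leaf 0x0) (.leaf 0x0)))) (.node 11192 (.node 11190 (.leaf 0x0) (.node 11191 (.leaf 0x0) (.leaf 0x0))) (.node 11193 (.leaf 0x0) (.node 11194 (.leaf 0x0) (.leaf 0x0))))) (.node 11200 (.node 11197 (.node 11196 (.leaf 0x0) (.leaf 0x0)) (.node 11198 (.leaf 0x0) (.node 11199 (.leaf 0x0) (.leaf 0x0)))) (.node 11203 (.node 11201 (.leaf 0x0) (.node 11202 (.leaf 0x0) (.leaf 0x0))) (.node 11204 (.leaf 0x0) (.node 11205 (.leaf 0x0) (.leaf 0x0))))))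

def cCHS_1005 : Store := (.node 11184 cCHS_1003 cCHS_1004)

def cCHS_1006 : Store := (.node 11217 (.node 11211 (.node 11208 (.node 11207 (.leaf 0x0) (.leaf 0x0)) (.node 11209 (.leaf 0x0) (.node 11210 (.leaf 0x0) (.leaf 0x0)))) (.node 11214 (.node 11212 (.leaf 0x0) (.node 11213 (.leaf 0x0) (.leaf 0x0))) (.node 11215 (.leaf 0x0) (.node 11216 (.leaf 0x0) (.leaf 0x0))))) (.node 11222 (.node 11219 (.node 11218 (.leaf 0x0) (.leaf 0x0)) (.node 11220 (.leaf 0x0) (.node 11221 (.leaf 0x0) (.leaf 0x0)))) (.node 11225 (.node 11223 (.leaf 0x0) (.node 11224 (.leaf 0x0) (.leaf 0x0))) (.node 11226 (.leaf 0x0) (.node 11227 (.leaf 0x0) (.leaf 0x0))))))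

def cCHS_1007 : Store := (.node 11239 (.node 11233 (.node 11230 (.node 11229 (.leaf 0x0) (.leaf 0x0)) (.node 11231 (.leaf 0x0) (.node 11232 (.leaf 0x0) (.leaf 0x0)))) (.node 11236 (.node 11234 (.leaf 0x0) (.node 11235 (.leaf 0x0) (.leaf 0x0))) (.node 11237 (.leaf 0x0) (.node 11238 (.leaf 0x0) (.leaf 0x0))))) (.node 11245 (.node 11242 (.node 11240 (.leaf 0x0) (.node 11241 (.leaf 0x0) (.leaf 0x0))) (.node 11243 (.leaf 0x0) (.node 11244 (.leaf 0x0) (.leaf 0x0)))) (.node 11248 (.node 11246 (.leaf 0x0) (.node 11247 (.leaf 0x0) (.leaf 0x0))) (.node 11249 (.leaf 0x0) (.node 11250 (.leaf 0x0) (.leaf 0x0))))))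

def cCHS_1008 : Store := (.node 11228 cCHS_1006 cCHS_1007)

def cCHS_1009 : Store := (.node 11206 cCHS_1005 cCHS_1008)

def cCHS_1010 : Store := (.node 11262 (.node 11256 (.node 11253 (.node 11252 (.leaf 0x0) (.leaf 0x0)) (.node 11254 (.leaf 0x0) (.node 11255 (.leaf 0x0) (.leaf 0x0)))) (.node 11259 (.node 11257 (.leaf 0x0) (.node 11258 (.leaf 0x0) (.leaf 0x0))) (.node 11260 (.leaf 0x0) (.node 11261 (.leaf 0x0) (.leaf 0x0))))) (.node 11267 (.node 11264 (.node 11263 (.leaf 0x0) (.leaf 0x0)) (.node 11265 (.leaf 0x0) (.node 11266 (.leaf 0x0) (.leaf 0x0)))) (.node 11270 (.node 11268 (.leaf 0x0) (.node 11269 (.leaf 0x0) (.leaf 0x0))) (.node 11271 (.leaf 0x0) (.node 11272 (.leaf 0x0) (.leaf 0x0))))))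

def cCHS_1011 : Store := (.node 11284 (.node 11278 (.node 11275 (.node 11274 (.leaf 0x0) (.leaf 0x0)) (.node 11276 (.leaf 0x0) (.node 11277 (.leaf 0x0) (.leaf 0x0)))) (.node 11281 (.node 11279 (.leaf 0x0) (.node 11280 (.leaf 0x0) (.leaf 0x0))) (.node 11282 (.leaf 0x0) (.node 11283 (.leaf 0x0) (.leaf 0x0))))) (.node 11289 (.node 11286 (.node 11285 (.leaf 0x0) (.leaf 0x0)) (.node 11287 (.leaf 0x0) (.node 11288 (.leaf 0x0) (.leaf 0x0)))) (.node 11292 (.node 11290 (.leaf 0x0) (.node 11291 (.leaf 0x0) (.leaf 0x0))) (.node 11293 (.leaf 0x0) (.node 11294 (.leaf 0x0) (.leaf 0x0))))))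

def cCHS_1012 : Store := (.node 11273 cCHS_1010 cCHS_1011)

def cCHS_1013 : Store := (.node 11306 (.node 11300 (.node 11297 (.node 11296 (.leaf 0x0) (.leaf 0x0)) (.node 11298 (.leaf 0x0) (.node 11299 (.leaf 0x0) (.leaf 0x0)))) (.node 11303 (.node 11301 (.leaf 0x0) (.node 11302 (.leaf 0x0) (.leaf 0x0))) (.node 11304 (.leaf 0x0) (.node 11305 (.leaf 0x0) (.leaf 0x0))))) (.node 11311 (.node 11308 (.node 11307 (.leaf 0x0) (.leaf 0x0)) (.node 11309 (.leaf 0x0) (.node 11310 (.leaf 0x0) (.leaf 0x0)))) (.node 11314 (.node 11312 (.leaf 0x0) (.node 11313 (.leaf 0x0) (.leaf 0x0))) (.node 11315 (.leaf 0x0) (.node 11316 (.leaf 0x0) (.leaf 0x0))))))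

def cCHS_1014 : Store := (.node 11328 (.node 11322 (.node 11319 (.node 11318 (.leaf 0x0) (.leaf 0x0)) (.node 11320 (.leaf 0x0) (.node 11321 (.leaf 0x0) (.leaf 0x0)))) (.node 11325 (.node 11323 (.leaf 0x0) (.node 11324 (.leaf 0x0) (.leaf 0x0))) (.node 11326 (.leaf 0x0) (.node 11327 (.leaf 0x0) (.leaf 0x0))))) (.node 11334 (.node 11331 (.node 11329 (.leaf 0x0) (.node 11330 (.leaf 0x0) (.leaf 0x0))) (.node 11332 (.leaf 0x0) (.node 11333 (.leaf 0x0) (.leaf 0x0)))) (.node 11337 (.node 11335 (.leaf 0x0) (.node 11336 (.leaf 0x0) (.leaf 0x0))) (.node 11338 (.leaf 0x0) (.node 11339 (.leaf 0x0) (.leaf 0x0))))))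

def cCHS_1015 : Store := (.node 11317 cCHS_1013 cCHS_1014)

def cCHS_1016 : Store := (.node 11295 cCHS_1012 cCHS_1015)

def cCHS_1017 : Store := (.node 11251 cCHS_1009 cCHS_1016)

def cCHS_1018 : Store := (.node 11162 cCHS_1002 cCHS_1017)

def cCHS_1019 : Store := (.node 10985 cCHS_987 cCHS_1018)

def cCHS_1020 : Store := (.node 10631 cCHS_956 cCHS_1019)

def cCHS_1021 : Store := (.node 9922 cCHS_893 cCHS_1020)

def cCHS_1022 : Store := (.node 8505 cCHS_766 cCHS_1021)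

def cCHS : Store := (.node 5670 cCHS_511 cCHS_1022)


end Cfsg.Agent.DCoset.HNLow
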