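import Cfsg.Agent.DCoset.HNLow.Defs

/-! Generated by tools/dcoset/emit.py: cosets and positions. -/

set_option Elab.async false
set_option maxRecDepth 100000

namespace Cfsg.Agent.DCoset.HNLow

open Cfsg.Agent.DCoset Cfsg.Agent.CosetCert

theorem left_all : allFrom (fun g => allFrom (Low.checkLeft low HN.tab g) 0 352) 0 6 = true := by
  decide +kernel

theorem loc_all_0 : allFrom (fun m => allFrom (Low.checkLoc low HN.tab m) 0 352) 0 1 = true := by
  decide +kernel

theorem loc_all_1 : allFrom (fun m => allFrom (Low.checkLoc low HN.tab m) 0 352) 1 1 = true := by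
  decide +kernel

theorem loc_all_2 : allFrom (fun m => allFrom (Low.checkLoc low HN.tab m) 0 352) 2 1 = true := by
  decide +kernel

theorem loc_all_3 : allFrom (fun m => allFrom (Low.checkLoc low HN.tab m) 0 352) 3 1 = true := by
  decide +kernel

theorem loc_all_4 : allFrom (fun m => allFrom (Low.checkLoc low HN.tab m) 0 352) 4 1 = true := by
  decide +kernel

theorem loc_all_5 : allFrom (fun m => allFrom (Low.checkLoc low HN.tab m) 0 352) 5 1 = true := by
  decide +kernel

theorem loc_all_6 : allFrom (fun m => allFrom (Low.checkLoc low HN.tab m) 0 352) 6 1 = true := by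
  decide +kernel

theorem loc_all_7 : allFrom (fun m => allFrom (Low.checkLoc low HN.tab m) 0 352) 7 1 = true := by
  decide +kernel

theorem loc_all_8 : allFrom (fun m => allFrom (Low.checkLoc low HN.tab m) 0 352) 8 1 = true := by
  decide +kernel

theorem loc_all : allFrom (fun m => allFrom (Low.checkLoc low HN.tab m) 0 352) 0 9 = true :=
  (allFrom_append (p := (fun m => allFrom (Low.checkLoc low HN.tab m) 0 352)) (n := 1) 8 (allFrom_append (p := (fun m => allFrom (Low.checkLoc low HN.tab m) 0 352)) (n := 1) 7 (allFrom_append (p := (fun m => allFrom (Low.checkLoc low HN.tab m) 0 352)) (n := 1) 6 (allFrom_append (p := (fun m => allFrom (Low.checkLoc low HN.tab m) 0 352)) (n := 1) 5 (allFrom_append (p := (fun m => allFrom (Low.checkLoc low HN.tab m) 0 352)) (n := 1) 4 (allFrom_append (p := (fun m => allFrom (Low.checkLoc low HN.tab m) 0 352)) (n := 1) 3 (allFrom_append (p := (fun m => allFrom (Low.checkLoc low HN.tab m) 0 352)) (n := 1) 2 (allFrom_append (p := (fun m => allFrom (Low.checkLoc low HN.tab m) 0 352)) (n := 1) 1 loc_all_0 loc_all_1) loc_all_2)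 loc_all_3) loc_all_4) loc_all_5) loc_all_6) loc_all_7) loc_all_8)

theorem root_all : allFrom (Low.checkRoot low HN.tab) 0 33 = true := by
  decide +kernel

theorem w_all : allFrom (fun j => allFrom (Low.checkW low HN.tab j) 0 (low.nW j)) 0 33 = true := by
  decide +kernel

theorem sep_all : allFrom (Low.checkSep low HN.tab) 0 352 = true := by
  decide +kernel

theorem stab_all : allFrom (fun m => allFrom (fun a => Cover.okP HN.tab (low.stabW m a)) 0 (low.nStab m)) 0 9 = true := by
  decide +kernel

theorem ep_all : allFrom (fun c => Cover.okP HN.tab (low.ep c)) 0 352 = true := by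
  decide +kernel


end Cfsg.Agent.DCoset.HNLow
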