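import Cfsg.Agent.DCoset.HNLow.Defs

/-! Generated by tools/dcoset/emit.py: images and bounds. -/

set_option Elab.async false
set_option maxRecDepth 100000

namespace Cfsg.Agent.DCoset.HNLow

open Cfsg.Agent.DCoset Cfsg.Agent.CosetCert

theorem img_all : allFrom (fun j => allFrom (Low.checkImg low HN.tab j) 0 5) 0 33 = true := by
  decide +kernel

theorem compat_all_0 : allFrom (fun j => allFrom (fun b => allFrom (Low.checkCompat low HN.tab j b) 0 5) 0 (low.nW j)) 0 9 = true := by
  decide +kernel

theorem compat_all_1 : allFrom (fun j => allFrom (fun b => allFrom (Low.checkCompat low HN.tab j b) 0 5) 0 (low.nW j)) 9 9 = true := by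
  decide +kernel

theorem compat_all_2 : allFrom (fun j => allFrom (fun b => allFrom (Low.checkCompat low HN.tab j b) 0 5) 0 (low.nW j)) 18 9 = true := by
  decide +kernel

theorem compat_all_3 : allFrom (fun j => allFrom (fun b => allFrom (Low.checkCompat low HN.tab j b) 0 5) 0 (low.nW j)) 27 6 = true := by
  decide +kernel

theorem compat_all : allFrom (fun j => allFrom (fun b => allFrom (Low.checkCompat low HN.tab j b) 0 5) 0 (low.nW j)) 0 33 = true :=
  (allFrom_append (p := (fun j => allFrom (fun b => allFrom (Low.checkCompat low HN.tab j b) 0 5) 0 (low.nW j))) (n := 6) 27 (allFrom_append (p := (fun j => allFrom (fun b => allFrom (Low.checkCompat low HN.tab j b) 0 5) 0 (low.nW j))) (n := 9) 18 (allFrom_append (p := (fun j => allFrom (fun b => allFrom (Low.checkCompat low HN.tab j b) 0 5) 0 (low.nW j))) (n := 9) 9 compat_all_0 compat_all_1) compat_all_2) compat_all_3)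

theorem mul_all_0 : allFrom (fun j => allFrom (fun s => allFrom (Low.checkMul low HN.tab j s) 0 5) 0 5) 0 9 = true := by
  decide +kernel

theorem mul_all_1 : allFrom (fun j => allFrom (fun s => allFrom (Low.checkMul low HN.tab j s) 0 5) 0 5) 9 9 = true := by
  decide +kernel

theorem mul_all_2 : allFrom (fun j => allFrom (fun s => allFrom (Low.checkMul low HN.tab j s) 0 5) 0 5) 18 9 = true := by
  decide +kernel

theorem mul_all_3 : allFrom (fun j => allFrom (fun s => allFrom (Low.checkMul low HN.tab j s) 0 5) 0 5) 27 6 = true := by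
  decide +kernel

theorem mul_all : allFrom (fun j => allFrom (fun s => allFrom (Low.checkMul low HN.tab j s) 0 5) 0 5) 0 33 = true :=
  (allFrom_append (p := (fun j => allFrom (fun s => allFrom (Low.checkMul low HN.tab j s) 0 5) 0 5)) (n := 6) 27 (allFrom_append (p := (fun j => allFrom (fun s => allFrom (Low.checkMul low HN.tab j s) 0 5) 0 5)) (n := 9) 18 (allFrom_append (p := (fun j => allFrom (fun s => allFrom (Low.checkMul low HN.tab j s) 0 5) 0 5)) (n := 9) 9 mul_all_0 mul_all_1) mul_all_2) mul_all_3)

theorem zero_all : allFrom (Low.checkZero low HN.tab) 0 33 = true := by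
  decide +kernel

theorem reach_all : allFrom (Low.checkReach low HN.tab rSrc rWdS.get rTt rHc rHuS.get) 0 9 = true := by
  decide +kernel

theorem c_all : allFrom (Low.checkC low lrel HN.tab) 0 lrel.nC = true := by
  decide +kernel

theorem d_all : allFrom (fun e => Low.okU low (lrel.dW e)) 0 200 = true := by
  decide +kernel

theorem dd_all : allFrom (fun g => allFrom (Low.checkD lrel HN.tab g) 0 200) 0 4 = true := by
  decide +kernel

theorem closed_ok : allFrom (fun m => allFrom (Closed.checkOk (closed m) HN.tab) 0 (cK m)) 0 9 = true := by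
  decide +kernel

theorem closed_chk_0 : allFrom (fun m => allFrom (fun l => allFrom (fun i => allFrom (Closed.check (closed m) HN.tab l i) 0 ((closed m).nG l)) 0 ((closed m).size l)) 0 (cK m)) 0 2 = true := by
  decide +kernel

theorem closed_chk_1 : allFrom (fun m => allFrom (fun l => allFrom (fun i => allFrom (Closed.check (closed m) HN.tab l i) 0 ((closed m).nG l)) 0 ((closed m).size l)) 0 (cK m)) 2 2 = true := by
  decide +kernel

theorem closed_chk_2 : allFrom (fun m => allFrom (fun l => allFrom (fun i => allFrom (Closed.check (closed m) HN.tab l i) 0 ((closed m).nG l)) 0 ((closed m).size l)) 0 (cK m)) 4 2 = true := by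
  decide +kernel

theorem closed_chk_3 : allFrom (fun m => allFrom (fun l => allFrom (fun i => allFrom (Closed.check (closed m) HN.tab l i) 0 ((closed m).nG l)) 0 ((closed m).size l)) 0 (cK m)) 6 2 = true := by
  decide +kernel

theorem closed_chk_4 : allFrom (fun m => allFrom (fun l => allFrom (fun i => allFrom (Closed.check (closed m) HN.tab l i) 0 ((closed m).nG l)) 0 ((closed m).size l)) 0 (cK m)) 8 1 = true := by
  decide +kernel

theorem closed_chk : allFrom (fun m => allFrom (fun l => allFrom (fun i => allFrom (Closed.check (closed m) HN.tab l i) 0 ((closed m).nG l)) 0 ((closed m).size l)) 0 (cK m)) 0 9 = true :=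
  (allFrom_append (p := (fun m => allFrom (fun l => allFrom (fun i => allFrom (Closed.check (closed m) HN.tab l i) 0 ((closed m).nG l)) 0 ((closed m).size l)) 0 (cK m))) (n := 1) 8 (allFrom_append (p := (fun m => allFrom (fun l => allFrom (fun i => allFrom (Closed.check (closed m) HN.tab l i) 0 ((closed m).nG l)) 0 ((closed m).size l)) 0 (cK m))) (n := 2) 6 (allFrom_append (p := (fun m => allFrom (fun l => allFrom (fun i => allFrom (Closed.check (closed m) HN.tab l i) 0 ((closed m).nG l)) 0 ((closed m).size l)) 0 (cK m))) (n := 2) 4 (allFrom_append (p := (fun m => allFrom (fun l => allFrom (fun i => allFrom (Closed.check (closed m) HN.tab l i) 0 ((closed m).nG l)) 0 ((closed m).size l)) 0 (cK m))) (n := 2) 2 closed_chk_0 closed_chk_1) closed_chk_2) closed_chk_3) closed_chk_4)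


end Cfsg.Agent.DCoset.HNLow
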