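import Cfsg.Agent.DCoset.HNLow.Defs

/-! Generated by tools/dcoset/emit.py: the relator. -/

set_option Elab.async false
set_option maxRecDepth 100000

namespace Cfsg.Agent.DCoset.HNLow

open Cfsg.Agent.DCoset Cfsg.Agent.CosetCert

theorem rel_0_0 : allFrom (Low.checkRel low lrel HN.tab 0) 0 50 = true := by
  decide +kernel

theorem rel_0_1 : allFrom (Low.checkRel low lrel HN.tab 0) 50 50 = true := by
  decide +kernel

theorem rel_0_2 : allFrom (Low.checkRel low lrel HN.tab 0) 100 50 = true := by
  decide +kernel

theorem rel_0_3 : allFrom (Low.checkRel low lrel HN.tab 0) 150 50 = true := by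
  decide +kernel

theorem rel_0 : allFrom (Low.checkRel low lrel HN.tab 0) 0 200 = true :=
  (allFrom_append (p := (Low.checkRel low lrel HN.tab 0)) (n := 50) 150 (allFrom_append (p := (Low.checkRel low lrel HN.tab 0)) (n := 50) 100 (allFrom_append (p := (Low.checkRel low lrel HN.tab 0)) (n := 50) 50 rel_0_0 rel_0_1) rel_0_2) rel_0_3)

theorem rel_1_0 : allFrom (Low.checkRel low lrel HN.tab 1) 0 50 = true := by
  decide +kernel

theorem rel_1_1 : allFrom (Low.checkRel low lrel HN.tab 1) 50 50 = true := by
  decide +kernel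

theorem rel_1_2 : allFrom (Low.checkRel low lrel HN.tab 1) 100 50 = true := by
  decide +kernel

theorem rel_1_3 : allFrom (Low.checkRel low lrel HN.tab 1) 150 50 = true := by
  decide +kernel

theorem rel_1 : allFrom (Low.checkRel low lrel HN.tab 1) 0 200 = true :=
  (allFrom_append (p := (Low.checkRel low lrel HN.tab 1)) (n := 50) 150 (allFrom_append (p := (Low.checkRel low lrel HN.tab 1)) (n := 50) 100 (allFrom_append (p := (Low.checkRel low lrel HN.tab 1)) (n := 50) 50 rel_1_0 rel_1_1) rel_1_2) rel_1_3)

theorem rel_2_0 : allFrom (Low.checkRel low lrel HN.tab 2) 0 50 = true := by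
  decide +kernel

theorem rel_2_1 : allFrom (Low.checkRel low lrel HN.tab 2) 50 50 = true := by
  decide +kernel

theorem rel_2_2 : allFrom (Low.checkRel low lrel HN.tab 2) 100 50 = true := by
  decide +kernel

theorem rel_2_3 : allFrom (Low.checkRel low lrel HN.tab 2) 150 50 = true := by
  decide +kernel

theorem rel_2 : allFrom (Low.checkRel low lrel HN.tab 2) 0 200 = true :=
  (allFrom_append (p := (Low.checkRel low lrel HN.tab 2)) (n := 50) 150 (allFrom_append (p := (Low.checkRel low lrel HN.tab 2)) (n := 50) 100 (allFrom_append (p := (Low.checkRel low lrel HN.tab 2)) (n := 50) 50 rel_2_0 rel_2_1) rel_2_2) rel_2_3)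

theorem rel_3_0 : allFrom (Low.checkRel low lrel HN.tab 3) 0 50 = true := by
  decide +kernel

theorem rel_3_1 : allFrom (Low.checkRel low lrel HN.tab 3) 50 50 = true := by
  decide +kernel

theorem rel_3_2 : allFrom (Low.checkRel low lrel HN.tab 3) 100 50 = true := by
  decide +kernel

theorem rel_3_3 : allFrom (Low.checkRel low lrel HN.tab 3) 150 50 = true := by
  decide +kernel

theorem rel_3 : allFrom (Low.checkRel low lrel HN.tab 3) 0 200 = true :=
  (allFrom_append (p := (Low.checkRel low lrel HN.tab 3)) (n := 50) 150 (allFrom_append (p := (Low.checkRel low lrel HN.tab 3)) (n := 50) 100 (allFrom_append (p := (Low.checkRel low lrel HN.tab 3)) (n := 50) 50 rel_3_0 rel_3_1) rel_3_2) rel_3_3)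

theorem rel_4_0 : allFrom (Low.checkRel low lrel HN.tab 4) 0 50 = true := by
  decide +kernel

theorem rel_4_1 : allFrom (Low.checkRel low lrel HN.tab 4) 50 50 = true := by
  decide +kernel

theorem rel_4_2 : allFrom (Low.checkRel low lrel HN.tab 4) 100 50 = true := by
  decide +kernel

theorem rel_4_3 : allFrom (Low.checkRel low lrel HN.tab 4) 150 50 = true := by
  decide +kernel

theorem rel_4 : allFrom (Low.checkRel low lrel HN.tab 4) 0 200 = true :=
  (allFrom_append (p := (Low.checkRel low lrel HN.tab 4)) (n := 50) 150 (allFrom_append (p := (Low.checkRel low lrel HN.tab 4)) (n := 50) 100 (allFrom_append (p := (Low.checkRel low lrel HN.tab 4)) (n := 50) 50 rel_4_0 rel_4_1) rel_4_2) rel_4_3)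


end Cfsg.Agent.DCoset.HNLow
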