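import Cfsg.Agent.DCoset.HNLow.Defs

/-! Generated by tools/dcoset/emit.py: the relator. -/

set_option Elab.async false
set_option maxRecDepth 100000

namespace Cfsg.Agent.DCoset.HNLow

open Cfsg.Agent.DCoset Cfsg.Agent.CosetCert

theorem rel_5_0 : allFrom (Low.checkRel low lrel HN.tab 5) 0 50 = true := by
  decide +kernel

theorem rel_5_1 : allFrom (Low.checkRel low lrel HN.tab 5) 50 50 = true := by
  decide +kernel

theorem rel_5_2 : allFrom (Low.checkRel low lrel HN.tab 5) 100 50 = true := by
  decide +kernel

theorem rel_5_3 : allFrom (Low.checkRel low lrel HN.tab 5) 150 50 = true := by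
  decide +kernel

theorem rel_5 : allFrom (Low.checkRel low lrel HN.tab 5) 0 200 = true :=
  (allFrom_append (p := (Low.checkRel low lrel HN.tab 5)) (n := 50) 150 (allFrom_append (p := (Low.checkRel low lrel HN.tab 5)) (n := 50) 100 (allFrom_append (p := (Low.checkRel low lrel HN.tab 5)) (n := 50) 50 rel_5_0 rel_5_1) rel_5_2) rel_5_3)

theorem rel_6_0 : allFrom (Low.checkRel low lrel HN.tab 6) 0 50 = true := by
  decide +kernel

theorem rel_6_1 : allFrom (Low.checkRel low lrel HN.tab 6) 50 50 = true := by
  decide +kernel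

theorem rel_6_2 : allFrom (Low.checkRel low lrel HN.tab 6) 100 50 = true := by
  decide +kernel

theorem rel_6_3 : allFrom (Low.checkRel low lrel HN.tab 6) 150 50 = true := by
  decide +kernel

theorem rel_6 : allFrom (Low.checkRel low lrel HN.tab 6) 0 200 = true :=
  (allFrom_append (p := (Low.checkRel low lrel HN.tab 6)) (n := 50) 150 (allFrom_append (p := (Low.checkRel low lrel HN.tab 6)) (n := 50) 100 (allFrom_append (p := (Low.checkRel low lrel HN.tab 6)) (n := 50) 50 rel_6_0 rel_6_1) rel_6_2) rel_6_3)

theorem rel_7_0 : allFrom (Low.checkRel low lrel HN.tab 7) 0 50 = true := by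
  decide +kernel

theorem rel_7_1 : allFrom (Low.checkRel low lrel HN.tab 7) 50 50 = true := by
  decide +kernel

theorem rel_7_2 : allFrom (Low.checkRel low lrel HN.tab 7) 100 50 = true := by
  decide +kernel

theorem rel_7_3 : allFrom (Low.checkRel low lrel HN.tab 7) 150 50 = true := by
  decide +kernel

theorem rel_7 : allFrom (Low.checkRel low lrel HN.tab 7) 0 200 = true :=
  (allFrom_append (p := (Low.checkRel low lrel HN.tab 7)) (n := 50) 150 (allFrom_append (p := (Low.checkRel low lrel HN.tab 7)) (n := 50) 100 (allFrom_append (p := (Low.checkRel low lrel HN.tab 7)) (n := 50) 50 rel_7_0 rel_7_1) rel_7_2) rel_7_3)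

theorem rel_8_0 : allFrom (Low.checkRel low lrel HN.tab 8) 0 50 = true := by
  decide +kernel

theorem rel_8_1 : allFrom (Low.checkRel low lrel HN.tab 8) 50 50 = true := by
  decide +kernel

theorem rel_8_2 : allFrom (Low.checkRel low lrel HN.tab 8) 100 50 = true := by
  decide +kernel

theorem rel_8_3 : allFrom (Low.checkRel low lrel HN.tab 8) 150 50 = true := by
  decide +kernel

theorem rel_8 : allFrom (Low.checkRel low lrel HN.tab 8) 0 200 = true :=
  (allFrom_append (p := (Low.checkRel low lrel HN.tab 8)) (n := 50) 150 (allFrom_append (p := (Low.checkRel low lrel HN.tab 8)) (n := 50) 100 (allFrom_append (p := (Low.checkRel low lrel HN.tab 8)) (n := 50) 50 rel_8_0 rel_8_1) rel_8_2) rel_8_3)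

theorem rel_9_0 : allFrom (Low.checkRel low lrel HN.tab 9) 0 50 = true := by
  decide +kernel

theorem rel_9_1 : allFrom (Low.checkRel low lrel HN.tab 9) 50 50 = true := by
  decide +kernel

theorem rel_9_2 : allFrom (Low.checkRel low lrel HN.tab 9) 100 50 = true := by
  decide +kernel

theorem rel_9_3 : allFrom (Low.checkRel low lrel HN.tab 9) 150 50 = true := by
  decide +kernel

theorem rel_9 : allFrom (Low.checkRel low lrel HN.tab 9) 0 200 = true :=
  (allFrom_append (p := (Low.checkRel low lrel HN.tab 9)) (n := 50) 150 (allFrom_append (p := (Low.checkRel low lrel HN.tab 9)) (n := 50) 100 (allFrom_append (p := (Low.checkRel low lrel HN.tab 9)) (n := 50) 50 rel_9_0 rel_9_1) rel_9_2) rel_9_3)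


end Cfsg.Agent.DCoset.HNLow
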