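import Cfsg.Agent.DCoset.HNLow.Defs

/-! Generated by tools/dcoset/emit.py: the relator. -/

set_option Elab.async false
set_option maxRecDepth 100000

namespace Cfsg.Agent.DCoset.HNLow

open Cfsg.Agent.DCoset Cfsg.Agent.CosetCert

theorem rel_10_0 : allFrom (Low.checkRel low lrel HN.tab 10) 0 50 = true := by
  decide +kernel

theorem rel_10_1 : allFrom (Low.checkRel low lrel HN.tab 10) 50 50 = true := by
  decide +kernel

theorem rel_10_2 : allFrom (Low.checkRel low lrel HN.tab 10) 100 50 = true := by
  decide +kernel

theorem rel_10_3 : allFrom (Low.checkRel low lrel HN.tab 10) 150 50 = true := by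
  decide +kernel

theorem rel_10 : allFrom (Low.checkRel low lrel HN.tab 10) 0 200 = true :=
  (allFrom_append (p := (Low.checkRel low lrel HN.tab 10)) (n := 50) 150 (allFrom_append (p := (Low.checkRel low lrel HN.tab 10)) (n := 50) 100 (allFrom_append (p := (Low.checkRel low lrel HN.tab 10)) (n := 50) 50 rel_10_0 rel_10_1) rel_10_2) rel_10_3)

theorem rel_11_0 : allFrom (Low.checkRel low lrel HN.tab 11) 0 50 = true := by
  decide +kernel

theorem rel_11_1 : allFrom (Low.checkRel low lrel HN.tab 11) 50 50 = true := by
  decide +kernel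

theorem rel_11_2 : allFrom (Low.checkRel low lrel HN.tab 11) 100 50 = true := by
  decide +kernel

theorem rel_11_3 : allFrom (Low.checkRel low lrel HN.tab 11) 150 50 = true := by
  decide +kernel

theorem rel_11 : allFrom (Low.checkRel low lrel HN.tab 11) 0 200 = true :=
  (allFrom_append (p := (Low.checkRel low lrel HN.tab 11)) (n := 50) 150 (allFrom_append (p := (Low.checkRel low lrel HN.tab 11)) (n := 50) 100 (allFrom_append (p := (Low.checkRel low lrel HN.tab 11)) (n := 50) 50 rel_11_0 rel_11_1) rel_11_2) rel_11_3)

theorem rel_12_0 : allFrom (Low.checkRel low lrel HN.tab 12) 0 50 = true := by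
  decide +kernel

theorem rel_12_1 : allFrom (Low.checkRel low lrel HN.tab 12) 50 50 = true := by
  decide +kernel

theorem rel_12_2 : allFrom (Low.checkRel low lrel HN.tab 12) 100 50 = true := by
  decide +kernel

theorem rel_12_3 : allFrom (Low.checkRel low lrel HN.tab 12) 150 50 = true := by
  decide +kernel

theorem rel_12 : allFrom (Low.checkRel low lrel HN.tab 12) 0 200 = true :=
  (allFrom_append (p := (Low.checkRel low lrel HN.tab 12)) (n := 50) 150 (allFrom_append (p := (Low.checkRel low lrel HN.tab 12)) (n := 50) 100 (allFrom_append (p := (Low.checkRel low lrel HN.tab 12)) (n := 50) 50 rel_12_0 rel_12_1) rel_12_2) rel_12_3)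

theorem rel_13_0 : allFrom (Low.checkRel low lrel HN.tab 13) 0 50 = true := by
  decide +kernel

theorem rel_13_1 : allFrom (Low.checkRel low lrel HN.tab 13) 50 50 = true := by
  decide +kernel

theorem rel_13_2 : allFrom (Low.checkRel low lrel HN.tab 13) 100 50 = true := by
  decide +kernel

theorem rel_13_3 : allFrom (Low.checkRel low lrel HN.tab 13) 150 50 = true := by
  decide +kernel

theorem rel_13 : allFrom (Low.checkRel low lrel HN.tab 13) 0 200 = true :=
  (allFrom_append (p := (Low.checkRel low lrel HN.tab 13)) (n := 50) 150 (allFrom_append (p := (Low.checkRel low lrel HN.tab 13)) (n := 50) 100 (allFrom_append (p := (Low.checkRel low lrel HN.tab 13)) (n := 50) 50 rel_13_0 rel_13_1) rel_13_2) rel_13_3)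

theorem rel_14_0 : allFrom (Low.checkRel low lrel HN.tab 14) 0 50 = true := by
  decide +kernel

theorem rel_14_1 : allFrom (Low.checkRel low lrel HN.tab 14) 50 50 = true := by
  decide +kernel

theorem rel_14_2 : allFrom (Low.checkRel low lrel HN.tab 14) 100 50 = true := by
  decide +kernel

theorem rel_14_3 : allFrom (Low.checkRel low lrel HN.tab 14) 150 50 = true := by
  decide +kernel

theorem rel_14 : allFrom (Low.checkRel low lrel HN.tab 14) 0 200 = true :=
  (allFrom_append (p := (Low.checkRel low lrel HN.tab 14)) (n := 50) 150 (allFrom_append (p := (Low.checkRel low lrel HN.tab 14)) (n := 50) 100 (allFrom_append (p := (Low.checkRel low lrel HN.tab 14)) (n := 50) 50 rel_14_0 rel_14_1) rel_14_2) rel_14_3)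


end Cfsg.Agent.DCoset.HNLow
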