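import Cfsg.Agent.DCoset.HNLow.Defs

/-! Generated by tools/dcoset/emit.py: the relator. -/

set_option Elab.async false
set_option maxRecDepth 100000

namespace Cfsg.Agent.DCoset.HNLow

open Cfsg.Agent.DCoset Cfsg.Agent.CosetCert

theorem rel_15_0 : allFrom (Low.checkRel low lrel HN.tab 15) 0 50 = true := by
  decide +kernel

theorem rel_15_1 : allFrom (Low.checkRel low lrel HN.tab 15) 50 50 = true := by
  decide +kernel

theorem rel_15_2 : allFrom (Low.checkRel low lrel HN.tab 15) 100 50 = true := by
  decide +kernel

theorem rel_15_3 : allFrom (Low.checkRel low lrel HN.tab 15) 150 50 = true := by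
  decide +kernel

theorem rel_15 : allFrom (Low.checkRel low lrel HN.tab 15) 0 200 = true :=
  (allFrom_append (p := (Low.checkRel low lrel HN.tab 15)) (n := 50) 150 (allFrom_append (p := (Low.checkRel low lrel HN.tab 15)) (n := 50) 100 (allFrom_append (p := (Low.checkRel low lrel HN.tab 15)) (n := 50) 50 rel_15_0 rel_15_1) rel_15_2) rel_15_3)

theorem rel_16_0 : allFrom (Low.checkRel low lrel HN.tab 16) 0 50 = true := by
  decide +kernel

theorem rel_16_1 : allFrom (Low.checkRel low lrel HN.tab 16) 50 50 = true := by
  decide +kernel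

theorem rel_16_2 : allFrom (Low.checkRel low lrel HN.tab 16) 100 50 = true := by
  decide +kernel

theorem rel_16_3 : allFrom (Low.checkRel low lrel HN.tab 16) 150 50 = true := by
  decide +kernel

theorem rel_16 : allFrom (Low.checkRel low lrel HN.tab 16) 0 200 = true :=
  (allFrom_append (p := (Low.checkRel low lrel HN.tab 16)) (n := 50) 150 (allFrom_append (p := (Low.checkRel low lrel HN.tab 16)) (n := 50) 100 (allFrom_append (p := (Low.checkRel low lrel HN.tab 16)) (n := 50) 50 rel_16_0 rel_16_1) rel_16_2) rel_16_3)

theorem rel_17_0 : allFrom (Low.checkRel low lrel HN.tab 17) 0 50 = true := by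
  decide +kernel

theorem rel_17_1 : allFrom (Low.checkRel low lrel HN.tab 17) 50 50 = true := by
  decide +kernel

theorem rel_17_2 : allFrom (Low.checkRel low lrel HN.tab 17) 100 50 = true := by
  decide +kernel

theorem rel_17_3 : allFrom (Low.checkRel low lrel HN.tab 17) 150 50 = true := by
  decide +kernel

theorem rel_17 : allFrom (Low.checkRel low lrel HN.tab 17) 0 200 = true :=
  (allFrom_append (p := (Low.checkRel low lrel HN.tab 17)) (n := 50) 150 (allFrom_append (p := (Low.checkRel low lrel HN.tab 17)) (n := 50) 100 (allFrom_append (p := (Low.checkRel low lrel HN.tab 17)) (n := 50) 50 rel_17_0 rel_17_1) rel_17_2) rel_17_3)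

theorem rel_18_0 : allFrom (Low.checkRel low lrel HN.tab 18) 0 50 = true := by
  decide +kernel

theorem rel_18_1 : allFrom (Low.checkRel low lrel HN.tab 18) 50 50 = true := by
  decide +kernel

theorem rel_18_2 : allFrom (Low.checkRel low lrel HN.tab 18) 100 50 = true := by
  decide +kernel

theorem rel_18_3 : allFrom (Low.checkRel low lrel HN.tab 18) 150 50 = true := by
  decide +kernel

theorem rel_18 : allFrom (Low.checkRel low lrel HN.tab 18) 0 200 = true :=
  (allFrom_append (p := (Low.checkRel low lrel HN.tab 18)) (n := 50) 150 (allFrom_append (p := (Low.checkRel low lrel HN.tab 18)) (n := 50) 100 (allFrom_append (p := (Low.checkRel low lrel HN.tab 18)) (n := 50) 50 rel_18_0 rel_18_1) rel_18_2) rel_18_3)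

theorem rel_19_0 : allFrom (Low.checkRel low lrel HN.tab 19) 0 50 = true := by
  decide +kernel

theorem rel_19_1 : allFrom (Low.checkRel low lrel HN.tab 19) 50 50 = true := by
  decide +kernel

theorem rel_19_2 : allFrom (Low.checkRel low lrel HN.tab 19) 100 50 = true := by
  decide +kernel

theorem rel_19_3 : allFrom (Low.checkRel low lrel HN.tab 19) 150 50 = true := by
  decide +kernel

theorem rel_19 : allFrom (Low.checkRel low lrel HN.tab 19) 0 200 = true :=
  (allFrom_append (p := (Low.checkRel low lrel HN.tab 19)) (n := 50) 150 (allFrom_append (p := (Low.checkRel low lrel HN.tab 19)) (n := 50) 100 (allFrom_append (p := (Low.checkRel low lrel HN.tab 19)) (n := 50) 50 rel_19_0 rel_19_1) rel_19_2) rel_19_3)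


end Cfsg.Agent.DCoset.HNLow
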