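import Cfsg.Agent.DCoset.HNLow.Defs

/-! Generated by tools/dcoset/emit.py: the relator. -/

set_option Elab.async false
set_option maxRecDepth 100000

namespace Cfsg.Agent.DCoset.HNLow

open Cfsg.Agent.DCoset Cfsg.Agent.CosetCert

theorem rel_20_0 : allFrom (Low.checkRel low lrel HN.tab 20) 0 50 = true := by
  decide +kernel

theorem rel_20_1 : allFrom (Low.checkRel low lrel HN.tab 20) 50 50 = true := by
  decide +kernel

theorem rel_20_2 : allFrom (Low.checkRel low lrel HN.tab 20) 100 50 = true := by
  decide +kernel

theorem rel_20_3 : allFrom (Low.checkRel low lrel HN.tab 20) 150 50 = true := by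
  decide +kernel

theorem rel_20 : allFrom (Low.checkRel low lrel HN.tab 20) 0 200 = true :=
  (allFrom_append (p := (Low.checkRel low lrel HN.tab 20)) (n := 50) 150 (allFrom_append (p := (Low.checkRel low lrel HN.tab 20)) (n := 50) 100 (allFrom_append (p := (Low.checkRel low lrel HN.tab 20)) (n := 50) 50 rel_20_0 rel_20_1) rel_20_2) rel_20_3)

theorem rel_21_0 : allFrom (Low.checkRel low lrel HN.tab 21) 0 50 = true := by
  decide +kernel

theorem rel_21_1 : allFrom (Low.checkRel low lrel HN.tab 21) 50 50 = true := by
  decide +kernel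

theorem rel_21_2 : allFrom (Low.checkRel low lrel HN.tab 21) 100 50 = true := by
  decide +kernel

theorem rel_21_3 : allFrom (Low.checkRel low lrel HN.tab 21) 150 50 = true := by
  decide +kernel

theorem rel_21 : allFrom (Low.checkRel low lrel HN.tab 21) 0 200 = true :=
  (allFrom_append (p := (Low.checkRel low lrel HN.tab 21)) (n := 50) 150 (allFrom_append (p := (Low.checkRel low lrel HN.tab 21)) (n := 50) 100 (allFrom_append (p := (Low.checkRel low lrel HN.tab 21)) (n := 50) 50 rel_21_0 rel_21_1) rel_21_2) rel_21_3)

theorem rel_22_0 : allFrom (Low.checkRel low lrel HN.tab 22) 0 50 = true := by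
  decide +kernel

theorem rel_22_1 : allFrom (Low.checkRel low lrel HN.tab 22) 50 50 = true := by
  decide +kernel

theorem rel_22_2 : allFrom (Low.checkRel low lrel HN.tab 22) 100 50 = true := by
  decide +kernel

theorem rel_22_3 : allFrom (Low.checkRel low lrel HN.tab 22) 150 50 = true := by
  decide +kernel

theorem rel_22 : allFrom (Low.checkRel low lrel HN.tab 22) 0 200 = true :=
  (allFrom_append (p := (Low.checkRel low lrel HN.tab 22)) (n := 50) 150 (allFrom_append (p := (Low.checkRel low lrel HN.tab 22)) (n := 50) 100 (allFrom_append (p := (Low.checkRel low lrel HN.tab 22)) (n := 50) 50 rel_22_0 rel_22_1) rel_22_2) rel_22_3)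

theorem rel_23_0 : allFrom (Low.checkRel low lrel HN.tab 23) 0 50 = true := by
  decide +kernel

theorem rel_23_1 : allFrom (Low.checkRel low lrel HN.tab 23) 50 50 = true := by
  decide +kernel

theorem rel_23_2 : allFrom (Low.checkRel low lrel HN.tab 23) 100 50 = true := by
  decide +kernel

theorem rel_23_3 : allFrom (Low.checkRel low lrel HN.tab 23) 150 50 = true := by
  decide +kernel

theorem rel_23 : allFrom (Low.checkRel low lrel HN.tab 23) 0 200 = true :=
  (allFrom_append (p := (Low.checkRel low lrel HN.tab 23)) (n := 50) 150 (allFrom_append (p := (Low.checkRel low lrel HN.tab 23)) (n := 50) 100 (allFrom_append (p := (Low.checkRel low lrel HN.tab 23)) (n := 50) 50 rel_23_0 rel_23_1) rel_23_2) rel_23_3)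

theorem rel_24_0 : allFrom (Low.checkRel low lrel HN.tab 24) 0 50 = true := by
  decide +kernel

theorem rel_24_1 : allFrom (Low.checkRel low lrel HN.tab 24) 50 50 = true := by
  decide +kernel

theorem rel_24_2 : allFrom (Low.checkRel low lrel HN.tab 24) 100 50 = true := by
  decide +kernel

theorem rel_24_3 : allFrom (Low.checkRel low lrel HN.tab 24) 150 50 = true := by
  decide +kernel

theorem rel_24 : allFrom (Low.checkRel low lrel HN.tab 24) 0 200 = true :=
  (allFrom_append (p := (Low.checkRel low lrel HN.tab 24)) (n := 50) 150 (allFrom_append (p := (Low.checkRel low lrel HN.tab 24)) (n := 50) 100 (allFrom_append (p := (Low.checkRel low lrel HN.tab 24)) (n := 50) 50 rel_24_0 rel_24_1) rel_24_2) rel_24_3)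


end Cfsg.Agent.DCoset.HNLow
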