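import Cfsg.Agent.DCoset.HNLow.Defs

/-! Generated by tools/dcoset/emit.py: the relator. -/

set_option Elab.async false
set_option maxRecDepth 100000

namespace Cfsg.Agent.DCoset.HNLow

open Cfsg.Agent.DCoset Cfsg.Agent.CosetCert

theorem rel_25_0 : allFrom (Low.checkRel low lrel HN.tab 25) 0 50 = true := by
  decide +kernel

theorem rel_25_1 : allFrom (Low.checkRel low lrel HN.tab 25) 50 50 = true := by
  decide +kernel

theorem rel_25_2 : allFrom (Low.checkRel low lrel HN.tab 25) 100 50 = true := by
  decide +kernel

theorem rel_25_3 : allFrom (Low.checkRel low lrel HN.tab 25) 150 50 = true := by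
  decide +kernel

theorem rel_25 : allFrom (Low.checkRel low lrel HN.tab 25) 0 200 = true :=
  (allFrom_append (p := (Low.checkRel low lrel HN.tab 25)) (n := 50) 150 (allFrom_append (p := (Low.checkRel low lrel HN.tab 25)) (n := 50) 100 (allFrom_append (p := (Low.checkRel low lrel HN.tab 25)) (n := 50) 50 rel_25_0 rel_25_1) rel_25_2) rel_25_3)

theorem rel_26_0 : allFrom (Low.checkRel low lrel HN.tab 26) 0 50 = true := by
  decide +kernel

theorem rel_26_1 : allFrom (Low.checkRel low lrel HN.tab 26) 50 50 = true := by
  decide +kernel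

theorem rel_26_2 : allFrom (Low.checkRel low lrel HN.tab 26) 100 50 = true := by
  decide +kernel

theorem rel_26_3 : allFrom (Low.checkRel low lrel HN.tab 26) 150 50 = true := by
  decide +kernel

theorem rel_26 : allFrom (Low.checkRel low lrel HN.tab 26) 0 200 = true :=
  (allFrom_append (p := (Low.checkRel low lrel HN.tab 26)) (n := 50) 150 (allFrom_append (p := (Low.checkRel low lrel HN.tab 26)) (n := 50) 100 (allFrom_append (p := (Low.checkRel low lrel HN.tab 26)) (n := 50) 50 rel_26_0 rel_26_1) rel_26_2) rel_26_3)

theorem rel_27_0 : allFrom (Low.checkRel low lrel HN.tab 27) 0 50 = true := by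
  decide +kernel

theorem rel_27_1 : allFrom (Low.checkRel low lrel HN.tab 27) 50 50 = true := by
  decide +kernel

theorem rel_27_2 : allFrom (Low.checkRel low lrel HN.tab 27) 100 50 = true := by
  decide +kernel

theorem rel_27_3 : allFrom (Low.checkRel low lrel HN.tab 27) 150 50 = true := by
  decide +kernel

theorem rel_27 : allFrom (Low.checkRel low lrel HN.tab 27) 0 200 = true :=
  (allFrom_append (p := (Low.checkRel low lrel HN.tab 27)) (n := 50) 150 (allFrom_append (p := (Low.checkRel low lrel HN.tab 27)) (n := 50) 100 (allFrom_append (p := (Low.checkRel low lrel HN.tab 27)) (n := 50) 50 rel_27_0 rel_27_1) rel_27_2) rel_27_3)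

theorem rel_28_0 : allFrom (Low.checkRel low lrel HN.tab 28) 0 50 = true := by
  decide +kernel

theorem rel_28_1 : allFrom (Low.checkRel low lrel HN.tab 28) 50 50 = true := by
  decide +kernel

theorem rel_28_2 : allFrom (Low.checkRel low lrel HN.tab 28) 100 50 = true := by
  decide +kernel

theorem rel_28_3 : allFrom (Low.checkRel low lrel HN.tab 28) 150 50 = true := by
  decide +kernel

theorem rel_28 : allFrom (Low.checkRel low lrel HN.tab 28) 0 200 = true :=
  (allFrom_append (p := (Low.checkRel low lrel HN.tab 28)) (n := 50) 150 (allFrom_append (p := (Low.checkRel low lrel HN.tab 28)) (n := 50) 100 (allFrom_append (p := (Low.checkRel low lrel HN.tab 28)) (n := 50) 50 rel_28_0 rel_28_1) rel_28_2) rel_28_3)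

theorem rel_29_0 : allFrom (Low.checkRel low lrel HN.tab 29) 0 50 = true := by
  decide +kernel

theorem rel_29_1 : allFrom (Low.checkRel low lrel HN.tab 29) 50 50 = true := by
  decide +kernel

theorem rel_29_2 : allFrom (Low.checkRel low lrel HN.tab 29) 100 50 = true := by
  decide +kernel

theorem rel_29_3 : allFrom (Low.checkRel low lrel HN.tab 29) 150 50 = true := by
  decide +kernel

theorem rel_29 : allFrom (Low.checkRel low lrel HN.tab 29) 0 200 = true :=
  (allFrom_append (p := (Low.checkRel low lrel HN.tab 29)) (n := 50) 150 (allFrom_append (p := (Low.checkRel low lrel HN.tab 29)) (n := 50) 100 (allFrom_append (p := (Low.checkRel low lrel HN.tab 29)) (n := 50) 50 rel_29_0 rel_29_1) rel_29_2) rel_29_3)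


end Cfsg.Agent.DCoset.HNLow
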