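import Cfsg.Agent.DCoset.HNLow.Defs

/-! Generated by tools/dcoset/emit.py: the relator. -/

set_option Elab.async false
set_option maxRecDepth 100000

namespace Cfsg.Agent.DCoset.HNLow

open Cfsg.Agent.DCoset Cfsg.Agent.CosetCert

theorem rel_30_0 : allFrom (Low.checkRel low lrel HN.tab 30) 0 50 = true := by
  decide +kernel

theorem rel_30_1 : allFrom (Low.checkRel low lrel HN.tab 30) 50 50 = true := by
  decide +kernel

theorem rel_30_2 : allFrom (Low.checkRel low lrel HN.tab 30) 100 50 = true := by
  decide +kernel

theorem rel_30_3 : allFrom (Low.checkRel low lrel HN.tab 30) 150 50 = true := by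
  decide +kernel

theorem rel_30 : allFrom (Low.checkRel low lrel HN.tab 30) 0 200 = true :=
  (allFrom_append (p := (Low.checkRel low lrel HN.tab 30)) (n := 50) 150 (allFrom_append (p := (Low.checkRel low lrel HN.tab 30)) (n := 50) 100 (allFrom_append (p := (Low.checkRel low lrel HN.tab 30)) (n := 50) 50 rel_30_0 rel_30_1) rel_30_2) rel_30_3)

theorem rel_31_0 : allFrom (Low.checkRel low lrel HN.tab 31) 0 50 = true := by
  decide +kernel

theorem rel_31_1 : allFrom (Low.checkRel low lrel HN.tab 31) 50 50 = true := by
  decide +kernel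

theorem rel_31_2 : allFrom (Low.checkRel low lrel HN.tab 31) 100 50 = true := by
  decide +kernel

theorem rel_31_3 : allFrom (Low.checkRel low lrel HN.tab 31) 150 50 = true := by
  decide +kernel

theorem rel_31 : allFrom (Low.checkRel low lrel HN.tab 31) 0 200 = true :=
  (allFrom_append (p := (Low.checkRel low lrel HN.tab 31)) (n := 50) 150 (allFrom_append (p := (Low.checkRel low lrel HN.tab 31)) (n := 50) 100 (allFrom_append (p := (Low.checkRel low lrel HN.tab 31)) (n := 50) 50 rel_31_0 rel_31_1) rel_31_2) rel_31_3)

theorem rel_32_0 : allFrom (Low.checkRel low lrel HN.tab 32) 0 50 = true := by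
  decide +kernel

theorem rel_32_1 : allFrom (Low.checkRel low lrel HN.tab 32) 50 50 = true := by
  decide +kernel

theorem rel_32_2 : allFrom (Low.checkRel low lrel HN.tab 32) 100 50 = true := by
  decide +kernel

theorem rel_32_3 : allFrom (Low.checkRel low lrel HN.tab 32) 150 50 = true := by
  decide +kernel

theorem rel_32 : allFrom (Low.checkRel low lrel HN.tab 32) 0 200 = true :=
  (allFrom_append (p := (Low.checkRel low lrel HN.tab 32)) (n := 50) 150 (allFrom_append (p := (Low.checkRel low lrel HN.tab 32)) (n := 50) 100 (allFrom_append (p := (Low.checkRel low lrel HN.tab 32)) (n := 50) 50 rel_32_0 rel_32_1) rel_32_2) rel_32_3)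


end Cfsg.Agent.DCoset.HNLow
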