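import Cfsg.Agent.DCoset.HNLow.Defs

/-! Generated by tools/dcoset/emit.py: Schreier steps. -/

set_option Elab.async false
set_option maxRecDepth 100000

namespace Cfsg.Agent.DCoset.HNLow

open Cfsg.Agent.DCoset Cfsg.Agent.CosetCert

theorem sch_0_0 : allFrom (fun c => allFrom (Low.checkSch low HN.tab 0 c) 0 (low.nStab 0)) 0 88 = true := by
  decide +kernel

theorem sch_0_1 : allFrom (fun c => allFrom (Low.checkSch low HN.tab 0 c) 0 (low.nStab 0)) 88 88 = true := by
  decide +kernel

theorem sch_0_2 : allFrom (fun c => allFrom (Low.checkSch low HN.tab 0 c) 0 (low.nStab 0)) 176 88 = true := by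
  decide +kernel

theorem sch_0_3 : allFrom (fun c => allFrom (Low.checkSch low HN.tab 0 c) 0 (low.nStab 0)) 264 88 = true := by
  decide +kernel

theorem sch_0 : allFrom (fun c => allFrom (Low.checkSch low HN.tab 0 c) 0 (low.nStab 0)) 0 352 = true :=
  (allFrom_append (p := (fun c => allFrom (Low.checkSch low HN.tab 0 c) 0 (low.nStab 0))) (n := 88) 264 (allFrom_append (p := (fun c => allFrom (Low.checkSch low HN.tab 0 c) 0 (low.nStab 0))) (n := 88) 176 (allFrom_append (p := (fun c => allFrom (Low.checkSch low HN.tab 0 c) 0 (low.nStab 0))) (n := 88) 88 sch_0_0 sch_0_1) sch_0_2) sch_0_3)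

theorem sch_1_0 : allFrom (fun c => allFrom (Low.checkSch low HN.tab 1 c) 0 (low.nStab 1)) 0 88 = true := by
  decide +kernel

theorem sch_1_1 : allFrom (fun c => allFrom (Low.checkSch low HN.tab 1 c) 0 (low.nStab 1)) 88 88 = true := by
  decide +kernel

theorem sch_1_2 : allFrom (fun c => allFrom (Low.checkSch low HN.tab 1 c) 0 (low.nStab 1)) 176 88 = true := by
  decide +kernel

theorem sch_1_3 : allFrom (fun c => allFrom (Low.checkSch low HN.tab 1 c) 0 (low.nStab 1)) 264 88 = true := by
  decide +kernel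

theorem sch_1 : allFrom (fun c => allFrom (Low.checkSch low HN.tab 1 c) 0 (low.nStab 1)) 0 352 = true :=
  (allFrom_append (p := (fun c => allFrom (Low.checkSch low HN.tab 1 c) 0 (low.nStab 1))) (n := 88) 264 (allFrom_append (p := (fun c => allFrom (Low.checkSch low HN.tab 1 c) 0 (low.nStab 1))) (n := 88) 176 (allFrom_append (p := (fun c => allFrom (Low.checkSch low HN.tab 1 c) 0 (low.nStab 1))) (n := 88) 88 sch_1_0 sch_1_1) sch_1_2) sch_1_3)

theorem sch_2_0 : allFrom (fun c => allFrom (Low.checkSch low HN.tab 2 c) 0 (low.nStab 2)) 0 88 = true := by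
  decide +kernel

theorem sch_2_1 : allFrom (fun c => allFrom (Low.checkSch low HN.tab 2 c) 0 (low.nStab 2)) 88 88 = true := by
  decide +kernel

theorem sch_2_2 : allFrom (fun c => allFrom (Low.checkSch low HN.tab 2 c) 0 (low.nStab 2)) 176 88 = true := by
  decide +kernel

theorem sch_2_3 : allFrom (fun c => allFrom (Low.checkSch low HN.tab 2 c) 0 (low.nStab 2)) 264 88 = true := by
  decide +kernel

theorem sch_2 : allFrom (fun c => allFrom (Low.checkSch low HN.tab 2 c) 0 (low.nStab 2)) 0 352 = true :=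
  (allFrom_append (p := (fun c => allFrom (Low.checkSch low HN.tab 2 c) 0 (low.nStab 2))) (n := 88) 264 (allFrom_append (p := (fun c => allFrom (Low.checkSch low HN.tab 2 c) 0 (low.nStab 2))) (n := 88) 176 (allFrom_append (p := (fun c => allFrom (Low.checkSch low HN.tab 2 c) 0 (low.nStab 2))) (n := 88) 88 sch_2_0 sch_2_1) sch_2_2) sch_2_3)


end Cfsg.Agent.DCoset.HNLow
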