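import Cfsg.Agent.DCoset.HNLow.Defs

/-! Generated by tools/dcoset/emit.py: Schreier steps. -/

set_option Elab.async false
set_option maxRecDepth 100000

namespace Cfsg.Agent.DCoset.HNLow

open Cfsg.Agent.DCoset Cfsg.Agent.CosetCert

theorem sch_3_0 : allFrom (fun c => allFrom (Low.checkSch low HN.tab 3 c) 0 (low.nStab 3)) 0 88 = true := by
  decide +kernel

theorem sch_3_1 : allFrom (fun c => allFrom (Low.checkSch low HN.tab 3 c) 0 (low.nStab 3)) 88 88 = true := by
  decide +kernel

theorem sch_3_2 : allFrom (fun c => allFrom (Low.checkSch low HN.tab 3 c) 0 (low.nStab 3)) 176 88 = true := by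
  decide +kernel

theorem sch_3_3 : allFrom (fun c => allFrom (Low.checkSch low HN.tab 3 c) 0 (low.nStab 3)) 264 88 = true := by
  decide +kernel

theorem sch_3 : allFrom (fun c => allFrom (Low.checkSch low HN.tab 3 c) 0 (low.nStab 3)) 0 352 = true :=
  (allFrom_append (p := (fun c => allFrom (Low.checkSch low HN.tab 3 c) 0 (low.nStab 3))) (n := 88) 264 (allFrom_append (p := (fun c => allFrom (Low.checkSch low HN.tab 3 c) 0 (low.nStab 3))) (n := 88) 176 (allFrom_append (p := (fun c => allFrom (Low.checkSch low HN.tab 3 c) 0 (low.nStab 3))) (n := 88) 88 sch_3_0 sch_3_1) sch_3_2) sch_3_3)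

theorem sch_4_0 : allFrom (fun c => allFrom (Low.checkSch low HN.tab 4 c) 0 (low.nStab 4)) 0 88 = true := by
  decide +kernel

theorem sch_4_1 : allFrom (fun c => allFrom (Low.checkSch low HN.tab 4 c) 0 (low.nStab 4)) 88 88 = true := by
  decide +kernel

theorem sch_4_2 : allFrom (fun c => allFrom (Low.checkSch low HN.tab 4 c) 0 (low.nStab 4)) 176 88 = true := by
  decide +kernel

theorem sch_4_3 : allFrom (fun c => allFrom (Low.checkSch low HN.tab 4 c) 0 (low.nStab 4)) 264 88 = true := by
  decide +kernel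

theorem sch_4 : allFrom (fun c => allFrom (Low.checkSch low HN.tab 4 c) 0 (low.nStab 4)) 0 352 = true :=
  (allFrom_append (p := (fun c => allFrom (Low.checkSch low HN.tab 4 c) 0 (low.nStab 4))) (n := 88) 264 (allFrom_append (p := (fun c => allFrom (Low.checkSch low HN.tab 4 c) 0 (low.nStab 4))) (n := 88) 176 (allFrom_append (p := (fun c => allFrom (Low.checkSch low HN.tab 4 c) 0 (low.nStab 4))) (n := 88) 88 sch_4_0 sch_4_1) sch_4_2) sch_4_3)

theorem sch_5_0 : allFrom (fun c => allFrom (Low.checkSch low HN.tab 5 c) 0 (low.nStab 5)) 0 88 = true := by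
  decide +kernel

theorem sch_5_1 : allFrom (fun c => allFrom (Low.checkSch low HN.tab 5 c) 0 (low.nStab 5)) 88 88 = true := by
  decide +kernel

theorem sch_5_2 : allFrom (fun c => allFrom (Low.checkSch low HN.tab 5 c) 0 (low.nStab 5)) 176 88 = true := by
  decide +kernel

theorem sch_5_3 : allFrom (fun c => allFrom (Low.checkSch low HN.tab 5 c) 0 (low.nStab 5)) 264 88 = true := by
  decide +kernel

theorem sch_5 : allFrom (fun c => allFrom (Low.checkSch low HN.tab 5 c) 0 (low.nStab 5)) 0 352 = true :=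
  (allFrom_append (p := (fun c => allFrom (Low.checkSch low HN.tab 5 c) 0 (low.nStab 5))) (n := 88) 264 (allFrom_append (p := (fun c => allFrom (Low.checkSch low HN.tab 5 c) 0 (low.nStab 5))) (n := 88) 176 (allFrom_append (p := (fun c => allFrom (Low.checkSch low HN.tab 5 c) 0 (low.nStab 5))) (n := 88) 88 sch_5_0 sch_5_1) sch_5_2) sch_5_3)


end Cfsg.Agent.DCoset.HNLow
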