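import Cfsg.Agent.DCoset.HNLow.Defs

/-! Generated by tools/dcoset/emit.py: Schreier steps. -/

set_option Elab.async false
set_option maxRecDepth 100000

namespace Cfsg.Agent.DCoset.HNLow

open Cfsg.Agent.DCoset Cfsg.Agent.CosetCert

theorem sch_6_0 : allFrom (fun c => allFrom (Low.checkSch low HN.tab 6 c) 0 (low.nStab 6)) 0 88 = true := by
  decide +kernel

theorem sch_6_1 : allFrom (fun c => allFrom (Low.checkSch low HN.tab 6 c) 0 (low.nStab 6)) 88 88 = true := by
  decide +kernel

theorem sch_6_2 : allFrom (fun c => allFrom (Low.checkSch low HN.tab 6 c) 0 (low.nStab 6)) 176 88 = true := by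
  decide +kernel

theorem sch_6_3 : allFrom (fun c => allFrom (Low.checkSch low HN.tab 6 c) 0 (low.nStab 6)) 264 88 = true := by
  decide +kernel

theorem sch_6 : allFrom (fun c => allFrom (Low.checkSch low HN.tab 6 c) 0 (low.nStab 6)) 0 352 = true :=
  (allFrom_append (p := (fun c => allFrom (Low.checkSch low HN.tab 6 c) 0 (low.nStab 6))) (n := 88) 264 (allFrom_append (p := (fun c => allFrom (Low.checkSch low HN.tab 6 c) 0 (low.nStab 6))) (n := 88) 176 (allFrom_append (p := (fun c => allFrom (Low.checkSch low HN.tab 6 c) 0 (low.nStab 6))) (n := 88) 88 sch_6_0 sch_6_1) sch_6_2) sch_6_3)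

theorem sch_7_0 : allFrom (fun c => allFrom (Low.checkSch low HN.tab 7 c) 0 (low.nStab 7)) 0 88 = true := by
  decide +kernel

theorem sch_7_1 : allFrom (fun c => allFrom (Low.checkSch low HN.tab 7 c) 0 (low.nStab 7)) 88 88 = true := by
  decide +kernel

theorem sch_7_2 : allFrom (fun c => allFrom (Low.checkSch low HN.tab 7 c) 0 (low.nStab 7)) 176 88 = true := by
  decide +kernel

theorem sch_7_3 : allFrom (fun c => allFrom (Low.checkSch low HN.tab 7 c) 0 (low.nStab 7)) 264 88 = true := by
  decide +kernel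

theorem sch_7 : allFrom (fun c => allFrom (Low.checkSch low HN.tab 7 c) 0 (low.nStab 7)) 0 352 = true :=
  (allFrom_append (p := (fun c => allFrom (Low.checkSch low HN.tab 7 c) 0 (low.nStab 7))) (n := 88) 264 (allFrom_append (p := (fun c => allFrom (Low.checkSch low HN.tab 7 c) 0 (low.nStab 7))) (n := 88) 176 (allFrom_append (p := (fun c => allFrom (Low.checkSch low HN.tab 7 c) 0 (low.nStab 7))) (n := 88) 88 sch_7_0 sch_7_1) sch_7_2) sch_7_3)

theorem sch_8_0 : allFrom (fun c => allFrom (Low.checkSch low HN.tab 8 c) 0 (low.nStab 8)) 0 88 = true := by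
  decide +kernel

theorem sch_8_1 : allFrom (fun c => allFrom (Low.checkSch low HN.tab 8 c) 0 (low.nStab 8)) 88 88 = true := by
  decide +kernel

theorem sch_8_2 : allFrom (fun c => allFrom (Low.checkSch low HN.tab 8 c) 0 (low.nStab 8)) 176 88 = true := by
  decide +kernel

theorem sch_8_3 : allFrom (fun c => allFrom (Low.checkSch low HN.tab 8 c) 0 (low.nStab 8)) 264 88 = true := by
  decide +kernel

theorem sch_8 : allFrom (fun c => allFrom (Low.checkSch low HN.tab 8 c) 0 (low.nStab 8)) 0 352 = true :=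
  (allFrom_append (p := (fun c => allFrom (Low.checkSch low HN.tab 8 c) 0 (low.nStab 8))) (n := 88) 264 (allFrom_append (p := (fun c => allFrom (Low.checkSch low HN.tab 8 c) 0 (low.nStab 8))) (n := 88) 176 (allFrom_append (p := (fun c => allFrom (Low.checkSch low HN.tab 8 c) 0 (low.nStab 8))) (n := 88) 88 sch_8_0 sch_8_1) sch_8_2) sch_8_3)


end Cfsg.Agent.DCoset.HNLow
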