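import Cfsg.Agent.DCoset.HN.Table

/-! Generated by tools/dcoset/emit.py: Schreier words. -/

set_option Elab.async false

namespace Cfsg.Agent.DCoset.HNLow

open Cfsg.Agent.DCoset Cfsg.Agent.CosetCert

def sgOS_1 : Store := (.node 10 (.node 5 (.node 2 (.node 1 (.leaf 0x1) (.leaf 0x10001)) (.node 3 (.leaf 0x20001) (.node 4 (.leaf 0x30001) (.leaf 0x0)))) (.node 7 (.node 6 (.leaf 0x0) (.leaf 0x0)) (.node 8 (.leaf 0x10001) (.node 9 (.leaf 0x1) (.leaf 0x0))))) (.node 15 (.node 12 (.node 11 (.leaf 0x0) (.leaf 0x0)) (.node 13 (.leaf 0x0) (.node 14 (.leaf 0x0) (.leaf 0x0)))) (.node 18 (.node 16 (.leaf 0x2) (.node 17 (.leaf 0x0) (.leaf 0x0))) (.node 19 (.leaf 0x0) (.node 20 (.leaf 0x0) (.leaf 0x0))))))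

def sgOS_2 : Store := (.node 32 (.node 26 (.node 23 (.node 22 (.leaf 0x0) (.leaf 0x2)) (.node 24 (.leaf 0x0) (.node 25 (.leaf 0x0) (.leaf 0x0)))) (.node 29 (.node 27 (.leaf 0x0) (.node 28 (.leaf 0x0) (.leaf 0x2))) (.node 30 (.leaf 0x0) (.node 31 (.leaf 0x0) (.leaf 0x2010300020005))))) (.node 37 (.node 34 (.node 33 (.leaf 0x0) (.leaf 0x0)) (.node 35 (.leaf 0x0) (.node 36 (.leaf 0x0) (.leaf 0x2)))) (.node 40 (.node 38 (.leaf 0x0) (.node 39 (.leaf 0x0) (.leaf 0x0))) (.node 41 (.leaf 0x0) (.node 42 (.leaf 0x0) (.leaf 0x2))))))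

def sgOS_3 : Store := (.node 21 sgOS_1 sgOS_2)

def sgOS_4 : Store := (.node 53 (.node 48 (.node 45 (.node 44 (.leaf 0x0) (.leaf 0x0)) (.node 46 (.leaf 0x0) (.node 47 (.leaf 0x0) (.leaf 0x0)))) (.node 50 (.node 49 (.leaf 0x0) (.leaf 0x2)) (.node 51 (.leaf 0x0) (.node 52 (.leaf 0x3010200030005) (.leaf 0x301030300030006))))) (.node 58 (.node 55 (.node 54 (.leaf 0x0) (.leaf 0x0)) (.node 56 (.leaf 0x0) (.node 57 (.leaf 0x0) (.leaf 0x2)))) (.node 61 (.node 59 (.leaf 0x0) (.node 60 (.leaf 0x0) (.leaf 0x0))) (.node 62 (.leaf 0x0) (.node 63 (.leaf 0x0) (.leaf 0x2))))))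

def sgOS_5 : Store := (.node 75 (.node 69 (.node 66 (.node 65 (.leaf 0x0) (.leaf 0x0)) (.node 67 (.leaf 0x0) (.node 68 (.leaf 0x0) (.leaf 0x0)))) (.node 72 (.node 70 (.leaf 0x0) (.node 71 (.leaf 0x20002000300030007) (.leaf 0x20102000300030007))) (.node 73 (.leaf 0x201020200020006) (.node 74 (.leaf 0x0) (.leaf 0x0))))) (.node 80 (.node 77 (.node 76 (.leaf 0x0) (.leaf 0x0)) (.node 78 (.leaf 0x0) (.node 79 (.leaf 0x2) (.leaf 0x0)))) (.node 83 (.node 81 (.leaf 0x102000003) (.node 82 (.leaf 0x0) (.leaf 0x0))) (.node 84 (.leaf 0x0) (.node 85 (.leaf 0x2) (.leaf 0x0))))))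

def sgOS_6 : Store := (.node 64 sgOS_4 sgOS_5)

def sgOS_7 : Store := (.node 43 sgOS_3 sgOS_6)

def sgOS_8 : Store := (.node 96 (.node 91 (.node 88 (.node 87 (.leaf 0x0) (.leaf 0x0)) (.node 89 (.leaf 0x0) (.node 90 (.leaf 0x0) (.leaf 0x0)))) (.node 93 (.node 92 (.leaf 0x0) (.leaf 0x2)) (.node 94 (.leaf 0x0) (.node 95 (.leaf 0x0) (.leaf 0x0))))) (.node 101 (.node 98 (.node 97 (.leaf 0x0) (.leaf 0x0)) (.node 99 (.leaf 0x2) (.node 100 (.leaf 0x0) (.leaf 0x0)))) (.node 104 (.node 102 (.leaf 0x0) (.node 103 (.leaf 0x0) (.leaf 0x0))) (.node 105 (.leaf 0x0) (.node 106 (.leaf 0x0) (.leaf 0x2))))))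

def sgOS_9 : Store := (.node 118 (.node 112 (.node 109 (.node 108 (.leaf 0x0) (.leaf 0x0)) (.node 110 (.leaf 0x0) (.node 111 (.leaf 0x0) (.leaf 0x0)))) (.node 115 (.node 113 (.leaf 0x200030003) (.node 114 (.leaf 0x201030003) (.leaf 0x0))) (.node 116 (.leaf 0x0) (.node 117 (.leaf 0x0) (.leaf 0x0))))) (.node 123 (.node 120 (.node 119 (.leaf 0x0) (.leaf 0x0)) (.node 121 (.leaf 0x2) (.node 122 (.leaf 0x103000003) (.leaf 0x0)))) (.node 126 (.node 124 (.leaf 0x0) (.node 125 (.leaf 0x0) (.leaf 0x0))) (.node 127 (.leaf 0x2) (.node 128 (.leaf 0x0) (.leaf 0x3030102020003030008))))))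

def sgOS_10 : Store := (.node 107 sgOS_8 sgOS_9)

def sgOS_11 : Store := (.node 140 (.node 134 (.node 131 (.node 130 (.leaf 0x0) (.leaf 0x0)) (.node 132 (.leaf 0x0) (.node 133 (.leaf 0x0) (.leaf 0x2)))) (.node 137 (.node 135 (.leaf 0x0) (.node 136 (.leaf 0x0) (.leaf 0x202020003000200020200030002000202000013))) (.node 138 (.leaf 0x0) (.node 139 (.leaf 0x0) (.leaf 0x0))))) (.node 145 (.node 142 (.node 141 (.leaf 0x300020003) (.leaf 0x301020003)) (.node 143 (.leaf 0x0) (.node 144 (.leaf 0x0) (.leaf 0x0)))) (.node 148 (.node 146 (.leaf 0x0) (.node 147 (.leaf 0x0) (.leaf 0x0))) (.node 149 (.leaf 0x2) (.node 150 (.leaf 0x0) (.leaf 0x0))))))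

def sgOS_12 : Store := (.node 162 (.node 156 (.node 153 (.node 152 (.leaf 0x0) (.leaf 0x0)) (.node 154 (.leaf 0x0) (.node 155 (.leaf 0x20102000300030007) (.leaf 0x20002000300030007)))) (.node 159 (.node 157 (.leaf 0x0) (.node 158 (.leaf 0x0) (.leaf 0x0))) (.node 160 (.leaf 0x0) (.node 161 (.leaf 0x0) (.leaf 0x0))))) (.node 167 (.node 164 (.node 163 (.leaf 0x2) (.leaf 0x0)) (.node 165 (.leaf 0x0) (.node 166 (.leaf 0x0) (.leaf 0x0)))) (.node 170 (.node 168 (.leaf 0x0) (.node 169 (.leaf 0x0) (.leaf 0x2))) (.node 171 (.leaf 0x0) (.node 172 (.leaf 0x0) (.leaf 0x0))))))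

def sgOS_13 : Store := (.node 151 sgOS_11 sgOS_12)

def sgOS_14 : Store := (.node 129 sgOS_10 sgOS_13)

def sgOS_15 : Store := (.node 86 sgOS_7 sgOS_14)

def sgOS_16 : Store := (.node 183 (.node 178 (.node 175 (.node 174 (.leaf 0x0) (.leaf 0x0)) (.node 176 (.leaf 0x20002000300030007) (.node 177 (.leaf 0x20102000300030007) (.leaf 0x0)))) (.node 180 (.node 179 (.leaf 0x2020103030002020008) (.leaf 0x0)) (.node 181 (.leaf 0x0) (.node 182 (.leaf 0x0) (.leaf 0x0))))) (.node 188 (.node 185 (.node 184 (.leaf 0x2) (.leaf 0x0)) (.node 186 (.leaf 0x0) (.node 187 (.leaf 0x0) (.leaf 0x0)))) (.node 191 (.node 189 (.leaf 0x0) (.node 190 (.leaf 0x2) (.leaf 0x0))) (.node 192 (.leaf 0x0) (.node 193 (.leaf 0x0) (.leaf 0x0))))))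

def sgOS_17 : Store := (.node 205 (.node 199 (.node 196 (.node 195 (.leaf 0x0) (.leaf 0x0)) (.node 197 (.leaf 0x2) (.node 198 (.leaf 0x0) (.leaf 0x0)))) (.node 202 (.node 200 (.leaf 0x0) (.node 201 (.leaf 0x0) (.leaf 0x0))) (.node 203 (.leaf 0x0) (.node 204 (.leaf 0x0) (.leaf 0x2))))) (.node 210 (.node 207 (.node 206 (.leaf 0x202020002000300030003000200020202000013) (.leaf 0x0)) (.node 208 (.leaf 0x0) (.node 209 (.leaf 0x0) (.leaf 0x0)))) (.node 213 (.node 211 (.leaf 0x0) (.node 212 (.leaf 0x2) (.leaf 0x0))) (.node 214 (.leaf 0x0) (.node 215 (.leaf 0x0) (.leaf 0x0))))))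

def sgOS_18 : Store := (.node 194 sgOS_16 sgOS_17)

def sgOS_19 : Store := (.node 226 (.node 221 (.node 218 (.node 217 (.leaf 0x0) (.leaf 0x2)) (.node 219 (.leaf 0x0) (.node 220 (.leaf 0x0) (.leaf 0x0)))) (.node 223 (.node 222 (.leaf 0x0) (.leaf 0x0)) (.node 224 (.leaf 0x0) (.node 225 (.leaf 0x0) (.leaf 0x2))))) (.node 231 (.node 228 (.node 227 (.leaf 0x0) (.leaf 0x0)) (.node 229 (.leaf 0x0) (.node 230 (.leaf 0x0) (.leaf 0x0)))) (.node 234 (.node 232 (.leaf 0x2) (.node 233 (.leaf 0x0) (.leaf 0x0))) (.node 235 (.leaf 0x0) (.node 236 (.leaf 0x0) (.leaf 0x0))))))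

def sgOS_20 : Store := (.node 248 (.node 242 (.node 239 (.node 238 (.leaf 0x0) (.leaf 0x0)) (.node 240 (.leaf 0x2) (.node 241 (.leaf 0x0) (.leaf 0x0)))) (.node 245 (.node 243 (.leaf 0x0) (.node 244 (.leaf 0x0) (.leaf 0x0))) (.node 246 (.leaf 0x201030003) (.node 247 (.leaf 0x200030003) (.leaf 0x20001))))) (.node 253 (.node 250 (.node 249 (.leaf 0x0) (.leaf 0x0)) (.node 251 (.leaf 0x0) (.node 252 (.leaf 0x0) (.leaf 0x0)))) (.node 256 (.node 254 (.leaf 0x2) (.node 255 (.leaf 0x0) (.leaf 0x0))) (.node 257 (.leaf 0x1020002020200020002020003000202000200020014) (.node 258 (.leaf 0x1020002020200020002020003000202000200020014) (.leaf 0x0))))))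

def sgOS_21 : Store := (.node 237 sgOS_19 sgOS_20)

def sgOS_22 : Store := (.node 216 sgOS_18 sgOS_21)

def sgOS_23 : Store := (.node 269 (.node 264 (.node 261 (.node 260 (.leaf 0x0) (.leaf 0x2)) (.node 262 (.leaf 0x0) (.node 263 (.leaf 0x3030102020003030008) (.leaf 0x0)))) (.node 266 (.node 265 (.leaf 0x0) (.leaf 0x0)) (.node 267 (.leaf 0x0) (.node 268 (.leaf 0x2) (.leaf 0x10303000004))))) (.node 274 (.node 271 (.node 270 (.leaf 0x0) (.leaf 0x0)) (.node 272 (.leaf 0x0) (.node 273 (.leaf 0x0) (.leaf 0x0)))) (.node 277 (.node 275 (.leaf 0x2) (.node 276 (.leaf 0x202020003000200020200030002000202000013) (.leaf 0x0))) (.node 278 (.leaf 0x0) (.node 279 (.leaf 0x0) (.leaf 0x0))))))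

def sgOS_24 : Store := (.node 291 (.node 285 (.node 282 (.node 281 (.leaf 0x0) (.leaf 0x2)) (.node 283 (.leaf 0x0) (.node 284 (.leaf 0x0) (.leaf 0x0)))) (.node 288 (.node 286 (.leaf 0x0) (.node 287 (.leaf 0x0) (.leaf 0x301020003))) (.node 289 (.leaf 0x300020003) (.node 290 (.leaf 0x2010200020200030002020002000202020002000014) (.leaf 0x30001))))) (.node 296 (.node 293 (.node 292 (.leaf 0x0) (.leaf 0x0)) (.node 294 (.leaf 0x0) (.node 295 (.leaf 0x2) (.leaf 0x0)))) (.node 299 (.node 297 (.leaf 0x10300030002020003000300000c) (.node 298 (.leaf 0x0) (.leaf 0x0))) (.node 300 (.leaf 0x0) (.node 301 (.leaf 0x0) (.leaf 0x0))))))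

def sgOS_25 : Store := (.node 280 sgOS_23 sgOS_24)

def sgOS_26 : Store := (.node 313 (.node 307 (.node 304 (.node 303 (.leaf 0x2) (.leaf 0x0)) (.node 305 (.leaf 0x0) (.node 306 (.leaf 0x0) (.leaf 0x0)))) (.node 310 (.node 308 (.leaf 0x0) (.node 309 (.leaf 0x2) (.leaf 0x0))) (.node 311 (.leaf 0x0) (.node 312 (.leaf 0x0) (.leaf 0x0))))) (.node 318 (.node 315 (.node 314 (.leaf 0x0) (.leaf 0x0)) (.node 316 (.leaf 0x201020003) (.node 317 (.leaf 0x200020003) (.leaf 0x30102000303000200030003000202000f)))) (.node 321 (.node 319 (.leaf 0x0) (.node 320 (.leaf 0x0) (.leaf 0x0))) (.node 322 (.leaf 0x0) (.node 323 (.leaf 0x301030003) (.leaf 0x300030003))))))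

def sgOS_27 : Store := (.node 335 (.node 329 (.node 326 (.node 325 (.leaf 0x0) (.leaf 0x30102000303000200030003000202000f)) (.node 327 (.leaf 0x0) (.node 328 (.leaf 0x0) (.leaf 0x0)))) (.node 332 (.node 330 (.leaf 0x2) (.node 331 (.leaf 0x0) (.leaf 0x300030003030007))) (.node 333 (.leaf 0x20002000300030007) (.node 334 (.leaf 0x0) (.leaf 0x0))))) (.node 340 (.node 337 (.node 336 (.leaf 0x0) (.leaf 0x0)) (.node 338 (.leaf 0x2) (.node 339 (.leaf 0x102000003) (.leaf 0x0)))) (.node 343 (.node 341 (.leaf 0x0) (.node 342 (.leaf 0x0) (.leaf 0x0))) (.node 344 (.leaf 0x2) (.node 345 (.leaf 0x0) (.leaf 0x0))))))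

def sgOS_28 : Store := (.node 324 sgOS_26 sgOS_27)

def sgOS_29 : Store := (.node 302 sgOS_25 sgOS_28)

def sgOS_30 : Store := (.node 259 sgOS_22 sgOS_29)

def sgOS_31 : Store := (.node 173 sgOS_15 sgOS_30)

def sgOS_32 : Store := (.node 356 (.node 351 (.node 348 (.node 347 (.leaf 0x1030002020200030003030002000303000300030014) (.leaf 0x0)) (.node 349 (.leaf 0x0) (.node 350 (.leaf 0x0) (.leaf 0x2)))) (.node 353 (.node 352 (.leaf 0x0) (.leaf 0x0)) (.node 354 (.leaf 0x0) (.node 355 (.leaf 0x0) (.leaf 0x0))))) (.node 361 (.node 358 (.node 357 (.leaf 0x0) (.leaf 0x0)) (.node 359 (.leaf 0x2) (.node 360 (.leaf 0x2020103030002020008) (.leaf 0x0)))) (.node 364 (.node 362 (.leaf 0x0) (.node 363 (.leaf 0x0) (.leaf 0x0))) (.node 365 (.leaf 0x2) (.node 366 (.leaf 0x0) (.leaf 0x0))))))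

def sgOS_33 : Store := (.node 378 (.node 372 (.node 369 (.node 368 (.leaf 0x0) (.leaf 0x0)) (.node 370 (.leaf 0x0) (.node 371 (.leaf 0x0) (.leaf 0x20102000300030007)))) (.node 375 (.node 373 (.leaf 0x20002000300030007) (.node 374 (.leaf 0x0) (.leaf 0x0))) (.node 376 (.leaf 0x0) (.node 377 (.leaf 0x0) (.leaf 0x0))))) (.node 383 (.node 380 (.node 379 (.leaf 0x0) (.leaf 0x2)) (.node 381 (.leaf 0x2010202020002000303000303000303000011) (.node 382 (.leaf 0x0) (.leaf 0x0)))) (.node 386 (.node 384 (.leaf 0x0) (.node 385 (.leaf 0x0) (.leaf 0x20002000300030007))) (.node 387 (.leaf 0x20102000300030007) (.node 388 (.leaf 0x0) (.leaf 0x10202000004))))))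

def sgOS_34 : Store := (.node 367 sgOS_32 sgOS_33)

def sgOS_35 : Store := (.node 399 (.node 394 (.node 391 (.node 390 (.leaf 0x0) (.leaf 0x0)) (.node 392 (.leaf 0x0) (.node 393 (.leaf 0x0) (.leaf 0x2)))) (.node 396 (.node 395 (.leaf 0x202020102020200020202000b) (.leaf 0x0)) (.node 397 (.leaf 0x0) (.node 398 (.leaf 0x0) (.leaf 0x0))))) (.node 404 (.node 401 (.node 400 (.leaf 0x0) (.leaf 0x2)) (.node 402 (.leaf 0x0) (.node 403 (.leaf 0x202020102020200020202000b) (.leaf 0x0)))) (.node 407 (.node 405 (.leaf 0x0) (.node 406 (.leaf 0x0) (.leaf 0x0))) (.node 408 (.leaf 0x2) (.node 409 (.leaf 0x0) (.leaf 0x0))))))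

def sgOS_36 : Store := (.node 421 (.node 415 (.node 412 (.node 411 (.leaf 0x0) (.leaf 0x0)) (.node 413 (.leaf 0x0) (.node 414 (.leaf 0x30103030002000300030003000c) (.leaf 0x30003030002000300030003000c)))) (.node 418 (.node 416 (.leaf 0x30301020200030002020003000200000f) (.node 417 (.leaf 0x0) (.leaf 0x0))) (.node 419 (.leaf 0x0) (.node 420 (.leaf 0x0) (.leaf 0x303000202000300020200030002000200020012))))) (.node 426 (.node 423 (.node 422 (.leaf 0x303010202000300020200030002000200020012) (.leaf 0x0)) (.node 424 (.leaf 0x30301020200030002020003000200000f) (.node 425 (.leaf 0x0) (.leaf 0x0)))) (.node 429 (.node 427 (.leaf 0x0) (.node 428 (.leaf 0x2) (.leaf 0x0))) (.node 430 (.leaf 0x0) (.node 431 (.leaf 0x0) (.leaf 0x0))))))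

def sgOS_37 : Store := (.node 410 sgOS_35 sgOS_36)

def sgOS_38 : Store := (.node 389 sgOS_34 sgOS_37)

def sgOS_39 : Store := (.node 442 (.node 437 (.node 434 (.node 433 (.leaf 0x0) (.leaf 0x0)) (.node 435 (.leaf 0x2) (.node 436 (.leaf 0x0) (.leaf 0x0)))) (.node 439 (.node 438 (.leaf 0x0) (.leaf 0x0)) (.node 440 (.leaf 0x0) (.node 441 (.leaf 0x0) (.leaf 0x2))))) (.node 447 (.node 444 (.node 443 (.leaf 0x0) (.leaf 0x20102000300030007)) (.node 445 (.leaf 0x200030002000200030009) (.node 446 (.leaf 0x301030002020200030003000300020200020002020015) (.leaf 0x301030002020200030003000300020200020002020015)))) (.node 450 (.node 448 (.leaf 0x0) (.node 449 (.leaf 0x20200030300020200030300000d) (.leaf 0x1020200030300020200030300000d))) (.node 451 (.leaf 0x0) (.node 452 (.leaf 0x202020002000300030003000200020202000013) (.leaf 0x0))))))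

def sgOS_40 : Store := (.node 464 (.node 458 (.node 455 (.node 454 (.leaf 0x0) (.leaf 0x0)) (.node 456 (.leaf 0x300030002020200030003000300020200020002020015) (.node 457 (.leaf 0x301030002020200030003000300020200020002020015) (.leaf 0x0)))) (.node 461 (.node 459 (.leaf 0x0) (.node 460 (.leaf 0x0) (.leaf 0x0))) (.node 462 (.leaf 0x0) (.node 463 (.leaf 0x0) (.leaf 0x2))))) (.node 469 (.node 466 (.node 465 (.leaf 0x0) (.leaf 0x0)) (.node 467 (.leaf 0x0) (.node 468 (.leaf 0x0) (.leaf 0x0)))) (.node 472 (.node 470 (.leaf 0x20002000300030007) (.node 471 (.leaf 0x20102000300030007) (.leaf 0x0))) (.node 473 (.leaf 0x10200020003030002000200000c) (.node 474 (.leaf 0x0) (.leaf 0x0))))))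

def sgOS_41 : Store := (.node 453 sgOS_39 sgOS_40)

def sgOS_42 : Store := (.node 486 (.node 480 (.node 477 (.node 476 (.leaf 0x0) (.leaf 0x0)) (.node 478 (.leaf 0x2) (.node 479 (.leaf 0x0) (.leaf 0x2000200030003030003000a)))) (.node 483 (.node 481 (.leaf 0x0) (.node 482 (.leaf 0x0) (.leaf 0x0))) (.node 484 (.leaf 0x2) (.node 485 (.leaf 0x0) (.leaf 0x20003000004))))) (.node 491 (.node 488 (.node 487 (.leaf 0x0) (.leaf 0x0)) (.node 489 (.leaf 0x0) (.node 490 (.leaf 0x0) (.leaf 0x0)))) (.node 494 (.node 492 (.leaf 0x2) (.node 493 (.leaf 0x0) (.leaf 0x0))) (.node 495 (.leaf 0x0) (.node 496 (.leaf 0x0) (.leaf 0x0))))))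

def sgOS_43 : Store := (.node 508 (.node 502 (.node 499 (.node 498 (.leaf 0x2) (.leaf 0x0)) (.node 500 (.leaf 0x0) (.node 501 (.leaf 0x0) (.leaf 0x0)))) (.node 505 (.node 503 (.leaf 0x0) (.node 504 (.leaf 0x0) (.leaf 0x0))) (.node 506 (.leaf 0x2) (.node 507 (.leaf 0x0) (.leaf 0x0))))) (.node 513 (.node 510 (.node 509 (.leaf 0x0) (.leaf 0x0)) (.node 511 (.leaf 0x0) (.node 512 (.leaf 0x202010200020200030003000300020202000300030015) (.leaf 0x202000200020200030003000300020202000300030015)))) (.node 516 (.node 514 (.leaf 0x0) (.node 515 (.leaf 0x2020002020200030002020003000300030011) (.leaf 0x202010200020200030003000300020202000300030015))) (.node 517 (.leaf 0x202010200020200030003000300020202000300030015) (.node 518 (.leaf 0x0) (.leaf 0x2))))))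

def sgOS_44 : Store := (.node 497 sgOS_42 sgOS_43)

def sgOS_45 : Store := (.node 475 sgOS_41 sgOS_44)

def sgOS_46 : Store := (.node 432 sgOS_38 sgOS_45)

def sgOS_47 : Store := (.node 529 (.node 524 (.node 521 (.node 520 (.leaf 0x0) (.leaf 0x200030300020003000009)) (.node 522 (.leaf 0x20201020002000007) (.node 523 (.leaf 0x0) (.leaf 0x0)))) (.node 526 (.node 525 (.leaf 0x0) (.leaf 0x2)) (.node 527 (.leaf 0x0) (.node 528 (.leaf 0x3030103000303000200030300030003030002000014) (.leaf 0x0))))) (.node 534 (.node 531 (.node 530 (.leaf 0x0) (.leaf 0x0)) (.node 532 (.leaf 0x0) (.node 533 (.leaf 0x0) (.leaf 0x2)))) (.node 537 (.node 535 (.leaf 0x0) (.node 536 (.leaf 0x0) (.leaf 0x3030102000202000300020200020002020003000014))) (.node 538 (.leaf 0x3030102000202000300020200020002020003000014) (.node 539 (.leaf 0x0) (.leaf 0x2))))))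

def sgOS_48 : Store := (.node 551 (.node 545 (.node 542 (.node 541 (.leaf 0x0) (.leaf 0x30003000200020007)) (.node 543 (.leaf 0x200020002020007) (.node 544 (.leaf 0x20002020200020002020003000202000200020014) (.leaf 0x20002020200020002020003000202000200020014)))) (.node 548 (.node 546 (.leaf 0x0) (.node 547 (.leaf 0x0) (.leaf 0x2))) (.node 549 (.leaf 0x0) (.node 550 (.leaf 0x103000003) (.leaf 0x0))))) (.node 556 (.node 553 (.node 552 (.leaf 0x0) (.leaf 0x0)) (.node 554 (.leaf 0x2) (.node 555 (.leaf 0x0) (.leaf 0x0)))) (.node 559 (.node 557 (.leaf 0x0) (.node 558 (.leaf 0x0) (.leaf 0x0))) (.node 560 (.leaf 0x0) (.node 561 (.leaf 0x2) (.leaf 0x0))))))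

def sgOS_49 : Store := (.node 540 sgOS_47 sgOS_48)

def sgOS_50 : Store := (.node 573 (.node 567 (.node 564 (.node 563 (.leaf 0x200030004) (.leaf 0x0)) (.node 565 (.leaf 0x0) (.node 566 (.leaf 0x0) (.leaf 0x0)))) (.node 570 (.node 568 (.leaf 0x0) (.node 569 (.leaf 0x2) (.leaf 0x0))) (.node 571 (.leaf 0x2000300020002000200030003000303000011) (.node 572 (.leaf 0x0) (.leaf 0x0))))) (.node 578 (.node 575 (.node 574 (.leaf 0x0) (.leaf 0x2)) (.node 576 (.leaf 0x0) (.node 577 (.leaf 0x300020003000300020009) (.leaf 0x30103000200020007)))) (.node 581 (.node 579 (.leaf 0x201020002020003000202000200020202000200020015) (.node 580 (.leaf 0x201020002020003000202000200020202000200020015) (.leaf 0x0))) (.node 582 (.leaf 0x200020002020003000202000200020202000200020015) (.node 583 (.leaf 0x201020002020003000202000200020202000200020015) (.leaf 0x0))))))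

def sgOS_51 : Store := (.node 595 (.node 589 (.node 586 (.node 585 (.leaf 0x1020002020200020002020003000202000200020014) (.leaf 0x0)) (.node 587 (.leaf 0x0) (.node 588 (.leaf 0x0) (.leaf 0x2)))) (.node 592 (.node 590 (.leaf 0x0) (.node 591 (.leaf 0x30301030003000007) (.leaf 0x300020200030002000009))) (.node 593 (.leaf 0x2010200020200030002020002000202020002000014) (.node 594 (.leaf 0x2010200020200030002020002000202020002000014) (.leaf 0x0))))) (.node 600 (.node 597 (.node 596 (.leaf 0x30002000004) (.leaf 0x30102000004)) (.node 598 (.leaf 0x0) (.node 599 (.leaf 0x0) (.leaf 0x0)))) (.node 603 (.node 601 (.leaf 0x0) (.node 602 (.leaf 0x0) (.leaf 0x2000200020200030002020002000202020002000014))) (.node 604 (.leaf 0x2010200020200030002020002000202020002000014) (.node 605 (.leaf 0x0) (.leaf 0x2010200020200030002020002000202020002000014))))))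

def sgOS_52 : Store := (.node 584 sgOS_50 sgOS_51)

def sgOS_53 : Store := (.node 562 sgOS_49 sgOS_52)

def sgOS_54 : Store := (.node 616 (.node 611 (.node 608 (.node 607 (.leaf 0x0) (.leaf 0x0)) (.node 609 (.leaf 0x0) (.node 610 (.leaf 0x0) (.leaf 0x2)))) (.node 613 (.node 612 (.leaf 0x0) (.leaf 0x10300030002020003000300000c)) (.node 614 (.leaf 0x0) (.node 615 (.leaf 0x0) (.leaf 0x0))))) (.node 621 (.node 618 (.node 617 (.leaf 0x0) (.leaf 0x2)) (.node 619 (.leaf 0x30103000004) (.node 620 (.leaf 0x0) (.leaf 0x0)))) (.node 624 (.node 622 (.leaf 0x0) (.node 623 (.leaf 0x0) (.leaf 0x2))) (.node 625 (.leaf 0x0) (.node 626 (.leaf 0x0) (.leaf 0x30002000004))))))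

def sgOS_55 : Store := (.node 638 (.node 632 (.node 629 (.node 628 (.leaf 0x0) (.leaf 0x0)) (.node 630 (.leaf 0x0) (.node 631 (.leaf 0x2) (.leaf 0x0)))) (.node 635 (.node 633 (.leaf 0x0) (.node 634 (.leaf 0x0) (.leaf 0x0))) (.node 636 (.leaf 0x0) (.node 637 (.leaf 0x0) (.leaf 0x201020002020200020002020003000202000200020015))))) (.node 643 (.node 640 (.node 639 (.leaf 0x200020002020200020002020003000202000200020015) (.leaf 0x3030002020200020003030002000200020011)) (.node 641 (.leaf 0x0) (.node 642 (.leaf 0x201020002020200020002020003000202000200020015) (.leaf 0x201020002020200020002020003000202000200020015)))) (.node 646 (.node 644 (.leaf 0x0) (.node 645 (.leaf 0x0) (.leaf 0x2))) (.node 647 (.leaf 0x0) (.node 648 (.leaf 0x0) (.leaf 0x0))))))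

def sgOS_56 : Store := (.node 627 sgOS_54 sgOS_55)

def sgOS_57 : Store := (.node 660 (.node 654 (.node 651 (.node 650 (.leaf 0x0) (.leaf 0x0)) (.node 652 (.leaf 0x200020003) (.node 653 (.leaf 0x201020003) (.leaf 0x2000202000200030003000a)))) (.node 657 (.node 655 (.leaf 0x3030103000303000200030300030003030002000014) (.node 656 (.leaf 0x0) (.leaf 0x0))) (.node 658 (.leaf 0x0) (.node 659 (.leaf 0x300030003) (.leaf 0x301030003))))) (.node 665 (.node 662 (.node 661 (.leaf 0x1030002020200030003030002000303000300030014) (.leaf 0x10200020004)) (.node 663 (.leaf 0x0) (.node 664 (.leaf 0x0) (.leaf 0x0)))) (.node 668 (.node 666 (.leaf 0x0) (.node 667 (.leaf 0x2) (.leaf 0x2020201020002020003000202000200020011))) (.node 669 (.leaf 0x20002000300030007) (.node 670 (.leaf 0x0) (.leaf 0x0))))))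

def sgOS_58 : Store := (.node 682 (.node 676 (.node 673 (.node 672 (.leaf 0x0) (.leaf 0x2)) (.node 674 (.leaf 0x0) (.node 675 (.leaf 0x0) (.leaf 0x0)))) (.node 679 (.node 677 (.leaf 0x0) (.node 678 (.leaf 0x0) (.leaf 0x0))) (.node 680 (.leaf 0x2) (.node 681 (.leaf 0x0) (.leaf 0x0))))) (.node 687 (.node 684 (.node 683 (.leaf 0x0) (.leaf 0x0)) (.node 685 (.leaf 0x0) (.node 686 (.leaf 0x0) (.leaf 0x0)))) (.node 690 (.node 688 (.leaf 0x2) (.node 689 (.leaf 0x303010300030300020003030003000303000200020015) (.leaf 0x0))) (.node 691 (.leaf 0x0) (.node 692 (.leaf 0x0) (.leaf 0x0))))))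

def sgOS_59 : Store := (.node 671 sgOS_57 sgOS_58)

def sgOS_60 : Store := (.node 649 sgOS_56 sgOS_59)

def sgOS_61 : Store := (.node 606 sgOS_53 sgOS_60)

def sgOS_62 : Store := (.node 519 sgOS_46 sgOS_61)

def sgOS_63 : Store := (.node 346 sgOS_31 sgOS_62)

def sgOS_64 : Store := (.node 703 (.node 698 (.node 695 (.node 694 (.leaf 0x0) (.leaf 0x2)) (.node 696 (.leaf 0x300030002020200030003000b) (.node 697 (.leaf 0x0) (.leaf 0x0)))) (.node 700 (.node 699 (.leaf 0x0) (.leaf 0x0)) (.node 701 (.leaf 0x0) (.node 702 (.leaf 0x2) (.leaf 0x0))))) (.node 708 (.node 705 (.node 704 (.leaf 0x300030002020200030003000b) (.leaf 0x0)) (.node 706 (.leaf 0x0) (.node 707 (.leaf 0x0) (.leaf 0x0)))) (.node 711 (.node 709 (.leaf 0x2) (.node 710 (.leaf 0x0) (.leaf 0x0))) (.node 712 (.leaf 0x0) (.node 713 (.leaf 0x0) (.leaf 0x0))))))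

def sgOS_65 : Store := (.node 725 (.node 719 (.node 716 (.node 715 (.leaf 0x2) (.leaf 0x0)) (.node 717 (.leaf 0x2020002020002000303000303000d) (.node 718 (.leaf 0x2020002020003000303000303000d) (.leaf 0x0)))) (.node 722 (.node 720 (.leaf 0x0) (.node 721 (.leaf 0x0) (.leaf 0x2))) (.node 723 (.leaf 0x0) (.node 724 (.leaf 0x20200020002000300030300020003000011) (.leaf 0x1020200020200020200030002020200030011))))) (.node 730 (.node 727 (.node 726 (.leaf 0x0) (.leaf 0x0)) (.node 728 (.leaf 0x0) (.node 729 (.leaf 0x0) (.leaf 0x2)))) (.node 733 (.node 731 (.leaf 0x0) (.node 732 (.leaf 0x0) (.leaf 0x10202000202000202000300020202000010))) (.node 734 (.leaf 0x10202000202000202000300020202000010) (.node 735 (.leaf 0x0) (.leaf 0x10300020004))))))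

def sgOS_66 : Store := (.node 714 sgOS_64 sgOS_65)

def sgOS_67 : Store := (.node 746 (.node 741 (.node 738 (.node 737 (.leaf 0x300020004) (.leaf 0x0)) (.node 739 (.leaf 0x0) (.node 740 (.leaf 0x0) (.leaf 0x0)))) (.node 743 (.node 742 (.leaf 0x0) (.leaf 0x303000202000300020200030002000200020012)) (.node 744 (.leaf 0x303010202000300020200030002000200020012) (.node 745 (.leaf 0x0) (.leaf 0x0))))) (.node 751 (.node 748 (.node 747 (.leaf 0x202010200020200030003000300020202000300030015) (.leaf 0x202010200020200030003000300020202000300030015)) (.node 749 (.leaf 0x0) (.node 750 (.leaf 0x20102020003000200020002000c) (.leaf 0x20002020003000200020002000c)))) (.node 754 (.node 752 (.leaf 0x0) (.node 753 (.leaf 0x0) (.leaf 0x30300030300020003030003000200020010))) (.node 755 (.leaf 0x30300030300020003030003000200020010) (.node 756 (.leaf 0x0) (.leaf 0x2))))))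

def sgOS_68 : Store := (.node 768 (.node 762 (.node 759 (.node 758 (.leaf 0x0) (.leaf 0x0)) (.node 760 (.leaf 0x0) (.node 761 (.leaf 0x0) (.leaf 0x0)))) (.node 765 (.node 763 (.leaf 0x0) (.node 764 (.leaf 0x2) (.leaf 0x0))) (.node 766 (.leaf 0x0) (.node 767 (.leaf 0x0) (.leaf 0x0))))) (.node 773 (.node 770 (.node 769 (.leaf 0x0) (.leaf 0x0)) (.node 771 (.leaf 0x20102000300030007) (.node 772 (.leaf 0x20002000300030007) (.leaf 0x200020200020002020200020200030003030012)))) (.node 776 (.node 774 (.leaf 0x202010200020200030002020002000202020002000015) (.node 775 (.leaf 0x0) (.leaf 0x0))) (.node 777 (.leaf 0x0) (.node 778 (.leaf 0x2) (.leaf 0x0))))))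

def sgOS_69 : Store := (.node 757 sgOS_67 sgOS_68)

def sgOS_70 : Store := (.node 736 sgOS_66 sgOS_69)

def sgOS_71 : Store := (.node 789 (.node 784 (.node 781 (.node 780 (.leaf 0x0) (.leaf 0x0)) (.node 782 (.leaf 0x0) (.node 783 (.leaf 0x0) (.leaf 0x0)))) (.node 786 (.node 785 (.leaf 0x2) (.leaf 0x0)) (.node 787 (.leaf 0x0) (.node 788 (.leaf 0x200030004) (.leaf 0x0))))) (.node 794 (.node 791 (.node 790 (.leaf 0x0) (.leaf 0x0)) (.node 792 (.leaf 0x2) (.node 793 (.leaf 0x0) (.leaf 0x0)))) (.node 797 (.node 795 (.leaf 0x0) (.node 796 (.leaf 0x0) (.leaf 0x0))) (.node 798 (.leaf 0x0) (.node 799 (.leaf 0x2) (.leaf 0x0))))))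

def sgOS_72 : Store := (.node 811 (.node 805 (.node 802 (.node 801 (.leaf 0x300020004) (.leaf 0x0)) (.node 803 (.leaf 0x0) (.node 804 (.leaf 0x0) (.leaf 0x0)))) (.node 808 (.node 806 (.leaf 0x0) (.node 807 (.leaf 0x2) (.leaf 0x1020202000005))) (.node 809 (.leaf 0x0) (.node 810 (.leaf 0x0) (.leaf 0x0))))) (.node 816 (.node 813 (.node 812 (.leaf 0x0) (.leaf 0x0)) (.node 814 (.leaf 0x2) (.node 815 (.leaf 0x0) (.leaf 0x1020202000005)))) (.node 819 (.node 817 (.leaf 0x0) (.node 818 (.leaf 0x0) (.leaf 0x0))) (.node 820 (.leaf 0x10202000300030003000200020002000300030013) (.node 821 (.leaf 0x202000300030003000200020002000300030013) (.leaf 0x2000200020003030002000202020003030011))))))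

def sgOS_73 : Store := (.node 800 sgOS_71 sgOS_72)

def sgOS_74 : Store := (.node 833 (.node 827 (.node 824 (.node 823 (.leaf 0x0) (.leaf 0x0)) (.node 825 (.leaf 0x0) (.node 826 (.leaf 0x0) (.leaf 0x10303000200020002000300030003000200020013)))) (.node 830 (.node 828 (.leaf 0x303000200020002000300030003000200020013) (.node 829 (.leaf 0x0) (.leaf 0x3000300030002020003000202020002020011))) (.node 831 (.leaf 0x0) (.node 832 (.leaf 0x0) (.leaf 0x0))))) (.node 838 (.node 835 (.node 834 (.leaf 0x0) (.leaf 0x2)) (.node 836 (.leaf 0x202020102020200020202000b) (.node 837 (.leaf 0x0) (.leaf 0x0)))) (.node 841 (.node 839 (.leaf 0x0) (.node 840 (.leaf 0x0) (.leaf 0x0))) (.node 842 (.leaf 0x2) (.node 843 (.leaf 0x0) (.leaf 0x202020102020200020202000b))))))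

def sgOS_75 : Store := (.node 855 (.node 849 (.node 846 (.node 845 (.leaf 0x0) (.leaf 0x0)) (.node 847 (.leaf 0x0) (.node 848 (.leaf 0x0) (.leaf 0x2)))) (.node 852 (.node 850 (.leaf 0x0) (.node 851 (.leaf 0x0) (.leaf 0x0))) (.node 853 (.leaf 0x0) (.node 854 (.leaf 0x0) (.leaf 0x10303000200020002000300030003000f))))) (.node 860 (.node 857 (.node 856 (.leaf 0x303000200020002000300030003000f) (.leaf 0x10202000300030003030003000300000f)) (.node 858 (.leaf 0x0) (.node 859 (.leaf 0x0) (.leaf 0x0)))) (.node 863 (.node 861 (.leaf 0x0) (.node 862 (.leaf 0x20102000200030003000300020200000f) (.leaf 0x20002000200030003000300020200000f))) (.node 864 (.leaf 0x0) (.node 865 (.leaf 0x202000300030003000200020002000300030013) (.leaf 0x0))))))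

def sgOS_76 : Store := (.node 844 sgOS_74 sgOS_75)

def sgOS_77 : Store := (.node 822 sgOS_73 sgOS_76)

def sgOS_78 : Store := (.node 779 sgOS_70 sgOS_77)

def sgOS_79 : Store := (.node 876 (.node 871 (.node 868 (.node 867 (.leaf 0x0) (.leaf 0x0)) (.node 869 (.leaf 0x1020200030300020200030300000d) (.node 870 (.leaf 0x20200030300020200030300000d) (.leaf 0x303010300030300020003030003000303000200020015)))) (.node 873 (.node 872 (.leaf 0x202000200030300020202000300030300030012) (.leaf 0x0)) (.node 874 (.leaf 0x0) (.node 875 (.leaf 0x0) (.leaf 0x1030002020200030003030002000303000300030014))))) (.node 881 (.node 878 (.node 877 (.leaf 0x30002020200030003030002000303000300030014) (.leaf 0x0)) (.node 879 (.leaf 0x0) (.node 880 (.leaf 0x1030002020200030003030002000303000300030014) (.leaf 0x1030002020200030003030002000303000300030014)))) (.node 884 (.node 882 (.leaf 0x0) (.node 883 (.leaf 0x20102000300030003000200020002000303000013)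 (.leaf 0x20002000300030003000200020002000303000013))) (.node 885 (.leaf 0x0) (.node 886 (.leaf 0x0) (.leaf 0x30300030300020003030003000200020010))))))

def sgOS_80 : Store := (.node 898 (.node 892 (.node 889 (.node 888 (.leaf 0x30300030300020003030003000200020010) (.leaf 0x0)) (.node 890 (.leaf 0x2) (.node 891 (.leaf 0x0) (.leaf 0x20103000004)))) (.node 895 (.node 893 (.leaf 0x0) (.node 894 (.leaf 0x0) (.leaf 0x0))) (.node 896 (.leaf 0x0) (.node 897 (.leaf 0x0) (.leaf 0x2))))) (.node 903 (.node 900 (.node 899 (.leaf 0x10200020003030002000200000c) (.leaf 0x0)) (.node 901 (.leaf 0x0) (.node 902 (.leaf 0x0) (.leaf 0x0)))) (.node 906 (.node 904 (.leaf 0x2) (.node 905 (.leaf 0x0) (.leaf 0x301030300020200020200020200030300030012))) (.node 907 (.leaf 0x0) (.node 908 (.leaf 0x0) (.leaf 0x0))))))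

def sgOS_81 : Store := (.node 887 sgOS_79 sgOS_80)

def sgOS_82 : Store := (.node 919 (.node 914 (.node 911 (.node 910 (.leaf 0x0) (.leaf 0x20102000300030007)) (.node 912 (.leaf 0x20002000300030007) (.node 913 (.leaf 0x20102000300030007) (.leaf 0x303010303000200030300030002000202000012)))) (.node 916 (.node 915 (.leaf 0x0) (.leaf 0x0)) (.node 917 (.leaf 0x0) (.node 918 (.leaf 0x0) (.leaf 0x2))))) (.node 924 (.node 921 (.node 920 (.leaf 0x0) (.leaf 0x0)) (.node 922 (.leaf 0x10202020003000202000202000202000010) (.node 923 (.leaf 0x10202020003000202000202000202000010) (.leaf 0x0)))) (.node 927 (.node 925 (.leaf 0x0) (.node 926 (.leaf 0x2) (.leaf 0x0))) (.node 928 (.leaf 0x0) (.node 929 (.leaf 0x2010300020002020002000200020200030300030014) (.leaf 0x2010300020002020002000200020200030300030014))))))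

def sgOS_83 : Store := (.node 941 (.node 935 (.node 932 (.node 931 (.leaf 0x0) (.leaf 0x0)) (.node 933 (.leaf 0x2) (.node 934 (.leaf 0x20102000300030003000200020002000303000013) (.leaf 0x0)))) (.node 938 (.node 936 (.leaf 0x0) (.node 937 (.leaf 0x0) (.leaf 0x0))) (.node 939 (.leaf 0x2) (.node 940 (.leaf 0x0) (.leaf 0x0))))) (.node 946 (.node 943 (.node 942 (.leaf 0x20003000004) (.leaf 0x0)) (.node 944 (.leaf 0x0) (.node 945 (.leaf 0x0) (.leaf 0x2)))) (.node 949 (.node 947 (.leaf 0x0) (.node 948 (.leaf 0x200030003000300020009) (.leaf 0x0))) (.node 950 (.leaf 0x0) (.node 951 (.leaf 0x0) (.leaf 0x0))))))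

def sgOS_84 : Store := (.node 930 sgOS_82 sgOS_83)

def sgOS_85 : Store := (.node 909 sgOS_81 sgOS_84)

def sgOS_86 : Store := (.node 962 (.node 957 (.node 954 (.node 953 (.leaf 0x0) (.leaf 0x2)) (.node 955 (.leaf 0x0) (.node 956 (.leaf 0x0) (.leaf 0x0)))) (.node 959 (.node 958 (.leaf 0x0) (.leaf 0x0)) (.node 960 (.leaf 0x3030003030002020003000202000d) (.node 961 (.leaf 0x3030103030002020003000202000d) (.leaf 0x0))))) (.node 967 (.node 964 (.node 963 (.leaf 0x0) (.leaf 0x200030300030300020003030003000200020003000016)) (.node 965 (.leaf 0x200030300030300020003030003000200020003000016) (.node 966 (.leaf 0x0) (.leaf 0x2)))) (.node 970 (.node 968 (.leaf 0x0) (.node 969 (.leaf 0x20103000004) (.leaf 0x0))) (.node 971 (.leaf 0x303000200020200020002000303000010) (.node 972 (.leaf 0x303000200020200020002000303000010) (.leaf 0x0))))))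

def sgOS_87 : Store := (.node 984 (.node 978 (.node 975 (.node 974 (.leaf 0x0) (.leaf 0x2)) (.node 976 (.leaf 0x2020002020200030002020003000300030011) (.node 977 (.leaf 0x0) (.leaf 0x0)))) (.node 981 (.node 979 (.leaf 0x0) (.node 980 (.leaf 0x0) (.leaf 0x10303000200020200020002000303000010))) (.node 982 (.leaf 0x303000200020200020002000303000010) (.node 983 (.leaf 0x0) (.leaf 0x0))))) (.node 989 (.node 986 (.node 985 (.leaf 0x0) (.leaf 0x0)) (.node 987 (.leaf 0x0) (.node 988 (.leaf 0x0) (.leaf 0x2)))) (.node 992 (.node 990 (.leaf 0x3030102000202000300020200020002020003000014) (.node 991 (.leaf 0x0) (.leaf 0x0))) (.node 993 (.leaf 0x0) (.node 994 (.leaf 0x0) (.leaf 0x0))))))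

def sgOS_88 : Store := (.node 973 sgOS_86 sgOS_87)

def sgOS_89 : Store := (.node 1006 (.node 1000 (.node 997 (.node 996 (.leaf 0x2) (.leaf 0x0)) (.node 998 (.leaf 0x202010200030300020002000202000202000300020015) (.node 999 (.leaf 0x0) (.leaf 0x0)))) (.node 1003 (.node 1001 (.leaf 0x0) (.node 1002 (.leaf 0x2) (.leaf 0x0))) (.node 1004 (.leaf 0x2020200030300020003030003000200020012) (.node 1005 (.leaf 0x3030102000202000300020200020002020011) (.leaf 0x3030002000202000300020200020002020003000014))))) (.node 1011 (.node 1008 (.node 1007 (.leaf 0x3030002000202000300020200020002020003000014) (.leaf 0x0)) (.node 1009 (.leaf 0x0) (.node 1010 (.leaf 0x2) (.leaf 0x0)))) (.node 1014 (.node 1012 (.leaf 0x202010200020200030002020002000202020002000015) (.node 1013 (.leaf 0x0) (.leaf 0x0))) (.node 1015 (.leaf 0x0) (.node 1016 (.leaf 0x2) (.leaf 0x0))))))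

def sgOS_90 : Store := (.node 1028 (.node 1022 (.node 1019 (.node 1018 (.leaf 0x0) (.leaf 0x0)) (.node 1020 (.leaf 0x0) (.node 1021 (.leaf 0x0) (.leaf 0x0)))) (.node 1025 (.node 1023 (.leaf 0x2) (.node 1024 (.leaf 0x0) (.leaf 0x301030002000200030300030002020003000303000015))) (.node 1026 (.leaf 0x0) (.node 1027 (.leaf 0x0) (.leaf 0x0))))) (.node 1033 (.node 1030 (.node 1029 (.leaf 0x0) (.leaf 0x0)) (.node 1031 (.leaf 0x2) (.node 1032 (.leaf 0x200020002020200020002000b) (.leaf 0x0)))) (.node 1036 (.node 1034 (.leaf 0x202020003000200020002000300030300030013) (.node 1035 (.leaf 0x202020003000200020002000300030300030013) (.leaf 0x0))) (.node 1037 (.leaf 0x0) (.node 1038 (.leaf 0x2) (.leaf 0x0))))))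

def sgOS_91 : Store := (.node 1017 sgOS_89 sgOS_90)

def sgOS_92 : Store := (.node 995 sgOS_88 sgOS_91)

def sgOS_93 : Store := (.node 952 sgOS_85 sgOS_92)

def sgOS_94 : Store := (.node 866 sgOS_78 sgOS_93)

def sgOS_95 : Store := (.node 1049 (.node 1044 (.node 1041 (.node 1040 (.leaf 0x200020002020200020002000b) (.leaf 0x0)) (.node 1042 (.leaf 0x0) (.node 1043 (.leaf 0x0) (.leaf 0x0)))) (.node 1046 (.node 1045 (.leaf 0x2) (.leaf 0x202010303000300020200020003000300020002020015)) (.node 1047 (.leaf 0x0) (.node 1048 (.leaf 0x0) (.leaf 0x0))))) (.node 1054 (.node 1051 (.node 1050 (.leaf 0x0) (.leaf 0x0)) (.node 1052 (.leaf 0x2) (.node 1053 (.leaf 0x0) (.leaf 0x2000202000303000303000300020200030300030015)))) (.node 1057 (.node 1055 (.leaf 0x10303000303000303000200020202000010) (.node 1056 (.leaf 0x10303000303000303000200020202000010) (.leaf 0x0))) (.node 1058 (.leaf 0x2) (.node 1059 (.leaf 0x0) (.leaf 0x10200030004))))))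

def sgOS_96 : Store := (.node 1071 (.node 1065 (.node 1062 (.node 1061 (.leaf 0x0) (.leaf 0x0)) (.node 1063 (.leaf 0x0) (.node 1064 (.leaf 0x0) (.leaf 0x2)))) (.node 1068 (.node 1066 (.leaf 0x0) (.node 1067 (.leaf 0x10202020003000200020002000300030300030013) (.leaf 0x0))) (.node 1069 (.leaf 0x0) (.node 1070 (.leaf 0x0) (.leaf 0x0))))) (.node 1076 (.node 1073 (.node 1072 (.leaf 0x30103000200020002000300030003000202000013) (.leaf 0x30003000200020002000300030003000202000013)) (.node 1074 (.leaf 0x0) (.node 1075 (.leaf 0x0) (.leaf 0x201020002020003000202000200020202000200020015)))) (.node 1079 (.node 1077 (.leaf 0x201020002020003000202000200020202000200020015) (.node 1078 (.leaf 0x0) (.leaf 0x30102000004))) (.node 1080 (.leaf 0x30002000004) (.node 1081 (.leaf 0x0) (.leaf 0x300020002000200030009))))))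

def sgOS_97 : Store := (.node 1060 sgOS_95 sgOS_96)

def sgOS_98 : Store := (.node 1092 (.node 1087 (.node 1084 (.node 1083 (.leaf 0x0) (.leaf 0x0)) (.node 1085 (.leaf 0x0) (.node 1086 (.leaf 0x30102000004) (.leaf 0x30002000004)))) (.node 1089 (.node 1088 (.leaf 0x0) (.leaf 0x0)) (.node 1090 (.leaf 0x2000300020202000300020002020002000303000014) (.node 1091 (.leaf 0x2000300020202000300020002020002000303000014) (.leaf 0x0))))) (.node 1097 (.node 1094 (.node 1093 (.leaf 0x2) (.leaf 0x0)) (.node 1095 (.leaf 0x30300020002020200030002000202000300020014) (.node 1096 (.leaf 0x30102000004) (.leaf 0x0)))) (.node 1100 (.node 1098 (.leaf 0x0) (.node 1099 (.leaf 0x0) (.leaf 0x2))) (.node 1101 (.leaf 0x0) (.node 1102 (.leaf 0x10200030004) (.leaf 0x201020200030300030300030300020200020012))))))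

def sgOS_99 : Store := (.node 1114 (.node 1108 (.node 1105 (.node 1104 (.leaf 0x0) (.leaf 0x0)) (.node 1106 (.leaf 0x0) (.node 1107 (.leaf 0x0) (.leaf 0x2)))) (.node 1111 (.node 1109 (.leaf 0x0) (.node 1110 (.leaf 0x201030002020003030003030002020003000200020015) (.leaf 0x10202020002000303000303000303000010))) (.node 1112 (.leaf 0x10202020002000303000303000303000010) (.node 1113 (.leaf 0x0) (.leaf 0x202010200030003000200020200030003030002020015))))) (.node 1119 (.node 1116 (.node 1115 (.leaf 0x202000200030003000200020200030003030002020015) (.leaf 0x0)) (.node 1117 (.leaf 0x0) (.node 1118 (.leaf 0x202010200030003000200020200030003030002020015) (.leaf 0x202010200030003000200020200030003030002020015)))) (.node 1122 (.node 1120 (.leaf 0x0) (.node 1121 (.leaf 0x0) (.leaf 0x2))) (.node 1123 (.leaf 0x301030300030006) (.node 1124 (.leaf 0x200020002020002000200030300000f) (.leaf 0x0))))))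

def sgOS_100 : Store := (.node 1103 sgOS_98 sgOS_99)

def sgOS_101 : Store := (.node 1082 sgOS_97 sgOS_100)

def sgOS_102 : Store := (.node 1135 (.node 1130 (.node 1127 (.node 1126 (.leaf 0x0) (.leaf 0x0)) (.node 1128 (.leaf 0x303000300020200020202000200030003000202000015) (.node 1129 (.leaf 0x303010300020200020202000200030003000202000015) (.leaf 0x0)))) (.node 1132 (.node 1131 (.leaf 0x0) (.leaf 0x303000300020200020202000200030003000202000015)) (.node 1133 (.leaf 0x303000300020200020202000200030003000202000015) (.node 1134 (.leaf 0x0) (.leaf 0x0))))) (.node 1140 (.node 1137 (.node 1136 (.leaf 0x2) (.leaf 0x0)) (.node 1138 (.leaf 0x0) (.node 1139 (.leaf 0x30102000004) (.leaf 0x30102000004)))) (.node 1143 (.node 1141 (.leaf 0x0) (.node 1142 (.leaf 0x2) (.leaf 0x0))) (.node 1144 (.leaf 0x300030002000200030300030002020003000303000015) (.node 1145 (.leaf 0x30003030003000200020200030002000202000013) (.leaf 0x202000300020200020002000300030010))))))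

def sgOS_103 : Store := (.node 1157 (.node 1151 (.node 1148 (.node 1147 (.leaf 0x202000300020200020002000300030010) (.leaf 0x0)) (.node 1149 (.leaf 0x30103030003000200020200030002000202000013) (.node 1150 (.leaf 0x30003030003000200020200030002000202000013) (.leaf 0x0)))) (.node 1154 (.node 1152 (.leaf 0x3030002020200020003030002000200020011) (.node 1153 (.leaf 0x303000300020200030300030003030002020002000015) (.leaf 0x303000300020200030300030003030002020002000015))) (.node 1155 (.leaf 0x0) (.node 1156 (.leaf 0x10202000300020200020002000300030010) (.leaf 0x202000300020200020002000300030010))))) (.node 1162 (.node 1159 (.node 1158 (.leaf 0x0) (.leaf 0x30003030003000200020200030002000202000013)) (.node 1160 (.leaf 0x0) (.node 1161 (.leaf 0x0) (.leaf 0x0)))) (.node 1165 (.node 1163 (.leaf 0x20102000202000200020002000300000f) (.node 1164 (.leaf 0x20002000202000200020002000300000f) (.leaf 0x3000200020200020002020003030003000200020200020018)))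 (.node 1166 (.leaf 0x0) (.node 1167 (.leaf 0x30300030300030003030002020002000200020200020017) (.leaf 0x30300030300030003030002020002000200020200020017))))))

def sgOS_104 : Store := (.node 1146 sgOS_102 sgOS_103)

def sgOS_105 : Store := (.node 1179 (.node 1173 (.node 1170 (.node 1169 (.leaf 0x0) (.leaf 0x0)) (.node 1171 (.leaf 0x2) (.node 1172 (.leaf 0x0) (.leaf 0x0)))) (.node 1176 (.node 1174 (.leaf 0x0) (.node 1175 (.leaf 0x0) (.leaf 0x0))) (.node 1177 (.leaf 0x0) (.node 1178 (.leaf 0x2) (.leaf 0x0))))) (.node 1184 (.node 1181 (.node 1180 (.leaf 0x103000003) (.leaf 0x0)) (.node 1182 (.leaf 0x0) (.node 1183 (.leaf 0x0) (.leaf 0x30102020003000303000202000200030300020013)))) (.node 1187 (.node 1185 (.leaf 0x30002020003000303000202000200030300020013) (.node 1186 (.leaf 0x202000200030300020003030002000200020013) (.leaf 0x0))) (.node 1188 (.leaf 0x20102000303000303000200020002000010) (.node 1189 (.leaf 0x20102000303000303000200020002000010)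 (.leaf 0x0))))))

def sgOS_106 : Store := (.node 1201 (.node 1195 (.node 1192 (.node 1191 (.leaf 0x0) (.leaf 0x2)) (.node 1193 (.leaf 0x0) (.node 1194 (.leaf 0x201020003000300020200020003030002000202000015) (.leaf 0x0)))) (.node 1198 (.node 1196 (.leaf 0x0) (.node 1197 (.leaf 0x0) (.leaf 0x2))) (.node 1199 (.leaf 0x0) (.node 1200 (.leaf 0x3000200020200020002020003030003000200020200020018) (.leaf 0x303000300030300020002020002000202000012))))) (.node 1206 (.node 1203 (.node 1202 (.leaf 0x0) (.leaf 0x0)) (.node 1204 (.leaf 0x0) (.node 1205 (.leaf 0x2) (.leaf 0x0)))) (.node 1209 (.node 1207 (.leaf 0x0) (.node 1208 (.leaf 0x20102000200030003000300020200000f) (.leaf 0x0))) (.node 1210 (.leaf 0x0) (.node 1211 (.leaf 0x0) (.leaf 0x2))))))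

def sgOS_107 : Store := (.node 1190 sgOS_105 sgOS_106)

def sgOS_108 : Store := (.node 1168 sgOS_104 sgOS_107)

def sgOS_109 : Store := (.node 1125 sgOS_101 sgOS_108)

def sgOS_110 : Store := (.node 1222 (.node 1217 (.node 1214 (.node 1213 (.leaf 0x0) (.leaf 0x2010300020005)) (.node 1215 (.leaf 0x2020002020003000202000202000d) (.node 1216 (.leaf 0x0) (.leaf 0x0)))) (.node 1219 (.node 1218 (.leaf 0x0) (.leaf 0x2)) (.node 1220 (.leaf 0x0) (.node 1221 (.leaf 0x30103000303000200030300030003000f) (.leaf 0x10200030004))))) (.node 1227 (.node 1224 (.node 1223 (.leaf 0x0) (.leaf 0x0)) (.node 1225 (.leaf 0x0) (.node 1226 (.leaf 0x2) (.leaf 0x0)))) (.node 1230 (.node 1228 (.leaf 0x0) (.node 1229 (.leaf 0x2020002000303000200020200030003030012) (.leaf 0x10202000200020200020003030003000202020003030016))) (.node 1231 (.leaf 0x10202000200020200020003030003000202020003030016) (.node 1232 (.leaf 0x0) (.leaf 0x202000200020200020003030003000202020003030016))))))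

def sgOS_111 : Store := (.node 1244 (.node 1238 (.node 1235 (.node 1234 (.leaf 0x10202000200020200020003030003000202020003030016) (.leaf 0x202020002000300030003000200020200020013)) (.node 1236 (.leaf 0x20200030003030002020003000202020003030014) (.node 1237 (.leaf 0x0) (.leaf 0x0)))) (.node 1241 (.node 1239 (.leaf 0x0) (.node 1240 (.leaf 0x0) (.leaf 0x2))) (.node 1242 (.leaf 0x0) (.node 1243 (.leaf 0x0) (.leaf 0x2010200030003000303000200000d))))) (.node 1249 (.node 1246 (.node 1245 (.leaf 0x2010200030003000303000200000d) (.leaf 0x0)) (.node 1247 (.leaf 0x303000202000200030300030002000200030003030015) (.node 1248 (.leaf 0x303010202000200030300030002000200030003030015) (.leaf 0x0)))) (.node 1252 (.node 1250 (.leaf 0x0) (.node 1251 (.leaf 0x202000303000300030300020200030002020002000015) (.leaf 0x202000303000300030300020200030002020002000015))) (.node 1253 (.leaf 0x0) (.node 1254 (.leaf 0x0) (.leaf 0x2))))))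

def sgOS_112 : Store := (.node 1233 sgOS_110 sgOS_111)

def sgOS_113 : Store := (.node 1266 (.node 1260 (.node 1257 (.node 1256 (.leaf 0x2020102020002000303000303000200030011) (.leaf 0x2020002020003000303000303000d)) (.node 1258 (.leaf 0x0) (.node 1259 (.leaf 0x0) (.leaf 0x0)))) (.node 1263 (.node 1261 (.leaf 0x2) (.node 1262 (.leaf 0x0) (.leaf 0x0))) (.node 1264 (.leaf 0x2020002020003000202000202000d) (.node 1265 (.leaf 0x202000202000202000300020202000010) (.leaf 0x202000202000202000300020202000010))))) (.node 1271 (.node 1268 (.node 1267 (.leaf 0x0) (.leaf 0x0)) (.node 1269 (.leaf 0x2) (.node 1270 (.leaf 0x0) (.leaf 0x0)))) (.node 1274 (.node 1272 (.leaf 0x2000200020200020200030300020200020200020015) (.node 1273 (.leaf 0x2000200020200020200030300020200020200020015) (.leaf 0x0))) (.node 1275 (.leaf 0x1020200030300030003000303000300020200020003000017) (.node 1276 (.leaf 0x20200030300030003000303000300020200020003000017) (.leaf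 0x0))))))

def sgOS_114 : Store := (.node 1288 (.node 1282 (.node 1279 (.node 1278 (.leaf 0x0) (.leaf 0x10202000200020200030003000300020002000202000016)) (.node 1280 (.leaf 0x10202000200020200030003000300020002000202000016) (.node 1281 (.leaf 0x0) (.leaf 0x300020004)))) (.node 1285 (.node 1283 (.leaf 0x10300020004) (.node 1284 (.leaf 0x0) (.leaf 0x103000300030006))) (.node 1286 (.leaf 0x0) (.node 1287 (.leaf 0x0) (.leaf 0x0))))) (.node 1293 (.node 1290 (.node 1289 (.leaf 0x20102020002000200020200030003000010) (.leaf 0x20002020002000200020200030003000010)) (.node 1291 (.leaf 0x0) (.node 1292 (.leaf 0x0) (.leaf 0x20102020002000200020200030003000010)))) (.node 1296 (.node 1294 (.leaf 0x20102020002000200020200030003000010) (.node 1295 (.leaf 0x0) (.leaf 0x10202000300030003030003000202000010))) (.node 1297 (.leaf 0x202000300030003030003000202000010) (.node 1298 (.leaf 0x0) (.leaf 0x0))))))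

def sgOS_115 : Store := (.node 1277 sgOS_113 sgOS_114)

def sgOS_116 : Store := (.node 1255 sgOS_112 sgOS_115)

def sgOS_117 : Store := (.node 1309 (.node 1304 (.node 1301 (.node 1300 (.leaf 0x10202000300030003030003000202000010) (.leaf 0x10202000300030003030003000202000010)) (.node 1302 (.leaf 0x0) (.node 1303 (.leaf 0x0) (.leaf 0x2)))) (.node 1306 (.node 1305 (.leaf 0x301020202000200020200020002020200030012) (.leaf 0x0)) (.node 1307 (.leaf 0x0) (.node 1308 (.leaf 0x0) (.leaf 0x0))))) (.node 1314 (.node 1311 (.node 1310 (.leaf 0x0) (.leaf 0x2)) (.node 1312 (.leaf 0x0) (.node 1313 (.leaf 0x10300020002020200030002020200000f) (.leaf 0x10300020004)))) (.node 1317 (.node 1315 (.leaf 0x10300020004) (.node 1316 (.leaf 0x0) (.leaf 0x0))) (.node 1318 (.leaf 0x2) (.node 1319 (.leaf 0x102000003) (.leaf 0x10303000004))))))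

def sgOS_118 : Store := (.node 1331 (.node 1325 (.node 1322 (.node 1321 (.leaf 0x0) (.leaf 0x0)) (.node 1323 (.leaf 0x0) (.node 1324 (.leaf 0x0) (.leaf 0x2)))) (.node 1328 (.node 1326 (.leaf 0x0) (.node 1327 (.leaf 0x0) (.leaf 0x1020003030003000300020002000d))) (.node 1329 (.leaf 0x1020003030003000300020002000d) (.node 1330 (.leaf 0x0) (.leaf 0x202020002000300030003000200020200020013))))) (.node 1336 (.node 1333 (.node 1332 (.leaf 0x10202020002000300030003000200020200020013) (.leaf 0x0)) (.node 1334 (.leaf 0x2020002000303000200020200000e) (.node 1335 (.leaf 0x2000303000300030002020200020003000012) (.leaf 0x2000303000300030002020200020003000012)))) (.node 1339 (.node 1337 (.leaf 0x0) (.node 1338 (.leaf 0x202000300030002020009) (.leaf 0x202010300030002020009))) (.node 1340 (.leaf 0x2000202000200020002020003030003000303000202020017) (.node 1341 (.leaf 0x0) (.leaf 0x2010202000200020002020003030003000303000303000017))))))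

def sgOS_119 : Store := (.node 1320 sgOS_117 sgOS_118)

def sgOS_120 : Store := (.node 1353 (.node 1347 (.node 1344 (.node 1343 (.leaf 0x2010202000200020002020003030003000303000303000017) (.leaf 0x0)) (.node 1345 (.leaf 0x0) (.node 1346 (.leaf 0x2) (.leaf 0x0)))) (.node 1350 (.node 1348 (.leaf 0x3000202020003000202000303000e) (.node 1349 (.leaf 0x0) (.leaf 0x0))) (.node 1351 (.leaf 0x0) (.node 1352 (.leaf 0x0) (.leaf 0x2))))) (.node 1358 (.node 1355 (.node 1354 (.leaf 0x0) (.leaf 0x0)) (.node 1356 (.leaf 0x0) (.node 1357 (.leaf 0x0) (.leaf 0x0)))) (.node 1361 (.node 1359 (.leaf 0x301030300020202000300030300020002020002000202000018) (.node 1360 (.leaf 0x300030300020202000300030300020002020002000202000018) (.leaf 0x0))) (.node 1362 (.leaf 0x0) (.node 1363 (.leaf 0x300030003000202000202000300030010) (.leaf 0x300030003000202000202000300030010))))))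

def sgOS_121 : Store := (.node 1375 (.node 1369 (.node 1366 (.node 1365 (.leaf 0x0) (.leaf 0x0)) (.node 1367 (.leaf 0x2) (.node 1368 (.leaf 0x2000202020002000303000202000e) (.leaf 0x0)))) (.node 1372 (.node 1370 (.leaf 0x0) (.node 1371 (.leaf 0x0) (.leaf 0x0))) (.node 1373 (.leaf 0x303000200020003030009) (.node 1374 (.leaf 0x303010200020003030009) (.leaf 0x0))))) (.node 1380 (.node 1377 (.node 1376 (.leaf 0x300030300030002000202000303000300030300030002000018) (.leaf 0x3010303000300030003030002020002000202000202000017)) (.node 1378 (.leaf 0x3010303000300030003030002020002000202000202000017) (.node 1379 (.leaf 0x0) (.leaf 0x0)))) (.node 1383 (.node 1381 (.leaf 0x2) (.node 1382 (.leaf 0x0) (.leaf 0x10202000300030003000200000c))) (.node 1384 (.leaf 0x0) (.node 1385 (.leaf 0x0) (.leaf 0x0))))))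

def sgOS_122 : Store := (.node 1364 sgOS_120 sgOS_121)

def sgOS_123 : Store := (.node 1342 sgOS_119 sgOS_122)

def sgOS_124 : Store := (.node 1299 sgOS_116 sgOS_123)

def sgOS_125 : Store := (.node 1212 sgOS_109 sgOS_124)

def sgOS_126 : Store := (.node 1039 sgOS_94 sgOS_125)

def sgOS_127 : Store := (.node 693 sgOS_63 sgOS_126)

def sgOS_128 : Store := (.node 1396 (.node 1391 (.node 1388 (.node 1387 (.leaf 0x201020200020202000200020200030003030003000303000018) (.leaf 0x200020200020202000200020200030003030003000303000018)) (.node 1389 (.leaf 0x0) (.node 1390 (.leaf 0x0) (.leaf 0x200020002000303000303000200020010)))) (.node 1393 (.node 1392 (.leaf 0x200020002000303000303000200020010) (.leaf 0x0)) (.node 1394 (.leaf 0x2) (.node 1395 (.leaf 0x0) (.leaf 0x200020200020003000303000202000200020200020003000018))))) (.node 1401 (.node 1398 (.node 1397 (.leaf 0x0) (.leaf 0x0)) (.node 1399 (.leaf 0x0) (.node 1400 (.leaf 0x0) (.leaf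 0x2)))) (.node 1404 (.node 1402 (.leaf 0x0) (.node 1403 (.leaf 0x0) (.leaf 0x0))) (.node 1405 (.leaf 0x0) (.node 1406 (.leaf 0x0) (.leaf 0x0))))))

def sgOS_129 : Store := (.node 1418 (.node 1412 (.node 1409 (.node 1408 (.leaf 0x2) (.leaf 0x0)) (.node 1410 (.leaf 0x0) (.node 1411 (.leaf 0x300030300030002000202000303000300030300030002000018) (.leaf 0x10303000004)))) (.node 1415 (.node 1413 (.leaf 0x10303000004) (.node 1414 (.leaf 0x0) (.leaf 0x303000004))) (.node 1416 (.leaf 0x10303000004) (.node 1417 (.leaf 0x0) (.leaf 0x0))))) (.node 1423 (.node 1420 (.node 1419 (.leaf 0x0) (.leaf 0x0)) (.node 1421 (.leaf 0x0) (.node 1422 (.leaf 0x0) (.leaf 0x2)))) (.node 1426 (.node 1424 (.leaf 0x0) (.node 1425 (.leaf 0x2000200020003030002000202020003030011) (.leaf 0x0))) (.node 1427 (.leaf 0x0) (.node 1428 (.leaf 0x0) (.leaf 0x0))))))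

def sgOS_130 : Store := (.node 1407 sgOS_128 sgOS_129)

def sgOS_131 : Store := (.node 1439 (.node 1434 (.node 1431 (.node 1430 (.leaf 0x2) (.leaf 0x3000300030002020003000202020002020011)) (.node 1432 (.leaf 0x0) (.node 1433 (.leaf 0x0) (.leaf 0x0)))) (.node 1436 (.node 1435 (.leaf 0x0) (.leaf 0x2)) (.node 1437 (.leaf 0x0) (.node 1438 (.leaf 0x303000200020002000300030003000f) (.leaf 0x202020002000300030003000200020202000013))))) (.node 1444 (.node 1441 (.node 1440 (.leaf 0x0) (.leaf 0x0)) (.node 1442 (.leaf 0x0) (.node 1443 (.leaf 0x2) (.leaf 0x0)))) (.node 1447 (.node 1445 (.leaf 0x0) (.node 1446 (.leaf 0x10200030004) (.leaf 0x0))) (.node 1448 (.leaf 0x0) (.node 1449 (.leaf 0x0) (.leaf 0x2))))))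

def sgOS_132 : Store := (.node 1461 (.node 1455 (.node 1452 (.node 1451 (.leaf 0x0) (.leaf 0x0)) (.node 1453 (.leaf 0x20200030300020003030002000303000f) (.node 1454 (.leaf 0x0) (.leaf 0x0)))) (.node 1458 (.node 1456 (.leaf 0x0) (.node 1457 (.leaf 0x2) (.leaf 0x0))) (.node 1459 (.leaf 0x202020002000300030003000200020200020013) (.node 1460 (.leaf 0x2020003000300030002000200020003000012) (.leaf 0x0))))) (.node 1466 (.node 1463 (.node 1462 (.leaf 0x0) (.leaf 0x0)) (.node 1464 (.leaf 0x3030102000303000202000202000d) (.node 1465 (.leaf 0x3030002000303000202000202000d) (.leaf 0x0)))) (.node 1469 (.node 1467 (.leaf 0x0) (.node 1468 (.leaf 0x2010202000303000300030002020200020003000014) (.leaf 0x2010202000303000300030002020200020003000014))) (.node 1470 (.leaf 0x0) (.node 1471 (.leaf 0x202010303000300030300020200030002020002000015) (.leaf 0x202000303000300030300020200030002020002000015))))))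

def sgOS_133 : Store := (.node 1450 sgOS_131 sgOS_132)

def sgOS_134 : Store := (.node 1429 sgOS_130 sgOS_133)

def sgOS_135 : Store := (.node 1482 (.node 1477 (.node 1474 (.node 1473 (.leaf 0x0) (.leaf 0x0)) (.node 1475 (.leaf 0x303010202000200030300030002000200030003030015) (.node 1476 (.leaf 0x303010202000200030300030002000200030003030015) (.leaf 0x0)))) (.node 1479 (.node 1478 (.leaf 0x303000200020002000300030003000f) (.leaf 0x10303000200020002000300030003000f)) (.node 1480 (.leaf 0x30103000300020200020200020002020002000300030016) (.node 1481 (.leaf 0x202020002000300030003000200020202000013) (.leaf 0x0))))) (.node 1487 (.node 1484 (.node 1483 (.leaf 0x0) (.leaf 0x0)) (.node 1485 (.leaf 0x20002000200030003000300020200000f) (.node 1486 (.leaf 0x20102000200030003000300020200000f) (.leaf 0x0)))) (.node 1490 (.node 1488 (.leaf 0x300030002020003000303000200030300030012) (.node 1489 (.leaf 0x0) (.leaf 0x0))) (.node 1491 (.leaf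 0x0) (.node 1492 (.leaf 0x20200020002020003000202000200020011) (.leaf 0x1020200020002020003000202000200020011))))))

def sgOS_136 : Store := (.node 1504 (.node 1498 (.node 1495 (.node 1494 (.leaf 0x300020200020200030003000300000f) (.leaf 0x0)) (.node 1496 (.leaf 0x0) (.node 1497 (.leaf 0x0) (.leaf 0x0)))) (.node 1501 (.node 1499 (.leaf 0x10300020200020200030003000300000f) (.node 1500 (.leaf 0x300020200020200030003000300000f) (.leaf 0x0))) (.node 1502 (.leaf 0x300020200020200030003000300000f) (.node 1503 (.leaf 0x3000303000200030300030002020003000202000300030017) (.leaf 0x3000303000200030300030002020003000202000300030017))))) (.node 1509 (.node 1506 (.node 1505 (.leaf 0x0) (.leaf 0x0)) (.node 1507 (.leaf 0x2) (.node 1508 (.leaf 0x0) (.leaf 0x202000200020200020003030003000202020003030016)))) (.node 1512 (.node 1510 (.leaf 0x20200030003030003000200020202000200030014) (.node 1511 (.leaf 0x20200030003030003000200020202000200030014)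 (.leaf 0x0))) (.node 1513 (.leaf 0x0) (.node 1514 (.leaf 0x2) (.leaf 0x2010200020200020200030002020200030011))))))

def sgOS_137 : Store := (.node 1493 sgOS_135 sgOS_136)

def sgOS_138 : Store := (.node 1526 (.node 1520 (.node 1517 (.node 1516 (.leaf 0x0) (.leaf 0x0)) (.node 1518 (.leaf 0x0) (.node 1519 (.leaf 0x0) (.leaf 0x2)))) (.node 1523 (.node 1521 (.leaf 0x0) (.node 1522 (.leaf 0x2020002020002000303000303000d) (.leaf 0x2010300020200020200030003030003030011))) (.node 1524 (.leaf 0x0) (.node 1525 (.leaf 0x0) (.leaf 0x0))))) (.node 1531 (.node 1528 (.node 1527 (.leaf 0x2) (.leaf 0x0)) (.node 1529 (.leaf 0x0) (.node 1530 (.leaf 0x10202000200030300020002020003000f) (.leaf 0x0)))) (.node 1534 (.node 1532 (.leaf 0x0) (.node 1533 (.leaf 0x0) (.leaf 0x300020004))) (.node 1535 (.leaf 0x10300020004) (.node 1536 (.leaf 0x0) (.leaf 0x0))))))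

def sgOS_139 : Store := (.node 1548 (.node 1542 (.node 1539 (.node 1538 (.leaf 0x200030300030300020003030003000200020003000016) (.leaf 0x200030300030300020003030003000200020003000016)) (.node 1540 (.leaf 0x0) (.node 1541 (.leaf 0x2) (.leaf 0x0)))) (.node 1545 (.node 1543 (.leaf 0x20003000004) (.node 1544 (.leaf 0x30300030300030002020003000303000202000200030016) (.leaf 0x202020003000202000202000202000010))) (.node 1546 (.leaf 0x202020003000202000202000202000010) (.node 1547 (.leaf 0x0) (.leaf 0x202020003000202000200020003000303000013))))) (.node 1553 (.node 1550 (.node 1549 (.leaf 0x10202020003000202000200020003000303000013) (.leaf 0x202010200020003000303000200030300020200020015)) (.node 1551 (.leaf 0x0) (.node 1552 (.leaf 0x201030002020002000200030003000e) (.leaf 0x201030002020002000200030003000e)))) (.node 1556 (.node 1554 (.leaf 0x0) (.node 1555 (.leaf 0x2) (.leaf 0x0))) (.node 1557 (.leaf 0x0) (.node 1558 (.leaf 0x303010300020002000300030300020002020003030015)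 (.leaf 0x200030300030300020003030003000200020003000016))))))

def sgOS_140 : Store := (.node 1537 sgOS_138 sgOS_139)

def sgOS_141 : Store := (.node 1515 sgOS_137 sgOS_140)

def sgOS_142 : Store := (.node 1472 sgOS_134 sgOS_141)

def sgOS_143 : Store := (.node 1569 (.node 1564 (.node 1561 (.node 1560 (.leaf 0x200030300030300020003030003000200020003000016) (.leaf 0x0)) (.node 1562 (.leaf 0x303010300020002000300030300020002020003030015) (.node 1563 (.leaf 0x303000300020002000300030300020002020003030015) (.leaf 0x0)))) (.node 1566 (.node 1565 (.leaf 0x20003000004) (.leaf 0x2010200030300020003030002000202000300020200020017)) (.node 1567 (.leaf 0x2010200030300020003030002000202000300020200020017) (.node 1568 (.leaf 0x0) (.leaf 0x200030300030300020003030003000200020003000016))))) (.node 1574 (.node 1571 (.node 1570 (.leaf 0x10200030300030300020003030003000200020003000016) (.leaf 0x0)) (.node 1572 (.leaf 0x201020200020006) (.node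 1573 (.leaf 0x300020200020003030002000303000202020003000016) (.leaf 0x300020200020003030002000303000202020003000016)))) (.node 1577 (.node 1575 (.leaf 0x0) (.node 1576 (.leaf 0x20201020202000200020200030003030003000303000016) (.leaf 0x20200020202000200020200030003030003000303000016))) (.node 1578 (.leaf 0x0) (.node 1579 (.leaf 0x0) (.leaf 0x20201020202000200020200030003030003000303000016))))))

def sgOS_144 : Store := (.node 1591 (.node 1585 (.node 1582 (.node 1581 (.leaf 0x20201020202000200020200030003030003000303000016) (.leaf 0x0)) (.node 1583 (.leaf 0x0) (.node 1584 (.leaf 0x2) (.leaf 0x0)))) (.node 1588 (.node 1586 (.leaf 0x20003000004) (.node 1587 (.leaf 0x0) (.leaf 0x0))) (.node 1589 (.leaf 0x0) (.node 1590 (.leaf 0x102020002020002020003000300030002000012) (.leaf 0x2020002020002020003000300030002000012))))) (.node 1596 (.node 1593 (.node 1592 (.leaf 0x0) (.leaf 0x2010300030300030002020002000200030300030014)) (.node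 1594 (.leaf 0x20103000004) (.node 1595 (.leaf 0x20103000004) (.leaf 0x0)))) (.node 1599 (.node 1597 (.leaf 0x2) (.node 1598 (.leaf 0x0) (.leaf 0x10300030002020003000300000c))) (.node 1600 (.leaf 0x3010303000200020002020003000303000300020014) (.node 1601 (.leaf 0x0) (.leaf 0x0))))))

def sgOS_145 : Store := (.node 1580 sgOS_143 sgOS_144)

def sgOS_146 : Store := (.node 1612 (.node 1607 (.node 1604 (.node 1603 (.leaf 0x0) (.leaf 0x20200030002000200020200030300020200020002000202020019)) (.node 1605 (.leaf 0x20201030002000200020200030300020200020002000202020019) (.node 1606 (.leaf 0x0) (.leaf 0x0)))) (.node 1609 (.node 1608 (.leaf 0x0) (.leaf 0x0)) (.node 1610 (.leaf 0x0) (.node 1611 (.leaf 0x2) (.leaf 0x0))))) (.node 1617 (.node 1614 (.node 1613 (.leaf 0x10202020002000202020003000200000f) (.leaf 0x20103000004)) (.node 1615 (.leaf 0x0) (.node 1616 (.leaf 0x0) (.leaf 0x0)))) (.node 1620 (.node 1618 (.leaf 0x2000300030003000202000202000202000012)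 (.node 1619 (.leaf 0x102000300030003000202000202000202000012) (.leaf 0x0))) (.node 1621 (.leaf 0x0) (.node 1622 (.leaf 0x301020202000200030300000b) (.leaf 0x301020202000200030300000b))))))

def sgOS_147 : Store := (.node 1634 (.node 1628 (.node 1625 (.node 1624 (.leaf 0x0) (.leaf 0x10202000200030300020002020003000300030013)) (.node 1626 (.leaf 0x202000200030300020002020003000300030013) (.node 1627 (.leaf 0x0) (.leaf 0x200020003000300020200020003030002000202000015)))) (.node 1631 (.node 1629 (.leaf 0x0) (.node 1630 (.leaf 0x0) (.leaf 0x0))) (.node 1632 (.leaf 0x2) (.node 1633 (.leaf 0x0) (.leaf 0x20003000303000202000200030300020002020002020016))))) (.node 1639 (.node 1636 (.node 1635 (.leaf 0x20102020002000300030003000200020202000013) (.leaf 0x0)) (.node 1637 (.leaf 0x0) (.node 1638 (.leaf 0x0) (.leaf 0x2)))) (.node 1642 (.node 1640 (.leaf 0x0) (.node 1641 (.leaf 0x200020200020200030300020200020200020002000015) (.leaf 0x30103000300020202000200030300020002000013)))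 (.node 1643 (.leaf 0x0) (.node 1644 (.leaf 0x0) (.leaf 0x0))))))

def sgOS_148 : Store := (.node 1623 sgOS_146 sgOS_147)

def sgOS_149 : Store := (.node 1602 sgOS_145 sgOS_148)

def sgOS_150 : Store := (.node 1655 (.node 1650 (.node 1647 (.node 1646 (.leaf 0x20003000303000200020200020002000202000303000017) (.leaf 0x1020003000303000200020200020002000202000303000017)) (.node 1648 (.leaf 0x0) (.node 1649 (.leaf 0x0) (.leaf 0x20002020002000300030003000200020202000013)))) (.node 1652 (.node 1651 (.leaf 0x20002020002000300030003000200020202000013) (.leaf 0x0)) (.node 1653 (.leaf 0x200030300030300020003030003000200020003000016) (.node 1654 (.leaf 0x10200030300030300020003030003000200020003000016) (.leaf 0x0))))) (.node 1660 (.node 1657 (.node 1656 (.leaf 0x0) (.leaf 0x3030003000303000200030300030003030002000014)) (.node 1658 (.leaf 0x3030003000303000200030300030003030002000014) (.node 1659 (.leaf 0x0) (.leaf 0x3000300030300020003030003000303000011))))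 (.node 1663 (.node 1661 (.leaf 0x3010300030300020003030003000303000011) (.node 1662 (.leaf 0x0) (.leaf 0x20201020002000300030003000202000010))) (.node 1664 (.leaf 0x0) (.node 1665 (.leaf 0x0) (.leaf 0x0))))))

def sgOS_151 : Store := (.node 1677 (.node 1671 (.node 1668 (.node 1667 (.leaf 0x2) (.leaf 0x0)) (.node 1669 (.leaf 0x0) (.node 1670 (.leaf 0x20103000004) (.leaf 0x0)))) (.node 1674 (.node 1672 (.leaf 0x0) (.node 1673 (.leaf 0x0) (.leaf 0x2))) (.node 1675 (.leaf 0x0) (.node 1676 (.leaf 0x20200020202000200020200030003030003000303000016) (.leaf 0x3000200030300030002000202020003000202000014))))) (.node 1682 (.node 1679 (.node 1678 (.leaf 0x0) (.leaf 0x0)) (.node 1680 (.leaf 0x0) (.node 1681 (.leaf 0x2) (.leaf 0x0)))) (.node 1685 (.node 1683 (.leaf 0x202010200030300030002020003000303000012) (.node 1684 (.leaf 0x2020200020200020002020003030003000300030300030017) (.leaf 0x1020002000303000303000200020002000011))) (.node 1686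 (.leaf 0x1020002000303000303000200020002000011) (.node 1687 (.leaf 0x0) (.leaf 0x20002000303000303000200020002000011))))))

def sgOS_152 : Store := (.node 1666 sgOS_150 sgOS_151)

def sgOS_153 : Store := (.node 1699 (.node 1693 (.node 1690 (.node 1689 (.leaf 0x1020002000303000303000200020002000011) (.leaf 0x20201030002020003000202000303000f)) (.node 1691 (.leaf 0x0) (.node 1692 (.leaf 0x0) (.leaf 0x0)))) (.node 1696 (.node 1694 (.leaf 0x0) (.node 1695 (.leaf 0x3000202020003030002000202000200030300020003000017) (.leaf 0x3010202020003030002000202000200030300020003000017))) (.node 1697 (.leaf 0x0) (.node 1698 (.leaf 0x0) (.leaf 0x30003000300030300030003000202000010))))) (.node 1704 (.node 1701 (.node 1700 (.leaf 0x30003000300030300030003000202000010) (.leaf 0x0)) (.node 1702 (.leaf 0x30103000303000300030003000200000f) (.node 1703 (.leaf 0x30003000303000300030003000200000f) (.leaf 0x0)))) (.node 1707 (.node 1705 (.leaf 0x2000300030300030003030002020002000300030300030018)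 (.node 1706 (.leaf 0x20200020200020002020003030003000300030300030017) (.leaf 0x20200020200020002020003030003000300030300030017))) (.node 1708 (.leaf 0x0) (.node 1709 (.leaf 0x0) (.leaf 0x2))))))

def sgOS_154 : Store := (.node 1721 (.node 1715 (.node 1712 (.node 1711 (.leaf 0x102000003) (.leaf 0x10303000004)) (.node 1713 (.leaf 0x0) (.node 1714 (.leaf 0x0) (.leaf 0x0)))) (.node 1718 (.node 1716 (.leaf 0x20103030002000202000303000300020200030013) (.node 1717 (.leaf 0x20003030002000202000303000300020200030013) (.leaf 0x0))) (.node 1719 (.leaf 0x3030002020003030002020002000300030012) (.node 1720 (.leaf 0x30103000202000202000300030003000010) (.leaf 0x30103000202000202000300030003000010))))) (.node 1726 (.node 1723 (.node 1722 (.leaf 0x0) (.leaf 0x2)) (.node 1724 (.leaf 0x0) (.node 1725 (.leaf 0x103030003000303000300020200020002020012) (.leaf 0x0)))) (.node 1729 (.node 1727 (.leaf 0x10303000300030002000200020003030003000303000016)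 (.node 1728 (.leaf 0x10303000300030002000200020003030003000303000016) (.leaf 0x0))) (.node 1730 (.leaf 0x2) (.node 1731 (.leaf 0x0) (.leaf 0x3030003030002000303000303000d))))))

def sgOS_155 : Store := (.node 1710 sgOS_153 sgOS_154)

def sgOS_156 : Store := (.node 1688 sgOS_152 sgOS_155)

def sgOS_157 : Store := (.node 1645 sgOS_149 sgOS_156)

def sgOS_158 : Store := (.node 1559 sgOS_142 sgOS_157)

def sgOS_159 : Store := (.node 1742 (.node 1737 (.node 1734 (.node 1733 (.leaf 0x3010200030005) (.leaf 0x0)) (.node 1735 (.leaf 0x0) (.node 1736 (.leaf 0x0) (.leaf 0x2)))) (.node 1739 (.node 1738 (.leaf 0x0) (.leaf 0x10300020004)) (.node 1740 (.leaf 0x20102000202000300020200020002000f) (.node 1741 (.leaf 0x0) (.leaf 0x0))))) (.node 1747 (.node 1744 (.node 1743 (.leaf 0x0) (.leaf 0x0)) (.node 1745 (.leaf 0x2) (.node 1746 (.leaf 0x0) (.leaf 0x0)))) (.node 1750 (.node 1748 (.leaf 0x3010300020002000202000300000d) (.node 1749 (.leaf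 0x3010300020002000202000300000d) (.leaf 0x0))) (.node 1751 (.leaf 0x2) (.node 1752 (.leaf 0x0) (.leaf 0x3030003030002000303000303000d))))))

def sgOS_160 : Store := (.node 1764 (.node 1758 (.node 1755 (.node 1754 (.leaf 0x303000303000303000303000303000e) (.leaf 0x303000303000303000200020202000010)) (.node 1756 (.leaf 0x303000303000303000200020202000010) (.node 1757 (.leaf 0x0) (.leaf 0x0)))) (.node 1761 (.node 1759 (.leaf 0x2) (.node 1760 (.leaf 0x0) (.leaf 0x201020202000300030300030002020200020012))) (.node 1762 (.leaf 0x0) (.node 1763 (.leaf 0x0) (.leaf 0x0))))) (.node 1769 (.node 1766 (.node 1765 (.leaf 0x0) (.leaf 0x2)) (.node 1767 (.leaf 0x0) (.node 1768 (.leaf 0x103000003) (.leaf 0x0)))) (.node 1772 (.node 1770 (.leaf 0x0) (.node 1771 (.leaf 0x0) (.leaf 0x3000200020002020200020002000303000012))) (.node 1773 (.leaf 0x103000200020002020200020002000303000012) (.node 1774 (.leaf 0x0) (.leaf 0x0))))))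

def sgOS_161 : Store := (.node 1753 sgOS_159 sgOS_160)

def sgOS_162 : Store := (.node 1785 (.node 1780 (.node 1777 (.node 1776 (.leaf 0x1030002020002000200030003000d) (.leaf 0x1030002020002000200030003000d)) (.node 1778 (.leaf 0x0) (.node 1779 (.leaf 0x10200030300030300020002000200000f) (.leaf 0x200030300030300020002000200000f)))) (.node 1782 (.node 1781 (.leaf 0x20003000300030300030003000300000f) (.leaf 0x0)) (.node 1783 (.leaf 0x2000202000300020200020003030002000303000200020017) (.node 1784 (.leaf 0x2000202000300020200020003030002000303000200020017) (.leaf 0x0))))) (.node 1790 (.node 1787 (.node 1786 (.leaf 0x103030003030003030002000200020003000012) (.leaf 0x3030003030003030002000200020003000012)) (.node 1788 (.leaf 0x3010200020200020003030003000300020200020014) (.node 1789 (.leaf 0x0) (.leaf 0x30102000004)))) (.node 1793 (.node 1791 (.leaf 0x30102000004) (.node 1792 (.leaf 0x0) (.leaf 0x20102020003000300030300020002000300030013)))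 (.node 1794 (.leaf 0x20002020003000300030300020002000300030013) (.node 1795 (.leaf 0x201020200030300020003030003000200020002020015) (.leaf 0x0))))))

def sgOS_163 : Store := (.node 1807 (.node 1801 (.node 1798 (.node 1797 (.leaf 0x301030300030002000202020002000300030002020015) (.leaf 0x301030300030002000202020002000300030002020015)) (.node 1799 (.leaf 0x0) (.node 1800 (.leaf 0x0) (.leaf 0x2)))) (.node 1804 (.node 1802 (.leaf 0x303000300020200020202000200030003000202000015) (.node 1803 (.leaf 0x2000300020002000200030300030002000202020014) (.leaf 0x0))) (.node 1805 (.leaf 0x0) (.node 1806 (.leaf 0x0) (.leaf 0x2))))) (.node 1812 (.node 1809 (.node 1808 (.leaf 0x0) (.leaf 0x3030003000202000300030300000e)) (.node 1810 (.leaf 0x30002000004) (.node 1811 (.leaf 0x202020002000303000303000303000010) (.leaf 0x202020002000303000303000303000010)))) (.node 1815 (.node 1813 (.leaf 0x0) (.node 1814 (.leaf 0x202010200030003000200020200030003030002020015)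 (.leaf 0x202000200030003000200020200030003030002020015))) (.node 1816 (.leaf 0x30002000004) (.node 1817 (.leaf 0x0) (.leaf 0x3010300020200030002020003000303000200030300030017))))))

def sgOS_164 : Store := (.node 1796 sgOS_162 sgOS_163)

def sgOS_165 : Store := (.node 1775 sgOS_161 sgOS_164)

def sgOS_166 : Store := (.node 1828 (.node 1823 (.node 1820 (.node 1819 (.leaf 0x3010300020200030002020003000303000200030300030017) (.leaf 0x0)) (.node 1821 (.leaf 0x3000200020002000303000303000303000012) (.node 1822 (.leaf 0x103000200020002000303000303000303000012) (.leaf 0x0)))) (.node 1825 (.node 1824 (.leaf 0x0) (.leaf 0x20102020200030002020003000200000f)) (.node 1826 (.leaf 0x20102020200030002020003000200000f) (.node 1827 (.leaf 0x0) (.leaf 0x2))))) (.node 1833 (.node 1830 (.node 1829 (.leaf 0x0) (.leaf 0x2010202000300030003030002000202000200030014)) (.node 1831 (.leaf 0x10200020003030002000200000c) (.node 1832 (.leaf 0x30002000004)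 (.leaf 0x30002000004)))) (.node 1836 (.node 1834 (.leaf 0x0) (.node 1835 (.leaf 0x20202000200020002020003030002020002020003000200020019) (.leaf 0x20202010200020002020003030002020002020003000200020019))) (.node 1837 (.leaf 0x0) (.node 1838 (.leaf 0x0) (.leaf 0x0))))))

def sgOS_167 : Store := (.node 1850 (.node 1844 (.node 1841 (.node 1840 (.leaf 0x0) (.leaf 0x0)) (.node 1842 (.leaf 0x20003000202000303000303000202000300020013) (.node 1843 (.leaf 0x20103000202000303000303000202000300020013) (.leaf 0x0)))) (.node 1847 (.node 1845 (.leaf 0x0) (.node 1846 (.leaf 0x20003000202000303000303000202000300020013) (.leaf 0x20003000202000303000303000202000300020013))) (.node 1848 (.leaf 0x0) (.node 1849 (.leaf 0x2) (.leaf 0x0))))) (.node 1855 (.node 1852 (.node 1851 (.leaf 0x2020102020200020003030002020002000303000014) (.leaf 0x20103030002000303000200020200020002000300030016)) (.node 1853 (.leaf 0x0) (.node 1854 (.leaf 0x0) (.leaf 0x0))))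 (.node 1858 (.node 1856 (.leaf 0x20103000202000202020003000c) (.node 1857 (.leaf 0x20003000202000202020003000c) (.leaf 0x0))) (.node 1859 (.leaf 0x3000200020200020002020003030003000200020200020018) (.node 1860 (.leaf 0x20201030300030300030002020002020002000200030016) (.leaf 0x20201030300030300030002020002020002000200030016))))))

def sgOS_168 : Store := (.node 1839 sgOS_166 sgOS_167)

def sgOS_169 : Store := (.node 1872 (.node 1866 (.node 1863 (.node 1862 (.leaf 0x0) (.leaf 0x2)) (.node 1864 (.leaf 0x0) (.node 1865 (.leaf 0x102000300030003000200020002000303000012) (.leaf 0x30003000300020200030002020003000303000013)))) (.node 1869 (.node 1867 (.leaf 0x0) (.node 1868 (.leaf 0x0) (.leaf 0x0))) (.node 1870 (.leaf 0x10202000004) (.node 1871 (.leaf 0x202000004) (.leaf 0x10202000004))))) (.node 1877 (.node 1874 (.node 1873 (.leaf 0x0) (.leaf 0x10202000004)) (.node 1875 (.leaf 0x10202000004) (.node 1876 (.leaf 0x0) (.leaf 0x2))))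 (.node 1880 (.node 1878 (.leaf 0x0) (.node 1879 (.leaf 0x200020002000006) (.leaf 0x20002000303000007))) (.node 1881 (.leaf 0x30102000303000202000202000303000200030013) (.node 1882 (.leaf 0x30102000303000202000202000303000200030013) (.leaf 0x0))))))

def sgOS_170 : Store := (.node 1894 (.node 1888 (.node 1885 (.node 1884 (.leaf 0x30002000303000202000202000303000200030013) (.leaf 0x30102000303000202000202000303000200030013)) (.node 1886 (.leaf 0x30001) (.node 1887 (.leaf 0x0) (.leaf 0x0)))) (.node 1891 (.node 1889 (.leaf 0x0) (.node 1890 (.leaf 0x0) (.leaf 0x0))) (.node 1892 (.leaf 0x2) (.node 1893 (.leaf 0x10300020002000200030300000c) (.leaf 0x300030003030007))))) (.node 1899 (.node 1896 (.node 1895 (.leaf 0x0) (.leaf 0x0)) (.node 1897 (.leaf 0x0) (.node 1898 (.leaf 0x202020103000202000300030300020002000300030300020018) (.leaf 0x202020003000202000300030300020002000300030300020018)))) (.node 1902 (.node 1900 (.leaf 0x10202020003000303000202000200030300020200020016)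 (.node 1901 (.leaf 0x0) (.leaf 0x30300030003030002000303000300030300020013))) (.node 1903 (.leaf 0x30300030003030002000303000300030300020013) (.node 1904 (.leaf 0x0) (.leaf 0x0))))))

def sgOS_171 : Store := (.node 1883 sgOS_169 sgOS_170)

def sgOS_172 : Store := (.node 1861 sgOS_168 sgOS_171)

def sgOS_173 : Store := (.node 1818 sgOS_165 sgOS_172)

def sgOS_174 : Store := (.node 1915 (.node 1910 (.node 1907 (.node 1906 (.leaf 0x2) (.leaf 0x20001)) (.node 1908 (.leaf 0x2020002000200030003030002000303000012) (.node 1909 (.leaf 0x0) (.leaf 0x0)))) (.node 1912 (.node 1911 (.leaf 0x0) (.leaf 0x2)) (.node 1913 (.leaf 0x0) (.node 1914 (.leaf 0x202010303000200020202000200000e) (.leaf 0x0))))) (.node 1920 (.node 1917 (.node 1916 (.leaf 0x0) (.leaf 0x0)) (.node 1918 (.leaf 0x0) (.node 1919 (.leaf 0x2) (.leaf 0x0)))) (.node 1923 (.node 1921 (.leaf 0x2000300020005) (.node 1922 (.leaf 0x2020002020003000202000202000d) (.leaf 0x2020102020003000303000303000d)))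 (.node 1924 (.leaf 0x2020102020003000303000303000d) (.node 1925 (.leaf 0x0) (.leaf 0x200020003000300030300020202000300030012))))))

def sgOS_175 : Store := (.node 1937 (.node 1931 (.node 1928 (.node 1927 (.leaf 0x201020003000300030300020202000300030012) (.leaf 0x300030002020200020202000202020003000012)) (.node 1929 (.leaf 0x0) (.node 1930 (.leaf 0x201020200020002000202000300000e) (.leaf 0x201020200020002000202000300000e)))) (.node 1934 (.node 1932 (.leaf 0x0) (.node 1933 (.leaf 0x2020003030002000303000200020202000011) (.leaf 0x2020103030002000303000200020202000011))) (.node 1935 (.leaf 0x0) (.node 1936 (.leaf 0x300030002020200020202000202020003000012) (.leaf 0x2020003030002000303000200020202000011))))) (.node 1942 (.node 1939 (.node 1938 (.leaf 0x2020003030002000303000200020202000011) (.leaf 0x0)) (.node 1940 (.leaf 0x20102020003030003000300030300030002020003000016) (.node 1941 (.leaf 0x20002020003030003000300030300030002020003000016)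 (.leaf 0x202000202000202000202000202000e)))) (.node 1945 (.node 1943 (.leaf 0x0) (.node 1944 (.leaf 0x30002020003030003000200020002020002020200030016) (.leaf 0x30002020003030003000200020002020002020200030016))) (.node 1946 (.leaf 0x0) (.node 1947 (.leaf 0x2) (.leaf 0x0))))))

def sgOS_176 : Store := (.node 1926 sgOS_174 sgOS_175)

def sgOS_177 : Store := (.node 1959 (.node 1953 (.node 1950 (.node 1949 (.leaf 0x2000202020002020200020202000200020012) (.leaf 0x2000202020002020200020202000200020012)) (.node 1951 (.leaf 0x200030002000202000200020002020003000012) (.node 1952 (.leaf 0x200030002000202000200020002020003000012) (.leaf 0x0)))) (.node 1956 (.node 1954 (.leaf 0x202000200020200030003000300020002000202000016) (.node 1955 (.leaf 0x10202000200020200030003000300020002000202000016) (.leaf 0x0))) (.node 1957 (.leaf 0x0) (.node 1958 (.leaf 0x30102000300030002000202020003000f) (.leaf 0x30102000300030002000202020003000f))))) (.node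 1964 (.node 1961 (.node 1960 (.leaf 0x0) (.leaf 0x2)) (.node 1962 (.leaf 0x0) (.node 1963 (.leaf 0x10202000300030007) (.leaf 0x0)))) (.node 1967 (.node 1965 (.leaf 0x20202000300020200030002020003030011) (.node 1966 (.leaf 0x20202000300020200030002020003030011) (.leaf 0x0))) (.node 1968 (.leaf 0x20102000200030003030002000202000200020200030016) (.node 1969 (.leaf 0x20002000200030003030002000202000200020200030016) (.leaf 0x0))))))

def sgOS_178 : Store := (.node 1981 (.node 1975 (.node 1972 (.node 1971 (.leaf 0x0) (.leaf 0x10202000300030300030002000202020002020002000016)) (.node 1973 (.leaf 0x10202000300030300030002000202020002020002000016) (.node 1974 (.leaf 0x0) (.leaf 0x2)))) (.node 1978 (.node 1976 (.leaf 0x0) (.node 1977 (.leaf 0x2000300020005) (.leaf 0x3030002000303000300020002000202000012))) (.node 1979 (.leaf 0x201030300030300030300020002020200020012) (.node 1980 (.leaf 0x201030300030300030300020002020200020012) (.leaf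 0x0))))) (.node 1986 (.node 1983 (.node 1982 (.leaf 0x200030300030300030300020002020200020012) (.leaf 0x201030300030300030300020002020200020012)) (.node 1984 (.leaf 0x2000200030003000300020200030002000011) (.node 1985 (.leaf 0x200030004) (.leaf 0x0)))) (.node 1989 (.node 1987 (.leaf 0x0) (.node 1988 (.leaf 0x0) (.leaf 0x2))) (.node 1990 (.leaf 0x0) (.node 1991 (.leaf 0x0) (.leaf 0x30301030002020003030003000202000200020202000016))))))

def sgOS_179 : Store := (.node 1970 sgOS_177 sgOS_178)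

def sgOS_180 : Store := (.node 1948 sgOS_176 sgOS_179)

def sgOS_181 : Store := (.node 2002 (.node 1997 (.node 1994 (.node 1993 (.leaf 0x300020004) (.leaf 0x300020004)) (.node 1995 (.leaf 0x0) (.node 1996 (.leaf 0x2) (.leaf 0x0)))) (.node 1999 (.node 1998 (.leaf 0x20103030003000202000300030300000f) (.leaf 0x2010202020002000303000303000300030011)) (.node 2000 (.leaf 0x20003030003000300020002000d) (.node 2001 (.leaf 0x20003030003000300020002000d) (.leaf 0x0))))) (.node 2007 (.node 2004 (.node 2003 (.leaf 0x201020202000200030300030300030300020012) (.leaf 0x200020202000200030300030300030300020012)) (.node 2005 (.leaf 0x2000300020002000300030003000200020011) (.node 2006 (.leaf 0x0) (.leaf 0x201020202000200030300030300030300020012)))) (.node 2010 (.node 2008 (.leaf 0x201020202000200030300030300030300020012) (.node 2009 (.leaf 0x0) (.leaf 0x2))) (.node 2011 (.leaf 0x0) (.node 2012 (.leaf 0x0) (.leaf 0x303010202000300020202000300000e))))))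

def sgOS_182 : Store := (.node 2024 (.node 2018 (.node 2015 (.node 2014 (.leaf 0x0) (.leaf 0x0)) (.node 2016 (.leaf 0x0) (.node 2017 (.leaf 0x2) (.leaf 0x0)))) (.node 2021 (.node 2019 (.leaf 0x202020003000200020200030002000202000013) (.node 2020 (.leaf 0x3000200030003000200020002020002000303000014) (.leaf 0x0))) (.node 2022 (.leaf 0x0) (.node 2023 (.leaf 0x0) (.leaf 0x1030003000300020200020200030003000011))))) (.node 2029 (.node 2026 (.node 2025 (.leaf 0x30003000300020200020200030003000011) (.leaf 0x300020003000300020002020002000303000200020015)) (.node 2027 (.leaf 0x0) (.node 2028 (.leaf 0x1030003000300020200020200030003000011) (.leaf 0x1030003000300020200020200030003000011)))) (.node 2032 (.node 2030 (.leaf 0x0) (.node 2031 (.leaf 0x202000303000300020200020003000300020002020015) (.leaf 0x202010303000300020200020003000300020002020015))) (.node 2033 (.leaf 0x0) (.node 2034 (.leaf 0x20002000300030300030003030003030002000200020016)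 (.leaf 0x3030102020003000202020002000303000011))))))

def sgOS_183 : Store := (.node 2013 sgOS_181 sgOS_182)

def sgOS_184 : Store := (.node 2046 (.node 2040 (.node 2037 (.node 2036 (.leaf 0x3030102020003000202020002000303000011) (.leaf 0x0)) (.node 2038 (.leaf 0x30002020200020200030002000c) (.node 2039 (.leaf 0x30102020200020200030002000c) (.leaf 0x200030004)))) (.node 2043 (.node 2041 (.leaf 0x0) (.node 2042 (.leaf 0x0) (.leaf 0x0))) (.node 2044 (.leaf 0x0) (.node 2045 (.leaf 0x2) (.leaf 0x0))))) (.node 2051 (.node 2048 (.node 2047 (.leaf 0x20002000300030002020002020003000202000014) (.leaf 0x0)) (.node 2049 (.leaf 0x0) (.node 2050 (.leaf 0x0) (.leaf 0x0)))) (.node 2054 (.node 2052 (.leaf 0x303000202000200030300030002000200030003030015) (.node 2053 (.leaf 0x303010202000200030300030002000200030003030015) (.leaf 0x201020200030002020002000303000200020012))) (.node 2055 (.leaf 0x0) (.node 2056 (.leaf 0x2020103030002000202020003000202000011)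 (.leaf 0x2020103030002000202020003000202000011))))))

def sgOS_185 : Store := (.node 2068 (.node 2062 (.node 2059 (.node 2058 (.leaf 0x0) (.leaf 0x20002020200030300020003000c)) (.node 2060 (.leaf 0x20102020200030300020003000c) (.node 2061 (.leaf 0x0) (.leaf 0x300020004)))) (.node 2065 (.node 2063 (.leaf 0x0) (.node 2064 (.leaf 0x0) (.leaf 0x0))) (.node 2066 (.leaf 0x10303000300030002000200020003030003000303000016) (.node 2067 (.leaf 0x303000300030002000200020003030003000303000016) (.leaf 0x0))))) (.node 2073 (.node 2070 (.node 2069 (.leaf 0x200020200020003000303000202000200020200020003000018) (.leaf 0x10200030004)) (.node 2071 (.leaf 0x10200030004) (.node 2072 (.leaf 0x0) (.leaf 0x0)))) (.node 2076 (.node 2074 (.leaf 0x2) (.node 2075 (.leaf 0x10202000004) (.leaf 0x0))) (.node 2077 (.leaf 0x0) (.node 2078 (.leaf 0x0) (.leaf 0x0))))))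

def sgOS_186 : Store := (.node 2057 sgOS_184 sgOS_185)

def sgOS_187 : Store := (.node 2035 sgOS_183 sgOS_186)

def sgOS_188 : Store := (.node 1992 sgOS_180 sgOS_187)

def sgOS_189 : Store := (.node 1905 sgOS_173 sgOS_188)

def sgOS_190 : Store := (.node 1732 sgOS_158 sgOS_189)

def sgOS_191 : Store := (.node 2089 (.node 2084 (.node 2081 (.node 2080 (.leaf 0x2000202000303000300030300020200020002020002000017) (.leaf 0x2010202000303000300030300020200020002020002000017)) (.node 2082 (.leaf 0x0) (.node 2083 (.leaf 0x0) (.leaf 0x20201020002020003000202000200020202000013)))) (.node 2086 (.node 2085 (.leaf 0x20201020002020003000202000200020202000013) (.leaf 0x0)) (.node 2087 (.leaf 0x10300030003000202000202000300000f) (.node 2088 (.leaf 0x300030003000202000202000300000f) (.leaf 0x0))))) (.node 2094 (.node 2091 (.node 2090 (.leaf 0x303000303000202000300020002020002000013) (.leaf 0x2020103030002000202020003000202000011)) (.node 2092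 (.leaf 0x2020103030002000202020003000202000011) (.node 2093 (.leaf 0x0) (.leaf 0x10202000200020200020003030003000202020003030016)))) (.node 2097 (.node 2095 (.leaf 0x202000200020200020003030003000202020003030016) (.node 2096 (.leaf 0x300030300030002000202000303000300030300030002000018) (.leaf 0x0))) (.node 2098 (.leaf 0x10300020004) (.node 2099 (.leaf 0x10300020004) (.leaf 0x0))))))

def sgOS_192 : Store := (.node 2111 (.node 2105 (.node 2102 (.node 2101 (.leaf 0x10200020002000303000303000200000f) (.leaf 0x200020002000303000303000200000f)) (.node 2103 (.leaf 0x202000202000300030002000202020003000013) (.node 2104 (.leaf 0x0) (.leaf 0x3030102020003000202020002000303000011)))) (.node 2108 (.node 2106 (.leaf 0x3030102020003000202020002000303000011) (.node 2107 (.leaf 0x0) (.leaf 0x3000303000202000200020200030300030003030003000017))) (.node 2109 (.leaf 0x3010303000202000200020200030300030003030003000017) (.node 2110 (.leaf 0x0)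 (.leaf 0x0))))) (.node 2116 (.node 2113 (.node 2112 (.leaf 0x103030003) (.leaf 0x103030003)) (.node 2114 (.leaf 0x0) (.node 2115 (.leaf 0x2) (.leaf 0x0)))) (.node 2119 (.node 2117 (.leaf 0x200030004) (.node 2118 (.leaf 0x30300030005) (.leaf 0x3000300020002000200030300020003000011))) (.node 2120 (.leaf 0x3000300020002000200030300020003000011) (.node 2121 (.leaf 0x0) (.leaf 0x3010300020002000200030300020003000011))))))

def sgOS_193 : Store := (.node 2100 sgOS_191 sgOS_192)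

def sgOS_194 : Store := (.node 2132 (.node 2127 (.node 2124 (.node 2123 (.leaf 0x3000300020002000200030300020003000011) (.leaf 0x202020003000200020200030002000202000013)) (.node 2125 (.leaf 0x3000300020002000200030300020003000011) (.node 2126 (.leaf 0x0) (.leaf 0x0)))) (.node 2129 (.node 2128 (.leaf 0x0) (.leaf 0x1020202000300020200030002020003030011)) (.node 2130 (.leaf 0x20202000300020200030002020003030011) (.node 2131 (.leaf 0x2010200020003000303000200030300020200020014) (.leaf 0x0))))) (.node 2137 (.node 2134 (.node 2133 (.leaf 0x0) (.leaf 0x0)) (.node 2135 (.leaf 0x0) (.node 2136 (.leaf 0x0) (.leaf 0x2)))) (.node 2140 (.node 2138 (.leaf 0x303000200020002000300030003030010) (.node 2139 (.leaf 0x30103000300030002000200020003000f) (.leaf 0x0))) (.node 2141 (.leaf 0x0) (.node 2142 (.leaf 0x0) (.leaf 0x0))))))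

def sgOS_195 : Store := (.node 2154 (.node 2148 (.node 2145 (.node 2144 (.leaf 0x2) (.leaf 0x201020003000303000202000303000202000012)) (.node 2146 (.leaf 0x0) (.node 2147 (.leaf 0x10303000200020002020002000200020010) (.leaf 0x10303000200020002020002000200020010)))) (.node 2151 (.node 2149 (.leaf 0x0) (.node 2150 (.leaf 0x0) (.leaf 0x2))) (.node 2152 (.leaf 0x10200020002000303000303000200000f) (.node 2153 (.leaf 0x10200020002000303000303000200000f) (.leaf 0x0))))) (.node 2159 (.node 2156 (.node 2155 (.leaf 0x0) (.leaf 0x0)) (.node 2157 (.leaf 0x20002000300030002020002000200030300030013) (.node 2158 (.leaf 0x20102000300030002020002000200030300030013) (.leaf 0x2020103030002020002020003000202000011)))) (.node 2162 (.node 2160 (.leaf 0x0) (.node 2161 (.leaf 0x0) (.leaf 0x0))) (.node 2163 (.leaf 0x0) (.node 2164 (.leaf 0x10202000200030003000303000200020202000013) (.leaf 0x202000200030003000303000200020202000013))))))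

def sgOS_196 : Store := (.node 2143 sgOS_194 sgOS_195)

def sgOS_197 : Store := (.node 2122 sgOS_193 sgOS_196)

def sgOS_198 : Store := (.node 2175 (.node 2170 (.node 2167 (.node 2166 (.leaf 0x0) (.leaf 0x2020103030002020002020003000202000011)) (.node 2168 (.leaf 0x2020002000303000200020202000200020002000015) (.node 2169 (.leaf 0x2020002000303000200020202000200020002000015) (.leaf 0x0)))) (.node 2172 (.node 2171 (.leaf 0x1020200020002020003000202000200020011) (.leaf 0x20200020002020003000202000200020011)) (.node 2173 (.leaf 0x20002020002020003030002020002000303000200030017) (.node 2174 (.leaf 0x201020002020200020002020003000202000200020015) (.leaf 0x0))))) (.node 2180 (.node 2177 (.node 2176 (.leaf 0x0) (.leaf 0x0)) (.node 2178 (.leaf 0x2) (.node 2179 (.leaf 0x0) (.leaf 0x2000300020002000300030003000200020011)))) (.node 2183 (.node 2181 (.leaf 0x301030002020003000303000300020200030002000015) (.node 2182 (.leaf 0x200030300030300020003030003000200020003000016)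 (.leaf 0x200030300030300020003030003000200020003000016))) (.node 2184 (.leaf 0x0) (.node 2185 (.leaf 0x10200030300030300020003030003000200020003000016) (.leaf 0x200030300030300020003030003000200020003000016))))))

def sgOS_199 : Store := (.node 2197 (.node 2191 (.node 2188 (.node 2187 (.leaf 0x0) (.leaf 0x202000303000300030300020200030002020002000015)) (.node 2189 (.leaf 0x20002020200030300030003000200020200030300020016) (.node 2190 (.leaf 0x20002020200030300030003000200020200030300020016) (.leaf 0x0)))) (.node 2194 (.node 2192 (.leaf 0x0) (.node 2193 (.leaf 0x2) (.leaf 0x1030300020003030003030002020003030011))) (.node 2195 (.leaf 0x1030300020003030003030002020003030011) (.node 2196 (.leaf 0x0) (.leaf 0x0))))) (.node 2202 (.node 2199 (.node 2198 (.leaf 0x0) (.leaf 0x202010300030002020002000300030002000012)) (.node 2200 (.leaf 0x202000300030002020002000300030002000012) (.node 2201 (.leaf 0x2020003030002000202020002000200020003000014)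 (.leaf 0x0)))) (.node 2205 (.node 2203 (.leaf 0x2020102020002000303000303000d) (.node 2204 (.leaf 0x2020102020002000303000303000d) (.leaf 0x0))) (.node 2206 (.leaf 0x2020102000300030003000200020002000300030014) (.node 2207 (.leaf 0x2020002000300030003000200020002000300030014) (.leaf 0x0))))))

def sgOS_200 : Store := (.node 2186 sgOS_198 sgOS_199)

def sgOS_201 : Store := (.node 2219 (.node 2213 (.node 2210 (.node 2209 (.leaf 0x202020002000303000300030002020002000202000015) (.leaf 0x3010200030300030300030003000202020002000014)) (.node 2211 (.leaf 0x3010200030300030300030003000202020002000014) (.node 2212 (.leaf 0x0) (.leaf 0x2000300020002000300030003000200020011)))) (.node 2216 (.node 2214 (.leaf 0x2010300020002000300030003000200020011) (.node 2215 (.leaf 0x20003030002020002000200030300000f) (.leaf 0x0))) (.node 2217 (.leaf 0x2000300020002000300030003000200020011) (.node 2218 (.leaf 0x2000300020002000300030003000200020011)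 (.leaf 0x0))))) (.node 2224 (.node 2221 (.node 2220 (.leaf 0x20200020202000200020200030003030003000303000016) (.leaf 0x20201020202000200020200030003030003000303000016)) (.node 2222 (.leaf 0x10300030002020003000202020002000200020013) (.node 2223 (.leaf 0x0) (.leaf 0x102020003000202020002000b)))) (.node 2227 (.node 2225 (.leaf 0x102020003000202020002000b) (.node 2226 (.leaf 0x0) (.leaf 0x20002000200030300030002020003000303000013))) (.node 2228 (.leaf 0x20102000200030300030002020003000303000013) (.node 2229 (.leaf 0x2000202000005) (.leaf 0x0))))))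

def sgOS_202 : Store := (.node 2241 (.node 2235 (.node 2232 (.node 2231 (.leaf 0x3030003000303000200030300030003030002000014) (.leaf 0x3030003000303000200030300030003030002000014)) (.node 2233 (.leaf 0x0) (.node 2234 (.leaf 0x0) (.leaf 0x2)))) (.node 2238 (.node 2236 (.leaf 0x20102020003030003000202000202000300030300020016) (.node 2237 (.leaf 0x20003000004) (.leaf 0x0))) (.node 2239 (.leaf 0x0) (.node 2240 (.leaf 0x0) (.leaf 0x201020200030003000303000300030002000012))))) (.node 2246 (.node 2243 (.node 2242 (.leaf 0x200020200030003000303000300030002000012) (.leaf 0x0)) (.node 2244 (.leaf 0x0) (.node 2245 (.leaf 0x30102000200020200020200030003030003030002020016) (.leaf 0x30102000200020200020200030003030003030002020016)))) (.node 2249 (.node 2247 (.leaf 0x0) (.node 2248 (.leaf 0x20201030002000200020200030300020200020002000202020019) (.leaf 0x20200030002000200020200030300020200020002000202020019))) (.node 2250 (.leaf 0x20002000300030003030003000202000300020200030016)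 (.node 2251 (.leaf 0x20202000202020002000300030002020002020013) (.leaf 0x0))))))

def sgOS_203 : Store := (.node 2230 sgOS_201 sgOS_202)

def sgOS_204 : Store := (.node 2208 sgOS_200 sgOS_203)

def sgOS_205 : Store := (.node 2165 sgOS_197 sgOS_204)

def sgOS_206 : Store := (.node 2262 (.node 2257 (.node 2254 (.node 2253 (.leaf 0x0) (.leaf 0x0)) (.node 2255 (.leaf 0x10200030300030300020003030003000200020003000016) (.node 2256 (.leaf 0x200030300030300020003030003000200020003000016) (.leaf 0x3030003030002020003000202000d)))) (.node 2259 (.node 2258 (.leaf 0x2010300020200030003030002020003030003030003000017) (.leaf 0x0)) (.node 2260 (.leaf 0x0) (.node 2261 (.leaf 0x0) (.leaf 0x0))))) (.node 2267 (.node 2264 (.node 2263 (.leaf 0x2) (.leaf 0x200020200030002020200000b)) (.node 2265 (.leaf 0x202000300030003030002020003000f) (.node 2266 (.leaf 0x0) (.leaf 0x0)))) (.node 2270 (.node 2268 (.leaf 0x0) (.node 2269 (.leaf 0x2000300020002000300030300030002020002020200020017)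 (.leaf 0x2010300020002000300030300030002020002020200020017))) (.node 2271 (.leaf 0x20200020200030003000200020202000202020013) (.node 2272 (.leaf 0x0) (.leaf 0x3030002000202000303000303000200020200030015))))))

def sgOS_207 : Store := (.node 2284 (.node 2278 (.node 2275 (.node 2274 (.leaf 0x3030002000202000303000303000200020200030015) (.leaf 0x0)) (.node 2276 (.leaf 0x0) (.node 2277 (.leaf 0x2) (.leaf 0x0)))) (.node 2281 (.node 2279 (.leaf 0x20200020200030003000200020202000202020013) (.node 2280 (.leaf 0x3010200030300030300030003000202020002000014) (.leaf 0x3010200030300030300030003000202020002000014))) (.node 2282 (.leaf 0x0) (.node 2283 (.leaf 0x3010300030300020003030003000303000011) (.leaf 0x3000300030300020003030003000303000011))))) (.node 2289 (.node 2286 (.node 2285 (.leaf 0x301030002020200030003000300020200020002020015) (.leaf 0x20001)) (.node 2287 (.leaf 0x0) (.node 2288 (.leaf 0x0) (.leaf 0x0)))) (.node 2292 (.node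 2290 (.leaf 0x3030003030002020003000200020002020012) (.node 2291 (.leaf 0x103030003030002020003000200020002020012) (.leaf 0x202020003000300020200020003000300020202000015))) (.node 2293 (.leaf 0x0) (.node 2294 (.leaf 0x30300030003000303000303000200030010) (.leaf 0x30300030003000303000303000200030010))))))

def sgOS_208 : Store := (.node 2273 sgOS_206 sgOS_207)

def sgOS_209 : Store := (.node 2305 (.node 2300 (.node 2297 (.node 2296 (.leaf 0x0) (.leaf 0x0)) (.node 2298 (.leaf 0x2) (.node 2299 (.leaf 0x20201020002000007) (.leaf 0x3010303000202000300020200020003000300030014)))) (.node 2302 (.node 2301 (.leaf 0x0) (.leaf 0x0)) (.node 2303 (.leaf 0x0) (.node 2304 (.leaf 0x103000202000300030300020200020003030002000015) (.leaf 0x3000202000300030300020200020003030002000015))))) (.node 2310 (.node 2307 (.node 2306 (.leaf 0x0) (.leaf 0x20201030300030002020002020003000303000200030016)) (.node 2308 (.leaf 0x202000003) (.node 2309 (.leaf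 0x202000003) (.leaf 0x0)))) (.node 2313 (.node 2311 (.leaf 0x30102000303000202020002000c) (.node 2312 (.leaf 0x30002000303000202020002000c) (.leaf 0x2000300030300030003030002020002000300030300030018))) (.node 2314 (.leaf 0x0) (.node 2315 (.leaf 0x30301020200020200020003030003030003000300020016) (.leaf 0x30301020200020200020003030003030003000300020016))))))

def sgOS_210 : Store := (.node 2327 (.node 2321 (.node 2318 (.node 2317 (.leaf 0x0) (.leaf 0x0)) (.node 2319 (.leaf 0x2) (.node 2320 (.leaf 0x3030003000300020002020003000202000012) (.leaf 0x30001)))) (.node 2324 (.node 2322 (.leaf 0x0) (.node 2323 (.leaf 0x0) (.leaf 0x0))) (.node 2325 (.leaf 0x2) (.node 2326 (.leaf 0x0) (.leaf 0x3030003030002000303000303000d))))) (.node 2332 (.node 2329 (.node 2328 (.leaf 0x3000200030005) (.leaf 0x3000300020002000202000300000d)) (.node 2330 (.leaf 0x3000300020002000202000300000d) (.node 2331 (.leaf 0x0) (.leaf 0x200020202000300020200030002020200020012))))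 (.node 2335 (.node 2333 (.leaf 0x201020202000300020200030002020200020012) (.node 2334 (.leaf 0x0) (.leaf 0x2020200020003030003000b))) (.node 2336 (.leaf 0x303010202000300020002020003000200020200020015) (.node 2337 (.leaf 0x303010202000300020002020003000200020200020015) (.leaf 0x0))))))

def sgOS_211 : Store := (.node 2316 sgOS_209 sgOS_210)

def sgOS_212 : Store := (.node 2295 sgOS_208 sgOS_211)

def sgOS_213 : Store := (.node 2348 (.node 2343 (.node 2340 (.node 2339 (.leaf 0x2) (.leaf 0x0)) (.node 2341 (.leaf 0x2020003000202000200030003000303000012) (.node 2342 (.leaf 0x3000200030005) (.leaf 0x301020200020200020200030002020200030012)))) (.node 2345 (.node 2344 (.leaf 0x301020200020200020200030002020200030012) (.leaf 0x0)) (.node 2346 (.leaf 0x300020200020200020200030002020200030012) (.node 2347 (.leaf 0x301020200020200020200030002020200030012) (.leaf 0x300020004))))) (.node 2353 (.node 2350 (.node 2349 (.leaf 0x3000300020002000200030300020003000011)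 (.leaf 0x0)) (.node 2351 (.leaf 0x0) (.node 2352 (.leaf 0x0) (.leaf 0x301020202000300020200020200020200030012)))) (.node 2356 (.node 2354 (.leaf 0x300020202000300020200020200020200030012) (.node 2355 (.leaf 0x0) (.leaf 0x3000200030003000200020002000300030011))) (.node 2357 (.leaf 0x301020202000300020200020200020200030012) (.node 2358 (.leaf 0x301020202000300020200020200020200030012) (.leaf 0x0))))))

def sgOS_214 : Store := (.node 2370 (.node 2364 (.node 2361 (.node 2360 (.leaf 0x201030003000303000300030002020002000012) (.leaf 0x200030003000303000300030002020002000012)) (.node 2362 (.leaf 0x0) (.node 2363 (.leaf 0x0) (.leaf 0x20103000300030300030300020002020002020003030016)))) (.node 2367 (.node 2365 (.leaf 0x20103000300030300030300020002020002020003030016) (.node 2366 (.leaf 0x0) (.leaf 0x20202010200020002020003030002020002020003000200020019))) (.node 2368 (.leaf 0x20202000200020002020003030002020002020003000200020019) (.node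 2369 (.leaf 0x20202000202020002000303000200020002020013) (.leaf 0x20202000202020002000303000200020002020013))))) (.node 2375 (.node 2372 (.node 2371 (.leaf 0x0) (.leaf 0x0)) (.node 2373 (.leaf 0x0) (.node 2374 (.leaf 0x0) (.leaf 0x2)))) (.node 2378 (.node 2376 (.leaf 0x30300030300020200030002000202000202020013) (.node 2377 (.leaf 0x0) (.leaf 0x20003000202000202000200020002020010))) (.node 2379 (.leaf 0x20003000202000202000200020002020010) (.node 2380 (.leaf 0x0) (.leaf 0x0))))))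

def sgOS_215 : Store := (.node 2359 sgOS_213 sgOS_214)

def sgOS_216 : Store := (.node 2392 (.node 2386 (.node 2383 (.node 2382 (.leaf 0x2) (.leaf 0x10202020003000303000202000200030300020200020016)) (.node 2384 (.leaf 0x201030300020003000300020200020200020200030015) (.node 2385 (.leaf 0x0) (.leaf 0x0)))) (.node 2389 (.node 2387 (.leaf 0x0) (.node 2388 (.leaf 0x200020002020200020200020002000300030012) (.leaf 0x201020002020200020200020002000300030012))) (.node 2390 (.leaf 0x0) (.node 2391 (.leaf 0x2000303000303000300020200030003030002020014) (.leaf 0x103000300030002020200030002020003000303000015))))) (.node 2397 (.node 2394 (.node 2393 (.leaf 0x103000300030002020200030002020003000303000015) (.leaf 0x0)) (.node 2395 (.leaf 0x0) (.node 2396 (.leaf 0x2) (.leaf 0x1020200030002020002020003000300020002000014)))) (.node 2400 (.node 2398 (.leaf 0x0) (.node 2399 (.leaf 0x0) (.leaf 0x0))) (.node 2401 (.leaf 0x0) (.node 2402 (.leaf 0x0)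 (.leaf 0x2))))))

def sgOS_217 : Store := (.node 2414 (.node 2408 (.node 2405 (.node 2404 (.leaf 0x200030004) (.leaf 0x1030300020002020002000200030300020003000014)) (.node 2406 (.leaf 0x0) (.node 2407 (.leaf 0x0) (.leaf 0x0)))) (.node 2411 (.node 2409 (.leaf 0x2000202000300030003030003000300020012) (.node 2410 (.leaf 0x102000202000300030003030003000300020012) (.leaf 0x300020202000200030003000202000202000013))) (.node 2412 (.leaf 0x301030300020202000300030300020002020002000202000018) (.node 2413 (.leaf 0x0) (.leaf 0x0))))) (.node 2419 (.node 2416 (.node 2415 (.leaf 0x0) (.leaf 0x2000300030003030003000300020200020012)) (.node 2417 (.leaf 0x102000300030003030003000300020200020012) (.node 2418 (.leaf 0x201030300030300030300020200030002000200030015) (.leaf 0x200020202000200030300020002000202000013)))) (.node 2422 (.node 2420 (.leaf 0x0) (.node 2421 (.leaf 0x0) (.leaf 0x0))) (.node 2423 (.leaf 0x2020002020002000202020003000300030300020014)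 (.node 2424 (.leaf 0x2020102020002000202020003000300030300020014) (.leaf 0x20002000300030300030300020002020002020013))))))

def sgOS_218 : Store := (.node 2403 sgOS_216 sgOS_217)

def sgOS_219 : Store := (.node 2381 sgOS_215 sgOS_218)

def sgOS_220 : Store := (.node 2338 sgOS_212 sgOS_219)

def sgOS_221 : Store := (.node 2252 sgOS_205 sgOS_220)

def sgOS_222 : Store := (.node 2435 (.node 2430 (.node 2427 (.node 2426 (.leaf 0x0) (.leaf 0x2020102000303000303000200020200030300030014)) (.node 2428 (.leaf 0x2020102000303000303000200020200030300030014) (.node 2429 (.leaf 0x0) (.leaf 0x303000303000200030003000202000202000012)))) (.node 2432 (.node 2431 (.leaf 0x303010303000200030003000202000202000012) (.leaf 0x0)) (.node 2433 (.leaf 0x30301030002020003030003000202000200020202000016) (.node 2434 (.leaf 0x3030103000202000202000300030300020200020014) (.leaf 0x3030103000202000202000300030300020200020014))))) (.node 2440 (.node 2437 (.node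 2436 (.leaf 0x0) (.leaf 0x2)) (.node 2438 (.leaf 0x0) (.node 2439 (.leaf 0x300030300020202000300030300020002020002000202000018) (.leaf 0x30301020200020003030003030003000200020013)))) (.node 2443 (.node 2441 (.leaf 0x200030300030002020002020003030003000202000015) (.node 2442 (.leaf 0x200030300030002020002020003030003000202000015) (.leaf 0x0))) (.node 2444 (.leaf 0x301020202000200030300020002020200030012) (.node 2445 (.leaf 0x300020202000200030300020002020200030012) (.leaf 0x3030102020002000303000200020200020200030014))))))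

def sgOS_223 : Store := (.node 2457 (.node 2451 (.node 2448 (.node 2447 (.leaf 0x3030002000303000202000202000d) (.leaf 0x0)) (.node 2449 (.leaf 0x0) (.node 2450 (.leaf 0x0) (.leaf 0x2)))) (.node 2454 (.node 2452 (.leaf 0x0) (.node 2453 (.leaf 0x200020200020002020002000b) (.leaf 0x10300030002020003000300000c))) (.node 2455 (.leaf 0x2000202000303000300020200020200030003030014) (.node 2456 (.leaf 0x2000202000303000300020200020200030003030014) (.leaf 0x0))))) (.node 2462 (.node 2459 (.node 2458 (.leaf 0x2) (.leaf 0x0)) (.node 2460 (.leaf 0x10200020003030002000200000c) (.node 2461 (.leaf 0x300030300030003030003000b) (.leaf 0x3000303000202000200030300030300020002020014)))) (.node 2465 (.node 2463 (.leaf 0x3000303000202000200030300030300020002020014) (.node 2464 (.leaf 0x0) (.leaf 0x10001))) (.node 2466 (.leaf 0x20001) (.node 2467 (.leaf 0x30001) (.leaf 0x1))))))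

def sgOS_224 : Store := (.node 2446 sgOS_222 sgOS_223)

def sgOS_225 : Store := (.node 2478 (.node 2473 (.node 2470 (.node 2469 (.leaf 0x0) (.leaf 0x0)) (.node 2471 (.leaf 0x0) (.node 2472 (.leaf 0x0) (.leaf 0x300030202030006)))) (.node 2475 (.node 2474 (.leaf 0x0) (.leaf 0x100000102010006)) (.node 2476 (.leaf 0x0) (.node 2477 (.leaf 0x0) (.leaf 0x0))))) (.node 2483 (.node 2480 (.node 2479 (.leaf 0x0) (.leaf 0x100000102010006)) (.node 2481 (.leaf 0x0) (.node 2482 (.leaf 0x100000100000008) (.leaf 0x0)))) (.node 2486 (.node 2484 (.leaf 0x0) (.node 2485 (.leaf 0x0) (.leaf 0x0))) (.node 2487 (.leaf 0x100000102010006) (.node 2488 (.leaf 0x0) (.leaf 0x300030202030006))))))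

def sgOS_226 : Store := (.node 2500 (.node 2494 (.node 2491 (.node 2490 (.leaf 0x0) (.leaf 0x0)) (.node 2492 (.leaf 0x0) (.node 2493 (.leaf 0x0) (.leaf 0x0)))) (.node 2497 (.node 2495 (.leaf 0x10100000001000007) (.node 2496 (.leaf 0x0) (.leaf 0x0))) (.node 2498 (.leaf 0x0) (.node 2499 (.leaf 0x0) (.leaf 0x0))))) (.node 2505 (.node 2502 (.node 2501 (.leaf 0x201000302010006) (.leaf 0x0)) (.node 2503 (.leaf 0x300030202030006) (.node 2504 (.leaf 0x0) (.leaf 0x0)))) (.node 2508 (.node 2506 (.leaf 0x0) (.node 2507 (.leaf 0x0) (.leaf 0x0))) (.node 2509 (.leaf 0x0) (.node 2510 (.leaf 0x0) (.leaf 0x0))))))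

def sgOS_227 : Store := (.node 2489 sgOS_225 sgOS_226)

def sgOS_228 : Store := (.node 2468 sgOS_224 sgOS_227)

def sgOS_229 : Store := (.node 2521 (.node 2516 (.node 2513 (.node 2512 (.leaf 0x0) (.leaf 0x0)) (.node 2514 (.leaf 0x0) (.node 2515 (.leaf 0x0) (.leaf 0x0)))) (.node 2518 (.node 2517 (.leaf 0x0) (.leaf 0x0)) (.node 2519 (.leaf 0x0) (.node 2520 (.leaf 0x0) (.leaf 0x0))))) (.node 2526 (.node 2523 (.node 2522 (.leaf 0x10000010100000008) (.leaf 0x0)) (.node 2524 (.leaf 0x0) (.node 2525 (.leaf 0x0) (.leaf 0x0)))) (.node 2529 (.node 2527 (.leaf 0x0) (.node 2528 (.leaf 0x0) (.leaf 0x20203030004))) (.node 2530 (.leaf 0x0) (.node 2531 (.leaf 0x10100000004) (.leaf 0x0))))))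

def sgOS_230 : Store := (.node 2543 (.node 2537 (.node 2534 (.node 2533 (.leaf 0x0) (.leaf 0x0)) (.node 2535 (.leaf 0x0) (.node 2536 (.leaf 0x0) (.leaf 0x0)))) (.node 2540 (.node 2538 (.leaf 0x0) (.node 2539 (.leaf 0x0) (.leaf 0x0))) (.node 2541 (.leaf 0x0) (.node 2542 (.leaf 0x0) (.leaf 0x0))))) (.node 2548 (.node 2545 (.node 2544 (.leaf 0x100000001000006) (.leaf 0x0)) (.node 2546 (.leaf 0x0) (.node 2547 (.leaf 0x0) (.leaf 0x0)))) (.node 2551 (.node 2549 (.leaf 0x0) (.node 2550 (.leaf 0x0) (.leaf 0x0))) (.node 2552 (.leaf 0x0) (.node 2553 (.leaf 0x0) (.leaf 0x0))))))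

def sgOS_231 : Store := (.node 2532 sgOS_229 sgOS_230)

def sgOS_232 : Store := (.node 2565 (.node 2559 (.node 2556 (.node 2555 (.leaf 0x0) (.leaf 0x0)) (.node 2557 (.leaf 0x20102030000030007) (.node 2558 (.leaf 0x0) (.leaf 0x20102030000030007)))) (.node 2562 (.node 2560 (.leaf 0x0) (.node 2561 (.leaf 0x0) (.leaf 0x0))) (.node 2563 (.leaf 0x30303020005) (.node 2564 (.leaf 0x0) (.leaf 0x0))))) (.node 2570 (.node 2567 (.node 2566 (.leaf 0x0) (.leaf 0x0)) (.node 2568 (.leaf 0x0) (.node 2569 (.leaf 0x0) (.leaf 0x0)))) (.node 2573 (.node 2571 (.leaf 0x10000000300000007) (.node 2572 (.leaf 0x0) (.leaf 0x0))) (.node 2574 (.leaf 0x0) (.node 2575 (.leaf 0x0) (.leaf 0x0))))))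

def sgOS_233 : Store := (.node 2587 (.node 2581 (.node 2578 (.node 2577 (.leaf 0x0) (.leaf 0x10100000004)) (.node 2579 (.leaf 0x0) (.node 2580 (.leaf 0x20203030004) (.leaf 0x0)))) (.node 2584 (.node 2582 (.leaf 0x0) (.node 2583 (.leaf 0x0) (.leaf 0x0))) (.node 2585 (.leaf 0x1010004) (.node 2586 (.leaf 0x202010100000006) (.leaf 0x2))))) (.node 2592 (.node 2589 (.node 2588 (.leaf 0x0) (.leaf 0x0)) (.node 2590 (.leaf 0x0) (.node 2591 (.leaf 0x300000303020006) (.leaf 0x0)))) (.node 2595 (.node 2593 (.leaf 0x0) (.node 2594 (.leaf 0x0) (.leaf 0x0))) (.node 2596 (.leaf 0x0) (.node 2597 (.leaf 0x0) (.leaf 0x3020101000005))))))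

def sgOS_234 : Store := (.node 2576 sgOS_232 sgOS_233)

def sgOS_235 : Store := (.node 2554 sgOS_231 sgOS_234)

def sgOS_236 : Store := (.node 2511 sgOS_228 sgOS_235)

def sgOS_237 : Store := (.node 2608 (.node 2603 (.node 2600 (.node 2599 (.leaf 0x0) (.leaf 0x300010003)) (.node 2601 (.leaf 0x0) (.node 2602 (.leaf 0x0) (.leaf 0x0)))) (.node 2605 (.node 2604 (.leaf 0x0) (.leaf 0x10003030005)) (.node 2606 (.leaf 0x20100000001000007) (.node 2607 (.leaf 0x0) (.leaf 0x202030300000006))))) (.node 2613 (.node 2610 (.node 2609 (.leaf 0x0) (.leaf 0x0)) (.node 2611 (.leaf 0x0) (.node 2612 (.leaf 0x0) (.leaf 0x0)))) (.node 2616 (.node 2614 (.leaf 0x0) (.node 2615 (.leaf 0x10100000006) (.leaf 0x0))) (.node 2617 (.leaf 0x0) (.node 2618 (.leaf 0x0) (.leaf 0x0))))))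

def sgOS_238 : Store := (.node 2630 (.node 2624 (.node 2621 (.node 2620 (.leaf 0x0) (.leaf 0x302020100010007)) (.node 2622 (.leaf 0x0) (.node 2623 (.leaf 0x0) (.leaf 0x0)))) (.node 2627 (.node 2625 (.leaf 0x0) (.node 2626 (.leaf 0x0) (.leaf 0x30302010203000007))) (.node 2628 (.leaf 0x101000000000006) (.node 2629 (.leaf 0x300000006) (.leaf 0x0))))) (.node 2635 (.node 2632 (.node 2631 (.leaf 0x0) (.leaf 0x0)) (.node 2633 (.leaf 0x0) (.node 2634 (.leaf 0x0) (.leaf 0x203020100010100000009)))) (.node 2638 (.node 2636 (.leaf 0x0) (.node 2637 (.leaf 0x0) (.leaf 0x0))) (.node 2639 (.leaf 0x0) (.node 2640 (.leaf 0x0) (.leaf 0x0))))))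

def sgOS_239 : Store := (.node 2619 sgOS_237 sgOS_238)

def sgOS_240 : Store := (.node 2652 (.node 2646 (.node 2643 (.node 2642 (.leaf 0x0) (.leaf 0x0)) (.node 2644 (.leaf 0x0) (.node 2645 (.leaf 0x0) (.leaf 0x0)))) (.node 2649 (.node 2647 (.leaf 0x0) (.node 2648 (.leaf 0x0) (.leaf 0x0))) (.node 2650 (.leaf 0x0) (.node 2651 (.leaf 0x0) (.leaf 0x0))))) (.node 2657 (.node 2654 (.node 2653 (.leaf 0x0) (.leaf 0x0)) (.node 2655 (.leaf 0x30003000100000007) (.node 2656 (.leaf 0x203000100030006) (.leaf 0x3000102020006)))) (.node 2660 (.node 2658 (.leaf 0x0) (.node 2659 (.leaf 0x0) (.leaf 0x0))) (.node 2661 (.leaf 0x0) (.node 2662 (.leaf 0x3020102020005) (.leaf 0x2020303030005))))))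

def sgOS_241 : Store := (.node 2674 (.node 2668 (.node 2665 (.node 2664 (.leaf 0x20203030004) (.leaf 0x0)) (.node 2666 (.leaf 0x0) (.node 2667 (.leaf 0x0) (.leaf 0x0)))) (.node 2671 (.node 2669 (.leaf 0x0) (.node 2670 (.leaf 0x2020002) (.leaf 0x0))) (.node 2672 (.leaf 0x0) (.node 2673 (.leaf 0x0) (.leaf 0x0))))) (.node 2679 (.node 2676 (.node 2675 (.leaf 0x102030303020006) (.leaf 0x0)) (.node 2677 (.leaf 0x0) (.node 2678 (.leaf 0x30201010005) (.leaf 0x0)))) (.node 2682 (.node 2680 (.leaf 0x0) (.node 2681 (.leaf 0x0) (.leaf 0x0))) (.node 2683 (.leaf 0x302020100010006) (.node 2684 (.leaf 0x0) (.leaf 0x302020100010006))))))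

def sgOS_242 : Store := (.node 2663 sgOS_240 sgOS_241)

def sgOS_243 : Store := (.node 2641 sgOS_239 sgOS_242)

def sgOS_244 : Store := (.node 2695 (.node 2690 (.node 2687 (.node 2686 (.leaf 0x0) (.leaf 0x0)) (.node 2688 (.leaf 0x0) (.node 2689 (.leaf 0x0) (.leaf 0x201000000000006)))) (.node 2692 (.node 2691 (.leaf 0x0) (.leaf 0x0)) (.node 2693 (.leaf 0x0) (.node 2694 (.leaf 0x0) (.leaf 0x0))))) (.node 2700 (.node 2697 (.node 2696 (.leaf 0x302030300000006) (.leaf 0x201010003)) (.node 2698 (.leaf 0x30003030300000007) (.node 2699 (.leaf 0x0) (.leaf 0x0)))) (.node 2703 (.node 2701 (.leaf 0x0) (.node 2702 (.leaf 0x0) (.leaf 0x201010100000006))) (.node 2704 (.leaf 0x10100000004) (.node 2705 (.leaf 0x0) (.leaf 0x101010202010006))))))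

def sgOS_245 : Store := (.node 2717 (.node 2711 (.node 2708 (.node 2707 (.leaf 0x0) (.leaf 0x0)) (.node 2709 (.leaf 0x0) (.node 2710 (.leaf 0x0) (.leaf 0x3020201000005)))) (.node 2714 (.node 2712 (.leaf 0x0) (.node 2713 (.leaf 0x2030000010005) (.leaf 0x0))) (.node 2715 (.leaf 0x0) (.node 2716 (.leaf 0x0) (.leaf 0x20100030000000007))))) (.node 2722 (.node 2719 (.node 2718 (.leaf 0x0) (.leaf 0x0)) (.node 2720 (.leaf 0x0) (.node 2721 (.leaf 0x0) (.leaf 0x0)))) (.node 2725 (.node 2723 (.leaf 0x0) (.node 2724 (.leaf 0x0) (.leaf 0x101020100010006))) (.node 2726 (.leaf 0x0) (.node 2727 (.leaf 0x0) (.leaf 0x0))))))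

def sgOS_246 : Store := (.node 2706 sgOS_244 sgOS_245)

def sgOS_247 : Store := (.node 2739 (.node 2733 (.node 2730 (.node 2729 (.leaf 0x0) (.leaf 0x0)) (.node 2731 (.leaf 0x0) (.node 2732 (.leaf 0x0) (.leaf 0x0)))) (.node 2736 (.node 2734 (.leaf 0x0) (.node 2735 (.leaf 0x0) (.leaf 0x0))) (.node 2737 (.leaf 0x0) (.node 2738 (.leaf 0x0) (.leaf 0x10100000004))))) (.node 2744 (.node 2741 (.node 2740 (.leaf 0x0) (.leaf 0x0)) (.node 2742 (.leaf 0x0) (.node 2743 (.leaf 0x0) (.leaf 0x0)))) (.node 2747 (.node 2745 (.leaf 0x100030003) (.node 2746 (.leaf 0x30302020004) (.leaf 0x101020004))) (.node 2748 (.leaf 0x0) (.node 2749 (.leaf 0x0) (.leaf 0x0))))))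

def sgOS_248 : Store := (.node 2761 (.node 2755 (.node 2752 (.node 2751 (.leaf 0x0) (.leaf 0x0)) (.node 2753 (.leaf 0x0) (.node 2754 (.leaf 0x0) (.leaf 0x0)))) (.node 2758 (.node 2756 (.leaf 0x0) (.node 2757 (.leaf 0x0) (.leaf 0x0))) (.node 2759 (.leaf 0x3030003020005) (.node 2760 (.leaf 0x0) (.leaf 0x0))))) (.node 2766 (.node 2763 (.node 2762 (.leaf 0x0) (.leaf 0x0)) (.node 2764 (.leaf 0x0) (.node 2765 (.leaf 0x0) (.leaf 0x20100030000000007)))) (.node 2769 (.node 2767 (.leaf 0x0) (.node 2768 (.leaf 0x20302010000000007) (.leaf 0x0))) (.node 2770 (.leaf 0x0) (.node 2771 (.leaf 0x0) (.leaf 0x0))))))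

def sgOS_249 : Store := (.node 2750 sgOS_247 sgOS_248)

def sgOS_250 : Store := (.node 2728 sgOS_246 sgOS_249)

def sgOS_251 : Store := (.node 2685 sgOS_243 sgOS_250)

def sgOS_252 : Store := (.node 2598 sgOS_236 sgOS_251)

def sgOS_253 : Store := (.node 2425 sgOS_221 sgOS_252)

def sgOS_254 : Store := (.node 2079 sgOS_190 sgOS_253)

def sgOS_255 : Store := (.node 1386 sgOS_127 sgOS_254)

def sgOS_256 : Store := (.node 2782 (.node 2777 (.node 2774 (.node 2773 (.leaf 0x0) (.leaf 0x0)) (.node 2775 (.leaf 0x0) (.node 2776 (.leaf 0x0) (.leaf 0x0)))) (.node 2779 (.node 2778 (.leaf 0x0) (.leaf 0x0)) (.node 2780 (.leaf 0x100010000000006) (.node 2781 (.leaf 0x302030201000006) (.leaf 0x0))))) (.node 2787 (.node 2784 (.node 2783 (.leaf 0x2) (.leaf 0x0)) (.node 2785 (.leaf 0x0) (.node 2786 (.leaf 0x0) (.leaf 0x0)))) (.node 2790 (.node 2788 (.leaf 0x20203030004) (.node 2789 (.leaf 0x3030003) (.leaf 0x20203030004))) (.node 2791 (.leaf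 0x0) (.node 2792 (.leaf 0x0) (.leaf 0x0))))))

def sgOS_257 : Store := (.node 2804 (.node 2798 (.node 2795 (.node 2794 (.leaf 0x0) (.leaf 0x300030203000006)) (.node 2796 (.leaf 0x0) (.node 2797 (.leaf 0x300030203000006) (.leaf 0x0)))) (.node 2801 (.node 2799 (.leaf 0x0) (.node 2800 (.leaf 0x0) (.leaf 0x2020302010005))) (.node 2802 (.leaf 0x20202010001000007) (.node 2803 (.leaf 0x0) (.leaf 0x3030302020005))))) (.node 2809 (.node 2806 (.node 2805 (.leaf 0x0) (.leaf 0x0)) (.node 2807 (.leaf 0x0) (.node 2808 (.leaf 0x30202010102020007) (.leaf 0x0)))) (.node 2812 (.node 2810 (.leaf 0x1000003000006) (.node 2811 (.leaf 0x0) (.leaf 0x0))) (.node 2813 (.leaf 0x0) (.node 2814 (.leaf 0x0) (.leaf 0x0))))))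

def sgOS_258 : Store := (.node 2793 sgOS_256 sgOS_257)

def sgOS_259 : Store := (.node 2825 (.node 2820 (.node 2817 (.node 2816 (.leaf 0x30001000302020008) (.leaf 0x0)) (.node 2818 (.leaf 0x20203030003000007) (.node 2819 (.leaf 0x0) (.leaf 0x0)))) (.node 2822 (.node 2821 (.leaf 0x0) (.leaf 0x0)) (.node 2823 (.leaf 0x0) (.node 2824 (.leaf 0x0) (.leaf 0x0))))) (.node 2830 (.node 2827 (.node 2826 (.leaf 0x0) (.leaf 0x0)) (.node 2828 (.leaf 0x0) (.node 2829 (.leaf 0x202020100000006) (.leaf 0x300000300000006)))) (.node 2833 (.node 2831 (.leaf 0x0) (.node 2832 (.leaf 0x0) (.leaf 0x0))) (.node 2834 (.leaf 0x0) (.node 2835 (.leaf 0x0) (.leaf 0x302010003))))))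

def sgOS_260 : Store := (.node 2847 (.node 2841 (.node 2838 (.node 2837 (.leaf 0x202010100000006) (.leaf 0x0)) (.node 2839 (.leaf 0x20100030000000007) (.node 2840 (.leaf 0x0) (.leaf 0x0)))) (.node 2844 (.node 2842 (.leaf 0x0) (.node 2843 (.leaf 0x0) (.leaf 0x0))) (.node 2845 (.leaf 0x1010100000005) (.node 2846 (.leaf 0x0) (.leaf 0x0))))) (.node 2852 (.node 2849 (.node 2848 (.leaf 0x0) (.leaf 0x0)) (.node 2850 (.leaf 0x0) (.node 2851 (.leaf 0x0) (.leaf 0x0)))) (.node 2855 (.node 2853 (.leaf 0x0) (.node 2854 (.leaf 0x0) (.leaf 0x0))) (.node 2856 (.leaf 0x0) (.node 2857 (.leaf 0x10100000001000007) (.leaf 0x30201020006))))))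

def sgOS_261 : Store := (.node 2836 sgOS_259 sgOS_260)

def sgOS_262 : Store := (.node 2815 sgOS_258 sgOS_261)

def sgOS_263 : Store := (.node 2868 (.node 2863 (.node 2860 (.node 2859 (.leaf 0x0) (.leaf 0x10003020300010008)) (.node 2861 (.leaf 0x0) (.node 2862 (.leaf 0x0) (.leaf 0x0)))) (.node 2865 (.node 2864 (.leaf 0x0) (.leaf 0x0)) (.node 2866 (.leaf 0x3020100010100000008) (.node 2867 (.leaf 0x10202010003000007) (.leaf 0x0))))) (.node 2873 (.node 2870 (.node 2869 (.leaf 0x0) (.leaf 0x0)) (.node 2871 (.leaf 0x0) (.node 2872 (.leaf 0x0) (.leaf 0x0)))) (.node 2876 (.node 2874 (.leaf 0x0) (.node 2875 (.leaf 0x0) (.leaf 0x0))) (.node 2877 (.leaf 0x0) (.node 2878 (.leaf 0x0) (.leaf 0x0))))))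

def sgOS_264 : Store := (.node 2890 (.node 2884 (.node 2881 (.node 2880 (.leaf 0x30303020005) (.leaf 0x302030005)) (.node 2882 (.leaf 0x0) (.node 2883 (.leaf 0x0) (.leaf 0x0)))) (.node 2887 (.node 2885 (.leaf 0x10005) (.node 2886 (.leaf 0x30201010005) (.leaf 0x201010101000006))) (.node 2888 (.leaf 0x0) (.node 2889 (.leaf 0x0) (.leaf 0x0))))) (.node 2895 (.node 2892 (.node 2891 (.leaf 0x0) (.leaf 0x0)) (.node 2893 (.leaf 0x0) (.node 2894 (.leaf 0x100010000000006) (.leaf 0x0)))) (.node 2898 (.node 2896 (.leaf 0x0) (.node 2897 (.leaf 0x0) (.leaf 0x0))) (.node 2899 (.leaf 0x2020102020005) (.node 2900 (.leaf 0x0) (.leaf 0x0))))))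

def sgOS_265 : Store := (.node 2879 sgOS_263 sgOS_264)

def sgOS_266 : Store := (.node 2912 (.node 2906 (.node 2903 (.node 2902 (.leaf 0x3020003) (.leaf 0x0)) (.node 2904 (.leaf 0x0) (.node 2905 (.leaf 0x0) (.leaf 0x0)))) (.node 2909 (.node 2907 (.leaf 0x101000000000006) (.node 2908 (.leaf 0x0) (.leaf 0x20102030004))) (.node 2910 (.leaf 0x0) (.node 2911 (.leaf 0x0) (.leaf 0x0))))) (.node 2917 (.node 2914 (.node 2913 (.leaf 0x30300030004) (.leaf 0x10000000300000007)) (.node 2915 (.leaf 0x0) (.node 2916 (.leaf 0x10000000100000007) (.leaf 0x0)))) (.node 2920 (.node 2918 (.leaf 0x0) (.node 2919 (.leaf 0x0) (.leaf 0x0))) (.node 2921 (.leaf 0x303020004) (.node 2922 (.leaf 0x0) (.leaf 0x0))))))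

def sgOS_267 : Store := (.node 2934 (.node 2928 (.node 2925 (.node 2924 (.leaf 0x0) (.leaf 0x0)) (.node 2926 (.leaf 0x0) (.node 2927 (.leaf 0x0) (.leaf 0x10100000004)))) (.node 2931 (.node 2929 (.leaf 0x0) (.node 2930 (.leaf 0x10100000004) (.leaf 0x0))) (.node 2932 (.leaf 0x0) (.node 2933 (.leaf 0x0) (.leaf 0x10101020005))))) (.node 2939 (.node 2936 (.node 2935 (.leaf 0x3030300000006) (.leaf 0x0)) (.node 2937 (.leaf 0x3030300000006) (.node 2938 (.leaf 0x0) (.leaf 0x0)))) (.node 2942 (.node 2940 (.leaf 0x0) (.node 2941 (.leaf 0x30202030005) (.leaf 0x10201020100000007))) (.node 2943 (.leaf 0x0) (.node 2944 (.leaf 0x3020003) (.leaf 0x0))))))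

def sgOS_268 : Store := (.node 2923 sgOS_266 sgOS_267)

def sgOS_269 : Store := (.node 2901 sgOS_265 sgOS_268)

def sgOS_270 : Store := (.node 2858 sgOS_262 sgOS_269)

def sgOS_271 : Store := (.node 2955 (.node 2950 (.node 2947 (.node 2946 (.leaf 0x0) (.leaf 0x0)) (.node 2948 (.leaf 0x0) (.node 2949 (.leaf 0x302030300010006) (.leaf 0x20202010001000007)))) (.node 2952 (.node 2951 (.leaf 0x20203030004) (.leaf 0x0)) (.node 2953 (.leaf 0x0) (.node 2954 (.leaf 0x0) (.leaf 0x0))))) (.node 2960 (.node 2957 (.node 2956 (.leaf 0x0) (.leaf 0x1010003)) (.node 2958 (.leaf 0x0) (.node 2959 (.leaf 0x0) (.leaf 0x0)))) (.node 2963 (.node 2961 (.leaf 0x0) (.node 2962 (.leaf 0x2030300000005) (.leaf 0x0))) (.node 2964 (.leaf 0x0) (.node 2965 (.leaf 0x0) (.leaf 0x0))))))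

def sgOS_272 : Store := (.node 2977 (.node 2971 (.node 2968 (.node 2967 (.leaf 0x0) (.leaf 0x0)) (.node 2969 (.leaf 0x0) (.node 2970 (.leaf 0x1020003) (.leaf 0x0)))) (.node 2974 (.node 2972 (.leaf 0x1020003) (.node 2973 (.leaf 0x0) (.leaf 0x0))) (.node 2975 (.leaf 0x0) (.node 2976 (.leaf 0x0) (.leaf 0x0))))) (.node 2982 (.node 2979 (.node 2978 (.leaf 0x0) (.leaf 0x10101020100000007)) (.node 2980 (.leaf 0x0) (.node 2981 (.leaf 0x0) (.leaf 0x0)))) (.node 2985 (.node 2983 (.leaf 0x0) (.node 2984 (.leaf 0x100000302010006) (.leaf 0x30001010100000007))) (.node 2986 (.leaf 0x3000302030005) (.node 2987 (.leaf 0x0) (.leaf 0x0))))))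

def sgOS_273 : Store := (.node 2966 sgOS_271 sgOS_272)

def sgOS_274 : Store := (.node 2998 (.node 2993 (.node 2990 (.node 2989 (.leaf 0x0) (.leaf 0x10201000101010007)) (.node 2991 (.leaf 0x102020101010007) (.node 2992 (.leaf 0x3030300010006) (.leaf 0x0)))) (.node 2995 (.node 2994 (.leaf 0x0) (.leaf 0x0)) (.node 2996 (.leaf 0x0) (.node 2997 (.leaf 0x0) (.leaf 0x0))))) (.node 3003 (.node 3000 (.node 2999 (.leaf 0x2030300000005) (.leaf 0x0)) (.node 3001 (.leaf 0x0) (.node 3002 (.leaf 0x0) (.leaf 0x0)))) (.node 3006 (.node 3004 (.leaf 0x0) (.node 3005 (.leaf 0x0) (.leaf 0x0))) (.node 3007 (.leaf 0x0) (.node 3008 (.leaf 0x0) (.leaf 0x0))))))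

def sgOS_275 : Store := (.node 3020 (.node 3014 (.node 3011 (.node 3010 (.leaf 0x0) (.leaf 0x0)) (.node 3012 (.leaf 0x0) (.node 3013 (.leaf 0x101000000000006) (.leaf 0x0)))) (.node 3017 (.node 3015 (.leaf 0x0) (.node 3016 (.leaf 0x0) (.leaf 0x0))) (.node 3018 (.leaf 0x10100010202020008) (.node 3019 (.leaf 0x10202010003000007) (.leaf 0x10000010100000008))))) (.node 3025 (.node 3022 (.node 3021 (.leaf 0x0) (.leaf 0x0)) (.node 3023 (.leaf 0x0) (.node 3024 (.leaf 0x0) (.leaf 0x30201020303000007)))) (.node 3028 (.node 3026 (.leaf 0x0) (.node 3027 (.leaf 0x0) (.leaf 0x0))) (.node 3029 (.leaf 0x0) (.node 3030 (.leaf 0x0) (.leaf 0x0))))))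

def sgOS_276 : Store := (.node 3009 sgOS_274 sgOS_275)

def sgOS_277 : Store := (.node 2988 sgOS_273 sgOS_276)

def sgOS_278 : Store := (.node 3041 (.node 3036 (.node 3033 (.node 3032 (.leaf 0x0) (.leaf 0x0)) (.node 3034 (.leaf 0x0) (.node 3035 (.leaf 0x0) (.leaf 0x0)))) (.node 3038 (.node 3037 (.leaf 0x0) (.leaf 0x0)) (.node 3039 (.leaf 0x0) (.node 3040 (.leaf 0x0) (.leaf 0x0))))) (.node 3046 (.node 3043 (.node 3042 (.leaf 0x30000000005) (.leaf 0x0)) (.node 3044 (.leaf 0x0) (.node 3045 (.leaf 0x0) (.leaf 0x30001000004)))) (.node 3049 (.node 3047 (.leaf 0x0) (.node 3048 (.leaf 0x0) (.leaf 0x0))) (.node 3050 (.leaf 0x0) (.node 3051 (.leaf 0x0) (.leaf 0x0))))))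

def sgOS_279 : Store := (.node 3063 (.node 3057 (.node 3054 (.node 3053 (.leaf 0x0) (.leaf 0x0)) (.node 3055 (.leaf 0x0) (.node 3056 (.leaf 0x0) (.leaf 0x0)))) (.node 3060 (.node 3058 (.leaf 0x0) (.node 3059 (.leaf 0x0) (.leaf 0x0))) (.node 3061 (.leaf 0x1010004) (.node 3062 (.leaf 0x0) (.leaf 0x1010004))))) (.node 3068 (.node 3065 (.node 3064 (.leaf 0x0) (.leaf 0x0)) (.node 3066 (.leaf 0x0) (.node 3067 (.leaf 0x0) (.leaf 0x0)))) (.node 3071 (.node 3069 (.leaf 0x0) (.node 3070 (.leaf 0x0) (.leaf 0x0))) (.node 3072 (.leaf 0x0) (.node 3073 (.leaf 0x0) (.leaf 0x0))))))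

def sgOS_280 : Store := (.node 3052 sgOS_278 sgOS_279)

def sgOS_281 : Store := (.node 3085 (.node 3079 (.node 3076 (.node 3075 (.leaf 0x0) (.leaf 0x0)) (.node 3077 (.leaf 0x20203030004) (.node 3078 (.leaf 0x0) (.leaf 0x0)))) (.node 3082 (.node 3080 (.leaf 0x0) (.node 3081 (.leaf 0x0) (.leaf 0x0))) (.node 3083 (.leaf 0x0) (.node 3084 (.leaf 0x0) (.leaf 0x0))))) (.node 3090 (.node 3087 (.node 3086 (.leaf 0x0) (.leaf 0x0)) (.node 3088 (.leaf 0x0) (.node 3089 (.leaf 0x0) (.leaf 0x0)))) (.node 3093 (.node 3091 (.leaf 0x0) (.node 3092 (.leaf 0x0) (.leaf 0x0))) (.node 3094 (.leaf 0x0) (.node 3095 (.leaf 0x3030302010005) (.leaf 0x0))))))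

def sgOS_282 : Store := (.node 3107 (.node 3101 (.node 3098 (.node 3097 (.leaf 0x0) (.leaf 0x2030201010005)) (.node 3099 (.leaf 0x0) (.node 3100 (.leaf 0x0) (.leaf 0x0)))) (.node 3104 (.node 3102 (.leaf 0x30003030300000007) (.node 3103 (.leaf 0x1010202030006) (.leaf 0x30302010006))) (.node 3105 (.leaf 0x0) (.node 3106 (.leaf 0x0) (.leaf 0x0))))) (.node 3112 (.node 3109 (.node 3108 (.leaf 0x0) (.leaf 0x0)) (.node 3110 (.leaf 0x0) (.node 3111 (.leaf 0x2020101000005) (.leaf 0x0)))) (.node 3115 (.node 3113 (.leaf 0x0) (.node 3114 (.leaf 0x0) (.leaf 0x0))) (.node 3116 (.leaf 0x30303000003020007) (.node 3117 (.leaf 0x100000303020006) (.leaf 0x0))))))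

def sgOS_283 : Store := (.node 3096 sgOS_281 sgOS_282)

def sgOS_284 : Store := (.node 3074 sgOS_280 sgOS_283)

def sgOS_285 : Store := (.node 3031 sgOS_277 sgOS_284)

def sgOS_286 : Store := (.node 2945 sgOS_270 sgOS_285)

def sgOS_287 : Store := (.node 3128 (.node 3123 (.node 3120 (.node 3119 (.leaf 0x100000303020006) (.leaf 0x0)) (.node 3121 (.leaf 0x0) (.node 3122 (.leaf 0x0) (.leaf 0x20201020201010007)))) (.node 3125 (.node 3124 (.leaf 0x0) (.leaf 0x30003030300000007)) (.node 3126 (.leaf 0x0) (.node 3127 (.leaf 0x0) (.leaf 0x0))))) (.node 3133 (.node 3130 (.node 3129 (.leaf 0x0) (.leaf 0x30001020005)) (.node 3131 (.leaf 0x0) (.node 3132 (.leaf 0x30201020005) (.leaf 0x0)))) (.node 3136 (.node 3134 (.leaf 0x0) (.node 3135 (.leaf 0x0) (.leaf 0x0))) (.node 3137 (.leaf 0x10001) (.node 3138 (.leaf 0x101010202010006) (.leaf 0x0))))))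

def sgOS_288 : Store := (.node 3150 (.node 3144 (.node 3141 (.node 3140 (.leaf 0x300000300000006) (.leaf 0x0)) (.node 3142 (.leaf 0x0) (.node 3143 (.leaf 0x0) (.leaf 0x0)))) (.node 3147 (.node 3145 (.leaf 0x0) (.node 3146 (.leaf 0x0) (.leaf 0x1010001010005))) (.node 3148 (.leaf 0x0) (.node 3149 (.leaf 0x0) (.leaf 0x0))))) (.node 3155 (.node 3152 (.node 3151 (.leaf 0x0) (.leaf 0x0)) (.node 3153 (.leaf 0x0) (.node 3154 (.leaf 0x0) (.leaf 0x0)))) (.node 3158 (.node 3156 (.leaf 0x0) (.node 3157 (.leaf 0x0) (.leaf 0x20302020203030007))) (.node 3159 (.leaf 0x10001020201000007) (.node 3160 (.leaf 0x0) (.leaf 0x20100010202010007))))))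

def sgOS_289 : Store := (.node 3139 sgOS_287 sgOS_288)

def sgOS_290 : Store := (.node 3171 (.node 3166 (.node 3163 (.node 3162 (.leaf 0x0) (.leaf 0x0)) (.node 3164 (.leaf 0x0) (.node 3165 (.leaf 0x0) (.leaf 0x10000010100000008)))) (.node 3168 (.node 3167 (.leaf 0x3030000010007) (.leaf 0x10000010100000008)) (.node 3169 (.leaf 0x0) (.node 3170 (.leaf 0x0) (.leaf 0x0))))) (.node 3176 (.node 3173 (.node 3172 (.leaf 0x0) (.leaf 0x0)) (.node 3174 (.leaf 0x0) (.node 3175 (.leaf 0x0) (.leaf 0x0)))) (.node 3179 (.node 3177 (.leaf 0x0) (.node 3178 (.leaf 0x0) (.leaf 0x10001))) (.node 3180 (.leaf 0x300000300010008) (.node 3181 (.leaf 0x0) (.leaf 0x300000300010008))))))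

def sgOS_291 : Store := (.node 3193 (.node 3187 (.node 3184 (.node 3183 (.leaf 0x0) (.leaf 0x0)) (.node 3185 (.leaf 0x0) (.node 3186 (.leaf 0x3000302030005) (.leaf 0x1010002)))) (.node 3190 (.node 3188 (.leaf 0x10201010004) (.node 3189 (.leaf 0x0) (.leaf 0x0))) (.node 3191 (.leaf 0x0) (.node 3192 (.leaf 0x0) (.leaf 0x201020303020006))))) (.node 3198 (.node 3195 (.node 3194 (.leaf 0x1010101000006) (.leaf 0x10100000006)) (.node 3196 (.leaf 0x0) (.node 3197 (.leaf 0x0) (.leaf 0x0)))) (.node 3201 (.node 3199 (.leaf 0x0) (.node 3200 (.leaf 0x0) (.leaf 0x0))) (.node 3202 (.leaf 0x0) (.node 3203 (.leaf 0x0) (.leaf 0x0))))))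

def sgOS_292 : Store := (.node 3182 sgOS_290 sgOS_291)

def sgOS_293 : Store := (.node 3161 sgOS_289 sgOS_292)

def sgOS_294 : Store := (.node 3214 (.node 3209 (.node 3206 (.node 3205 (.leaf 0x0) (.leaf 0x0)) (.node 3207 (.leaf 0x0) (.node 3208 (.leaf 0x0) (.leaf 0x0)))) (.node 3211 (.node 3210 (.leaf 0x0) (.leaf 0x0)) (.node 3212 (.leaf 0x0) (.node 3213 (.leaf 0x0) (.leaf 0x30004))))) (.node 3219 (.node 3216 (.node 3215 (.leaf 0x0) (.leaf 0x202030000000006)) (.node 3217 (.leaf 0x10100000004) (.node 3218 (.leaf 0x0) (.leaf 0x0)))) (.node 3222 (.node 3220 (.leaf 0x0) (.node 3221 (.leaf 0x202030300000006) (.leaf 0x0))) (.node 3223 (.leaf 0x0) (.node 3224 (.leaf 0x0) (.leaf 0x0))))))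

def sgOS_295 : Store := (.node 3236 (.node 3230 (.node 3227 (.node 3226 (.leaf 0x0) (.leaf 0x0)) (.node 3228 (.leaf 0x30003030300000007) (.node 3229 (.leaf 0x1000001020005) (.leaf 0x30300000300000007)))) (.node 3233 (.node 3231 (.leaf 0x0) (.node 3232 (.leaf 0x0) (.leaf 0x0))) (.node 3234 (.leaf 0x0) (.node 3235 (.leaf 0x2020101000005) (.leaf 0x0))))) (.node 3241 (.node 3238 (.node 3237 (.leaf 0x10203020201010007) (.leaf 0x0)) (.node 3239 (.leaf 0x0) (.node 3240 (.leaf 0x0) (.leaf 0x0)))) (.node 3244 (.node 3242 (.leaf 0x0) (.node 3243 (.leaf 0x0) (.leaf 0x0))) (.node 3245 (.leaf 0x0) (.node 3246 (.leaf 0x0) (.leaf 0x0))))))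

def sgOS_296 : Store := (.node 3225 sgOS_294 sgOS_295)

def sgOS_297 : Store := (.node 3258 (.node 3252 (.node 3249 (.node 3248 (.leaf 0x0) (.leaf 0x20303030201000007)) (.node 3250 (.leaf 0x0) (.node 3251 (.leaf 0x20303030201000007) (.leaf 0x0)))) (.node 3255 (.node 3253 (.leaf 0x0) (.node 3254 (.leaf 0x0) (.leaf 0x0))) (.node 3256 (.leaf 0x10000010100000008) (.node 3257 (.leaf 0x0) (.leaf 0x30001))))) (.node 3263 (.node 3260 (.node 3259 (.leaf 0x0) (.leaf 0x0)) (.node 3261 (.leaf 0x0) (.node 3262 (.leaf 0x0) (.leaf 0x0)))) (.node 3266 (.node 3264 (.leaf 0x302020100010007) (.node 3265 (.leaf 0x0) (.leaf 0x300010005))) (.node 3267 (.leaf 0x0) (.node 3268 (.leaf 0x0) (.leaf 0x0))))))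

def sgOS_298 : Store := (.node 3280 (.node 3274 (.node 3271 (.node 3270 (.leaf 0x302020100010007) (.leaf 0x0)) (.node 3272 (.leaf 0x0) (.node 3273 (.leaf 0x0) (.leaf 0x0)))) (.node 3277 (.node 3275 (.leaf 0x0) (.node 3276 (.leaf 0x0) (.leaf 0x20300010101000007))) (.node 3278 (.leaf 0x0) (.node 3279 (.leaf 0x0) (.leaf 0x0))))) (.node 3285 (.node 3282 (.node 3281 (.leaf 0x0) (.leaf 0x0)) (.node 3283 (.leaf 0x0) (.node 3284 (.leaf 0x300030202030006) (.leaf 0x3030001000005)))) (.node 3288 (.node 3286 (.leaf 0x0) (.node 3287 (.leaf 0x20302030303000007) (.leaf 0x0))) (.node 3289 (.leaf 0x0) (.node 3290 (.leaf 0x0) (.leaf 0x0))))))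

def sgOS_299 : Store := (.node 3269 sgOS_297 sgOS_298)

def sgOS_300 : Store := (.node 3247 sgOS_296 sgOS_299)

def sgOS_301 : Store := (.node 3204 sgOS_293 sgOS_300)

def sgOS_302 : Store := (.node 3301 (.node 3296 (.node 3293 (.node 3292 (.leaf 0x101020004) (.leaf 0x0)) (.node 3294 (.leaf 0x101020004) (.node 3295 (.leaf 0x0) (.leaf 0x0)))) (.node 3298 (.node 3297 (.leaf 0x0) (.leaf 0x0)) (.node 3299 (.leaf 0x0) (.node 3300 (.leaf 0x0) (.leaf 0x0))))) (.node 3306 (.node 3303 (.node 3302 (.leaf 0x0) (.leaf 0x0)) (.node 3304 (.leaf 0x0) (.node 3305 (.leaf 0x0) (.leaf 0x0)))) (.node 3309 (.node 3307 (.leaf 0x0) (.node 3308 (.leaf 0x0) (.leaf 0x0))) (.node 3310 (.leaf 0x0) (.node 3311 (.leaf 0x0) (.leaf 0x30001000004))))))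

def sgOS_303 : Store := (.node 3323 (.node 3317 (.node 3314 (.node 3313 (.leaf 0x0) (.leaf 0x302010100010006)) (.node 3315 (.leaf 0x0) (.node 3316 (.leaf 0x0) (.leaf 0x0)))) (.node 3320 (.node 3318 (.leaf 0x0) (.node 3319 (.leaf 0x300010102010006) (.leaf 0x0))) (.node 3321 (.leaf 0x20302010004) (.node 3322 (.leaf 0x0) (.leaf 0x0))))) (.node 3328 (.node 3325 (.node 3324 (.leaf 0x0) (.leaf 0x0)) (.node 3326 (.leaf 0x0) (.node 3327 (.leaf 0x10101020100000007) (.leaf 0x0)))) (.node 3331 (.node 3329 (.leaf 0x0) (.node 3330 (.leaf 0x0) (.leaf 0x0))) (.node 3332 (.leaf 0x0) (.node 3333 (.leaf 0x0) (.leaf 0x0))))))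

def sgOS_304 : Store := (.node 3312 sgOS_302 sgOS_303)

def sgOS_305 : Store := (.node 3345 (.node 3339 (.node 3336 (.node 3335 (.leaf 0x0) (.leaf 0x0)) (.node 3337 (.leaf 0x0) (.node 3338 (.leaf 0x0) (.leaf 0x0)))) (.node 3342 (.node 3340 (.leaf 0x0) (.node 3341 (.leaf 0x30202030005) (.leaf 0x0))) (.node 3343 (.leaf 0x30202030005) (.node 3344 (.leaf 0x0) (.leaf 0x0))))) (.node 3350 (.node 3347 (.node 3346 (.leaf 0x0) (.leaf 0x300010102020006)) (.node 3348 (.leaf 0x0) (.node 3349 (.leaf 0x1020101010006) (.leaf 0x0)))) (.node 3353 (.node 3351 (.leaf 0x0) (.node 3352 (.leaf 0x0) (.leaf 0x0))) (.node 3354 (.leaf 0x3020201000006) (.node 3355 (.leaf 0x300010000000006) (.leaf 0x0))))))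

def sgOS_306 : Store := (.node 3367 (.node 3361 (.node 3358 (.node 3357 (.leaf 0x302010100010006) (.leaf 0x0)) (.node 3359 (.leaf 0x0) (.node 3360 (.leaf 0x0) (.leaf 0x0)))) (.node 3364 (.node 3362 (.leaf 0x0) (.node 3363 (.leaf 0x1000102010005) (.leaf 0x0))) (.node 3365 (.leaf 0x0) (.node 3366 (.leaf 0x0) (.leaf 0x0))))) (.node 3372 (.node 3369 (.node 3368 (.leaf 0x101010203020006) (.leaf 0x0)) (.node 3370 (.leaf 0x303020004) (.node 3371 (.leaf 0x0) (.leaf 0x0)))) (.node 3375 (.node 3373 (.leaf 0x0) (.node 3374 (.leaf 0x0) (.leaf 0x0))) (.node 3376 (.leaf 0x0) (.node 3377 (.leaf 0x0) (.leaf 0x300000300010008))))))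

def sgOS_307 : Store := (.node 3356 sgOS_305 sgOS_306)

def sgOS_308 : Store := (.node 3334 sgOS_304 sgOS_307)

def sgOS_309 : Store := (.node 3388 (.node 3383 (.node 3380 (.node 3379 (.leaf 0x0) (.leaf 0x0)) (.node 3381 (.leaf 0x0) (.node 3382 (.leaf 0x0) (.leaf 0x1020303020005)))) (.node 3385 (.node 3384 (.leaf 0x0) (.leaf 0x0)) (.node 3386 (.leaf 0x0) (.node 3387 (.leaf 0x0) (.leaf 0x0))))) (.node 3393 (.node 3390 (.node 3389 (.leaf 0x0) (.leaf 0x203000300000006)) (.node 3391 (.leaf 0x20300010101000007) (.node 3392 (.leaf 0x0) (.leaf 0x0)))) (.node 3396 (.node 3394 (.leaf 0x0) (.node 3395 (.leaf 0x0) (.leaf 0x0))) (.node 3397 (.leaf 0x30202030005) (.node 3398 (.leaf 0x0) (.leaf 0x30003030300000007))))))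

def sgOS_310 : Store := (.node 3410 (.node 3404 (.node 3401 (.node 3400 (.leaf 0x0) (.leaf 0x0)) (.node 3402 (.leaf 0x0) (.node 3403 (.leaf 0x0) (.leaf 0x0)))) (.node 3407 (.node 3405 (.leaf 0x202030300000006) (.node 3406 (.leaf 0x0) (.leaf 0x0))) (.node 3408 (.leaf 0x0) (.node 3409 (.leaf 0x0) (.leaf 0x3020102010006))))) (.node 3415 (.node 3412 (.node 3411 (.leaf 0x2020101000005) (.leaf 0x0)) (.node 3413 (.leaf 0x2020101000005) (.node 3414 (.leaf 0x0) (.leaf 0x0)))) (.node 3418 (.node 3416 (.leaf 0x0) (.node 3417 (.leaf 0x0) (.leaf 0x0))) (.node 3419 (.leaf 0x3020003) (.node 3420 (.leaf 0x0) (.leaf 0x0))))))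

def sgOS_311 : Store := (.node 3399 sgOS_309 sgOS_310)

def sgOS_312 : Store := (.node 3432 (.node 3426 (.node 3423 (.node 3422 (.leaf 0x0) (.leaf 0x0)) (.node 3424 (.leaf 0x0) (.node 3425 (.leaf 0x0) (.leaf 0x0)))) (.node 3429 (.node 3427 (.leaf 0x0) (.node 3428 (.leaf 0x0) (.leaf 0x0))) (.node 3430 (.leaf 0x0) (.node 3431 (.leaf 0x0) (.leaf 0x0))))) (.node 3437 (.node 3434 (.node 3433 (.leaf 0x0) (.leaf 0x0)) (.node 3435 (.leaf 0x0) (.node 3436 (.leaf 0x0) (.leaf 0x0)))) (.node 3440 (.node 3438 (.leaf 0x0) (.node 3439 (.leaf 0x1020003) (.leaf 0x0))) (.node 3441 (.leaf 0x101000100010006) (.node 3442 (.leaf 0x0) (.leaf 0x0))))))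

def sgOS_313 : Store := (.node 3454 (.node 3448 (.node 3445 (.node 3444 (.leaf 0x0) (.leaf 0x0)) (.node 3446 (.leaf 0x0) (.node 3447 (.leaf 0x0) (.leaf 0x0)))) (.node 3451 (.node 3449 (.leaf 0x0) (.node 3450 (.leaf 0x0) (.leaf 0x0))) (.node 3452 (.leaf 0x10101020100000007) (.node 3453 (.leaf 0x0) (.leaf 0x10101020100000007))))) (.node 3459 (.node 3456 (.node 3455 (.leaf 0x0) (.leaf 0x0)) (.node 3457 (.leaf 0x0) (.node 3458 (.leaf 0x0) (.leaf 0x0)))) (.node 3462 (.node 3460 (.leaf 0x303000003) (.node 3461 (.leaf 0x0) (.leaf 0x303000003))) (.node 3463 (.leaf 0x0) (.node 3464 (.leaf 0x0) (.leaf 0x0))))))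

def sgOS_314 : Store := (.node 3443 sgOS_312 sgOS_313)

def sgOS_315 : Store := (.node 3421 sgOS_311 sgOS_314)

def sgOS_316 : Store := (.node 3378 sgOS_308 sgOS_315)

def sgOS_317 : Store := (.node 3291 sgOS_301 sgOS_316)

def sgOS_318 : Store := (.node 3118 sgOS_286 sgOS_317)

def sgOS_319 : Store := (.node 3475 (.node 3470 (.node 3467 (.node 3466 (.leaf 0x30302030000030008) (.leaf 0x0)) (.node 3468 (.leaf 0x10100010202020008) (.node 3469 (.leaf 0x101020100010006) (.leaf 0x0)))) (.node 3472 (.node 3471 (.leaf 0x0) (.leaf 0x0)) (.node 3473 (.leaf 0x3000102030001010008) (.node 3474 (.leaf 0x302030003030006) (.leaf 0x0))))) (.node 3480 (.node 3477 (.node 3476 (.leaf 0x302030003030006) (.leaf 0x0)) (.node 3478 (.leaf 0x0) (.node 3479 (.leaf 0x0) (.leaf 0x0)))) (.node 3483 (.node 3481 (.leaf 0x0) (.node 3482 (.leaf 0x0) (.leaf 0x0))) (.node 3484 (.leaf 0x0) (.node 3485 (.leaf 0x0) (.leaf 0x0))))))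

def sgOS_320 : Store := (.node 3497 (.node 3491 (.node 3488 (.node 3487 (.leaf 0x201010101000006) (.leaf 0x0)) (.node 3489 (.leaf 0x0) (.node 3490 (.leaf 0x0) (.leaf 0x0)))) (.node 3494 (.node 3492 (.leaf 0x0) (.node 3493 (.leaf 0x0) (.leaf 0x0))) (.node 3495 (.leaf 0x30000010000000008) (.node 3496 (.leaf 0x20302020203030007) (.leaf 0x300010203000006))))) (.node 3502 (.node 3499 (.node 3498 (.leaf 0x0) (.leaf 0x0)) (.node 3500 (.leaf 0x0) (.node 3501 (.leaf 0x102030201000006) (.leaf 0x0)))) (.node 3505 (.node 3503 (.leaf 0x1010202010006) (.node 3504 (.leaf 0x10000010100000008) (.leaf 0x0))) (.node 3506 (.leaf 0x0) (.node 3507 (.leaf 0x0) (.leaf 0x0))))))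

def sgOS_321 : Store := (.node 3486 sgOS_319 sgOS_320)

def sgOS_322 : Store := (.node 3518 (.node 3513 (.node 3510 (.node 3509 (.leaf 0x10100000004) (.leaf 0x3030003020005)) (.node 3511 (.leaf 0x30201020303000007) (.node 3512 (.leaf 0x0) (.leaf 0x0)))) (.node 3515 (.node 3514 (.leaf 0x0) (.leaf 0x0)) (.node 3516 (.leaf 0x0) (.node 3517 (.leaf 0x10101020005) (.leaf 0x0))))) (.node 3523 (.node 3520 (.node 3519 (.leaf 0x0) (.leaf 0x0)) (.node 3521 (.leaf 0x0) (.node 3522 (.leaf 0x101010003000007) (.leaf 0x0)))) (.node 3526 (.node 3524 (.leaf 0x1010003000006) (.node 3525 (.leaf 0x3020101000006) (.leaf 0x0))) (.node 3527 (.leaf 0x0) (.node 3528 (.leaf 0x0) (.leaf 0x0))))))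

def sgOS_323 : Store := (.node 3540 (.node 3534 (.node 3531 (.node 3530 (.leaf 0x0) (.leaf 0x0)) (.node 3532 (.leaf 0x0) (.node 3533 (.leaf 0x0) (.leaf 0x0)))) (.node 3537 (.node 3535 (.leaf 0x0) (.node 3536 (.leaf 0x30001020005) (.leaf 0x303020004))) (.node 3538 (.leaf 0x10101020100000007) (.node 3539 (.leaf 0x0) (.leaf 0x0))))) (.node 3545 (.node 3542 (.node 3541 (.leaf 0x0) (.leaf 0x0)) (.node 3543 (.leaf 0x0) (.node 3544 (.leaf 0x0) (.leaf 0x0)))) (.node 3548 (.node 3546 (.leaf 0x0) (.node 3547 (.leaf 0x0) (.leaf 0x0))) (.node 3549 (.leaf 0x0) (.node 3550 (.leaf 0x10101000001000008) (.leaf 0x0))))))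

def sgOS_324 : Store := (.node 3529 sgOS_322 sgOS_323)

def sgOS_325 : Store := (.node 3508 sgOS_321 sgOS_324)

def sgOS_326 : Store := (.node 3561 (.node 3556 (.node 3553 (.node 3552 (.leaf 0x300030001020006) (.leaf 0x0)) (.node 3554 (.leaf 0x0) (.node 3555 (.leaf 0x0) (.leaf 0x0)))) (.node 3558 (.node 3557 (.leaf 0x30201010005) (.leaf 0x0)) (.node 3559 (.leaf 0x0) (.node 3560 (.leaf 0x201000000000006) (.leaf 0x0))))) (.node 3566 (.node 3563 (.node 3562 (.leaf 0x0) (.leaf 0x0)) (.node 3564 (.leaf 0x0) (.node 3565 (.leaf 0x0) (.leaf 0x300000005)))) (.node 3569 (.node 3567 (.leaf 0x0) (.node 3568 (.leaf 0x0) (.leaf 0x0))) (.node 3570 (.leaf 0x0) (.node 3571 (.leaf 0x0) (.leaf 0x0))))))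

def sgOS_327 : Store := (.node 3583 (.node 3577 (.node 3574 (.node 3573 (.leaf 0x0) (.leaf 0x0)) (.node 3575 (.leaf 0x0) (.node 3576 (.leaf 0x0) (.leaf 0x0)))) (.node 3580 (.node 3578 (.leaf 0x0) (.node 3579 (.leaf 0x0) (.leaf 0x0))) (.node 3581 (.leaf 0x0) (.node 3582 (.leaf 0x0) (.leaf 0x0))))) (.node 3588 (.node 3585 (.node 3584 (.leaf 0x0) (.leaf 0x30003030300000007)) (.node 3586 (.leaf 0x0) (.node 3587 (.leaf 0x0) (.leaf 0x201010101000006)))) (.node 3591 (.node 3589 (.leaf 0x0) (.node 3590 (.leaf 0x0) (.leaf 0x0))) (.node 3592 (.leaf 0x0) (.node 3593 (.leaf 0x0) (.leaf 0x0))))))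

def sgOS_328 : Store := (.node 3572 sgOS_326 sgOS_327)

def sgOS_329 : Store := (.node 3605 (.node 3599 (.node 3596 (.node 3595 (.leaf 0x0) (.leaf 0x0)) (.node 3597 (.leaf 0x0) (.node 3598 (.leaf 0x0) (.leaf 0x3020102010006)))) (.node 3602 (.node 3600 (.leaf 0x0) (.node 3601 (.leaf 0x20302030004) (.leaf 0x2030300000005))) (.node 3603 (.leaf 0x0) (.node 3604 (.leaf 0x0) (.leaf 0x0))))) (.node 3610 (.node 3607 (.node 3606 (.leaf 0x0) (.leaf 0x0)) (.node 3608 (.leaf 0x0) (.node 3609 (.leaf 0x0) (.leaf 0x0)))) (.node 3613 (.node 3611 (.leaf 0x0) (.node 3612 (.leaf 0x0) (.leaf 0x10101020100000007))) (.node 3614 (.leaf 0x0) (.node 3615 (.leaf 0x0) (.leaf 0x0))))))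

def sgOS_330 : Store := (.node 3627 (.node 3621 (.node 3618 (.node 3617 (.leaf 0x0) (.leaf 0x0)) (.node 3619 (.leaf 0x0) (.node 3620 (.leaf 0x0) (.leaf 0x0)))) (.node 3624 (.node 3622 (.leaf 0x0) (.node 3623 (.leaf 0x0) (.leaf 0x0))) (.node 3625 (.leaf 0x0) (.node 3626 (.leaf 0x0) (.leaf 0x0))))) (.node 3632 (.node 3629 (.node 3628 (.leaf 0x0) (.leaf 0x0)) (.node 3630 (.leaf 0x0) (.node 3631 (.leaf 0x0) (.leaf 0x0)))) (.node 3635 (.node 3633 (.leaf 0x0) (.node 3634 (.leaf 0x20202030001000007) (.leaf 0x0))) (.node 3636 (.leaf 0x10100000006) (.node 3637 (.leaf 0x0) (.leaf 0x0))))))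

def sgOS_331 : Store := (.node 3616 sgOS_329 sgOS_330)

def sgOS_332 : Store := (.node 3594 sgOS_328 sgOS_331)

def sgOS_333 : Store := (.node 3551 sgOS_325 sgOS_332)

def sgOS_334 : Store := (.node 3648 (.node 3643 (.node 3640 (.node 3639 (.leaf 0x0) (.leaf 0x0)) (.node 3641 (.leaf 0x0) (.node 3642 (.leaf 0x0) (.leaf 0x0)))) (.node 3645 (.node 3644 (.leaf 0x102020101010007) (.leaf 0x0)) (.node 3646 (.leaf 0x0) (.node 3647 (.leaf 0x0) (.leaf 0x0))))) (.node 3653 (.node 3650 (.node 3649 (.leaf 0x0) (.leaf 0x0)) (.node 3651 (.leaf 0x0) (.node 3652 (.leaf 0x0) (.leaf 0x0)))) (.node 3656 (.node 3654 (.leaf 0x0) (.node 3655 (.leaf 0x1) (.leaf 0x0))) (.node 3657 (.leaf 0x20203000300000007) (.node 3658 (.leaf 0x0) (.leaf 0x0))))))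

def sgOS_335 : Store := (.node 3670 (.node 3664 (.node 3661 (.node 3660 (.leaf 0x0) (.leaf 0x0)) (.node 3662 (.leaf 0x300010001010006) (.node 3663 (.leaf 0x0) (.leaf 0x1020201000101020008)))) (.node 3667 (.node 3665 (.leaf 0x0) (.node 3666 (.leaf 0x0) (.leaf 0x0))) (.node 3668 (.leaf 0x0) (.node 3669 (.leaf 0x0) (.leaf 0x3000100000007))))) (.node 3675 (.node 3672 (.node 3671 (.leaf 0x3000100000005) (.leaf 0x302030000010007)) (.node 3673 (.leaf 0x0) (.node 3674 (.leaf 0x0) (.leaf 0x0)))) (.node 3678 (.node 3676 (.leaf 0x20100010202030007) (.node 3677 (.leaf 0x0) (.leaf 0x1010001020006))) (.node 3679 (.leaf 0x0) (.node 3680 (.leaf 0x0) (.leaf 0x0))))))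

def sgOS_336 : Store := (.node 3659 sgOS_334 sgOS_335)

def sgOS_337 : Store := (.node 3691 (.node 3686 (.node 3683 (.node 3682 (.leaf 0x0) (.leaf 0x201010101000006)) (.node 3684 (.leaf 0x10100000004) (.node 3685 (.leaf 0x0) (.leaf 0x20203030004)))) (.node 3688 (.node 3687 (.leaf 0x0) (.leaf 0x0)) (.node 3689 (.leaf 0x0) (.node 3690 (.leaf 0x1) (.leaf 0x0))))) (.node 3696 (.node 3693 (.node 3692 (.leaf 0x0) (.leaf 0x0)) (.node 3694 (.leaf 0x0) (.node 3695 (.leaf 0x0) (.leaf 0x0)))) (.node 3699 (.node 3697 (.leaf 0x10100000006) (.node 3698 (.leaf 0x0) (.leaf 0x10100000006))) (.node 3700 (.leaf 0x0) (.node 3701 (.leaf 0x0) (.leaf 0x0))))))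

def sgOS_338 : Store := (.node 3713 (.node 3707 (.node 3704 (.node 3703 (.leaf 0x0) (.leaf 0x100000001000006)) (.node 3705 (.leaf 0x0) (.node 3706 (.leaf 0x0) (.leaf 0x1)))) (.node 3710 (.node 3708 (.leaf 0x0) (.node 3709 (.leaf 0x0) (.leaf 0x0))) (.node 3711 (.leaf 0x0) (.node 3712 (.leaf 0x10100000006) (.leaf 0x0))))) (.node 3718 (.node 3715 (.node 3714 (.leaf 0x0) (.leaf 0x0)) (.node 3716 (.leaf 0x0) (.node 3717 (.leaf 0x0) (.leaf 0x10100000006)))) (.node 3721 (.node 3719 (.leaf 0x10000000006) (.node 3720 (.leaf 0x1010203020005) (.leaf 0x0))) (.node 3722 (.leaf 0x0) (.node 3723 (.leaf 0x0) (.leaf 0x0))))))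

def sgOS_339 : Store := (.node 3702 sgOS_337 sgOS_338)

def sgOS_340 : Store := (.node 3681 sgOS_336 sgOS_339)

def sgOS_341 : Store := (.node 3734 (.node 3729 (.node 3726 (.node 3725 (.leaf 0x20202010001000007) (.leaf 0x3020101000006)) (.node 3727 (.leaf 0x0) (.node 3728 (.leaf 0x3020101000006) (.leaf 0x0)))) (.node 3731 (.node 3730 (.leaf 0x0) (.leaf 0x0)) (.node 3732 (.leaf 0x101000000000006) (.node 3733 (.leaf 0x10100000005) (.leaf 0x0))))) (.node 3739 (.node 3736 (.node 3735 (.leaf 0x100000302010006) (.leaf 0x0)) (.node 3737 (.leaf 0x0) (.node 3738 (.leaf 0x0) (.leaf 0x303020003)))) (.node 3742 (.node 3740 (.leaf 0x3030002) (.node 3741 (.leaf 0x0) (.leaf 0x3030002))) (.node 3743 (.leaf 0x0) (.node 3744 (.leaf 0x0) (.leaf 0x0))))))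

def sgOS_342 : Store := (.node 3756 (.node 3750 (.node 3747 (.node 3746 (.leaf 0x0) (.leaf 0x0)) (.node 3748 (.leaf 0x0) (.node 3749 (.leaf 0x0) (.leaf 0x0)))) (.node 3753 (.node 3751 (.leaf 0x0) (.node 3752 (.leaf 0x0) (.leaf 0x0))) (.node 3754 (.leaf 0x0) (.node 3755 (.leaf 0x0) (.leaf 0x0))))) (.node 3761 (.node 3758 (.node 3757 (.leaf 0x0) (.leaf 0x0)) (.node 3759 (.leaf 0x0) (.node 3760 (.leaf 0x1010100000005) (.leaf 0x10202030005)))) (.node 3764 (.node 3762 (.leaf 0x0) (.node 3763 (.leaf 0x302030300010006) (.leaf 0x0))) (.node 3765 (.leaf 0x0) (.node 3766 (.leaf 0x0) (.leaf 0x0))))))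

def sgOS_343 : Store := (.node 3745 sgOS_341 sgOS_342)

def sgOS_344 : Store := (.node 3778 (.node 3772 (.node 3769 (.node 3768 (.leaf 0x20001) (.leaf 0x0)) (.node 3770 (.leaf 0x20001) (.node 3771 (.leaf 0x0) (.leaf 0x0)))) (.node 3775 (.node 3773 (.leaf 0x0) (.node 3774 (.leaf 0x102030303020006) (.leaf 0x0))) (.node 3776 (.leaf 0x1020300010005) (.node 3777 (.leaf 0x0) (.leaf 0x0))))) (.node 3783 (.node 3780 (.node 3779 (.leaf 0x0) (.leaf 0x0)) (.node 3781 (.leaf 0x0) (.node 3782 (.leaf 0x0) (.leaf 0x100010100000006)))) (.node 3786 (.node 3784 (.leaf 0x0) (.node 3785 (.leaf 0x0) (.leaf 0x0))) (.node 3787 (.leaf 0x0) (.node 3788 (.leaf 0x0) (.leaf 0x0))))))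

def sgOS_345 : Store := (.node 3800 (.node 3794 (.node 3791 (.node 3790 (.leaf 0x0) (.leaf 0x0)) (.node 3792 (.leaf 0x0) (.node 3793 (.leaf 0x0) (.leaf 0x0)))) (.node 3797 (.node 3795 (.leaf 0x100000101000007) (.node 3796 (.leaf 0x0) (.leaf 0x1000303030006))) (.node 3798 (.leaf 0x0) (.node 3799 (.leaf 0x0) (.leaf 0x0))))) (.node 3805 (.node 3802 (.node 3801 (.leaf 0x0) (.leaf 0x0)) (.node 3803 (.leaf 0x0) (.node 3804 (.leaf 0x0) (.leaf 0x0)))) (.node 3808 (.node 3806 (.leaf 0x0) (.node 3807 (.leaf 0x0) (.leaf 0x0))) (.node 3809 (.leaf 0x10203020201010007) (.node 3810 (.leaf 0x0) (.leaf 0x20001))))))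

def sgOS_346 : Store := (.node 3789 sgOS_344 sgOS_345)

def sgOS_347 : Store := (.node 3767 sgOS_343 sgOS_346)

def sgOS_348 : Store := (.node 3724 sgOS_340 sgOS_347)

def sgOS_349 : Store := (.node 3638 sgOS_333 sgOS_348)

def sgOS_350 : Store := (.node 3821 (.node 3816 (.node 3813 (.node 3812 (.leaf 0x0) (.leaf 0x0)) (.node 3814 (.leaf 0x0) (.node 3815 (.leaf 0x0) (.leaf 0x0)))) (.node 3818 (.node 3817 (.leaf 0x0) (.leaf 0x0)) (.node 3819 (.leaf 0x0) (.node 3820 (.leaf 0x0) (.leaf 0x0))))) (.node 3826 (.node 3823 (.node 3822 (.leaf 0x0) (.leaf 0x10201010005)) (.node 3824 (.leaf 0x3000006) (.node 3825 (.leaf 0x0) (.leaf 0x3000006)))) (.node 3829 (.node 3827 (.leaf 0x0) (.node 3828 (.leaf 0x0) (.leaf 0x0))) (.node 3830 (.leaf 0x201020203020006) (.node 3831 (.leaf 0x0) (.leaf 0x10000030203000007))))))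

def sgOS_351 : Store := (.node 3843 (.node 3837 (.node 3834 (.node 3833 (.leaf 0x0) (.leaf 0x0)) (.node 3835 (.leaf 0x0) (.node 3836 (.leaf 0x0) (.leaf 0x0)))) (.node 3840 (.node 3838 (.leaf 0x0) (.node 3839 (.leaf 0x0) (.leaf 0x0))) (.node 3841 (.leaf 0x0) (.node 3842 (.leaf 0x0) (.leaf 0x0))))) (.node 3848 (.node 3845 (.node 3844 (.leaf 0x0) (.leaf 0x10101000006)) (.node 3846 (.leaf 0x20302030000000007) (.node 3847 (.leaf 0x20300000001000007) (.leaf 0x0)))) (.node 3851 (.node 3849 (.leaf 0x0) (.node 3850 (.leaf 0x0) (.leaf 0x0))) (.node 3852 (.leaf 0x10100000004) (.node 3853 (.leaf 0x3000000000005) (.leaf 0x202020302010006))))))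

def sgOS_352 : Store := (.node 3832 sgOS_350 sgOS_351)

def sgOS_353 : Store := (.node 3864 (.node 3859 (.node 3856 (.node 3855 (.leaf 0x0) (.leaf 0x0)) (.node 3857 (.leaf 0x0) (.node 3858 (.leaf 0x10201010004) (.leaf 0x300030203000006)))) (.node 3861 (.node 3860 (.leaf 0x0) (.leaf 0x20203030004)) (.node 3862 (.leaf 0x0) (.node 3863 (.leaf 0x0) (.leaf 0x0))))) (.node 3869 (.node 3866 (.node 3865 (.leaf 0x0) (.leaf 0x0)) (.node 3867 (.leaf 0x1000101020005) (.node 3868 (.leaf 0x0) (.leaf 0x0)))) (.node 3872 (.node 3870 (.leaf 0x0) (.node 3871 (.leaf 0x0) (.leaf 0x10003020005))) (.node 3873 (.leaf 0x0) (.node 3874 (.leaf 0x2) (.leaf 0x10000000300000007))))))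

def sgOS_354 : Store := (.node 3886 (.node 3880 (.node 3877 (.node 3876 (.leaf 0x0) (.leaf 0x0)) (.node 3878 (.leaf 0x0) (.node 3879 (.leaf 0x303020203020006) (.leaf 0x3020003)))) (.node 3883 (.node 3881 (.leaf 0x102020101010007) (.node 3882 (.leaf 0x0) (.leaf 0x0))) (.node 3884 (.leaf 0x0) (.node 3885 (.leaf 0x0) (.leaf 0x0))))) (.node 3891 (.node 3888 (.node 3887 (.leaf 0x0) (.leaf 0x0)) (.node 3889 (.leaf 0x0) (.node 3890 (.leaf 0x0) (.leaf 0x0)))) (.node 3894 (.node 3892 (.leaf 0x0) (.node 3893 (.leaf 0x30302030005) (.leaf 0x300030202030006))) (.node 3895 (.leaf 0x0) (.node 3896 (.leaf 0x30001020300000007) (.leaf 0x0))))))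

def sgOS_355 : Store := (.node 3875 sgOS_353 sgOS_354)

def sgOS_356 : Store := (.node 3854 sgOS_352 sgOS_355)

def sgOS_357 : Store := (.node 3907 (.node 3902 (.node 3899 (.node 3898 (.leaf 0x0) (.leaf 0x0)) (.node 3900 (.leaf 0x10100000006) (.node 3901 (.leaf 0x0) (.leaf 0x0)))) (.node 3904 (.node 3903 (.leaf 0x0) (.leaf 0x0)) (.node 3905 (.leaf 0x0) (.node 3906 (.leaf 0x0) (.leaf 0x10001000004))))) (.node 3912 (.node 3909 (.node 3908 (.leaf 0x201010101000006) (.leaf 0x0)) (.node 3910 (.leaf 0x201010101000006) (.node 3911 (.leaf 0x0) (.leaf 0x0)))) (.node 3915 (.node 3913 (.leaf 0x0) (.node 3914 (.leaf 0x0) (.leaf 0x0))) (.node 3916 (.leaf 0x0) (.node 3917 (.leaf 0x0) (.leaf 0x0))))))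

def sgOS_358 : Store := (.node 3929 (.node 3923 (.node 3920 (.node 3919 (.leaf 0x0) (.leaf 0x0)) (.node 3921 (.leaf 0x0) (.node 3922 (.leaf 0x2030201010005) (.leaf 0x0)))) (.node 3926 (.node 3924 (.leaf 0x0) (.node 3925 (.leaf 0x0) (.leaf 0x0))) (.node 3927 (.leaf 0x0) (.node 3928 (.leaf 0x0) (.leaf 0x0))))) (.node 3934 (.node 3931 (.node 3930 (.leaf 0x0) (.leaf 0x0)) (.node 3932 (.leaf 0x0) (.node 3933 (.leaf 0x0) (.leaf 0x0)))) (.node 3937 (.node 3935 (.leaf 0x0) (.node 3936 (.leaf 0x0) (.leaf 0x300030302010006))) (.node 3938 (.leaf 0x0) (.node 3939 (.leaf 0x0) (.leaf 0x0))))))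

def sgOS_359 : Store := (.node 3918 sgOS_357 sgOS_358)

def sgOS_360 : Store := (.node 3951 (.node 3945 (.node 3942 (.node 3941 (.leaf 0x0) (.leaf 0x2020303030005)) (.node 3943 (.leaf 0x0) (.node 3944 (.leaf 0x0) (.leaf 0x0)))) (.node 3948 (.node 3946 (.leaf 0x0) (.node 3947 (.leaf 0x0) (.leaf 0x0))) (.node 3949 (.leaf 0x1010102010005) (.node 3950 (.leaf 0x30000000005) (.leaf 0x101000100010006))))) (.node 3956 (.node 3953 (.node 3952 (.leaf 0x0) (.leaf 0x0)) (.node 3954 (.leaf 0x0) (.node 3955 (.leaf 0x0) (.leaf 0x0)))) (.node 3959 (.node 3957 (.leaf 0x30203030300000007) (.node 3958 (.leaf 0x30201020005) (.leaf 0x1000101020005))) (.node 3960 (.leaf 0x0) (.node 3961 (.leaf 0x0) (.leaf 0x0))))))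

def sgOS_361 : Store := (.node 3973 (.node 3967 (.node 3964 (.node 3963 (.leaf 0x0) (.leaf 0x0)) (.node 3965 (.leaf 0x10001) (.node 3966 (.leaf 0x0) (.leaf 0x0)))) (.node 3970 (.node 3968 (.leaf 0x0) (.node 3969 (.leaf 0x0) (.leaf 0x0))) (.node 3971 (.leaf 0x20202010001000007) (.node 3972 (.leaf 0x0) (.leaf 0x1000003020005))))) (.node 3978 (.node 3975 (.node 3974 (.leaf 0x0) (.leaf 0x0)) (.node 3976 (.leaf 0x0) (.node 3977 (.leaf 0x30001000004) (.leaf 0x30003020006)))) (.node 3981 (.node 3979 (.leaf 0x0) (.node 3980 (.leaf 0x1000001020005) (.leaf 0x0))) (.node 3982 (.leaf 0x0) (.node 3983 (.leaf 0x0) (.leaf 0x0))))))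

def sgOS_362 : Store := (.node 3962 sgOS_360 sgOS_361)

def sgOS_363 : Store := (.node 3940 sgOS_359 sgOS_362)

def sgOS_364 : Store := (.node 3897 sgOS_356 sgOS_363)

def sgOS_365 : Store := (.node 3994 (.node 3989 (.node 3986 (.node 3985 (.leaf 0x10003000004) (.leaf 0x201020303000006)) (.node 3987 (.leaf 0x201020303000006) (.node 3988 (.leaf 0x0) (.leaf 0x0)))) (.node 3991 (.node 3990 (.leaf 0x0) (.leaf 0x0)) (.node 3992 (.leaf 0x101020203000007) (.node 3993 (.leaf 0x0) (.leaf 0x303020004))))) (.node 3999 (.node 3996 (.node 3995 (.leaf 0x0) (.leaf 0x0)) (.node 3997 (.leaf 0x0) (.node 3998 (.leaf 0x10101020005) (.leaf 0x302030203030006)))) (.node 4002 (.node 4000 (.leaf 0x0) (.node 4001 (.leaf 0x302020303000007) (.leaf 0x0))) (.node 4003 (.leaf 0x0) (.node 4004 (.leaf 0x0) (.leaf 0x201020300000006))))))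

def sgOS_366 : Store := (.node 4016 (.node 4010 (.node 4007 (.node 4006 (.leaf 0x0) (.leaf 0x1000001010006)) (.node 4008 (.leaf 0x0) (.node 4009 (.leaf 0x0) (.leaf 0x0)))) (.node 4013 (.node 4011 (.leaf 0x0) (.node 4012 (.leaf 0x0) (.leaf 0x303020004))) (.node 4014 (.leaf 0x20102030004) (.node 4015 (.leaf 0x303020004) (.leaf 0x0))))) (.node 4021 (.node 4018 (.node 4017 (.leaf 0x0) (.leaf 0x0)) (.node 4019 (.leaf 0x100000001000006) (.node 4020 (.leaf 0x0) (.leaf 0x0)))) (.node 4024 (.node 4022 (.leaf 0x30302020004) (.node 4023 (.leaf 0x0) (.leaf 0x0))) (.node 4025 (.leaf 0x0) (.node 4026 (.leaf 0x0) (.leaf 0x0))))))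

def sgOS_367 : Store := (.node 4005 sgOS_365 sgOS_366)

def sgOS_368 : Store := (.node 4038 (.node 4032 (.node 4029 (.node 4028 (.leaf 0x0) (.leaf 0x0)) (.node 4030 (.leaf 0x0) (.node 4031 (.leaf 0x0) (.leaf 0x0)))) (.node 4035 (.node 4033 (.leaf 0x0) (.node 4034 (.leaf 0x0) (.leaf 0x0))) (.node 4036 (.leaf 0x0) (.node 4037 (.leaf 0x0) (.leaf 0x0))))) (.node 4043 (.node 4040 (.node 4039 (.leaf 0x0) (.leaf 0x30004)) (.node 4041 (.leaf 0x0) (.node 4042 (.leaf 0x30300030004) (.leaf 0x0)))) (.node 4046 (.node 4044 (.leaf 0x0) (.node 4045 (.leaf 0x0) (.leaf 0x0))) (.node 4047 (.leaf 0x0) (.node 4048 (.leaf 0x0) (.leaf 0x1000303000006))))))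

def sgOS_369 : Store := (.node 4060 (.node 4054 (.node 4051 (.node 4050 (.leaf 0x1000001020005) (.leaf 0x0)) (.node 4052 (.leaf 0x0) (.node 4053 (.leaf 0x0) (.leaf 0x302030300010006)))) (.node 4057 (.node 4055 (.leaf 0x0) (.node 4056 (.leaf 0x30303020005) (.leaf 0x101020004))) (.node 4058 (.leaf 0x0) (.node 4059 (.leaf 0x0) (.leaf 0x0))))) (.node 4065 (.node 4062 (.node 4061 (.leaf 0x2030201010005) (.leaf 0x0)) (.node 4063 (.leaf 0x20302010004) (.node 4064 (.leaf 0x0) (.leaf 0x0)))) (.node 4068 (.node 4066 (.leaf 0x0) (.node 4067 (.leaf 0x0) (.leaf 0x0))) (.node 4069 (.leaf 0x3030001000005) (.node 4070 (.leaf 0x0) (.leaf 0x3030001000005))))))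

def sgOS_370 : Store := (.node 4049 sgOS_368 sgOS_369)

def sgOS_371 : Store := (.node 4027 sgOS_367 sgOS_370)

def sgOS_372 : Store := (.node 4081 (.node 4076 (.node 4073 (.node 4072 (.leaf 0x0) (.leaf 0x0)) (.node 4074 (.leaf 0x0) (.node 4075 (.leaf 0x0) (.leaf 0x0)))) (.node 4078 (.node 4077 (.leaf 0x0) (.leaf 0x0)) (.node 4079 (.leaf 0x0) (.node 4080 (.leaf 0x0) (.leaf 0x0))))) (.node 4086 (.node 4083 (.node 4082 (.leaf 0x1000003000005) (.leaf 0x0)) (.node 4084 (.leaf 0x20302010004) (.node 4085 (.leaf 0x0) (.leaf 0x0)))) (.node 4089 (.node 4087 (.leaf 0x0) (.node 4088 (.leaf 0x0) (.leaf 0x0))) (.node 4090 (.leaf 0x0) (.node 4091 (.leaf 0x201010101000006) (.leaf 0x0))))))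

def sgOS_373 : Store := (.node 4103 (.node 4097 (.node 4094 (.node 4093 (.leaf 0x0) (.leaf 0x0)) (.node 4095 (.leaf 0x0) (.node 4096 (.leaf 0x0) (.leaf 0x0)))) (.node 4100 (.node 4098 (.leaf 0x0) (.node 4099 (.leaf 0x0) (.leaf 0x0))) (.node 4101 (.leaf 0x0) (.node 4102 (.leaf 0x0) (.leaf 0x0))))) (.node 4108 (.node 4105 (.node 4104 (.leaf 0x302030000010006) (.leaf 0x20303030201000007)) (.node 4106 (.leaf 0x0) (.node 4107 (.leaf 0x0) (.leaf 0x0)))) (.node 4111 (.node 4109 (.leaf 0x0) (.node 4110 (.leaf 0x0) (.leaf 0x0))) (.node 4112 (.leaf 0x0) (.node 4113 (.leaf 0x0) (.leaf 0x0))))))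

def sgOS_374 : Store := (.node 4092 sgOS_372 sgOS_373)

def sgOS_375 : Store := (.node 4125 (.node 4119 (.node 4116 (.node 4115 (.leaf 0x0) (.leaf 0x0)) (.node 4117 (.leaf 0x0) (.node 4118 (.leaf 0x0) (.leaf 0x0)))) (.node 4122 (.node 4120 (.leaf 0x0) (.node 4121 (.leaf 0x0) (.leaf 0x0))) (.node 4123 (.leaf 0x0) (.node 4124 (.leaf 0x102010001010006) (.leaf 0x300010101000006))))) (.node 4130 (.node 4127 (.node 4126 (.leaf 0x0) (.leaf 0x2030302030005)) (.node 4128 (.leaf 0x0) (.node 4129 (.leaf 0x0) (.leaf 0x0)))) (.node 4133 (.node 4131 (.leaf 0x0) (.node 4132 (.leaf 0x10100030005) (.leaf 0x3030001000005))) (.node 4134 (.leaf 0x10100030005) (.node 4135 (.leaf 0x0) (.leaf 0x0))))))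

def sgOS_376 : Store := (.node 4147 (.node 4141 (.node 4138 (.node 4137 (.leaf 0x0) (.leaf 0x0)) (.node 4139 (.leaf 0x20100030000000007) (.node 4140 (.leaf 0x30201020303000007) (.leaf 0x20100030000000007)))) (.node 4144 (.node 4142 (.leaf 0x0) (.node 4143 (.leaf 0x0) (.leaf 0x0))) (.node 4145 (.leaf 0x0) (.node 4146 (.leaf 0x0) (.leaf 0x300010001010006))))) (.node 4152 (.node 4149 (.node 4148 (.leaf 0x0) (.leaf 0x0)) (.node 4150 (.leaf 0x0) (.node 4151 (.leaf 0x0) (.leaf 0x0)))) (.node 4155 (.node 4153 (.leaf 0x0) (.node 4154 (.leaf 0x0) (.leaf 0x0))) (.node 4156 (.leaf 0x0) (.node 4157 (.leaf 0x0) (.leaf 0x0))))))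

def sgOS_377 : Store := (.node 4136 sgOS_375 sgOS_376)

def sgOS_378 : Store := (.node 4114 sgOS_374 sgOS_377)

def sgOS_379 : Store := (.node 4071 sgOS_371 sgOS_378)

def sgOS_380 : Store := (.node 3984 sgOS_364 sgOS_379)

def sgOS_381 : Store := (.node 3811 sgOS_349 sgOS_380)

def sgOS_382 : Store := (.node 3465 sgOS_318 sgOS_381)

def sgOS_383 : Store := (.node 4168 (.node 4163 (.node 4160 (.node 4159 (.leaf 0x0) (.leaf 0x0)) (.node 4161 (.leaf 0x0) (.node 4162 (.leaf 0x0) (.leaf 0x0)))) (.node 4165 (.node 4164 (.leaf 0x0) (.leaf 0x0)) (.node 4166 (.leaf 0x0) (.node 4167 (.leaf 0x0) (.leaf 0x0))))) (.node 4173 (.node 4170 (.node 4169 (.leaf 0x0) (.leaf 0x0)) (.node 4171 (.leaf 0x0) (.node 4172 (.leaf 0x0) (.leaf 0x0)))) (.node 4176 (.node 4174 (.leaf 0x0) (.node 4175 (.leaf 0x3000101010005) (.leaf 0x0))) (.node 4177 (.leaf 0x0) (.node 4178 (.leaf 0x0) (.leaf 0x0))))))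

def sgOS_384 : Store := (.node 4190 (.node 4184 (.node 4181 (.node 4180 (.leaf 0x0) (.leaf 0x10101020100000007)) (.node 4182 (.leaf 0x3000003000006) (.node 4183 (.leaf 0x101000302010006) (.leaf 0x0)))) (.node 4187 (.node 4185 (.leaf 0x0) (.node 4186 (.leaf 0x0) (.leaf 0x0))) (.node 4188 (.leaf 0x0) (.node 4189 (.leaf 0x0) (.leaf 0x0))))) (.node 4195 (.node 4192 (.node 4191 (.leaf 0x0) (.leaf 0x0)) (.node 4193 (.leaf 0x0) (.node 4194 (.leaf 0x1000101000000010008) (.leaf 0x0)))) (.node 4198 (.node 4196 (.leaf 0x0) (.node 4197 (.leaf 0x0) (.leaf 0x0))) (.node 4199 (.leaf 0x0) (.node 4200 (.leaf 0x0) (.leaf 0x10201010005))))))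

def sgOS_385 : Store := (.node 4179 sgOS_383 sgOS_384)

def sgOS_386 : Store := (.node 4211 (.node 4206 (.node 4203 (.node 4202 (.leaf 0x0) (.leaf 0x0)) (.node 4204 (.leaf 0x0) (.node 4205 (.leaf 0x0) (.leaf 0x0)))) (.node 4208 (.node 4207 (.leaf 0x0) (.leaf 0x0)) (.node 4209 (.leaf 0x10100000006) (.node 4210 (.leaf 0x10201010005) (.leaf 0x10100000006))))) (.node 4216 (.node 4213 (.node 4212 (.leaf 0x0) (.leaf 0x0)) (.node 4214 (.leaf 0x0) (.node 4215 (.leaf 0x0) (.leaf 0x0)))) (.node 4219 (.node 4217 (.leaf 0x0) (.node 4218 (.leaf 0x0) (.leaf 0x0))) (.node 4220 (.leaf 0x0) (.node 4221 (.leaf 0x0) (.leaf 0x20302030000000007))))))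

def sgOS_387 : Store := (.node 4233 (.node 4227 (.node 4224 (.node 4223 (.leaf 0x302010100010006) (.leaf 0x0)) (.node 4225 (.leaf 0x20302030000000007) (.node 4226 (.leaf 0x0) (.leaf 0x0)))) (.node 4230 (.node 4228 (.leaf 0x0) (.node 4229 (.leaf 0x302010101020006) (.leaf 0x3030302030005))) (.node 4231 (.leaf 0x202010003000006) (.node 4232 (.leaf 0x0) (.leaf 0x0))))) (.node 4238 (.node 4235 (.node 4234 (.leaf 0x0) (.leaf 0x0)) (.node 4236 (.leaf 0x0) (.node 4237 (.leaf 0x0) (.leaf 0x0)))) (.node 4241 (.node 4239 (.leaf 0x0) (.node 4240 (.leaf 0x0) (.leaf 0x0))) (.node 4242 (.leaf 0x0) (.node 4243 (.leaf 0x0) (.leaf 0x0))))))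

def sgOS_388 : Store := (.node 4222 sgOS_386 sgOS_387)

def sgOS_389 : Store := (.node 4201 sgOS_385 sgOS_388)

def sgOS_390 : Store := (.node 4254 (.node 4249 (.node 4246 (.node 4245 (.leaf 0x0) (.leaf 0x0)) (.node 4247 (.leaf 0x0) (.node 4248 (.leaf 0x0) (.leaf 0x0)))) (.node 4251 (.node 4250 (.leaf 0x0) (.leaf 0x0)) (.node 4252 (.leaf 0x20001) (.node 4253 (.leaf 0x1010202030006) (.leaf 0x0))))) (.node 4259 (.node 4256 (.node 4255 (.leaf 0x0) (.leaf 0x0)) (.node 4257 (.leaf 0x0) (.node 4258 (.leaf 0x1000101000005) (.leaf 0x0)))) (.node 4262 (.node 4260 (.leaf 0x10100010001010007) (.node 4261 (.leaf 0x0) (.leaf 0x0))) (.node 4263 (.leaf 0x0) (.node 4264 (.leaf 0x1020003) (.leaf 0x0))))))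

def sgOS_391 : Store := (.node 4276 (.node 4270 (.node 4267 (.node 4266 (.leaf 0x30003000300000007) (.leaf 0x0)) (.node 4268 (.leaf 0x0) (.node 4269 (.leaf 0x0) (.leaf 0x0)))) (.node 4273 (.node 4271 (.leaf 0x0) (.node 4272 (.leaf 0x0) (.leaf 0x102010001010006))) (.node 4274 (.leaf 0x3030302030005) (.node 4275 (.leaf 0x0) (.leaf 0x0))))) (.node 4281 (.node 4278 (.node 4277 (.leaf 0x0) (.leaf 0x0)) (.node 4279 (.leaf 0x0) (.node 4280 (.leaf 0x0) (.leaf 0x0)))) (.node 4284 (.node 4282 (.leaf 0x0) (.node 4283 (.leaf 0x0) (.leaf 0x0))) (.node 4285 (.leaf 0x0) (.node 4286 (.leaf 0x100000303020006) (.leaf 0x0))))))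

def sgOS_392 : Store := (.node 4265 sgOS_390 sgOS_391)

def sgOS_393 : Store := (.node 4298 (.node 4292 (.node 4289 (.node 4288 (.leaf 0x100000303020006) (.leaf 0x0)) (.node 4290 (.leaf 0x0) (.node 4291 (.leaf 0x0) (.leaf 0x0)))) (.node 4295 (.node 4293 (.leaf 0x0) (.node 4294 (.leaf 0x0) (.leaf 0x0))) (.node 4296 (.leaf 0x0) (.node 4297 (.leaf 0x0) (.leaf 0x0))))) (.node 4303 (.node 4300 (.node 4299 (.leaf 0x1020101010006) (.leaf 0x201010101000006)) (.node 4301 (.leaf 0x30003030300000007) (.node 4302 (.leaf 0x0) (.leaf 0x0)))) (.node 4306 (.node 4304 (.leaf 0x0) (.node 4305 (.leaf 0x0) (.leaf 0x101020003))) (.node 4307 (.leaf 0x1) (.node 4308 (.leaf 0x3020101000006) (.leaf 0x0))))))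

def sgOS_394 : Store := (.node 4320 (.node 4314 (.node 4311 (.node 4310 (.leaf 0x0) (.leaf 0x0)) (.node 4312 (.leaf 0x0) (.node 4313 (.leaf 0x0) (.leaf 0x1020300010005)))) (.node 4317 (.node 4315 (.leaf 0x20300010101000007) (.node 4316 (.leaf 0x1020300010005) (.leaf 0x0))) (.node 4318 (.leaf 0x0) (.node 4319 (.leaf 0x0) (.leaf 0x2010101000005))))) (.node 4325 (.node 4322 (.node 4321 (.leaf 0x3020101000006) (.leaf 0x0)) (.node 4323 (.leaf 0x0) (.node 4324 (.leaf 0x0) (.leaf 0x0)))) (.node 4328 (.node 4326 (.leaf 0x0) (.node 4327 (.leaf 0x0) (.leaf 0x100000102010006))) (.node 4329 (.leaf 0x0) (.node 4330 (.leaf 0x0) (.leaf 0x0))))))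

def sgOS_395 : Store := (.node 4309 sgOS_393 sgOS_394)

def sgOS_396 : Store := (.node 4287 sgOS_392 sgOS_395)

def sgOS_397 : Store := (.node 4244 sgOS_389 sgOS_396)

def sgOS_398 : Store := (.node 4341 (.node 4336 (.node 4333 (.node 4332 (.leaf 0x0) (.leaf 0x0)) (.node 4334 (.leaf 0x30001) (.node 4335 (.leaf 0x0) (.leaf 0x0)))) (.node 4338 (.node 4337 (.leaf 0x201010003) (.leaf 0x0)) (.node 4339 (.leaf 0x0) (.node 4340 (.leaf 0x0) (.leaf 0x0))))) (.node 4346 (.node 4343 (.node 4342 (.leaf 0x0) (.leaf 0x0)) (.node 4344 (.leaf 0x0) (.node 4345 (.leaf 0x0) (.leaf 0x0)))) (.node 4349 (.node 4347 (.leaf 0x0) (.node 4348 (.leaf 0x101000004) (.leaf 0x0))) (.node 4350 (.leaf 0x2030303000005) (.node 4351 (.leaf 0x0) (.leaf 0x0))))))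

def sgOS_399 : Store := (.node 4363 (.node 4357 (.node 4354 (.node 4353 (.leaf 0x0) (.leaf 0x0)) (.node 4355 (.leaf 0x202010100000006) (.node 4356 (.leaf 0x0) (.leaf 0x0)))) (.node 4360 (.node 4358 (.leaf 0x0) (.node 4359 (.leaf 0x0) (.leaf 0x0))) (.node 4361 (.leaf 0x0) (.node 4362 (.leaf 0x0) (.leaf 0x20203030004))))) (.node 4368 (.node 4365 (.node 4364 (.leaf 0x1010002) (.leaf 0x0)) (.node 4366 (.leaf 0x0) (.node 4367 (.leaf 0x0) (.leaf 0x0)))) (.node 4371 (.node 4369 (.leaf 0x30300030004) (.node 4370 (.leaf 0x2020002) (.leaf 0x0))) (.node 4372 (.leaf 0x1010002) (.node 4373 (.leaf 0x0) (.leaf 0x0))))))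

def sgOS_400 : Store := (.node 4352 sgOS_398 sgOS_399)

def sgOS_401 : Store := (.node 4384 (.node 4379 (.node 4376 (.node 4375 (.leaf 0x0) (.leaf 0x100010100000001000009)) (.node 4377 (.leaf 0x100000102010006) (.node 4378 (.leaf 0x0) (.leaf 0x300030202030006)))) (.node 4381 (.node 4380 (.leaf 0x0) (.leaf 0x0)) (.node 4382 (.leaf 0x0) (.node 4383 (.leaf 0x101000100010006) (.leaf 0x1000102010005))))) (.node 4389 (.node 4386 (.node 4385 (.leaf 0x0) (.leaf 0x3000001010005)) (.node 4387 (.leaf 0x0) (.node 4388 (.leaf 0x0) (.leaf 0x0)))) (.node 4392 (.node 4390 (.leaf 0x0) (.node 4391 (.leaf 0x0) (.leaf 0x10202020004))) (.node 4393 (.leaf 0x20203030004) (.node 4394 (.leaf 0x0) (.leaf 0x0))))))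

def sgOS_402 : Store := (.node 4406 (.node 4400 (.node 4397 (.node 4396 (.leaf 0x0) (.leaf 0x0)) (.node 4398 (.leaf 0x0) (.node 4399 (.leaf 0x0) (.leaf 0x0)))) (.node 4403 (.node 4401 (.leaf 0x0) (.node 4402 (.leaf 0x0) (.leaf 0x0))) (.node 4404 (.leaf 0x2020002) (.node 4405 (.leaf 0x0) (.leaf 0x3030003020005))))) (.node 4411 (.node 4408 (.node 4407 (.leaf 0x0) (.leaf 0x0)) (.node 4409 (.leaf 0x0) (.node 4410 (.leaf 0x0) (.leaf 0x0)))) (.node 4414 (.node 4412 (.leaf 0x0) (.node 4413 (.leaf 0x0) (.leaf 0x0))) (.node 4415 (.leaf 0x0) (.node 4416 (.leaf 0x0) (.leaf 0x0))))))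

def sgOS_403 : Store := (.node 4395 sgOS_401 sgOS_402)

def sgOS_404 : Store := (.node 4374 sgOS_400 sgOS_403)

def sgOS_405 : Store := (.node 4427 (.node 4422 (.node 4419 (.node 4418 (.leaf 0x0) (.leaf 0x3020201000006)) (.node 4420 (.leaf 0x0) (.node 4421 (.leaf 0x101000000000006) (.leaf 0x0)))) (.node 4424 (.node 4423 (.leaf 0x0) (.leaf 0x0)) (.node 4425 (.leaf 0x0) (.node 4426 (.leaf 0x0) (.leaf 0x10101000001000008))))) (.node 4432 (.node 4429 (.node 4428 (.leaf 0x303020004) (.leaf 0x0)) (.node 4430 (.leaf 0x0) (.node 4431 (.leaf 0x0) (.leaf 0x0)))) (.node 4435 (.node 4433 (.leaf 0x0) (.node 4434 (.leaf 0x2030300010005) (.leaf 0x203000300000006))) (.node 4436 (.leaf 0x0) (.node 4437 (.leaf 0x0) (.leaf 0x0))))))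

def sgOS_406 : Store := (.node 4449 (.node 4443 (.node 4440 (.node 4439 (.leaf 0x0) (.leaf 0x101010005)) (.node 4441 (.leaf 0x3000303030005) (.node 4442 (.leaf 0x100010000000006) (.leaf 0x0)))) (.node 4446 (.node 4444 (.leaf 0x0) (.node 4445 (.leaf 0x0) (.leaf 0x0))) (.node 4447 (.leaf 0x0) (.node 4448 (.leaf 0x0) (.leaf 0x0))))) (.node 4454 (.node 4451 (.node 4450 (.leaf 0x0) (.leaf 0x0)) (.node 4452 (.leaf 0x0) (.node 4453 (.leaf 0x0) (.leaf 0x0)))) (.node 4457 (.node 4455 (.leaf 0x0) (.node 4456 (.leaf 0x0) (.leaf 0x0))) (.node 4458 (.leaf 0x0) (.node 4459 (.leaf 0x0) (.leaf 0x303020300030006))))))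

def sgOS_407 : Store := (.node 4438 sgOS_405 sgOS_406)

def sgOS_408 : Store := (.node 4471 (.node 4465 (.node 4462 (.node 4461 (.leaf 0x0) (.leaf 0x303020300030006)) (.node 4463 (.leaf 0x0) (.node 4464 (.leaf 0x0) (.leaf 0x0)))) (.node 4468 (.node 4466 (.leaf 0x0) (.node 4467 (.leaf 0x20201020100000007) (.leaf 0x0))) (.node 4469 (.leaf 0x0) (.node 4470 (.leaf 0x1020303020005) (.leaf 0x0))))) (.node 4476 (.node 4473 (.node 4472 (.leaf 0x0) (.leaf 0x0)) (.node 4474 (.leaf 0x3020303020006) (.node 4475 (.leaf 0x300000300010008) (.leaf 0x3000102030001010008)))) (.node 4479 (.node 4477 (.leaf 0x0) (.node 4478 (.leaf 0x0) (.leaf 0x0))) (.node 4480 (.leaf 0x0) (.node 4481 (.leaf 0x3020201000006) (.leaf 0x0))))))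

def sgOS_409 : Store := (.node 4493 (.node 4487 (.node 4484 (.node 4483 (.leaf 0x302020100010007) (.leaf 0x0)) (.node 4485 (.leaf 0x0) (.node 4486 (.leaf 0x0) (.leaf 0x0)))) (.node 4490 (.node 4488 (.leaf 0x0) (.node 4489 (.leaf 0x0) (.leaf 0x10100000006))) (.node 4491 (.leaf 0x300000300000006) (.node 4492 (.leaf 0x0) (.leaf 0x0))))) (.node 4498 (.node 4495 (.node 4494 (.leaf 0x0) (.leaf 0x0)) (.node 4496 (.leaf 0x0) (.node 4497 (.leaf 0x0) (.leaf 0x0)))) (.node 4501 (.node 4499 (.leaf 0x0) (.node 4500 (.leaf 0x0) (.leaf 0x0))) (.node 4502 (.leaf 0x303020004) (.node 4503 (.leaf 0x0) (.leaf 0x302030303000006))))))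

def sgOS_410 : Store := (.node 4482 sgOS_408 sgOS_409)

def sgOS_411 : Store := (.node 4460 sgOS_407 sgOS_410)

def sgOS_412 : Store := (.node 4417 sgOS_404 sgOS_411)

def sgOS_413 : Store := (.node 4331 sgOS_397 sgOS_412)

def sgOS_414 : Store := (.node 4514 (.node 4509 (.node 4506 (.node 4505 (.leaf 0x0) (.leaf 0x0)) (.node 4507 (.leaf 0x0) (.node 4508 (.leaf 0x0) (.leaf 0x0)))) (.node 4511 (.node 4510 (.leaf 0x3030002) (.leaf 0x20303020004)) (.node 4512 (.leaf 0x30302020004) (.node 4513 (.leaf 0x0) (.leaf 0x0))))) (.node 4519 (.node 4516 (.node 4515 (.leaf 0x0) (.leaf 0x0)) (.node 4517 (.leaf 0x100010000000006) (.node 4518 (.leaf 0x3000300000005) (.leaf 0x20302030000000007)))) (.node 4522 (.node 4520 (.leaf 0x0) (.node 4521 (.leaf 0x0) (.leaf 0x0))) (.node 4523 (.leaf 0x0) (.node 4524 (.leaf 0x0) (.leaf 0x0))))))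

def sgOS_415 : Store := (.node 4536 (.node 4530 (.node 4527 (.node 4526 (.leaf 0x0) (.leaf 0x0)) (.node 4528 (.leaf 0x0) (.node 4529 (.leaf 0x0) (.leaf 0x2)))) (.node 4533 (.node 4531 (.leaf 0x20203030004) (.node 4532 (.leaf 0x10202020004) (.leaf 0x0))) (.node 4534 (.leaf 0x0) (.node 4535 (.leaf 0x0) (.leaf 0x0))))) (.node 4541 (.node 4538 (.node 4537 (.leaf 0x0) (.leaf 0x30303000003020007)) (.node 4539 (.leaf 0x0) (.node 4540 (.leaf 0x30303000003020007) (.leaf 0x0)))) (.node 4544 (.node 4542 (.leaf 0x0) (.node 4543 (.leaf 0x0) (.leaf 0x0))) (.node 4545 (.leaf 0x0) (.node 4546 (.leaf 0x0) (.leaf 0x0))))))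

def sgOS_416 : Store := (.node 4525 sgOS_414 sgOS_415)

def sgOS_417 : Store := (.node 4557 (.node 4552 (.node 4549 (.node 4548 (.leaf 0x0) (.leaf 0x0)) (.node 4550 (.leaf 0x0) (.node 4551 (.leaf 0x101020004) (.leaf 0x1010001010005)))) (.node 4554 (.node 4553 (.leaf 0x2010202030005) (.leaf 0x0)) (.node 4555 (.leaf 0x0) (.node 4556 (.leaf 0x0) (.leaf 0x0))))) (.node 4562 (.node 4559 (.node 4558 (.leaf 0x0) (.leaf 0x101010202010006)) (.node 4560 (.leaf 0x10201010004) (.node 4561 (.leaf 0x302020300000006) (.leaf 0x0)))) (.node 4565 (.node 4563 (.leaf 0x0) (.node 4564 (.leaf 0x0) (.leaf 0x303000303030006))) (.node 4566 (.leaf 0x0) (.node 4567 (.leaf 0x100000102010006) (.leaf 0x0))))))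

def sgOS_418 : Store := (.node 4579 (.node 4573 (.node 4570 (.node 4569 (.leaf 0x0) (.leaf 0x0)) (.node 4571 (.leaf 0x0) (.node 4572 (.leaf 0x201010203020006) (.leaf 0x0)))) (.node 4576 (.node 4574 (.leaf 0x0) (.node 4575 (.leaf 0x0) (.leaf 0x0))) (.node 4577 (.leaf 0x0) (.node 4578 (.leaf 0x0) (.leaf 0x0))))) (.node 4584 (.node 4581 (.node 4580 (.leaf 0x30302030005) (.leaf 0x102010201000007)) (.node 4582 (.leaf 0x2030201010005) (.node 4583 (.leaf 0x0) (.leaf 0x0)))) (.node 4587 (.node 4585 (.leaf 0x0) (.node 4586 (.leaf 0x20300010101000007) (.leaf 0x0))) (.node 4588 (.leaf 0x202030303000006) (.node 4589 (.leaf 0x0) (.leaf 0x0))))))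

def sgOS_419 : Store := (.node 4568 sgOS_417 sgOS_418)

def sgOS_420 : Store := (.node 4547 sgOS_416 sgOS_419)

def sgOS_421 : Store := (.node 4600 (.node 4595 (.node 4592 (.node 4591 (.leaf 0x0) (.leaf 0x0)) (.node 4593 (.leaf 0x0) (.node 4594 (.leaf 0x0) (.leaf 0x0)))) (.node 4597 (.node 4596 (.leaf 0x0) (.leaf 0x0)) (.node 4598 (.leaf 0x0) (.node 4599 (.leaf 0x0) (.leaf 0x101000300010006))))) (.node 4605 (.node 4602 (.node 4601 (.leaf 0x0) (.leaf 0x100000102010006)) (.node 4603 (.leaf 0x0) (.node 4604 (.leaf 0x0) (.leaf 0x0)))) (.node 4608 (.node 4606 (.leaf 0x0) (.node 4607 (.leaf 0x0) (.leaf 0x101020004))) (.node 4609 (.leaf 0x0) (.node 4610 (.leaf 0x101020004) (.leaf 0x0))))))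

def sgOS_422 : Store := (.node 4622 (.node 4616 (.node 4613 (.node 4612 (.leaf 0x0) (.leaf 0x0)) (.node 4614 (.leaf 0x0) (.node 4615 (.leaf 0x0) (.leaf 0x0)))) (.node 4619 (.node 4617 (.leaf 0x0) (.node 4618 (.leaf 0x0) (.leaf 0x0))) (.node 4620 (.leaf 0x0) (.node 4621 (.leaf 0x0) (.leaf 0x1010202030006))))) (.node 4627 (.node 4624 (.node 4623 (.leaf 0x0) (.leaf 0x0)) (.node 4625 (.leaf 0x0) (.node 4626 (.leaf 0x0) (.leaf 0x0)))) (.node 4630 (.node 4628 (.leaf 0x0) (.node 4629 (.leaf 0x300030202030006) (.leaf 0x0))) (.node 4631 (.leaf 0x300030202030006) (.node 4632 (.leaf 0x0) (.leaf 0x0))))))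

def sgOS_423 : Store := (.node 4611 sgOS_421 sgOS_422)

def sgOS_424 : Store := (.node 4644 (.node 4638 (.node 4635 (.node 4634 (.leaf 0x0) (.leaf 0x201010100010006)) (.node 4636 (.leaf 0x1000102020005) (.node 4637 (.leaf 0x0) (.leaf 0x1000102020005)))) (.node 4641 (.node 4639 (.leaf 0x0) (.node 4640 (.leaf 0x0) (.leaf 0x0))) (.node 4642 (.leaf 0x30201020303000007) (.node 4643 (.leaf 0x0) (.leaf 0x30001))))) (.node 4649 (.node 4646 (.node 4645 (.leaf 0x302030000010006) (.leaf 0x0)) (.node 4647 (.leaf 0x0) (.node 4648 (.leaf 0x0) (.leaf 0x0)))) (.node 4652 (.node 4650 (.leaf 0x0) (.node 4651 (.leaf 0x0) (.leaf 0x0))) (.node 4653 (.leaf 0x0) (.node 4654 (.leaf 0x0) (.leaf 0x0))))))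

def sgOS_425 : Store := (.node 4666 (.node 4660 (.node 4657 (.node 4656 (.leaf 0x0) (.leaf 0x0)) (.node 4658 (.leaf 0x101010201010006) (.node 4659 (.leaf 0x1010202030006) (.leaf 0x0)))) (.node 4663 (.node 4661 (.leaf 0x0) (.node 4662 (.leaf 0x0) (.leaf 0x10101020100000007))) (.node 4664 (.leaf 0x0) (.node 4665 (.leaf 0x10101020100000007) (.leaf 0x0))))) (.node 4671 (.node 4668 (.node 4667 (.leaf 0x0) (.leaf 0x0)) (.node 4669 (.leaf 0x0) (.node 4670 (.leaf 0x10003000004) (.leaf 0x1010102020007)))) (.node 4674 (.node 4672 (.leaf 0x0) (.node 4673 (.leaf 0x3000003000006) (.leaf 0x0))) (.node 4675 (.leaf 0x0) (.node 4676 (.leaf 0x0) (.leaf 0x10003000005))))))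

def sgOS_426 : Store := (.node 4655 sgOS_424 sgOS_425)

def sgOS_427 : Store := (.node 4633 sgOS_423 sgOS_426)

def sgOS_428 : Store := (.node 4590 sgOS_420 sgOS_427)

def sgOS_429 : Store := (.node 4687 (.node 4682 (.node 4679 (.node 4678 (.leaf 0x302030005) (.leaf 0x0)) (.node 4680 (.leaf 0x0) (.node 4681 (.leaf 0x0) (.leaf 0x0)))) (.node 4684 (.node 4683 (.leaf 0x0) (.leaf 0x3020101000006)) (.node 4685 (.leaf 0x0) (.node 4686 (.leaf 0x10000000300000007) (.leaf 0x0))))) (.node 4692 (.node 4689 (.node 4688 (.leaf 0x0) (.leaf 0x0)) (.node 4690 (.leaf 0x0) (.node 4691 (.leaf 0x0) (.leaf 0x2030300000005)))) (.node 4695 (.node 4693 (.leaf 0x0) (.node 4694 (.leaf 0x0) (.leaf 0x0))) (.node 4696 (.leaf 0x0) (.node 4697 (.leaf 0x0) (.leaf 0x0))))))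

def sgOS_430 : Store := (.node 4709 (.node 4703 (.node 4700 (.node 4699 (.leaf 0x1010101000006) (.leaf 0x2010203020005)) (.node 4701 (.leaf 0x1010101000006) (.node 4702 (.leaf 0x0) (.leaf 0x0)))) (.node 4706 (.node 4704 (.leaf 0x0) (.node 4705 (.leaf 0x0) (.leaf 0x0))) (.node 4707 (.leaf 0x1000001020005) (.node 4708 (.leaf 0x0) (.leaf 0x0))))) (.node 4714 (.node 4711 (.node 4710 (.leaf 0x0) (.leaf 0x0)) (.node 4712 (.leaf 0x0) (.node 4713 (.leaf 0x0) (.leaf 0x100000001000006)))) (.node 4717 (.node 4715 (.leaf 0x0) (.node 4716 (.leaf 0x0) (.leaf 0x0))) (.node 4718 (.leaf 0x0) (.node 4719 (.leaf 0x0) (.leaf 0x203000300000006))))))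

def sgOS_431 : Store := (.node 4698 sgOS_429 sgOS_430)

def sgOS_432 : Store := (.node 4731 (.node 4725 (.node 4722 (.node 4721 (.leaf 0x10203020005) (.leaf 0x203000300000006)) (.node 4723 (.leaf 0x0) (.node 4724 (.leaf 0x0) (.leaf 0x0)))) (.node 4728 (.node 4726 (.leaf 0x0) (.node 4727 (.leaf 0x0) (.leaf 0x10000000300000007))) (.node 4729 (.leaf 0x0) (.node 4730 (.leaf 0x0) (.leaf 0x0))))) (.node 4736 (.node 4733 (.node 4732 (.leaf 0x0) (.leaf 0x0)) (.node 4734 (.leaf 0x10100000004) (.node 4735 (.leaf 0x0) (.leaf 0x10100000004)))) (.node 4739 (.node 4737 (.leaf 0x0) (.node 4738 (.leaf 0x0) (.leaf 0x0))) (.node 4740 (.leaf 0x0) (.node 4741 (.leaf 0x0) (.leaf 0x0))))))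

def sgOS_433 : Store := (.node 4753 (.node 4747 (.node 4744 (.node 4743 (.leaf 0x0) (.leaf 0x0)) (.node 4745 (.leaf 0x0) (.node 4746 (.leaf 0x0) (.leaf 0x0)))) (.node 4750 (.node 4748 (.leaf 0x0) (.node 4749 (.leaf 0x0) (.leaf 0x0))) (.node 4751 (.leaf 0x0) (.node 4752 (.leaf 0x0) (.leaf 0x0))))) (.node 4758 (.node 4755 (.node 4754 (.leaf 0x0) (.leaf 0x0)) (.node 4756 (.leaf 0x0) (.node 4757 (.leaf 0x100000102010006) (.leaf 0x0)))) (.node 4761 (.node 4759 (.leaf 0x0) (.node 4760 (.leaf 0x0) (.leaf 0x3030002))) (.node 4762 (.leaf 0x0) (.node 4763 (.leaf 0x1010100030006) (.leaf 0x0))))))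

def sgOS_434 : Store := (.node 4742 sgOS_432 sgOS_433)

def sgOS_435 : Store := (.node 4720 sgOS_431 sgOS_434)

def sgOS_436 : Store := (.node 4774 (.node 4769 (.node 4766 (.node 4765 (.leaf 0x0) (.leaf 0x0)) (.node 4767 (.leaf 0x0) (.node 4768 (.leaf 0x10100000006) (.leaf 0x0)))) (.node 4771 (.node 4770 (.leaf 0x0) (.leaf 0x0)) (.node 4772 (.leaf 0x0) (.node 4773 (.leaf 0x0) (.leaf 0x0))))) (.node 4779 (.node 4776 (.node 4775 (.leaf 0x0) (.leaf 0x0)) (.node 4777 (.leaf 0x0) (.node 4778 (.leaf 0x0) (.leaf 0x0)))) (.node 4782 (.node 4780 (.leaf 0x0) (.node 4781 (.leaf 0x0) (.leaf 0x0))) (.node 4783 (.leaf 0x0) (.node 4784 (.leaf 0x0) (.leaf 0x1010002))))))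

def sgOS_437 : Store := (.node 4796 (.node 4790 (.node 4787 (.node 4786 (.leaf 0x0) (.leaf 0x0)) (.node 4788 (.leaf 0x0) (.node 4789 (.leaf 0x0) (.leaf 0x0)))) (.node 4793 (.node 4791 (.leaf 0x100010000000006) (.node 4792 (.leaf 0x1010101000006) (.leaf 0x0))) (.node 4794 (.leaf 0x0) (.node 4795 (.leaf 0x0) (.leaf 0x101000000000006))))) (.node 4801 (.node 4798 (.node 4797 (.leaf 0x0) (.leaf 0x0)) (.node 4799 (.leaf 0x0) (.node 4800 (.leaf 0x0) (.leaf 0x0)))) (.node 4804 (.node 4802 (.leaf 0x0) (.node 4803 (.leaf 0x0) (.leaf 0x0))) (.node 4805 (.leaf 0x1010100030006) (.node 4806 (.leaf 0x0) (.leaf 0x0))))))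

def sgOS_438 : Store := (.node 4785 sgOS_436 sgOS_437)

def sgOS_439 : Store := (.node 4818 (.node 4812 (.node 4809 (.node 4808 (.leaf 0x0) (.leaf 0x0)) (.node 4810 (.leaf 0x0) (.node 4811 (.leaf 0x0) (.leaf 0x300030001020006)))) (.node 4815 (.node 4813 (.leaf 0x0) (.node 4814 (.leaf 0x0) (.leaf 0x0))) (.node 4816 (.leaf 0x0) (.node 4817 (.leaf 0x0) (.leaf 0x3030203030005))))) (.node 4823 (.node 4820 (.node 4819 (.leaf 0x0) (.leaf 0x3030203030005)) (.node 4821 (.leaf 0x0) (.node 4822 (.leaf 0x0) (.leaf 0x0)))) (.node 4826 (.node 4824 (.leaf 0x0) (.node 4825 (.leaf 0x1000101010005) (.leaf 0x0))) (.node 4827 (.leaf 0x1000101010005) (.node 4828 (.leaf 0x0) (.leaf 0x0))))))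

def sgOS_440 : Store := (.node 4840 (.node 4834 (.node 4831 (.node 4830 (.leaf 0x0) (.leaf 0x0)) (.node 4832 (.leaf 0x0) (.node 4833 (.leaf 0x0) (.leaf 0x0)))) (.node 4837 (.node 4835 (.leaf 0x0) (.node 4836 (.leaf 0x0) (.leaf 0x0))) (.node 4838 (.leaf 0x100010000000006) (.node 4839 (.leaf 0x0) (.leaf 0x0))))) (.node 4845 (.node 4842 (.node 4841 (.leaf 0x0) (.leaf 0x0)) (.node 4843 (.leaf 0x0) (.node 4844 (.leaf 0x0) (.leaf 0x300030202030006)))) (.node 4848 (.node 4846 (.leaf 0x0) (.node 4847 (.leaf 0x0) (.leaf 0x303020004))) (.node 4849 (.leaf 0x0) (.node 4850 (.leaf 0x0) (.leaf 0x0))))))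

def sgOS_441 : Store := (.node 4829 sgOS_439 sgOS_440)

def sgOS_442 : Store := (.node 4807 sgOS_438 sgOS_441)

def sgOS_443 : Store := (.node 4764 sgOS_435 sgOS_442)

def sgOS_444 : Store := (.node 4677 sgOS_428 sgOS_443)

def sgOS_445 : Store := (.node 4504 sgOS_413 sgOS_444)

def sgOS_446 : Store := (.node 4861 (.node 4856 (.node 4853 (.node 4852 (.leaf 0x20303030201000007) (.leaf 0x0)) (.node 4854 (.leaf 0x102030003) (.node 4855 (.leaf 0x0) (.leaf 0x0)))) (.node 4858 (.node 4857 (.leaf 0x0) (.leaf 0x0)) (.node 4859 (.leaf 0x0) (.node 4860 (.leaf 0x10100000004) (.leaf 0x201020303000006))))) (.node 4866 (.node 4863 (.node 4862 (.leaf 0x20203030004) (.leaf 0x0)) (.node 4864 (.leaf 0x0) (.node 4865 (.leaf 0x0) (.leaf 0x0)))) (.node 4869 (.node 4867 (.leaf 0x0) (.node 4868 (.leaf 0x0) (.leaf 0x10000000006))) (.node 4870 (.leaf 0x0) (.node 4871 (.leaf 0x0) (.leaf 0x0))))))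

def sgOS_447 : Store := (.node 4883 (.node 4877 (.node 4874 (.node 4873 (.leaf 0x0) (.leaf 0x0)) (.node 4875 (.leaf 0x0) (.node 4876 (.leaf 0x0) (.leaf 0x0)))) (.node 4880 (.node 4878 (.leaf 0x0) (.node 4879 (.leaf 0x0) (.leaf 0x0))) (.node 4881 (.leaf 0x0) (.node 4882 (.leaf 0x0) (.leaf 0x0))))) (.node 4888 (.node 4885 (.node 4884 (.leaf 0x0) (.leaf 0x0)) (.node 4886 (.leaf 0x0) (.node 4887 (.leaf 0x0) (.leaf 0x30003030300000007)))) (.node 4891 (.node 4889 (.leaf 0x0) (.node 4890 (.leaf 0x30003030300000007) (.leaf 0x0))) (.node 4892 (.leaf 0x0) (.node 4893 (.leaf 0x0) (.leaf 0x300010101000006))))))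

def sgOS_448 : Store := (.node 4872 sgOS_446 sgOS_447)

def sgOS_449 : Store := (.node 4904 (.node 4899 (.node 4896 (.node 4895 (.leaf 0x101020004) (.leaf 0x0)) (.node 4897 (.leaf 0x100000102010006) (.node 4898 (.leaf 0x0) (.leaf 0x0)))) (.node 4901 (.node 4900 (.leaf 0x0) (.leaf 0x0)) (.node 4902 (.leaf 0x101020004) (.node 4903 (.leaf 0x302010203030006) (.leaf 0x0))))) (.node 4909 (.node 4906 (.node 4905 (.leaf 0x0) (.leaf 0x0)) (.node 4907 (.leaf 0x0) (.node 4908 (.leaf 0x0) (.leaf 0x2020002)))) (.node 4912 (.node 4910 (.leaf 0x0) (.node 4911 (.leaf 0x101010202010006) (.leaf 0x0))) (.node 4913 (.leaf 0x0) (.node 4914 (.leaf 0x0) (.leaf 0x2030003000005))))))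

def sgOS_450 : Store := (.node 4926 (.node 4920 (.node 4917 (.node 4916 (.leaf 0x2020201020005) (.leaf 0x0)) (.node 4918 (.leaf 0x2020201020005) (.node 4919 (.leaf 0x0) (.leaf 0x0)))) (.node 4923 (.node 4921 (.leaf 0x0) (.node 4922 (.leaf 0x0) (.leaf 0x0))) (.node 4924 (.leaf 0x0) (.node 4925 (.leaf 0x0) (.leaf 0x0))))) (.node 4931 (.node 4928 (.node 4927 (.leaf 0x0) (.leaf 0x0)) (.node 4929 (.leaf 0x10001) (.node 4930 (.leaf 0x0) (.leaf 0x30001)))) (.node 4934 (.node 4932 (.leaf 0x1) (.node 4933 (.leaf 0x0) (.leaf 0x0))) (.node 4935 (.leaf 0x0) (.node 4936 (.leaf 0x30201000303000008) (.leaf 0x20001))))))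

def sgOS_451 : Store := (.node 4915 sgOS_449 sgOS_450)

def sgOS_452 : Store := (.node 4894 sgOS_448 sgOS_451)

def sgOS_453 : Store := (.node 4947 (.node 4942 (.node 4939 (.node 4938 (.leaf 0x3030001010001020008) (.leaf 0x0)) (.node 4940 (.leaf 0x0) (.node 4941 (.leaf 0x0) (.leaf 0x0)))) (.node 4944 (.node 4943 (.leaf 0x0) (.leaf 0x102020003)) (.node 4945 (.leaf 0x0) (.node 4946 (.leaf 0x0) (.leaf 0x0))))) (.node 4952 (.node 4949 (.node 4948 (.leaf 0x0) (.leaf 0x0)) (.node 4950 (.leaf 0x300010003) (.node 4951 (.leaf 0x0) (.leaf 0x1010003)))) (.node 4955 (.node 4953 (.leaf 0x0) (.node 4954 (.leaf 0x0) (.leaf 0x0))) (.node 4956 (.leaf 0x0) (.node 4957 (.leaf 0x2020002) (.leaf 0x0))))))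

def sgOS_454 : Store := (.node 4969 (.node 4963 (.node 4960 (.node 4959 (.leaf 0x2) (.leaf 0x2)) (.node 4961 (.leaf 0x0) (.node 4962 (.leaf 0x0) (.leaf 0x0)))) (.node 4966 (.node 4964 (.leaf 0x0) (.node 4965 (.leaf 0x0) (.leaf 0x0))) (.node 4967 (.leaf 0x303000004) (.node 4968 (.leaf 0x0) (.leaf 0x0))))) (.node 4974 (.node 4971 (.node 4970 (.leaf 0x0) (.leaf 0x0)) (.node 4972 (.leaf 0x0) (.node 4973 (.leaf 0x0) (.leaf 0x30000010004)))) (.node 4977 (.node 4975 (.leaf 0x0) (.node 4976 (.leaf 0x0) (.leaf 0x0))) (.node 4978 (.leaf 0x0) (.node 4979 (.leaf 0x0) (.leaf 0x1010004))))))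

def sgOS_455 : Store := (.node 4958 sgOS_453 sgOS_454)

def sgOS_456 : Store := (.node 4991 (.node 4985 (.node 4982 (.node 4981 (.leaf 0x0) (.leaf 0x0)) (.node 4983 (.leaf 0x0) (.node 4984 (.leaf 0x0) (.leaf 0x0)))) (.node 4988 (.node 4986 (.leaf 0x201020003) (.node 4987 (.leaf 0x0) (.leaf 0x303000003))) (.node 4989 (.leaf 0x0) (.node 4990 (.leaf 0x0) (.leaf 0x0))))) (.node 4996 (.node 4993 (.node 4992 (.leaf 0x30000010004) (.leaf 0x303000004)) (.node 4994 (.leaf 0x3000004) (.node 4995 (.leaf 0x0) (.leaf 0x0)))) (.node 4999 (.node 4997 (.leaf 0x0) (.node 4998 (.leaf 0x0) (.leaf 0x0))) (.node 5000 (.leaf 0x0) (.node 5001 (.leaf 0x0) (.leaf 0x0))))))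

def sgOS_457 : Store := (.node 5013 (.node 5007 (.node 5004 (.node 5003 (.leaf 0x0) (.leaf 0x0)) (.node 5005 (.leaf 0x0) (.node 5006 (.leaf 0x20101000004) (.leaf 0x0)))) (.node 5010 (.node 5008 (.leaf 0x10003000004) (.node 5009 (.leaf 0x3000002) (.leaf 0x0))) (.node 5011 (.leaf 0x0) (.node 5012 (.leaf 0x0) (.leaf 0x0))))) (.node 5018 (.node 5015 (.node 5014 (.leaf 0x0) (.leaf 0x0)) (.node 5016 (.leaf 0x0) (.node 5017 (.leaf 0x0) (.leaf 0x0)))) (.node 5021 (.node 5019 (.leaf 0x0) (.node 5020 (.leaf 0x0) (.leaf 0x0))) (.node 5022 (.leaf 0x10100000004) (.node 5023 (.leaf 0x0) (.leaf 0x0))))))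

def sgOS_458 : Store := (.node 5002 sgOS_456 sgOS_457)

def sgOS_459 : Store := (.node 4980 sgOS_455 sgOS_458)

def sgOS_460 : Store := (.node 4937 sgOS_452 sgOS_459)

def sgOS_461 : Store := (.node 5034 (.node 5029 (.node 5026 (.node 5025 (.leaf 0x0) (.leaf 0x0)) (.node 5027 (.leaf 0x0) (.node 5028 (.leaf 0x0) (.leaf 0x0)))) (.node 5031 (.node 5030 (.leaf 0x0) (.leaf 0x0)) (.node 5032 (.leaf 0x0) (.node 5033 (.leaf 0x0) (.leaf 0x1000002))))) (.node 5039 (.node 5036 (.node 5035 (.leaf 0x101000003) (.leaf 0x0)) (.node 5037 (.leaf 0x1) (.node 5038 (.leaf 0x0) (.leaf 0x0)))) (.node 5042 (.node 5040 (.leaf 0x0) (.node 5041 (.leaf 0x20102030001000007) (.leaf 0x0))) (.node 5043 (.leaf 0x20302010003000007) (.node 5044 (.leaf 0x0) (.leaf 0x0))))))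

def sgOS_462 : Store := (.node 5056 (.node 5050 (.node 5047 (.node 5046 (.leaf 0x0) (.leaf 0x0)) (.node 5048 (.leaf 0x2010002) (.node 5049 (.leaf 0x30003) (.leaf 0x0)))) (.node 5053 (.node 5051 (.leaf 0x20100030004) (.node 5052 (.leaf 0x0) (.leaf 0x0))) (.node 5054 (.leaf 0x0) (.node 5055 (.leaf 0x20201020004) (.leaf 0x101000005))))) (.node 5061 (.node 5058 (.node 5057 (.leaf 0x2010002) (.leaf 0x0)) (.node 5059 (.leaf 0x0) (.node 5060 (.leaf 0x0) (.leaf 0x0)))) (.node 5064 (.node 5062 (.leaf 0x100000003) (.node 5063 (.leaf 0x0) (.leaf 0x0))) (.node 5065 (.leaf 0x0) (.node 5066 (.leaf 0x0) (.leaf 0x0))))))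

def sgOS_463 : Store := (.node 5045 sgOS_461 sgOS_462)

def sgOS_464 : Store := (.node 5077 (.node 5072 (.node 5069 (.node 5068 (.leaf 0x0) (.leaf 0x20300010004)) (.node 5070 (.leaf 0x0) (.node 5071 (.leaf 0x30201000004) (.leaf 0x0)))) (.node 5074 (.node 5073 (.leaf 0x0) (.leaf 0x0)) (.node 5075 (.leaf 0x0) (.node 5076 (.leaf 0x0) (.leaf 0x0))))) (.node 5082 (.node 5079 (.node 5078 (.leaf 0x0) (.leaf 0x0)) (.node 5080 (.leaf 0x0) (.node 5081 (.leaf 0x0) (.leaf 0x0)))) (.node 5085 (.node 5083 (.leaf 0x0) (.node 5084 (.leaf 0x1020300030006) (.leaf 0x201020300030006))) (.node 5086 (.leaf 0x20001) (.node 5087 (.leaf 0x0) (.leaf 0x0))))))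

def sgOS_465 : Store := (.node 5099 (.node 5093 (.node 5090 (.node 5089 (.leaf 0x0) (.leaf 0x30300000004)) (.node 5091 (.leaf 0x0) (.node 5092 (.leaf 0x201000003) (.leaf 0x0)))) (.node 5096 (.node 5094 (.leaf 0x0) (.node 5095 (.leaf 0x0) (.leaf 0x0))) (.node 5097 (.leaf 0x0) (.node 5098 (.leaf 0x0) (.leaf 0x0))))) (.node 5104 (.node 5101 (.node 5100 (.leaf 0x0) (.leaf 0x0)) (.node 5102 (.leaf 0x0) (.node 5103 (.leaf 0x0) (.leaf 0x0)))) (.node 5107 (.node 5105 (.leaf 0x20302010001000007) (.node 5106 (.leaf 0x0) (.leaf 0x10003000102030007))) (.node 5108 (.leaf 0x0) (.node 5109 (.leaf 0x0) (.leaf 0x0))))))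

def sgOS_466 : Store := (.node 5088 sgOS_464 sgOS_465)

def sgOS_467 : Store := (.node 5067 sgOS_463 sgOS_466)

def sgOS_468 : Store := (.node 5120 (.node 5115 (.node 5112 (.node 5111 (.leaf 0x0) (.leaf 0x10003000004)) (.node 5113 (.leaf 0x2010002) (.node 5114 (.leaf 0x10003000004) (.leaf 0x0)))) (.node 5117 (.node 5116 (.leaf 0x0) (.leaf 0x0)) (.node 5118 (.leaf 0x0) (.node 5119 (.leaf 0x3000004) (.leaf 0x0))))) (.node 5125 (.node 5122 (.node 5121 (.leaf 0x0) (.leaf 0x0)) (.node 5123 (.leaf 0x0) (.node 5124 (.leaf 0x0) (.leaf 0x1020004)))) (.node 5128 (.node 5126 (.leaf 0x3000002) (.node 5127 (.leaf 0x30001) (.leaf 0x0))) (.node 5129 (.leaf 0x0) (.node 5130 (.leaf 0x0) (.leaf 0x0))))))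

def sgOS_469 : Store := (.node 5142 (.node 5136 (.node 5133 (.node 5132 (.leaf 0x0) (.leaf 0x1)) (.node 5134 (.leaf 0x0) (.node 5135 (.leaf 0x0) (.leaf 0x0)))) (.node 5139 (.node 5137 (.leaf 0x0) (.node 5138 (.leaf 0x0) (.leaf 0x0))) (.node 5140 (.leaf 0x2000003) (.node 5141 (.leaf 0x20001) (.leaf 0x20002))))) (.node 5147 (.node 5144 (.node 5143 (.leaf 0x0) (.leaf 0x0)) (.node 5145 (.leaf 0x0) (.node 5146 (.leaf 0x0) (.leaf 0x10001010004)))) (.node 5150 (.node 5148 (.leaf 0x20002) (.node 5149 (.leaf 0x20001) (.leaf 0x0))) (.node 5151 (.leaf 0x0) (.node 5152 (.leaf 0x0) (.leaf 0x1000002))))))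

def sgOS_470 : Store := (.node 5131 sgOS_468 sgOS_469)

def sgOS_471 : Store := (.node 5164 (.node 5158 (.node 5155 (.node 5154 (.leaf 0x100010003) (.leaf 0x1)) (.node 5156 (.leaf 0x0) (.node 5157 (.leaf 0x0) (.leaf 0x0)))) (.node 5161 (.node 5159 (.leaf 0x0) (.node 5160 (.leaf 0x200010003) (.leaf 0x100020003))) (.node 5162 (.leaf 0x0) (.node 5163 (.leaf 0x0) (.leaf 0x0))))) (.node 5169 (.node 5166 (.node 5165 (.leaf 0x0) (.leaf 0x0)) (.node 5167 (.leaf 0x0) (.node 5168 (.leaf 0x1010002) (.leaf 0x0)))) (.node 5172 (.node 5170 (.leaf 0x0) (.node 5171 (.leaf 0x0) (.leaf 0x0))) (.node 5173 (.leaf 0x0) (.node 5174 (.leaf 0x3000302030001000008) (.leaf 0x10003020302010007))))))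

def sgOS_472 : Store := (.node 5186 (.node 5180 (.node 5177 (.node 5176 (.leaf 0x2030201000102010008) (.leaf 0x0)) (.node 5178 (.leaf 0x0) (.node 5179 (.leaf 0x0) (.leaf 0x0)))) (.node 5183 (.node 5181 (.leaf 0x3000002) (.node 5182 (.leaf 0x2020002) (.leaf 0x0))) (.node 5184 (.leaf 0x3000002) (.node 5185 (.leaf 0x0) (.leaf 0x0))))) (.node 5191 (.node 5188 (.node 5187 (.leaf 0x0) (.leaf 0x0)) (.node 5189 (.leaf 0x0) (.node 5190 (.leaf 0x0) (.leaf 0x3000004)))) (.node 5194 (.node 5192 (.leaf 0x0) (.node 5193 (.leaf 0x0) (.leaf 0x0))) (.node 5195 (.leaf 0x0) (.node 5196 (.leaf 0x10100000005) (.leaf 0x0))))))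

def sgOS_473 : Store := (.node 5175 sgOS_471 sgOS_472)

def sgOS_474 : Store := (.node 5153 sgOS_470 sgOS_473)

def sgOS_475 : Store := (.node 5110 sgOS_467 sgOS_474)

def sgOS_476 : Store := (.node 5024 sgOS_460 sgOS_475)

def sgOS_477 : Store := (.node 5207 (.node 5202 (.node 5199 (.node 5198 (.leaf 0x201010003) (.leaf 0x0)) (.node 5200 (.leaf 0x0) (.node 5201 (.leaf 0x0) (.leaf 0x0)))) (.node 5204 (.node 5203 (.leaf 0x100010003) (.leaf 0x0)) (.node 5205 (.leaf 0x0) (.node 5206 (.leaf 0x0) (.leaf 0x0))))) (.node 5212 (.node 5209 (.node 5208 (.leaf 0x0) (.leaf 0x0)) (.node 5210 (.leaf 0x0) (.node 5211 (.leaf 0x0) (.leaf 0x20001)))) (.node 5215 (.node 5213 (.leaf 0x0) (.node 5214 (.leaf 0x0) (.leaf 0x0))) (.node 5216 (.leaf 0x2010003020005) (.node 5217 (.leaf 0x0) (.leaf 0x10203000005))))))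

def sgOS_478 : Store := (.node 5229 (.node 5223 (.node 5220 (.node 5219 (.leaf 0x102010003020006) (.leaf 0x0)) (.node 5221 (.leaf 0x0) (.node 5222 (.leaf 0x0) (.leaf 0x0)))) (.node 5226 (.node 5224 (.leaf 0x0) (.node 5225 (.leaf 0x101000003) (.leaf 0x0))) (.node 5227 (.leaf 0x0) (.node 5228 (.leaf 0x0) (.leaf 0x0))))) (.node 5234 (.node 5231 (.node 5230 (.leaf 0x0) (.leaf 0x0)) (.node 5232 (.leaf 0x0) (.node 5233 (.leaf 0x1000003) (.leaf 0x0)))) (.node 5237 (.node 5235 (.leaf 0x0) (.node 5236 (.leaf 0x0) (.leaf 0x0))) (.node 5238 (.leaf 0x1010003) (.node 5239 (.leaf 0x0) (.leaf 0x0))))))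

def sgOS_479 : Store := (.node 5218 sgOS_477 sgOS_478)

def sgOS_480 : Store := (.node 5250 (.node 5245 (.node 5242 (.node 5241 (.leaf 0x0) (.leaf 0x0)) (.node 5243 (.leaf 0x0) (.node 5244 (.leaf 0x0) (.leaf 0x0)))) (.node 5247 (.node 5246 (.leaf 0x0) (.leaf 0x20002)) (.node 5248 (.leaf 0x0) (.node 5249 (.leaf 0x0) (.leaf 0x0))))) (.node 5255 (.node 5252 (.node 5251 (.leaf 0x100010003) (.leaf 0x1000002)) (.node 5253 (.leaf 0x200020003) (.node 5254 (.leaf 0x0) (.leaf 0x0)))) (.node 5258 (.node 5256 (.leaf 0x0) (.node 5257 (.leaf 0x0) (.leaf 0x0))) (.node 5259 (.leaf 0x0) (.node 5260 (.leaf 0x0) (.leaf 0x0))))))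

def sgOS_481 : Store := (.node 5272 (.node 5266 (.node 5263 (.node 5262 (.leaf 0x0) (.leaf 0x0)) (.node 5264 (.leaf 0x0) (.node 5265 (.leaf 0x0) (.leaf 0x0)))) (.node 5269 (.node 5267 (.leaf 0x0) (.node 5268 (.leaf 0x0) (.leaf 0x0))) (.node 5270 (.leaf 0x0) (.node 5271 (.leaf 0x0) (.leaf 0x0))))) (.node 5277 (.node 5274 (.node 5273 (.leaf 0x0) (.leaf 0x0)) (.node 5275 (.leaf 0x0) (.node 5276 (.leaf 0x0) (.leaf 0x0)))) (.node 5280 (.node 5278 (.leaf 0x0) (.node 5279 (.leaf 0x0) (.leaf 0x10000010004))) (.node 5281 (.leaf 0x0) (.node 5282 (.leaf 0x0) (.leaf 0x0))))))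

def sgOS_482 : Store := (.node 5261 sgOS_480 sgOS_481)

def sgOS_483 : Store := (.node 5240 sgOS_479 sgOS_482)

def sgOS_484 : Store := (.node 5293 (.node 5288 (.node 5285 (.node 5284 (.leaf 0x0) (.leaf 0x0)) (.node 5286 (.leaf 0x20100030004) (.node 5287 (.leaf 0x0) (.leaf 0x0)))) (.node 5290 (.node 5289 (.leaf 0x102020003) (.leaf 0x0)) (.node 5291 (.leaf 0x0) (.node 5292 (.leaf 0x0) (.leaf 0x3000002))))) (.node 5298 (.node 5295 (.node 5294 (.leaf 0x0) (.leaf 0x20001)) (.node 5296 (.leaf 0x0) (.node 5297 (.leaf 0x0) (.leaf 0x0)))) (.node 5301 (.node 5299 (.leaf 0x0) (.node 5300 (.leaf 0x201020302030006) (.leaf 0x102010003000006))) (.node 5302 (.leaf 0x3000102030201000008) (.node 5303 (.leaf 0x0) (.leaf 0x0))))))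

def sgOS_485 : Store := (.node 5315 (.node 5309 (.node 5306 (.node 5305 (.leaf 0x0) (.leaf 0x0)) (.node 5307 (.leaf 0x0) (.node 5308 (.leaf 0x101000003) (.leaf 0x0)))) (.node 5312 (.node 5310 (.leaf 0x0) (.node 5311 (.leaf 0x0) (.leaf 0x0))) (.node 5313 (.leaf 0x0) (.node 5314 (.leaf 0x2010002) (.leaf 0x0))))) (.node 5320 (.node 5317 (.node 5316 (.leaf 0x0) (.leaf 0x10000010004)) (.node 5318 (.leaf 0x0) (.node 5319 (.leaf 0x0) (.leaf 0x0)))) (.node 5323 (.node 5321 (.leaf 0x10100000004) (.node 5322 (.leaf 0x0) (.leaf 0x0))) (.node 5324 (.leaf 0x300010004) (.node 5325 (.leaf 0x0) (.leaf 0x0))))))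

def sgOS_486 : Store := (.node 5304 sgOS_484 sgOS_485)

def sgOS_487 : Store := (.node 5337 (.node 5331 (.node 5328 (.node 5327 (.leaf 0x0) (.leaf 0x1010004)) (.node 5329 (.leaf 0x300010004) (.node 5330 (.leaf 0x0) (.leaf 0x101000004)))) (.node 5334 (.node 5332 (.leaf 0x0) (.node 5333 (.leaf 0x0) (.leaf 0x0))) (.node 5335 (.leaf 0x3030002) (.node 5336 (.leaf 0x0) (.leaf 0x1010003))))) (.node 5342 (.node 5339 (.node 5338 (.leaf 0x10102020004) (.leaf 0x0)) (.node 5340 (.leaf 0x0) (.node 5341 (.leaf 0x0) (.leaf 0x0)))) (.node 5345 (.node 5343 (.leaf 0x1010003) (.node 5344 (.leaf 0x0) (.leaf 0x101000003))) (.node 5346 (.leaf 0x0) (.node 5347 (.leaf 0x0) (.leaf 0x0))))))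

def sgOS_488 : Store := (.node 5359 (.node 5353 (.node 5350 (.node 5349 (.leaf 0x200020003) (.leaf 0x0)) (.node 5351 (.leaf 0x0) (.node 5352 (.leaf 0x1000002) (.leaf 0x0)))) (.node 5356 (.node 5354 (.leaf 0x0) (.node 5355 (.leaf 0x0) (.leaf 0x0))) (.node 5357 (.leaf 0x0) (.node 5358 (.leaf 0x1000003) (.leaf 0x0))))) (.node 5364 (.node 5361 (.node 5360 (.leaf 0x0) (.leaf 0x0)) (.node 5362 (.leaf 0x0) (.node 5363 (.leaf 0x0) (.leaf 0x0)))) (.node 5367 (.node 5365 (.leaf 0x0) (.node 5366 (.leaf 0x0) (.leaf 0x0))) (.node 5368 (.leaf 0x0) (.node 5369 (.leaf 0x0) (.leaf 0x0))))))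

def sgOS_489 : Store := (.node 5348 sgOS_487 sgOS_488)

def sgOS_490 : Store := (.node 5326 sgOS_486 sgOS_489)

def sgOS_491 : Store := (.node 5283 sgOS_483 sgOS_490)

def sgOS_492 : Store := (.node 5380 (.node 5375 (.node 5372 (.node 5371 (.leaf 0x0) (.leaf 0x20001)) (.node 5373 (.leaf 0x101000003) (.node 5374 (.leaf 0x0) (.leaf 0x0)))) (.node 5377 (.node 5376 (.leaf 0x0) (.leaf 0x102010003000006)) (.node 5378 (.leaf 0x10001000300010007) (.node 5379 (.leaf 0x0) (.leaf 0x10203020300030007))))) (.node 5385 (.node 5382 (.node 5381 (.leaf 0x0) (.leaf 0x0)) (.node 5383 (.leaf 0x0) (.node 5384 (.leaf 0x1000002) (.leaf 0x10002)))) (.node 5388 (.node 5386 (.leaf 0x20002) (.node 5387 (.leaf 0x0) (.leaf 0x0))) (.node 5389 (.leaf 0x0) (.node 5390 (.leaf 0x0) (.leaf 0x0))))))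

def sgOS_493 : Store := (.node 5402 (.node 5396 (.node 5393 (.node 5392 (.leaf 0x20002000004) (.leaf 0x2000002)) (.node 5394 (.leaf 0x1000003) (.node 5395 (.leaf 0x0) (.leaf 0x0)))) (.node 5399 (.node 5397 (.leaf 0x0) (.node 5398 (.leaf 0x0) (.leaf 0x10100000004))) (.node 5400 (.leaf 0x0) (.node 5401 (.leaf 0x3000003) (.leaf 0x0))))) (.node 5407 (.node 5404 (.node 5403 (.leaf 0x0) (.leaf 0x0)) (.node 5405 (.leaf 0x0) (.node 5406 (.leaf 0x0) (.leaf 0x0)))) (.node 5410 (.node 5408 (.leaf 0x0) (.node 5409 (.leaf 0x0) (.leaf 0x0))) (.node 5411 (.leaf 0x0) (.node 5412 (.leaf 0x0) (.leaf 0x20002))))))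

def sgOS_494 : Store := (.node 5391 sgOS_492 sgOS_493)

def sgOS_495 : Store := (.node 5424 (.node 5418 (.node 5415 (.node 5414 (.leaf 0x0) (.leaf 0x0)) (.node 5416 (.leaf 0x0) (.node 5417 (.leaf 0x0) (.leaf 0x0)))) (.node 5421 (.node 5419 (.leaf 0x0) (.node 5420 (.leaf 0x0) (.leaf 0x1))) (.node 5422 (.leaf 0x0) (.node 5423 (.leaf 0x0) (.leaf 0x0))))) (.node 5429 (.node 5426 (.node 5425 (.leaf 0x0) (.leaf 0x10002)) (.node 5427 (.leaf 0x10001) (.node 5428 (.leaf 0x1010003) (.leaf 0x0)))) (.node 5432 (.node 5430 (.leaf 0x0) (.node 5431 (.leaf 0x0) (.leaf 0x0))) (.node 5433 (.leaf 0x0) (.node 5434 (.leaf 0x0) (.leaf 0x0))))))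

def sgOS_496 : Store := (.node 5446 (.node 5440 (.node 5437 (.node 5436 (.leaf 0x10001010004) (.leaf 0x0)) (.node 5438 (.leaf 0x0) (.node 5439 (.leaf 0x0) (.leaf 0x2000003)))) (.node 5443 (.node 5441 (.leaf 0x20002000004) (.node 5442 (.leaf 0x1000003) (.leaf 0x0))) (.node 5444 (.leaf 0x0) (.node 5445 (.leaf 0x0) (.leaf 0x0))))) (.node 5451 (.node 5448 (.node 5447 (.leaf 0x0) (.leaf 0x1010002)) (.node 5449 (.leaf 0x200020003) (.node 5450 (.leaf 0x10001) (.leaf 0x0)))) (.node 5454 (.node 5452 (.leaf 0x0) (.node 5453 (.leaf 0x0) (.leaf 0x0))) (.node 5455 (.leaf 0x20002) (.node 5456 (.leaf 0x200010003) (.leaf 0x0))))))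

def sgOS_497 : Store := (.node 5435 sgOS_495 sgOS_496)

def sgOS_498 : Store := (.node 5413 sgOS_494 sgOS_497)

def sgOS_499 : Store := (.node 5467 (.node 5462 (.node 5459 (.node 5458 (.leaf 0x0) (.leaf 0x0)) (.node 5460 (.leaf 0x0) (.node 5461 (.leaf 0x1020004) (.leaf 0x2010002)))) (.node 5464 (.node 5463 (.leaf 0x300000004) (.leaf 0x0)) (.node 5465 (.leaf 0x0) (.node 5466 (.leaf 0x0) (.leaf 0x0))))) (.node 5472 (.node 5469 (.node 5468 (.leaf 0x10003) (.leaf 0x2)) (.node 5470 (.leaf 0x0) (.node 5471 (.leaf 0x0) (.leaf 0x0)))) (.node 5475 (.node 5473 (.leaf 0x0) (.node 5474 (.leaf 0x0) (.leaf 0x0))) (.node 5476 (.leaf 0x0) (.node 5477 (.leaf 0x0) (.leaf 0x0))))))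

def sgOS_500 : Store := (.node 5489 (.node 5483 (.node 5480 (.node 5479 (.leaf 0x0) (.leaf 0x0)) (.node 5481 (.leaf 0x0) (.node 5482 (.leaf 0x0) (.leaf 0x2010002)))) (.node 5486 (.node 5484 (.leaf 0x0) (.node 5485 (.leaf 0x30000010004) (.leaf 0x0))) (.node 5487 (.leaf 0x0) (.node 5488 (.leaf 0x0) (.leaf 0x10000010004))))) (.node 5494 (.node 5491 (.node 5490 (.leaf 0x0) (.leaf 0x30300000004)) (.node 5492 (.leaf 0x101020004) (.node 5493 (.leaf 0x0) (.leaf 0x0)))) (.node 5497 (.node 5495 (.leaf 0x0) (.node 5496 (.leaf 0x0) (.leaf 0x0))) (.node 5498 (.leaf 0x0) (.node 5499 (.leaf 0x0) (.leaf 0x0))))))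

def sgOS_501 : Store := (.node 5478 sgOS_499 sgOS_500)

def sgOS_502 : Store := (.node 5511 (.node 5505 (.node 5502 (.node 5501 (.leaf 0x0) (.leaf 0x0)) (.node 5503 (.leaf 0x0) (.node 5504 (.leaf 0x10001) (.leaf 0x100010003)))) (.node 5508 (.node 5506 (.leaf 0x0) (.node 5507 (.leaf 0x0) (.leaf 0x0))) (.node 5509 (.leaf 0x0) (.node 5510 (.leaf 0x100020003) (.leaf 0x0))))) (.node 5516 (.node 5513 (.node 5512 (.leaf 0x1000002) (.leaf 0x0)) (.node 5514 (.leaf 0x0) (.node 5515 (.leaf 0x0) (.leaf 0x0)))) (.node 5519 (.node 5517 (.leaf 0x1000002) (.node 5518 (.leaf 0x0) (.leaf 0x100010003))) (.node 5520 (.leaf 0x0) (.node 5521 (.leaf 0x0) (.leaf 0x0))))))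

def sgOS_503 : Store := (.node 5533 (.node 5527 (.node 5524 (.node 5523 (.leaf 0x0) (.leaf 0x0)) (.node 5525 (.leaf 0x20001) (.node 5526 (.leaf 0x0) (.leaf 0x20002)))) (.node 5530 (.node 5528 (.leaf 0x0) (.node 5529 (.leaf 0x0) (.leaf 0x0))) (.node 5531 (.leaf 0x200010003) (.node 5532 (.leaf 0x0) (.leaf 0x20002))))) (.node 5538 (.node 5535 (.node 5534 (.leaf 0x1000002) (.leaf 0x0)) (.node 5536 (.leaf 0x0) (.node 5537 (.leaf 0x0) (.leaf 0x0)))) (.node 5541 (.node 5539 (.leaf 0x101000003) (.node 5540 (.leaf 0x20002) (.leaf 0x101000003))) (.node 5542 (.leaf 0x0) (.node 5543 (.leaf 0x0) (.leaf 0x0))))))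

def sgOS_504 : Store := (.node 5522 sgOS_502 sgOS_503)

def sgOS_505 : Store := (.node 5500 sgOS_501 sgOS_504)

def sgOS_506 : Store := (.node 5457 sgOS_498 sgOS_505)

def sgOS_507 : Store := (.node 5370 sgOS_491 sgOS_506)

def sgOS_508 : Store := (.node 5197 sgOS_476 sgOS_507)

def sgOS_509 : Store := (.node 4851 sgOS_445 sgOS_508)

def sgOS_510 : Store := (.node 4158 sgOS_382 sgOS_509)

def sgOS_511 : Store := (.node 2772 sgOS_255 sgOS_510)

def sgOS_512 : Store := (.node 5554 (.node 5549 (.node 5546 (.node 5545 (.leaf 0x100020003) (.leaf 0x20002)) (.node 5547 (.leaf 0x1000002) (.node 5548 (.leaf 0x0) (.leaf 0x0)))) (.node 5551 (.node 5550 (.leaf 0x0) (.leaf 0x0)) (.node 5552 (.leaf 0x0) (.node 5553 (.leaf 0x1010003) (.leaf 0x100010003))))) (.node 5559 (.node 5556 (.node 5555 (.leaf 0x2000003) (.leaf 0x0)) (.node 5557 (.leaf 0x0) (.node 5558 (.leaf 0x0) (.leaf 0x0)))) (.node 5562 (.node 5560 (.leaf 0x10100020004) (.node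 5561 (.leaf 0x100010003) (.leaf 0x100020003))) (.node 5563 (.leaf 0x0) (.node 5564 (.leaf 0x0) (.leaf 0x0))))))

def sgOS_513 : Store := (.node 5576 (.node 5570 (.node 5567 (.node 5566 (.leaf 0x0) (.leaf 0x0)) (.node 5568 (.leaf 0x0) (.node 5569 (.leaf 0x0) (.leaf 0x0)))) (.node 5573 (.node 5571 (.leaf 0x0) (.node 5572 (.leaf 0x0) (.leaf 0x20002))) (.node 5574 (.leaf 0x0) (.node 5575 (.leaf 0x0) (.leaf 0x0))))) (.node 5581 (.node 5578 (.node 5577 (.leaf 0x0) (.leaf 0x0)) (.node 5579 (.leaf 0x0) (.node 5580 (.leaf 0x200020003) (.leaf 0x0)))) (.node 5584 (.node 5582 (.leaf 0x0) (.node 5583 (.leaf 0x0) (.leaf 0x0))) (.node 5585 (.leaf 0x0) (.node 5586 (.leaf 0x0) (.leaf 0x1010003))))))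

def sgOS_514 : Store := (.node 5565 sgOS_512 sgOS_513)

def sgOS_515 : Store := (.node 5597 (.node 5592 (.node 5589 (.node 5588 (.leaf 0x0) (.leaf 0x101000003)) (.node 5590 (.leaf 0x0) (.node 5591 (.leaf 0x0) (.leaf 0x0)))) (.node 5594 (.node 5593 (.leaf 0x0) (.leaf 0x0)) (.node 5595 (.leaf 0x0) (.node 5596 (.leaf 0x0) (.leaf 0x0))))) (.node 5602 (.node 5599 (.node 5598 (.leaf 0x0) (.leaf 0x0)) (.node 5600 (.leaf 0x0) (.node 5601 (.leaf 0x0) (.leaf 0x0)))) (.node 5605 (.node 5603 (.leaf 0x0) (.node 5604 (.leaf 0x0) (.leaf 0x0))) (.node 5606 (.leaf 0x0) (.node 5607 (.leaf 0x0) (.leaf 0x0))))))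

def sgOS_516 : Store := (.node 5619 (.node 5613 (.node 5610 (.node 5609 (.leaf 0x200020003) (.leaf 0x10100020004)) (.node 5611 (.leaf 0x1000003) (.node 5612 (.leaf 0x0) (.leaf 0x0)))) (.node 5616 (.node 5614 (.leaf 0x0) (.node 5615 (.leaf 0x10100000004) (.leaf 0x10001))) (.node 5617 (.leaf 0x0) (.node 5618 (.leaf 0x10202010004) (.leaf 0x0))))) (.node 5624 (.node 5621 (.node 5620 (.leaf 0x0) (.leaf 0x0)) (.node 5622 (.leaf 0x202010003) (.node 5623 (.leaf 0x303000003) (.leaf 0x0)))) (.node 5627 (.node 5625 (.leaf 0x0) (.node 5626 (.leaf 0x0) (.leaf 0x0))) (.node 5628 (.leaf 0x0) (.node 5629 (.leaf 0x0) (.leaf 0x0))))))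

def sgOS_517 : Store := (.node 5608 sgOS_515 sgOS_516)

def sgOS_518 : Store := (.node 5587 sgOS_514 sgOS_517)

def sgOS_519 : Store := (.node 5640 (.node 5635 (.node 5632 (.node 5631 (.leaf 0x0) (.leaf 0x0)) (.node 5633 (.leaf 0x0) (.node 5634 (.leaf 0x0) (.leaf 0x0)))) (.node 5637 (.node 5636 (.leaf 0x20100000004) (.leaf 0x10000010004)) (.node 5638 (.leaf 0x1020003) (.node 5639 (.leaf 0x0) (.leaf 0x0))))) (.node 5645 (.node 5642 (.node 5641 (.leaf 0x0) (.leaf 0x0)) (.node 5643 (.leaf 0x0) (.node 5644 (.leaf 0x101000004) (.leaf 0x20100030004)))) (.node 5648 (.node 5646 (.leaf 0x20100030004) (.node 5647 (.leaf 0x0) (.leaf 0x0))) (.node 5649 (.leaf 0x0) (.node 5650 (.leaf 0x10001) (.leaf 0x20100030004))))))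

def sgOS_520 : Store := (.node 5662 (.node 5656 (.node 5653 (.node 5652 (.leaf 0x3000003) (.leaf 0x0)) (.node 5654 (.leaf 0x0) (.node 5655 (.leaf 0x0) (.leaf 0x0)))) (.node 5659 (.node 5657 (.leaf 0x0) (.node 5658 (.leaf 0x2000002) (.leaf 0x100010003))) (.node 5660 (.leaf 0x20002000004) (.node 5661 (.leaf 0x0) (.leaf 0x0))))) (.node 5667 (.node 5664 (.node 5663 (.leaf 0x0) (.leaf 0x1010003)) (.node 5665 (.leaf 0x10100020004) (.node 5666 (.leaf 0x0) (.leaf 0x100010003)))) (.node 5670 (.node 5668 (.leaf 0x0) (.node 5669 (.leaf 0x0) (.leaf 0x0))) (.node 5671 (.leaf 0x0) (.node 5672 (.leaf 0x0) (.leaf 0x100020003))))))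

def sgOS_521 : Store := (.node 5651 sgOS_519 sgOS_520)

def sgOS_522 : Store := (.node 5684 (.node 5678 (.node 5675 (.node 5674 (.leaf 0x0) (.leaf 0x0)) (.node 5676 (.leaf 0x0) (.node 5677 (.leaf 0x0) (.leaf 0x0)))) (.node 5681 (.node 5679 (.leaf 0x0) (.node 5680 (.leaf 0x0) (.leaf 0x10100020004))) (.node 5682 (.leaf 0x0) (.node 5683 (.leaf 0x0) (.leaf 0x0))))) (.node 5689 (.node 5686 (.node 5685 (.leaf 0x20001) (.leaf 0x0)) (.node 5687 (.leaf 0x0) (.node 5688 (.leaf 0x200020003) (.leaf 0x0)))) (.node 5692 (.node 5690 (.leaf 0x0) (.node 5691 (.leaf 0x0) (.leaf 0x0))) (.node 5693 (.leaf 0x2000003) (.node 5694 (.leaf 0x20001) (.leaf 0x200020003))))))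

def sgOS_523 : Store := (.node 5706 (.node 5700 (.node 5697 (.node 5696 (.leaf 0x0) (.leaf 0x0)) (.node 5698 (.leaf 0x0) (.node 5699 (.leaf 0x100000003) (.leaf 0x0)))) (.node 5703 (.node 5701 (.leaf 0x30003) (.node 5702 (.leaf 0x2020002) (.leaf 0x0))) (.node 5704 (.leaf 0x0) (.node 5705 (.leaf 0x0) (.leaf 0x102020003))))) (.node 5711 (.node 5708 (.node 5707 (.leaf 0x201010003) (.leaf 0x1020004)) (.node 5709 (.leaf 0x0) (.node 5710 (.leaf 0x0) (.leaf 0x0)))) (.node 5714 (.node 5712 (.leaf 0x0) (.node 5713 (.leaf 0x30001020004) (.leaf 0x0))) (.node 5715 (.leaf 0x0) (.node 5716 (.leaf 0x20100030004) (.leaf 0x0))))))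

def sgOS_524 : Store := (.node 5695 sgOS_522 sgOS_523)

def sgOS_525 : Store := (.node 5673 sgOS_521 sgOS_524)

def sgOS_526 : Store := (.node 5630 sgOS_518 sgOS_525)

def sgOS_527 : Store := (.node 5727 (.node 5722 (.node 5719 (.node 5718 (.leaf 0x0) (.leaf 0x0)) (.node 5720 (.leaf 0x0) (.node 5721 (.leaf 0x0) (.leaf 0x0)))) (.node 5724 (.node 5723 (.leaf 0x20100030004) (.leaf 0x0)) (.node 5725 (.leaf 0x0) (.node 5726 (.leaf 0x0) (.leaf 0x0))))) (.node 5732 (.node 5729 (.node 5728 (.leaf 0x30000010004) (.leaf 0x0)) (.node 5730 (.leaf 0x101000004) (.node 5731 (.leaf 0x0) (.leaf 0x0)))) (.node 5735 (.node 5733 (.leaf 0x0) (.node 5734 (.leaf 0x20001) (.leaf 0x0))) (.node 5736 (.leaf 0x0) (.node 5737 (.leaf 0x0) (.leaf 0x0))))))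

def sgOS_528 : Store := (.node 5749 (.node 5743 (.node 5740 (.node 5739 (.leaf 0x0) (.leaf 0x0)) (.node 5741 (.leaf 0x10001) (.node 5742 (.leaf 0x0) (.leaf 0x20002)))) (.node 5746 (.node 5744 (.leaf 0x0) (.node 5745 (.leaf 0x0) (.leaf 0x0))) (.node 5747 (.leaf 0x0) (.node 5748 (.leaf 0x0) (.leaf 0x0))))) (.node 5754 (.node 5751 (.node 5750 (.leaf 0x0) (.leaf 0x0)) (.node 5752 (.leaf 0x0) (.node 5753 (.leaf 0x0) (.leaf 0x0)))) (.node 5757 (.node 5755 (.leaf 0x0) (.node 5756 (.leaf 0x0) (.leaf 0x0))) (.node 5758 (.leaf 0x1010002) (.node 5759 (.leaf 0x0) (.leaf 0x0))))))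

def sgOS_529 : Store := (.node 5738 sgOS_527 sgOS_528)

def sgOS_530 : Store := (.node 5770 (.node 5765 (.node 5762 (.node 5761 (.leaf 0x0) (.leaf 0x0)) (.node 5763 (.leaf 0x0) (.node 5764 (.leaf 0x0) (.leaf 0x10001)))) (.node 5767 (.node 5766 (.leaf 0x0) (.leaf 0x0)) (.node 5768 (.leaf 0x0) (.node 5769 (.leaf 0x0) (.leaf 0x0))))) (.node 5775 (.node 5772 (.node 5771 (.leaf 0x0) (.leaf 0x0)) (.node 5773 (.leaf 0x0) (.node 5774 (.leaf 0x0) (.leaf 0x0)))) (.node 5778 (.node 5776 (.leaf 0x0) (.node 5777 (.leaf 0x0) (.leaf 0x0))) (.node 5779 (.leaf 0x0) (.node 5780 (.leaf 0x0) (.leaf 0x0))))))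

def sgOS_531 : Store := (.node 5792 (.node 5786 (.node 5783 (.node 5782 (.leaf 0x0) (.leaf 0x0)) (.node 5784 (.leaf 0x1010003) (.node 5785 (.leaf 0x0) (.leaf 0x100010003)))) (.node 5789 (.node 5787 (.leaf 0x0) (.node 5788 (.leaf 0x0) (.leaf 0x0))) (.node 5790 (.leaf 0x0) (.node 5791 (.leaf 0x0) (.leaf 0x200020003))))) (.node 5797 (.node 5794 (.node 5793 (.leaf 0x0) (.leaf 0x0)) (.node 5795 (.leaf 0x0) (.node 5796 (.leaf 0x0) (.leaf 0x0)))) (.node 5800 (.node 5798 (.leaf 0x0) (.node 5799 (.leaf 0x0) (.leaf 0x0))) (.node 5801 (.leaf 0x0) (.node 5802 (.leaf 0x0) (.leaf 0x0))))))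

def sgOS_532 : Store := (.node 5781 sgOS_530 sgOS_531)

def sgOS_533 : Store := (.node 5760 sgOS_529 sgOS_532)

def sgOS_534 : Store := (.node 5813 (.node 5808 (.node 5805 (.node 5804 (.leaf 0x0) (.leaf 0x0)) (.node 5806 (.leaf 0x0) (.node 5807 (.leaf 0x0) (.leaf 0x0)))) (.node 5810 (.node 5809 (.leaf 0x0) (.leaf 0x0)) (.node 5811 (.leaf 0x200010003) (.node 5812 (.leaf 0x100010003) (.leaf 0x2000002))))) (.node 5818 (.node 5815 (.node 5814 (.leaf 0x0) (.leaf 0x0)) (.node 5816 (.leaf 0x0) (.node 5817 (.leaf 0x0) (.leaf 0x101000003)))) (.node 5821 (.node 5819 (.leaf 0x0) (.node 5820 (.leaf 0x0) (.leaf 0x0))) (.node 5822 (.leaf 0x0) (.node 5823 (.leaf 0x0) (.leaf 0x0))))))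

def sgOS_535 : Store := (.node 5835 (.node 5829 (.node 5826 (.node 5825 (.leaf 0x0) (.leaf 0x0)) (.node 5827 (.leaf 0x0) (.node 5828 (.leaf 0x0) (.leaf 0x0)))) (.node 5832 (.node 5830 (.leaf 0x0) (.node 5831 (.leaf 0x0) (.leaf 0x0))) (.node 5833 (.leaf 0x20002) (.node 5834 (.leaf 0x0) (.leaf 0x1010003))))) (.node 5840 (.node 5837 (.node 5836 (.leaf 0x0) (.leaf 0x0)) (.node 5838 (.leaf 0x0) (.node 5839 (.leaf 0x30001020004) (.leaf 0x0)))) (.node 5843 (.node 5841 (.leaf 0x30001020004) (.node 5842 (.leaf 0x0) (.leaf 0x0))) (.node 5844 (.leaf 0x0) (.node 5845 (.leaf 0x0) (.leaf 0x0))))))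

def sgOS_536 : Store := (.node 5824 sgOS_534 sgOS_535)

def sgOS_537 : Store := (.node 5857 (.node 5851 (.node 5848 (.node 5847 (.leaf 0x200020003) (.leaf 0x0)) (.node 5849 (.leaf 0x0) (.node 5850 (.leaf 0x0) (.leaf 0x0)))) (.node 5854 (.node 5852 (.leaf 0x0) (.node 5853 (.leaf 0x2000003) (.leaf 0x0))) (.node 5855 (.leaf 0x0) (.node 5856 (.leaf 0x0) (.leaf 0x0))))) (.node 5862 (.node 5859 (.node 5858 (.leaf 0x0) (.leaf 0x0)) (.node 5860 (.leaf 0x0) (.node 5861 (.leaf 0x10001) (.leaf 0x0)))) (.node 5865 (.node 5863 (.leaf 0x0) (.node 5864 (.leaf 0x0) (.leaf 0x0))) (.node 5866 (.leaf 0x0) (.node 5867 (.leaf 0x0) (.leaf 0x0))))))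

def sgOS_538 : Store := (.node 5879 (.node 5873 (.node 5870 (.node 5869 (.leaf 0x0) (.leaf 0x0)) (.node 5871 (.leaf 0x0) (.node 5872 (.leaf 0x0) (.leaf 0x0)))) (.node 5876 (.node 5874 (.leaf 0x0) (.node 5875 (.leaf 0x0) (.leaf 0x101000003))) (.node 5877 (.leaf 0x1000003) (.node 5878 (.leaf 0x0) (.leaf 0x0))))) (.node 5884 (.node 5881 (.node 5880 (.leaf 0x0) (.leaf 0x20001)) (.node 5882 (.leaf 0x2000002) (.node 5883 (.leaf 0x0) (.leaf 0x10002)))) (.node 5887 (.node 5885 (.leaf 0x0) (.node 5886 (.leaf 0x0) (.leaf 0x0))) (.node 5888 (.leaf 0x0) (.node 5889 (.leaf 0x20001) (.leaf 0x1000003))))))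

def sgOS_539 : Store := (.node 5868 sgOS_537 sgOS_538)

def sgOS_540 : Store := (.node 5846 sgOS_536 sgOS_539)

def sgOS_541 : Store := (.node 5803 sgOS_533 sgOS_540)

def sgOS_542 : Store := (.node 5717 sgOS_526 sgOS_541)

def sgOS_543 : Store := (.node 5900 (.node 5895 (.node 5892 (.node 5891 (.leaf 0x0) (.leaf 0x0)) (.node 5893 (.leaf 0x0) (.node 5894 (.leaf 0x0) (.leaf 0x0)))) (.node 5897 (.node 5896 (.leaf 0x100010003) (.leaf 0x0)) (.node 5898 (.leaf 0x0) (.node 5899 (.leaf 0x0) (.leaf 0x0))))) (.node 5905 (.node 5902 (.node 5901 (.leaf 0x0) (.leaf 0x0)) (.node 5903 (.leaf 0x20001) (.node 5904 (.leaf 0x1010002) (.leaf 0x1)))) (.node 5908 (.node 5906 (.leaf 0x0) (.node 5907 (.leaf 0x0) (.leaf 0x0))) (.node 5909 (.leaf 0x0) (.node 5910 (.leaf 0x0) (.leaf 0x0))))))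

def sgOS_544 : Store := (.node 5922 (.node 5916 (.node 5913 (.node 5912 (.leaf 0x0) (.leaf 0x0)) (.node 5914 (.leaf 0x0) (.node 5915 (.leaf 0x0) (.leaf 0x10100020004)))) (.node 5919 (.node 5917 (.leaf 0x2000002) (.node 5918 (.leaf 0x1000003) (.leaf 0x0))) (.node 5920 (.leaf 0x0) (.node 5921 (.leaf 0x0) (.leaf 0x0))))) (.node 5927 (.node 5924 (.node 5923 (.leaf 0x2000003) (.leaf 0x0)) (.node 5925 (.leaf 0x2000002) (.node 5926 (.leaf 0x101000003) (.leaf 0x0)))) (.node 5930 (.node 5928 (.leaf 0x0) (.node 5929 (.leaf 0x0) (.leaf 0x0))) (.node 5931 (.leaf 0x300010003) (.node 5932 (.leaf 0x0) (.leaf 0x0))))))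

def sgOS_545 : Store := (.node 5911 sgOS_543 sgOS_544)

def sgOS_546 : Store := (.node 5943 (.node 5938 (.node 5935 (.node 5934 (.leaf 0x0) (.leaf 0x0)) (.node 5936 (.leaf 0x0) (.node 5937 (.leaf 0x0) (.leaf 0x10102020004)))) (.node 5940 (.node 5939 (.leaf 0x1010004) (.leaf 0x30002)) (.node 5941 (.leaf 0x0) (.node 5942 (.leaf 0x0) (.leaf 0x0))))) (.node 5948 (.node 5945 (.node 5944 (.leaf 0x1010002) (.leaf 0x0)) (.node 5946 (.leaf 0x1000003) (.node 5947 (.leaf 0x20002) (.leaf 0x0)))) (.node 5951 (.node 5949 (.leaf 0x0) (.node 5950 (.leaf 0x0) (.leaf 0x0))) (.node 5952 (.leaf 0x0) (.node 5953 (.leaf 0x0) (.leaf 0x0))))))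

def sgOS_547 : Store := (.node 5965 (.node 5959 (.node 5956 (.node 5955 (.leaf 0x0) (.leaf 0x0)) (.node 5957 (.leaf 0x0) (.node 5958 (.leaf 0x0) (.leaf 0x10100000004)))) (.node 5962 (.node 5960 (.leaf 0x20100030004) (.node 5961 (.leaf 0x10100000004) (.leaf 0x0))) (.node 5963 (.leaf 0x0) (.node 5964 (.leaf 0x0) (.leaf 0x0))))) (.node 5970 (.node 5967 (.node 5966 (.leaf 0x0) (.leaf 0x0)) (.node 5968 (.leaf 0x2020002) (.node 5969 (.leaf 0x0) (.leaf 0x0)))) (.node 5973 (.node 5971 (.leaf 0x0) (.node 5972 (.leaf 0x0) (.leaf 0x0))) (.node 5974 (.leaf 0x30000010004) (.node 5975 (.leaf 0x2010002) (.leaf 0x0))))))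

def sgOS_548 : Store := (.node 5954 sgOS_546 sgOS_547)

def sgOS_549 : Store := (.node 5933 sgOS_545 sgOS_548)

def sgOS_550 : Store := (.node 5986 (.node 5981 (.node 5978 (.node 5977 (.leaf 0x0) (.leaf 0x0)) (.node 5979 (.leaf 0x0) (.node 5980 (.leaf 0x1010003) (.leaf 0x0)))) (.node 5983 (.node 5982 (.leaf 0x100010003) (.leaf 0x0)) (.node 5984 (.leaf 0x0) (.node 5985 (.leaf 0x0) (.leaf 0x1))))) (.node 5991 (.node 5988 (.node 5987 (.leaf 0x0) (.leaf 0x1000003)) (.node 5989 (.leaf 0x0) (.node 5990 (.leaf 0x0) (.leaf 0x0)))) (.node 5994 (.node 5992 (.leaf 0x0) (.node 5993 (.leaf 0x10001) (.leaf 0x200020003))) (.node 5995 (.leaf 0x10001) (.node 5996 (.leaf 0x0) (.leaf 0x0))))))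

def sgOS_551 : Store := (.node 6008 (.node 6002 (.node 5999 (.node 5998 (.leaf 0x0) (.leaf 0x0)) (.node 6000 (.leaf 0x0) (.node 6001 (.leaf 0x10001010004) (.leaf 0x0)))) (.node 6005 (.node 6003 (.leaf 0x0) (.node 6004 (.leaf 0x0) (.leaf 0x0))) (.node 6006 (.leaf 0x0) (.node 6007 (.leaf 0x0) (.leaf 0x0))))) (.node 6013 (.node 6010 (.node 6009 (.leaf 0x0) (.leaf 0x0)) (.node 6011 (.leaf 0x0) (.node 6012 (.leaf 0x0) (.leaf 0x0)))) (.node 6016 (.node 6014 (.leaf 0x0) (.node 6015 (.leaf 0x0) (.leaf 0x0))) (.node 6017 (.leaf 0x10001) (.node 6018 (.leaf 0x0) (.leaf 0x0))))))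

def sgOS_552 : Store := (.node 5997 sgOS_550 sgOS_551)

def sgOS_553 : Store := (.node 6030 (.node 6024 (.node 6021 (.node 6020 (.leaf 0x0) (.leaf 0x10002)) (.node 6022 (.leaf 0x2000003) (.node 6023 (.leaf 0x100010003) (.leaf 0x0)))) (.node 6027 (.node 6025 (.leaf 0x0) (.node 6026 (.leaf 0x0) (.leaf 0x0))) (.node 6028 (.leaf 0x200010003) (.node 6029 (.leaf 0x20001) (.leaf 0x200010003))))) (.node 6035 (.node 6032 (.node 6031 (.leaf 0x0) (.leaf 0x0)) (.node 6033 (.leaf 0x0) (.node 6034 (.leaf 0x0) (.leaf 0x20002000004)))) (.node 6038 (.node 6036 (.leaf 0x10001010004) (.node 6037 (.leaf 0x0) (.leaf 0x20001))) (.node 6039 (.leaf 0x0) (.node 6040 (.leaf 0x0) (.leaf 0x0))))))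

def sgOS_554 : Store := (.node 6052 (.node 6046 (.node 6043 (.node 6042 (.leaf 0x1000002) (.leaf 0x100020003)) (.node 6044 (.leaf 0x10002) (.node 6045 (.leaf 0x0) (.leaf 0x0)))) (.node 6049 (.node 6047 (.leaf 0x0) (.node 6048 (.leaf 0x0) (.leaf 0x0))) (.node 6050 (.leaf 0x1000002) (.node 6051 (.leaf 0x101000003) (.leaf 0x1000003))))) (.node 6057 (.node 6054 (.node 6053 (.leaf 0x0) (.leaf 0x0)) (.node 6055 (.leaf 0x0) (.node 6056 (.leaf 0x10001) (.leaf 0x10001)))) (.node 6060 (.node 6058 (.leaf 0x0) (.node 6059 (.leaf 0x10001) (.leaf 0x0))) (.node 6061 (.leaf 0x0) (.node 6062 (.leaf 0x0) (.leaf 0x0))))))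

def sgOS_555 : Store := (.node 6041 sgOS_553 sgOS_554)

def sgOS_556 : Store := (.node 6019 sgOS_552 sgOS_555)

def sgOS_557 : Store := (.node 5976 sgOS_549 sgOS_556)

def sgOS_558 : Store := (.node 6073 (.node 6068 (.node 6065 (.node 6064 (.leaf 0x0) (.leaf 0x1000002)) (.node 6066 (.leaf 0x0) (.node 6067 (.leaf 0x0) (.leaf 0x0)))) (.node 6070 (.node 6069 (.leaf 0x0) (.leaf 0x0)) (.node 6071 (.leaf 0x0) (.node 6072 (.leaf 0x0) (.leaf 0x200020003))))) (.node 6078 (.node 6075 (.node 6074 (.leaf 0x0) (.leaf 0x0)) (.node 6076 (.leaf 0x0) (.node 6077 (.leaf 0x0) (.leaf 0x0)))) (.node 6081 (.node 6079 (.leaf 0x10001) (.node 6080 (.leaf 0x0) (.leaf 0x0))) (.node 6082 (.leaf 0x0) (.node 6083 (.leaf 0x0) (.leaf 0x1010003))))))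

def sgOS_559 : Store := (.node 6095 (.node 6089 (.node 6086 (.node 6085 (.leaf 0x0) (.leaf 0x0)) (.node 6087 (.leaf 0x0) (.node 6088 (.leaf 0x0) (.leaf 0x0)))) (.node 6092 (.node 6090 (.leaf 0x0) (.node 6091 (.leaf 0x0) (.leaf 0x0))) (.node 6093 (.leaf 0x100010003000006) (.node 6094 (.leaf 0x20302030001000007) (.leaf 0x0))))) (.node 6100 (.node 6097 (.node 6096 (.leaf 0x0) (.leaf 0x0)) (.node 6098 (.leaf 0x200020003) (.node 6099 (.leaf 0x0) (.leaf 0x10002)))) (.node 6103 (.node 6101 (.leaf 0x0) (.node 6102 (.leaf 0x0) (.leaf 0x0))) (.node 6104 (.leaf 0x0) (.node 6105 (.leaf 0x10002) (.leaf 0x1))))))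

def sgOS_560 : Store := (.node 6084 sgOS_558 sgOS_559)

def sgOS_561 : Store := (.node 6117 (.node 6111 (.node 6108 (.node 6107 (.leaf 0x100020003) (.leaf 0x0)) (.node 6109 (.leaf 0x0) (.node 6110 (.leaf 0x0) (.leaf 0x0)))) (.node 6114 (.node 6112 (.leaf 0x1000003) (.node 6113 (.leaf 0x1010003) (.leaf 0x10001))) (.node 6115 (.leaf 0x0) (.node 6116 (.leaf 0x0) (.leaf 0x0))))) (.node 6122 (.node 6119 (.node 6118 (.leaf 0x0) (.leaf 0x20002000004)) (.node 6120 (.leaf 0x10001) (.node 6121 (.leaf 0x10001010004) (.leaf 0x0)))) (.node 6125 (.node 6123 (.leaf 0x0) (.node 6124 (.leaf 0x0) (.leaf 0x0))) (.node 6126 (.leaf 0x3000002) (.node 6127 (.leaf 0x0) (.leaf 0x201000003))))))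

def sgOS_562 : Store := (.node 6139 (.node 6133 (.node 6130 (.node 6129 (.leaf 0x303000004) (.leaf 0x0)) (.node 6131 (.leaf 0x0) (.node 6132 (.leaf 0x0) (.leaf 0x0)))) (.node 6136 (.node 6134 (.leaf 0x0) (.node 6135 (.leaf 0x1020004) (.leaf 0x303000003))) (.node 6137 (.leaf 0x0) (.node 6138 (.leaf 0x0) (.leaf 0x0))))) (.node 6144 (.node 6141 (.node 6140 (.leaf 0x3000003) (.leaf 0x0)) (.node 6142 (.leaf 0x0) (.node 6143 (.leaf 0x10100000004) (.leaf 0x0)))) (.node 6147 (.node 6145 (.leaf 0x0) (.node 6146 (.leaf 0x0) (.leaf 0x0))) (.node 6148 (.leaf 0x0) (.node 6149 (.leaf 0x101000004) (.leaf 0x30003))))))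

def sgOS_563 : Store := (.node 6128 sgOS_561 sgOS_562)

def sgOS_564 : Store := (.node 6106 sgOS_560 sgOS_563)

def sgOS_565 : Store := (.node 6160 (.node 6155 (.node 6152 (.node 6151 (.leaf 0x0) (.leaf 0x0)) (.node 6153 (.leaf 0x0) (.node 6154 (.leaf 0x0) (.leaf 0x0)))) (.node 6157 (.node 6156 (.leaf 0x10100000004) (.leaf 0x10100000005)) (.node 6158 (.leaf 0x0) (.node 6159 (.leaf 0x0) (.leaf 0x0))))) (.node 6165 (.node 6162 (.node 6161 (.leaf 0x1) (.leaf 0x303000004)) (.node 6163 (.leaf 0x20100000004) (.node 6164 (.leaf 0x0) (.leaf 0x0)))) (.node 6168 (.node 6166 (.leaf 0x0) (.node 6167 (.leaf 0x0) (.leaf 0x10001))) (.node 6169 (.leaf 0x1000002) (.node 6170 (.leaf 0x0) (.leaf 0x0))))))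

def sgOS_566 : Store := (.node 6182 (.node 6176 (.node 6173 (.node 6172 (.leaf 0x0) (.leaf 0x0)) (.node 6174 (.leaf 0x0) (.node 6175 (.leaf 0x0) (.leaf 0x0)))) (.node 6179 (.node 6177 (.leaf 0x1010003) (.node 6178 (.leaf 0x0) (.leaf 0x0))) (.node 6180 (.leaf 0x0) (.node 6181 (.leaf 0x0) (.leaf 0x300010003))))) (.node 6187 (.node 6184 (.node 6183 (.leaf 0x2) (.leaf 0x1010004)) (.node 6185 (.leaf 0x0) (.node 6186 (.leaf 0x0) (.leaf 0x0)))) (.node 6190 (.node 6188 (.leaf 0x0) (.node 6189 (.leaf 0x2000003) (.leaf 0x0))) (.node 6191 (.leaf 0x0) (.node 6192 (.leaf 0x20001) (.leaf 0x0))))))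

def sgOS_567 : Store := (.node 6171 sgOS_565 sgOS_566)

def sgOS_568 : Store := (.node 6204 (.node 6198 (.node 6195 (.node 6194 (.leaf 0x0) (.leaf 0x0)) (.node 6196 (.leaf 0x0) (.node 6197 (.leaf 0x0) (.leaf 0x0)))) (.node 6201 (.node 6199 (.leaf 0x0) (.node 6200 (.leaf 0x0) (.leaf 0x0))) (.node 6202 (.leaf 0x0) (.node 6203 (.leaf 0x3000004) (.leaf 0x3000004))))) (.node 6209 (.node 6206 (.node 6205 (.leaf 0x101000004) (.leaf 0x0)) (.node 6207 (.leaf 0x0) (.node 6208 (.leaf 0x0) (.leaf 0x0)))) (.node 6212 (.node 6210 (.leaf 0x20002) (.node 6211 (.leaf 0x1010002) (.leaf 0x0))) (.node 6213 (.leaf 0x0) (.node 6214 (.leaf 0x0) (.leaf 0x0))))))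

def sgOS_569 : Store := (.node 6226 (.node 6220 (.node 6217 (.node 6216 (.leaf 0x0) (.leaf 0x1000002)) (.node 6218 (.leaf 0x0) (.node 6219 (.leaf 0x100020003) (.leaf 0x0)))) (.node 6223 (.node 6221 (.leaf 0x0) (.node 6222 (.leaf 0x0) (.leaf 0x0))) (.node 6224 (.leaf 0x101000003) (.node 6225 (.leaf 0x0) (.leaf 0x2000002))))) (.node 6231 (.node 6228 (.node 6227 (.leaf 0x1000003) (.leaf 0x0)) (.node 6229 (.leaf 0x0) (.node 6230 (.leaf 0x0) (.leaf 0x100010003)))) (.node 6234 (.node 6232 (.leaf 0x0) (.node 6233 (.leaf 0x0) (.leaf 0x0))) (.node 6235 (.leaf 0x0) (.node 6236 (.leaf 0x0) (.leaf 0x0))))))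

def sgOS_570 : Store := (.node 6215 sgOS_568 sgOS_569)

def sgOS_571 : Store := (.node 6193 sgOS_567 sgOS_570)

def sgOS_572 : Store := (.node 6150 sgOS_564 sgOS_571)

def sgOS_573 : Store := (.node 6063 sgOS_557 sgOS_572)

def sgOS_574 : Store := (.node 5890 sgOS_542 sgOS_573)

def sgOS_575 : Store := (.node 6247 (.node 6242 (.node 6239 (.node 6238 (.leaf 0x1000003) (.leaf 0x200010003)) (.node 6240 (.leaf 0x101000003) (.node 6241 (.leaf 0x0) (.leaf 0x0)))) (.node 6244 (.node 6243 (.leaf 0x0) (.leaf 0x0)) (.node 6245 (.leaf 0x0) (.node 6246 (.leaf 0x20002000004) (.leaf 0x0))))) (.node 6252 (.node 6249 (.node 6248 (.leaf 0x0) (.leaf 0x0)) (.node 6250 (.leaf 0x0) (.node 6251 (.leaf 0x0) (.leaf 0x200010003)))) (.node 6255 (.node 6253 (.leaf 0x0) (.node 6254 (.leaf 0x20002) (.leaf 0x200010003))) (.node 6256 (.leaf 0x0) (.node 6257 (.leaf 0x0) (.leaf 0x0))))))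

def sgOS_576 : Store := (.node 6269 (.node 6263 (.node 6260 (.node 6259 (.leaf 0x0) (.leaf 0x0)) (.node 6261 (.leaf 0x20001) (.node 6262 (.leaf 0x0) (.leaf 0x0)))) (.node 6266 (.node 6264 (.leaf 0x0) (.node 6265 (.leaf 0x0) (.leaf 0x0))) (.node 6267 (.leaf 0x0) (.node 6268 (.leaf 0x0) (.leaf 0x10001))))) (.node 6274 (.node 6271 (.node 6270 (.leaf 0x0) (.leaf 0x0)) (.node 6272 (.leaf 0x0) (.node 6273 (.leaf 0x0) (.leaf 0x10100000004)))) (.node 6277 (.node 6275 (.leaf 0x0) (.node 6276 (.leaf 0x2010002) (.leaf 0x0))) (.node 6278 (.leaf 0x0) (.node 6279 (.leaf 0x0) (.leaf 0x0))))))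

def sgOS_577 : Store := (.node 6258 sgOS_575 sgOS_576)

def sgOS_578 : Store := (.node 6290 (.node 6285 (.node 6282 (.node 6281 (.leaf 0x10202010004) (.leaf 0x2010002)) (.node 6283 (.leaf 0x30001) (.node 6284 (.leaf 0x0) (.leaf 0x0)))) (.node 6287 (.node 6286 (.leaf 0x0) (.leaf 0x0)) (.node 6288 (.leaf 0x0) (.node 6289 (.leaf 0x0) (.leaf 0x20002000004))))) (.node 6295 (.node 6292 (.node 6291 (.leaf 0x0) (.leaf 0x0)) (.node 6293 (.leaf 0x0) (.node 6294 (.leaf 0x0) (.leaf 0x20101000004)))) (.node 6298 (.node 6296 (.leaf 0x201020003) (.node 6297 (.leaf 0x0) (.leaf 0x0))) (.node 6299 (.leaf 0x0) (.node 6300 (.leaf 0x0) (.leaf 0x0))))))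

def sgOS_579 : Store := (.node 6312 (.node 6306 (.node 6303 (.node 6302 (.leaf 0x1) (.leaf 0x0)) (.node 6304 (.leaf 0x201020300030006) (.node 6305 (.leaf 0x0) (.leaf 0x0)))) (.node 6309 (.node 6307 (.leaf 0x0) (.node 6308 (.leaf 0x201020003) (.leaf 0x0))) (.node 6310 (.leaf 0x30003) (.node 6311 (.leaf 0x0) (.leaf 0x0))))) (.node 6317 (.node 6314 (.node 6313 (.leaf 0x0) (.leaf 0x0)) (.node 6315 (.leaf 0x0) (.node 6316 (.leaf 0x0) (.leaf 0x0)))) (.node 6320 (.node 6318 (.leaf 0x0) (.node 6319 (.leaf 0x0) (.leaf 0x0))) (.node 6321 (.leaf 0x0) (.node 6322 (.leaf 0x0) (.leaf 0x0))))))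

def sgOS_580 : Store := (.node 6301 sgOS_578 sgOS_579)

def sgOS_581 : Store := (.node 6280 sgOS_577 sgOS_580)

def sgOS_582 : Store := (.node 6333 (.node 6328 (.node 6325 (.node 6324 (.leaf 0x0) (.leaf 0x0)) (.node 6326 (.leaf 0x0) (.node 6327 (.leaf 0x0) (.leaf 0x0)))) (.node 6330 (.node 6329 (.leaf 0x1000003) (.leaf 0x0)) (.node 6331 (.leaf 0x1000002) (.node 6332 (.leaf 0x100010003) (.leaf 0x0))))) (.node 6338 (.node 6335 (.node 6334 (.leaf 0x0) (.leaf 0x0)) (.node 6336 (.leaf 0x0) (.node 6337 (.leaf 0x0) (.leaf 0x0)))) (.node 6341 (.node 6339 (.leaf 0x0) (.node 6340 (.leaf 0x0) (.leaf 0x0))) (.node 6342 (.leaf 0x0) (.node 6343 (.leaf 0x0) (.leaf 0x0))))))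

def sgOS_583 : Store := (.node 6355 (.node 6349 (.node 6346 (.node 6345 (.leaf 0x0) (.leaf 0x0)) (.node 6347 (.leaf 0x0) (.node 6348 (.leaf 0x0) (.leaf 0x0)))) (.node 6352 (.node 6350 (.leaf 0x20002) (.node 6351 (.leaf 0x0) (.leaf 0x1000003))) (.node 6353 (.leaf 0x10002) (.node 6354 (.leaf 0x0) (.leaf 0x0))))) (.node 6360 (.node 6357 (.node 6356 (.leaf 0x0) (.leaf 0x10001010004)) (.node 6358 (.leaf 0x1010002) (.node 6359 (.leaf 0x0) (.leaf 0x10100020004)))) (.node 6363 (.node 6361 (.leaf 0x0) (.node 6362 (.leaf 0x0) (.leaf 0x0))) (.node 6364 (.leaf 0x0) (.node 6365 (.leaf 0x0) (.leaf 0x0))))))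

def sgOS_584 : Store := (.node 6344 sgOS_582 sgOS_583)

def sgOS_585 : Store := (.node 6377 (.node 6371 (.node 6368 (.node 6367 (.leaf 0x0) (.leaf 0x0)) (.node 6369 (.leaf 0x0) (.node 6370 (.leaf 0x0) (.leaf 0x0)))) (.node 6374 (.node 6372 (.leaf 0x0) (.node 6373 (.leaf 0x0) (.leaf 0x0))) (.node 6375 (.leaf 0x0) (.node 6376 (.leaf 0x0) (.leaf 0x0))))) (.node 6382 (.node 6379 (.node 6378 (.leaf 0x0) (.leaf 0x0)) (.node 6380 (.leaf 0x0) (.node 6381 (.leaf 0x0) (.leaf 0x0)))) (.node 6385 (.node 6383 (.leaf 0x0) (.node 6384 (.leaf 0x0) (.leaf 0x0))) (.node 6386 (.leaf 0x1000002) (.node 6387 (.leaf 0x0) (.leaf 0x0))))))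

def sgOS_586 : Store := (.node 6399 (.node 6393 (.node 6390 (.node 6389 (.leaf 0x0) (.leaf 0x0)) (.node 6391 (.leaf 0x0) (.node 6392 (.leaf 0x101000003) (.leaf 0x0)))) (.node 6396 (.node 6394 (.leaf 0x200010003) (.node 6395 (.leaf 0x0) (.leaf 0x0))) (.node 6397 (.leaf 0x0) (.node 6398 (.leaf 0x0) (.leaf 0x0))))) (.node 6404 (.node 6401 (.node 6400 (.leaf 0x2000003) (.leaf 0x1010003)) (.node 6402 (.leaf 0x10001) (.node 6403 (.leaf 0x0) (.leaf 0x0)))) (.node 6407 (.node 6405 (.leaf 0x0) (.node 6406 (.leaf 0x0) (.leaf 0x0))) (.node 6408 (.leaf 0x0) (.node 6409 (.leaf 0x20001) (.leaf 0x0))))))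

def sgOS_587 : Store := (.node 6388 sgOS_585 sgOS_586)

def sgOS_588 : Store := (.node 6366 sgOS_584 sgOS_587)

def sgOS_589 : Store := (.node 6323 sgOS_581 sgOS_588)

def sgOS_590 : Store := (.node 6420 (.node 6415 (.node 6412 (.node 6411 (.leaf 0x0) (.leaf 0x0)) (.node 6413 (.leaf 0x0) (.node 6414 (.leaf 0x0) (.leaf 0x0)))) (.node 6417 (.node 6416 (.leaf 0x0) (.leaf 0x0)) (.node 6418 (.leaf 0x0) (.node 6419 (.leaf 0x0) (.leaf 0x100010003))))) (.node 6425 (.node 6422 (.node 6421 (.leaf 0x0) (.leaf 0x100010003)) (.node 6423 (.leaf 0x1000003) (.node 6424 (.leaf 0x0) (.leaf 0x0)))) (.node 6428 (.node 6426 (.leaf 0x0) (.node 6427 (.leaf 0x20002) (.leaf 0x0))) (.node 6429 (.leaf 0x2000002) (.node 6430 (.leaf 0x20002000004) (.leaf 0x0))))))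

def sgOS_591 : Store := (.node 6442 (.node 6436 (.node 6433 (.node 6432 (.leaf 0x0) (.leaf 0x0)) (.node 6434 (.leaf 0x100020003) (.node 6435 (.leaf 0x0) (.leaf 0x10001)))) (.node 6439 (.node 6437 (.leaf 0x20002000004) (.node 6438 (.leaf 0x0) (.leaf 0x0))) (.node 6440 (.leaf 0x0) (.node 6441 (.leaf 0x0) (.leaf 0x0))))) (.node 6447 (.node 6444 (.node 6443 (.leaf 0x100020003) (.leaf 0x0)) (.node 6445 (.leaf 0x0) (.node 6446 (.leaf 0x0) (.leaf 0x0)))) (.node 6450 (.node 6448 (.leaf 0x0) (.node 6449 (.leaf 0x100010003) (.leaf 0x0))) (.node 6451 (.leaf 0x100010003) (.node 6452 (.leaf 0x0) (.leaf 0x0))))))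

def sgOS_592 : Store := (.node 6431 sgOS_590 sgOS_591)

def sgOS_593 : Store := (.node 6463 (.node 6458 (.node 6455 (.node 6454 (.leaf 0x0) (.leaf 0x200020003)) (.node 6456 (.leaf 0x0) (.node 6457 (.leaf 0x2000003) (.leaf 0x101000003)))) (.node 6460 (.node 6459 (.leaf 0x0) (.leaf 0x0)) (.node 6461 (.leaf 0x0) (.node 6462 (.leaf 0x101000003) (.leaf 0x20002000004))))) (.node 6468 (.node 6465 (.node 6464 (.leaf 0x0) (.leaf 0x0)) (.node 6466 (.leaf 0x0) (.node 6467 (.leaf 0x0) (.leaf 0x0)))) (.node 6471 (.node 6469 (.leaf 0x0) (.node 6470 (.leaf 0x0) (.leaf 0x0))) (.node 6472 (.leaf 0x0) (.node 6473 (.leaf 0x0) (.leaf 0x0))))))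

def sgOS_594 : Store := (.node 6485 (.node 6479 (.node 6476 (.node 6475 (.leaf 0x0) (.leaf 0x10002)) (.node 6477 (.leaf 0x1010003) (.node 6478 (.leaf 0x10001) (.leaf 0x0)))) (.node 6482 (.node 6480 (.leaf 0x0) (.node 6481 (.leaf 0x0) (.leaf 0x0))) (.node 6483 (.leaf 0x200020003) (.node 6484 (.leaf 0x0) (.leaf 0x10001010004))))) (.node 6490 (.node 6487 (.node 6486 (.leaf 0x0) (.leaf 0x0)) (.node 6488 (.leaf 0x0) (.node 6489 (.leaf 0x0) (.leaf 0x0)))) (.node 6493 (.node 6491 (.leaf 0x0) (.node 6492 (.leaf 0x0) (.leaf 0x10002))) (.node 6494 (.leaf 0x0) (.node 6495 (.leaf 0x0) (.leaf 0x0))))))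

def sgOS_595 : Store := (.node 6474 sgOS_593 sgOS_594)

def sgOS_596 : Store := (.node 6453 sgOS_592 sgOS_595)

def sgOS_597 : Store := (.node 6506 (.node 6501 (.node 6498 (.node 6497 (.leaf 0x101000003) (.leaf 0x100010003)) (.node 6499 (.leaf 0x20002000004) (.node 6500 (.leaf 0x0) (.leaf 0x0)))) (.node 6503 (.node 6502 (.leaf 0x0) (.leaf 0x0)) (.node 6504 (.leaf 0x0) (.node 6505 (.leaf 0x1020002) (.leaf 0x10100000005))))) (.node 6511 (.node 6508 (.node 6507 (.leaf 0x101000005) (.leaf 0x0)) (.node 6509 (.leaf 0x0) (.node 6510 (.leaf 0x0) (.leaf 0x0)))) (.node 6514 (.node 6512 (.leaf 0x0) (.node 6513 (.leaf 0x0) (.leaf 0x20002))) (.node 6515 (.leaf 0x0) (.node 6516 (.leaf 0x0) (.leaf 0x0))))))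

def sgOS_598 : Store := (.node 6528 (.node 6522 (.node 6519 (.node 6518 (.leaf 0x1000002) (.leaf 0x0)) (.node 6520 (.leaf 0x1010002) (.node 6521 (.leaf 0x0) (.leaf 0x0)))) (.node 6525 (.node 6523 (.leaf 0x0) (.node 6524 (.leaf 0x0) (.leaf 0x100010003))) (.node 6526 (.leaf 0x0) (.node 6527 (.leaf 0x0) (.leaf 0x10001010004))))) (.node 6533 (.node 6530 (.node 6529 (.leaf 0x0) (.leaf 0x0)) (.node 6531 (.leaf 0x0) (.node 6532 (.leaf 0x200020003) (.leaf 0x0)))) (.node 6536 (.node 6534 (.leaf 0x200020003) (.node 6535 (.leaf 0x0) (.leaf 0x0))) (.node 6537 (.leaf 0x0) (.node 6538 (.leaf 0x0) (.leaf 0x0))))))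

def sgOS_599 : Store := (.node 6517 sgOS_597 sgOS_598)

def sgOS_600 : Store := (.node 6550 (.node 6544 (.node 6541 (.node 6540 (.leaf 0x20002000004) (.leaf 0x0)) (.node 6542 (.leaf 0x10100020004) (.node 6543 (.leaf 0x0) (.leaf 0x0)))) (.node 6547 (.node 6545 (.leaf 0x0) (.node 6546 (.leaf 0x2000003) (.leaf 0x0))) (.node 6548 (.leaf 0x10002) (.node 6549 (.leaf 0x0) (.leaf 0x0))))) (.node 6555 (.node 6552 (.node 6551 (.leaf 0x0) (.leaf 0x0)) (.node 6553 (.leaf 0x1010002) (.node 6554 (.leaf 0x0) (.leaf 0x10100020004)))) (.node 6558 (.node 6556 (.leaf 0x0) (.node 6557 (.leaf 0x0) (.leaf 0x0))) (.node 6559 (.leaf 0x0) (.node 6560 (.leaf 0x1010002) (.leaf 0x200020003))))))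

def sgOS_601 : Store := (.node 6572 (.node 6566 (.node 6563 (.node 6562 (.leaf 0x0) (.leaf 0x1010003)) (.node 6564 (.leaf 0x0) (.node 6565 (.leaf 0x0) (.leaf 0x0)))) (.node 6569 (.node 6567 (.leaf 0x100020003) (.node 6568 (.leaf 0x0) (.leaf 0x0))) (.node 6570 (.leaf 0x0) (.node 6571 (.leaf 0x0) (.leaf 0x0))))) (.node 6577 (.node 6574 (.node 6573 (.leaf 0x0) (.leaf 0x102020003)) (.node 6575 (.leaf 0x101020004) (.node 6576 (.leaf 0x0) (.leaf 0x0)))) (.node 6580 (.node 6578 (.leaf 0x0) (.node 6579 (.leaf 0x0) (.leaf 0x0))) (.node 6581 (.leaf 0x0) (.node 6582 (.leaf 0x0) (.leaf 0x0))))))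

def sgOS_602 : Store := (.node 6561 sgOS_600 sgOS_601)

def sgOS_603 : Store := (.node 6539 sgOS_599 sgOS_602)

def sgOS_604 : Store := (.node 6496 sgOS_596 sgOS_603)

def sgOS_605 : Store := (.node 6410 sgOS_589 sgOS_604)

def sgOS_606 : Store := (.node 6593 (.node 6588 (.node 6585 (.node 6584 (.leaf 0x20002) (.leaf 0x0)) (.node 6586 (.leaf 0x0) (.node 6587 (.leaf 0x0) (.leaf 0x0)))) (.node 6590 (.node 6589 (.leaf 0x10001010004) (.leaf 0x0)) (.node 6591 (.leaf 0x0) (.node 6592 (.leaf 0x0) (.leaf 0x0))))) (.node 6598 (.node 6595 (.node 6594 (.leaf 0x0) (.leaf 0x0)) (.node 6596 (.leaf 0x0) (.node 6597 (.leaf 0x20001) (.leaf 0x0)))) (.node 6601 (.node 6599 (.leaf 0x0) (.node 6600 (.leaf 0x0) (.leaf 0x0))) (.node 6602 (.leaf 0x10100020004) (.node 6603 (.leaf 0x0) (.leaf 0x20002))))))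

def sgOS_607 : Store := (.node 6615 (.node 6609 (.node 6606 (.node 6605 (.leaf 0x100010003) (.leaf 0x0)) (.node 6607 (.leaf 0x0) (.node 6608 (.leaf 0x0) (.leaf 0x20100030004)))) (.node 6612 (.node 6610 (.leaf 0x0) (.node 6611 (.leaf 0x0) (.leaf 0x1020002))) (.node 6613 (.leaf 0x0) (.node 6614 (.leaf 0x0) (.leaf 0x0))))) (.node 6620 (.node 6617 (.node 6616 (.leaf 0x0) (.leaf 0x0)) (.node 6618 (.leaf 0x0) (.node 6619 (.leaf 0x0) (.leaf 0x0)))) (.node 6623 (.node 6621 (.leaf 0x0) (.node 6622 (.leaf 0x0) (.leaf 0x0))) (.node 6624 (.leaf 0x20001) (.node 6625 (.leaf 0x2000003) (.leaf 0x200020003))))))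

def sgOS_608 : Store := (.node 6604 sgOS_606 sgOS_607)

def sgOS_609 : Store := (.node 6636 (.node 6631 (.node 6628 (.node 6627 (.leaf 0x0) (.leaf 0x0)) (.node 6629 (.leaf 0x0) (.node 6630 (.leaf 0x2030001000302010008) (.leaf 0x30001)))) (.node 6633 (.node 6632 (.leaf 0x0) (.leaf 0x0)) (.node 6634 (.leaf 0x0) (.node 6635 (.leaf 0x0) (.leaf 0x0))))) (.node 6641 (.node 6638 (.node 6637 (.leaf 0x20001) (.leaf 0x0)) (.node 6639 (.leaf 0x10001) (.node 6640 (.leaf 0x101000003) (.leaf 0x0)))) (.node 6644 (.node 6642 (.leaf 0x0) (.node 6643 (.leaf 0x0) (.leaf 0x0))) (.node 6645 (.leaf 0x0) (.node 6646 (.leaf 0x0) (.leaf 0x0))))))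

def sgOS_610 : Store := (.node 6658 (.node 6652 (.node 6649 (.node 6648 (.leaf 0x0) (.leaf 0x0)) (.node 6650 (.leaf 0x0) (.node 6651 (.leaf 0x0) (.leaf 0x3000002)))) (.node 6655 (.node 6653 (.leaf 0x0) (.node 6654 (.leaf 0x20101000004) (.leaf 0x0))) (.node 6656 (.leaf 0x0) (.node 6657 (.leaf 0x0) (.leaf 0x0))))) (.node 6663 (.node 6660 (.node 6659 (.leaf 0x0) (.leaf 0x0)) (.node 6661 (.leaf 0x0) (.node 6662 (.leaf 0x0) (.leaf 0x0)))) (.node 6666 (.node 6664 (.leaf 0x0) (.node 6665 (.leaf 0x0) (.leaf 0x20100030004))) (.node 6667 (.leaf 0x0) (.node 6668 (.leaf 0x1010003) (.leaf 0x0))))))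

def sgOS_611 : Store := (.node 6647 sgOS_609 sgOS_610)

def sgOS_612 : Store := (.node 6626 sgOS_608 sgOS_611)

def sgOS_613 : Store := (.node 6679 (.node 6674 (.node 6671 (.node 6670 (.leaf 0x0) (.leaf 0x0)) (.node 6672 (.leaf 0x20001) (.node 6673 (.leaf 0x0) (.leaf 0x0)))) (.node 6676 (.node 6675 (.leaf 0x0) (.leaf 0x0)) (.node 6677 (.leaf 0x0) (.node 6678 (.leaf 0x0) (.leaf 0x0))))) (.node 6684 (.node 6681 (.node 6680 (.leaf 0x0) (.leaf 0x20002)) (.node 6682 (.leaf 0x0) (.node 6683 (.leaf 0x0) (.leaf 0x0)))) (.node 6687 (.node 6685 (.leaf 0x0) (.node 6686 (.leaf 0x0) (.leaf 0x2000003))) (.node 6688 (.leaf 0x0) (.node 6689 (.leaf 0x1000002) (.leaf 0x0))))))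

def sgOS_614 : Store := (.node 6701 (.node 6695 (.node 6692 (.node 6691 (.leaf 0x0) (.leaf 0x0)) (.node 6693 (.leaf 0x1010003) (.node 6694 (.leaf 0x0) (.leaf 0x1010003)))) (.node 6698 (.node 6696 (.leaf 0x0) (.node 6697 (.leaf 0x0) (.leaf 0x0))) (.node 6699 (.leaf 0x0) (.node 6700 (.leaf 0x2000003) (.leaf 0x0))))) (.node 6706 (.node 6703 (.node 6702 (.leaf 0x10001) (.leaf 0x0)) (.node 6704 (.leaf 0x0) (.node 6705 (.leaf 0x0) (.leaf 0x0)))) (.node 6709 (.node 6707 (.leaf 0x2000003) (.node 6708 (.leaf 0x2000003) (.leaf 0x20002000004))) (.node 6710 (.leaf 0x0) (.node 6711 (.leaf 0x0) (.leaf 0x0))))))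

def sgOS_615 : Store := (.node 6690 sgOS_613 sgOS_614)

def sgOS_616 : Store := (.node 6723 (.node 6717 (.node 6714 (.node 6713 (.leaf 0x0) (.leaf 0x0)) (.node 6715 (.leaf 0x20002000004) (.node 6716 (.leaf 0x100010003) (.leaf 0x20002)))) (.node 6720 (.node 6718 (.leaf 0x0) (.node 6719 (.leaf 0x0) (.leaf 0x0))) (.node 6721 (.leaf 0x10001) (.node 6722 (.leaf 0x0) (.leaf 0x0))))) (.node 6728 (.node 6725 (.node 6724 (.leaf 0x0) (.leaf 0x0)) (.node 6726 (.leaf 0x0) (.node 6727 (.leaf 0x0) (.leaf 0x0)))) (.node 6731 (.node 6729 (.leaf 0x0) (.node 6730 (.leaf 0x0) (.leaf 0x0))) (.node 6732 (.leaf 0x0) (.node 6733 (.leaf 0x0) (.leaf 0x0))))))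

def sgOS_617 : Store := (.node 6745 (.node 6739 (.node 6736 (.node 6735 (.leaf 0x0) (.leaf 0x0)) (.node 6737 (.leaf 0x0) (.node 6738 (.leaf 0x0) (.leaf 0x0)))) (.node 6742 (.node 6740 (.leaf 0x0) (.node 6741 (.leaf 0x0) (.leaf 0x200020003))) (.node 6743 (.leaf 0x0) (.node 6744 (.leaf 0x200020003) (.leaf 0x100010003))))) (.node 6750 (.node 6747 (.node 6746 (.leaf 0x0) (.leaf 0x0)) (.node 6748 (.leaf 0x0) (.node 6749 (.leaf 0x0) (.leaf 0x1000003)))) (.node 6753 (.node 6751 (.leaf 0x200010003) (.node 6752 (.leaf 0x0) (.leaf 0x0))) (.node 6754 (.leaf 0x0) (.node 6755 (.leaf 0x0) (.leaf 0x0))))))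

def sgOS_618 : Store := (.node 6734 sgOS_616 sgOS_617)

def sgOS_619 : Store := (.node 6712 sgOS_615 sgOS_618)

def sgOS_620 : Store := (.node 6669 sgOS_612 sgOS_619)

def sgOS_621 : Store := (.node 6766 (.node 6761 (.node 6758 (.node 6757 (.leaf 0x0) (.leaf 0x0)) (.node 6759 (.leaf 0x0) (.node 6760 (.leaf 0x0) (.leaf 0x0)))) (.node 6763 (.node 6762 (.leaf 0x0) (.leaf 0x1000002)) (.node 6764 (.leaf 0x0) (.node 6765 (.leaf 0x0) (.leaf 0x0))))) (.node 6771 (.node 6768 (.node 6767 (.leaf 0x0) (.leaf 0x0)) (.node 6769 (.leaf 0x0) (.node 6770 (.leaf 0x200020003) (.leaf 0x0)))) (.node 6774 (.node 6772 (.leaf 0x0) (.node 6773 (.leaf 0x2000002) (.leaf 0x0))) (.node 6775 (.leaf 0x0) (.node 6776 (.leaf 0x0) (.leaf 0x0))))))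

def sgOS_622 : Store := (.node 6788 (.node 6782 (.node 6779 (.node 6778 (.leaf 0x20001) (.leaf 0x0)) (.node 6780 (.leaf 0x10001010004) (.node 6781 (.leaf 0x0) (.leaf 0x0)))) (.node 6785 (.node 6783 (.leaf 0x0) (.node 6784 (.leaf 0x0) (.leaf 0x200020003))) (.node 6786 (.leaf 0x10001) (.node 6787 (.leaf 0x0) (.leaf 0x0))))) (.node 6793 (.node 6790 (.node 6789 (.leaf 0x0) (.leaf 0x0)) (.node 6791 (.leaf 0x0) (.node 6792 (.leaf 0x0) (.leaf 0x100010003)))) (.node 6796 (.node 6794 (.leaf 0x0) (.node 6795 (.leaf 0x0) (.leaf 0x0))) (.node 6797 (.leaf 0x0) (.node 6798 (.leaf 0x0) (.leaf 0x0))))))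

def sgOS_623 : Store := (.node 6777 sgOS_621 sgOS_622)

def sgOS_624 : Store := (.node 6810 (.node 6804 (.node 6801 (.node 6800 (.leaf 0x0) (.leaf 0x0)) (.node 6802 (.leaf 0x0) (.node 6803 (.leaf 0x0) (.leaf 0x0)))) (.node 6807 (.node 6805 (.leaf 0x2000002) (.node 6806 (.leaf 0x0) (.leaf 0x10001))) (.node 6808 (.leaf 0x1000003) (.node 6809 (.leaf 0x0) (.leaf 0x0))))) (.node 6815 (.node 6812 (.node 6811 (.leaf 0x0) (.leaf 0x0)) (.node 6813 (.leaf 0x0) (.node 6814 (.leaf 0x0) (.leaf 0x0)))) (.node 6818 (.node 6816 (.leaf 0x0) (.node 6817 (.leaf 0x0) (.leaf 0x0))) (.node 6819 (.leaf 0x0) (.node 6820 (.leaf 0x0) (.leaf 0x3000002))))))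

def sgOS_625 : Store := (.node 6832 (.node 6826 (.node 6823 (.node 6822 (.leaf 0x0) (.leaf 0x0)) (.node 6824 (.leaf 0x0) (.node 6825 (.leaf 0x0) (.leaf 0x1000003)))) (.node 6829 (.node 6827 (.leaf 0x2000003) (.node 6828 (.leaf 0x0) (.leaf 0x20002000004))) (.node 6830 (.leaf 0x0) (.node 6831 (.leaf 0x0) (.leaf 0x0))))) (.node 6837 (.node 6834 (.node 6833 (.leaf 0x1020004) (.leaf 0x10100000004)) (.node 6835 (.leaf 0x3000002) (.node 6836 (.leaf 0x0) (.leaf 0x0)))) (.node 6840 (.node 6838 (.leaf 0x0) (.node 6839 (.leaf 0x0) (.leaf 0x30001020004))) (.node 6841 (.leaf 0x0) (.node 6842 (.leaf 0x300000003) (.leaf 0x0))))))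

def sgOS_626 : Store := (.node 6821 sgOS_624 sgOS_625)

def sgOS_627 : Store := (.node 6799 sgOS_623 sgOS_626)

def sgOS_628 : Store := (.node 6853 (.node 6848 (.node 6845 (.node 6844 (.leaf 0x0) (.leaf 0x0)) (.node 6846 (.leaf 0x0) (.node 6847 (.leaf 0x0) (.leaf 0x1010002)))) (.node 6850 (.node 6849 (.leaf 0x0) (.leaf 0x101000003)) (.node 6851 (.leaf 0x0) (.node 6852 (.leaf 0x0) (.leaf 0x0))))) (.node 6858 (.node 6855 (.node 6854 (.leaf 0x0) (.leaf 0x1010003)) (.node 6856 (.leaf 0x1010002) (.node 6857 (.leaf 0x1000002) (.leaf 0x0)))) (.node 6861 (.node 6859 (.leaf 0x0) (.node 6860 (.leaf 0x0) (.leaf 0x0))) (.node 6862 (.leaf 0x200020003) (.node 6863 (.leaf 0x20001) (.leaf 0x200020003))))))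

def sgOS_629 : Store := (.node 6875 (.node 6869 (.node 6866 (.node 6865 (.leaf 0x0) (.leaf 0x0)) (.node 6867 (.leaf 0x0) (.node 6868 (.leaf 0x200020003) (.leaf 0x0)))) (.node 6872 (.node 6870 (.leaf 0x0) (.node 6871 (.leaf 0x0) (.leaf 0x0))) (.node 6873 (.leaf 0x0) (.node 6874 (.leaf 0x0) (.leaf 0x0))))) (.node 6880 (.node 6877 (.node 6876 (.leaf 0x0) (.leaf 0x0)) (.node 6878 (.leaf 0x1010002) (.node 6879 (.leaf 0x0) (.leaf 0x0)))) (.node 6883 (.node 6881 (.leaf 0x0) (.node 6882 (.leaf 0x0) (.leaf 0x2000002))) (.node 6884 (.leaf 0x10001) (.node 6885 (.leaf 0x2000002) (.leaf 0x0))))))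

def sgOS_630 : Store := (.node 6864 sgOS_628 sgOS_629)

def sgOS_631 : Store := (.node 6897 (.node 6891 (.node 6888 (.node 6887 (.leaf 0x0) (.leaf 0x0)) (.node 6889 (.leaf 0x0) (.node 6890 (.leaf 0x0) (.leaf 0x0)))) (.node 6894 (.node 6892 (.leaf 0x0) (.node 6893 (.leaf 0x0) (.leaf 0x0))) (.node 6895 (.leaf 0x0) (.node 6896 (.leaf 0x1) (.leaf 0x0))))) (.node 6902 (.node 6899 (.node 6898 (.leaf 0x0) (.leaf 0x0)) (.node 6900 (.leaf 0x0) (.node 6901 (.leaf 0x0) (.leaf 0x0)))) (.node 6905 (.node 6903 (.leaf 0x0) (.node 6904 (.leaf 0x1010002) (.leaf 0x0))) (.node 6906 (.leaf 0x0) (.node 6907 (.leaf 0x0) (.leaf 0x0))))))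

def sgOS_632 : Store := (.node 6919 (.node 6913 (.node 6910 (.node 6909 (.leaf 0x0) (.leaf 0x20002000004)) (.node 6911 (.leaf 0x10002) (.node 6912 (.leaf 0x0) (.leaf 0x0)))) (.node 6916 (.node 6914 (.leaf 0x0) (.node 6915 (.leaf 0x0) (.leaf 0x0))) (.node 6917 (.leaf 0x0) (.node 6918 (.leaf 0x0) (.leaf 0x0))))) (.node 6924 (.node 6921 (.node 6920 (.leaf 0x0) (.leaf 0x0)) (.node 6922 (.leaf 0x0) (.node 6923 (.leaf 0x0) (.leaf 0x0)))) (.node 6927 (.node 6925 (.leaf 0x0) (.node 6926 (.leaf 0x0) (.leaf 0x0))) (.node 6928 (.leaf 0x0) (.node 6929 (.leaf 0x0) (.leaf 0x0))))))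

def sgOS_633 : Store := (.node 6908 sgOS_631 sgOS_632)

def sgOS_634 : Store := (.node 6886 sgOS_630 sgOS_633)

def sgOS_635 : Store := (.node 6843 sgOS_627 sgOS_634)

def sgOS_636 : Store := (.node 6756 sgOS_620 sgOS_635)

def sgOS_637 : Store := (.node 6583 sgOS_605 sgOS_636)

def sgOS_638 : Store := (.node 6237 sgOS_574 sgOS_637)

def sgOS_639 : Store := (.node 6940 (.node 6935 (.node 6932 (.node 6931 (.leaf 0x0) (.leaf 0x0)) (.node 6933 (.leaf 0x0) (.node 6934 (.leaf 0x1000003) (.leaf 0x0)))) (.node 6937 (.node 6936 (.leaf 0x0) (.leaf 0x0)) (.node 6938 (.leaf 0x0) (.node 6939 (.leaf 0x0) (.leaf 0x0))))) (.node 6945 (.node 6942 (.node 6941 (.leaf 0x0) (.leaf 0x0)) (.node 6943 (.leaf 0x0) (.node 6944 (.leaf 0x0) (.leaf 0x0)))) (.node 6948 (.node 6946 (.leaf 0x0) (.node 6947 (.leaf 0x0) (.leaf 0x0))) (.node 6949 (.leaf 0x0) (.node 6950 (.leaf 0x0) (.leaf 0x0))))))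

def sgOS_640 : Store := (.node 6962 (.node 6956 (.node 6953 (.node 6952 (.leaf 0x10100000005) (.leaf 0x30002)) (.node 6954 (.leaf 0x1010002) (.node 6955 (.leaf 0x0) (.leaf 0x0)))) (.node 6959 (.node 6957 (.leaf 0x0) (.node 6958 (.leaf 0x0) (.leaf 0x10001))) (.node 6960 (.leaf 0x2000003) (.node 6961 (.leaf 0x0) (.leaf 0x20001))))) (.node 6967 (.node 6964 (.node 6963 (.leaf 0x0) (.leaf 0x0)) (.node 6965 (.leaf 0x0) (.node 6966 (.leaf 0x0) (.leaf 0x0)))) (.node 6970 (.node 6968 (.leaf 0x0) (.node 6969 (.leaf 0x0) (.leaf 0x0))) (.node 6971 (.leaf 0x0) (.node 6972 (.leaf 0x0) (.leaf 0x10000010004))))))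

def sgOS_641 : Store := (.node 6951 sgOS_639 sgOS_640)

def sgOS_642 : Store := (.node 6983 (.node 6978 (.node 6975 (.node 6974 (.leaf 0x0) (.leaf 0x1020004)) (.node 6976 (.leaf 0x0) (.node 6977 (.leaf 0x0) (.leaf 0x0)))) (.node 6980 (.node 6979 (.leaf 0x0) (.leaf 0x0)) (.node 6981 (.leaf 0x0) (.node 6982 (.leaf 0x0) (.leaf 0x0))))) (.node 6988 (.node 6985 (.node 6984 (.leaf 0x0) (.leaf 0x0)) (.node 6986 (.leaf 0x0) (.node 6987 (.leaf 0x2000003) (.leaf 0x0)))) (.node 6991 (.node 6989 (.leaf 0x2000002) (.node 6990 (.leaf 0x10001010004) (.leaf 0x0))) (.node 6992 (.leaf 0x0) (.node 6993 (.leaf 0x0) (.leaf 0x0))))))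

def sgOS_643 : Store := (.node 7005 (.node 6999 (.node 6996 (.node 6995 (.leaf 0x0) (.leaf 0x0)) (.node 6997 (.leaf 0x0) (.node 6998 (.leaf 0x0) (.leaf 0x0)))) (.node 7002 (.node 7000 (.leaf 0x0) (.node 7001 (.leaf 0x20002) (.leaf 0x1000002))) (.node 7003 (.leaf 0x0) (.node 7004 (.leaf 0x200020003) (.leaf 0x0))))) (.node 7010 (.node 7007 (.node 7006 (.leaf 0x0) (.leaf 0x0)) (.node 7008 (.leaf 0x0) (.node 7009 (.leaf 0x1000003) (.leaf 0x0)))) (.node 7013 (.node 7011 (.leaf 0x0) (.node 7012 (.leaf 0x0) (.leaf 0x0))) (.node 7014 (.leaf 0x0) (.node 7015 (.leaf 0x1010003) (.leaf 0x10001))))))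

def sgOS_644 : Store := (.node 6994 sgOS_642 sgOS_643)

def sgOS_645 : Store := (.node 6973 sgOS_641 sgOS_644)

def sgOS_646 : Store := (.node 7026 (.node 7021 (.node 7018 (.node 7017 (.leaf 0x200020003) (.leaf 0x0)) (.node 7019 (.leaf 0x0) (.node 7020 (.leaf 0x0) (.leaf 0x0)))) (.node 7023 (.node 7022 (.leaf 0x0) (.leaf 0x0)) (.node 7024 (.leaf 0x0) (.node 7025 (.leaf 0x0) (.leaf 0x0))))) (.node 7031 (.node 7028 (.node 7027 (.leaf 0x0) (.leaf 0x0)) (.node 7029 (.leaf 0x1000002) (.node 7030 (.leaf 0x0) (.leaf 0x0)))) (.node 7034 (.node 7032 (.leaf 0x200020003) (.node 7033 (.leaf 0x0) (.leaf 0x0))) (.node 7035 (.leaf 0x0) (.node 7036 (.leaf 0x0) (.leaf 0x0))))))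

def sgOS_647 : Store := (.node 7048 (.node 7042 (.node 7039 (.node 7038 (.leaf 0x0) (.leaf 0x0)) (.node 7040 (.leaf 0x0) (.node 7041 (.leaf 0x0) (.leaf 0x0)))) (.node 7045 (.node 7043 (.leaf 0x20001) (.node 7044 (.leaf 0x200020003) (.leaf 0x20002000004))) (.node 7046 (.leaf 0x0) (.node 7047 (.leaf 0x0) (.leaf 0x0))))) (.node 7053 (.node 7050 (.node 7049 (.leaf 0x0) (.leaf 0x0)) (.node 7051 (.leaf 0x2000003) (.node 7052 (.leaf 0x20001) (.leaf 0x2000003)))) (.node 7056 (.node 7054 (.leaf 0x0) (.node 7055 (.leaf 0x0) (.leaf 0x0))) (.node 7057 (.leaf 0x0) (.node 7058 (.leaf 0x0) (.leaf 0x0))))))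

def sgOS_648 : Store := (.node 7037 sgOS_646 sgOS_647)

def sgOS_649 : Store := (.node 7070 (.node 7064 (.node 7061 (.node 7060 (.leaf 0x0) (.leaf 0x0)) (.node 7062 (.leaf 0x0) (.node 7063 (.leaf 0x0) (.leaf 0x20001)))) (.node 7067 (.node 7065 (.leaf 0x1000003) (.node 7066 (.leaf 0x0) (.leaf 0x100010003))) (.node 7068 (.leaf 0x0) (.node 7069 (.leaf 0x0) (.leaf 0x0))))) (.node 7075 (.node 7072 (.node 7071 (.leaf 0x0) (.leaf 0x20002000004)) (.node 7073 (.leaf 0x0) (.node 7074 (.leaf 0x0) (.leaf 0x0)))) (.node 7078 (.node 7076 (.leaf 0x0) (.node 7077 (.leaf 0x0) (.leaf 0x0))) (.node 7079 (.leaf 0x0) (.node 7080 (.leaf 0x0) (.leaf 0x0))))))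

def sgOS_650 : Store := (.node 7092 (.node 7086 (.node 7083 (.node 7082 (.leaf 0x0) (.leaf 0x0)) (.node 7084 (.leaf 0x0) (.node 7085 (.leaf 0x100010003) (.leaf 0x0)))) (.node 7089 (.node 7087 (.leaf 0x0) (.node 7088 (.leaf 0x2000002) (.leaf 0x0))) (.node 7090 (.leaf 0x0) (.node 7091 (.leaf 0x0) (.leaf 0x1010002))))) (.node 7097 (.node 7094 (.node 7093 (.leaf 0x0) (.leaf 0x1010002)) (.node 7095 (.leaf 0x1010003) (.node 7096 (.leaf 0x0) (.leaf 0x0)))) (.node 7100 (.node 7098 (.leaf 0x0) (.node 7099 (.leaf 0x0) (.leaf 0x100010003))) (.node 7101 (.leaf 0x0) (.node 7102 (.leaf 0x10001010004) (.leaf 0x0))))))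

def sgOS_651 : Store := (.node 7081 sgOS_649 sgOS_650)

def sgOS_652 : Store := (.node 7059 sgOS_648 sgOS_651)

def sgOS_653 : Store := (.node 7016 sgOS_645 sgOS_652)

def sgOS_654 : Store := (.node 7113 (.node 7108 (.node 7105 (.node 7104 (.leaf 0x0) (.leaf 0x0)) (.node 7106 (.leaf 0x2000002) (.node 7107 (.leaf 0x0) (.leaf 0x0)))) (.node 7110 (.node 7109 (.leaf 0x0) (.leaf 0x0)) (.node 7111 (.leaf 0x0) (.node 7112 (.leaf 0x0) (.leaf 0x1010003))))) (.node 7118 (.node 7115 (.node 7114 (.leaf 0x1000002) (.leaf 0x0)) (.node 7116 (.leaf 0x1010002) (.node 7117 (.leaf 0x0) (.leaf 0x0)))) (.node 7121 (.node 7119 (.leaf 0x0) (.node 7120 (.leaf 0x0) (.leaf 0x0))) (.node 7122 (.leaf 0x0) (.node 7123 (.leaf 0x1010003) (.leaf 0x0))))))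

def sgOS_655 : Store := (.node 7135 (.node 7129 (.node 7126 (.node 7125 (.leaf 0x0) (.leaf 0x0)) (.node 7127 (.leaf 0x200020003) (.node 7128 (.leaf 0x0) (.leaf 0x1000003)))) (.node 7132 (.node 7130 (.leaf 0x101000003) (.node 7131 (.leaf 0x0) (.leaf 0x0))) (.node 7133 (.leaf 0x0) (.node 7134 (.leaf 0x10002) (.leaf 0x10100020004))))) (.node 7140 (.node 7137 (.node 7136 (.leaf 0x101000003) (.leaf 0x0)) (.node 7138 (.leaf 0x0) (.node 7139 (.leaf 0x0) (.leaf 0x0)))) (.node 7143 (.node 7141 (.leaf 0x0) (.node 7142 (.leaf 0x0) (.leaf 0x0))) (.node 7144 (.leaf 0x0) (.node 7145 (.leaf 0x0) (.leaf 0x0))))))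

def sgOS_656 : Store := (.node 7124 sgOS_654 sgOS_655)

def sgOS_657 : Store := (.node 7156 (.node 7151 (.node 7148 (.node 7147 (.leaf 0x0) (.leaf 0x100010003)) (.node 7149 (.leaf 0x0) (.node 7150 (.leaf 0x100010003) (.leaf 0x0)))) (.node 7153 (.node 7152 (.leaf 0x0) (.leaf 0x0)) (.node 7154 (.leaf 0x0) (.node 7155 (.leaf 0x0) (.leaf 0x0))))) (.node 7161 (.node 7158 (.node 7157 (.leaf 0x200010003) (.leaf 0x0)) (.node 7159 (.leaf 0x0) (.node 7160 (.leaf 0x0) (.leaf 0x0)))) (.node 7164 (.node 7162 (.leaf 0x0) (.node 7163 (.leaf 0x0) (.leaf 0x1010003))) (.node 7165 (.leaf 0x1010002) (.node 7166 (.leaf 0x0) (.leaf 0x0))))))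

def sgOS_658 : Store := (.node 7178 (.node 7172 (.node 7169 (.node 7168 (.leaf 0x0) (.leaf 0x10001010004)) (.node 7170 (.leaf 0x0) (.node 7171 (.leaf 0x2000002) (.leaf 0x0)))) (.node 7175 (.node 7173 (.leaf 0x0) (.node 7174 (.leaf 0x0) (.leaf 0x0))) (.node 7176 (.leaf 0x2000002) (.node 7177 (.leaf 0x0) (.leaf 0x0))))) (.node 7183 (.node 7180 (.node 7179 (.leaf 0x0) (.leaf 0x0)) (.node 7181 (.leaf 0x0) (.node 7182 (.leaf 0x0) (.leaf 0x0)))) (.node 7186 (.node 7184 (.leaf 0x0) (.node 7185 (.leaf 0x0) (.leaf 0x0))) (.node 7187 (.leaf 0x0) (.node 7188 (.leaf 0x0) (.leaf 0x0))))))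

def sgOS_659 : Store := (.node 7167 sgOS_657 sgOS_658)

def sgOS_660 : Store := (.node 7146 sgOS_656 sgOS_659)

def sgOS_661 : Store := (.node 7199 (.node 7194 (.node 7191 (.node 7190 (.leaf 0x100020003) (.leaf 0x0)) (.node 7192 (.leaf 0x0) (.node 7193 (.leaf 0x10001) (.leaf 0x0)))) (.node 7196 (.node 7195 (.leaf 0x0) (.leaf 0x0)) (.node 7197 (.leaf 0x10002) (.node 7198 (.leaf 0x0) (.leaf 0x1010003))))) (.node 7204 (.node 7201 (.node 7200 (.leaf 0x20002000004) (.leaf 0x0)) (.node 7202 (.leaf 0x0) (.node 7203 (.leaf 0x0) (.leaf 0x0)))) (.node 7207 (.node 7205 (.leaf 0x10002) (.node 7206 (.leaf 0x0) (.leaf 0x0))) (.node 7208 (.leaf 0x0) (.node 7209 (.leaf 0x0) (.leaf 0x0))))))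

def sgOS_662 : Store := (.node 7221 (.node 7215 (.node 7212 (.node 7211 (.leaf 0x0) (.leaf 0x0)) (.node 7213 (.leaf 0x0) (.node 7214 (.leaf 0x0) (.leaf 0x0)))) (.node 7218 (.node 7216 (.leaf 0x0) (.node 7217 (.leaf 0x0) (.leaf 0x0))) (.node 7219 (.leaf 0x2000002) (.node 7220 (.leaf 0x0) (.leaf 0x1010002))))) (.node 7226 (.node 7223 (.node 7222 (.leaf 0x0) (.leaf 0x0)) (.node 7224 (.leaf 0x0) (.node 7225 (.leaf 0x0) (.leaf 0x0)))) (.node 7229 (.node 7227 (.leaf 0x0) (.node 7228 (.leaf 0x0) (.leaf 0x0))) (.node 7230 (.leaf 0x0) (.node 7231 (.leaf 0x0) (.leaf 0x0))))))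

def sgOS_663 : Store := (.node 7210 sgOS_661 sgOS_662)

def sgOS_664 : Store := (.node 7243 (.node 7237 (.node 7234 (.node 7233 (.leaf 0x200020003) (.leaf 0x0)) (.node 7235 (.leaf 0x20001) (.node 7236 (.leaf 0x0) (.leaf 0x0)))) (.node 7240 (.node 7238 (.leaf 0x0) (.node 7239 (.leaf 0x0) (.leaf 0x0))) (.node 7241 (.leaf 0x0) (.node 7242 (.leaf 0x0) (.leaf 0x0))))) (.node 7248 (.node 7245 (.node 7244 (.leaf 0x0) (.leaf 0x0)) (.node 7246 (.leaf 0x0) (.node 7247 (.leaf 0x0) (.leaf 0x0)))) (.node 7251 (.node 7249 (.leaf 0x0) (.node 7250 (.leaf 0x0) (.leaf 0x0))) (.node 7252 (.leaf 0x0) (.node 7253 (.leaf 0x10001) (.leaf 0x100010003))))))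

def sgOS_665 : Store := (.node 7265 (.node 7259 (.node 7256 (.node 7255 (.leaf 0x0) (.leaf 0x2000003)) (.node 7257 (.leaf 0x0) (.node 7258 (.leaf 0x0) (.leaf 0x0)))) (.node 7262 (.node 7260 (.leaf 0x0) (.node 7261 (.leaf 0x10100020004) (.leaf 0x0))) (.node 7263 (.leaf 0x10100020004) (.node 7264 (.leaf 0x0) (.leaf 0x0))))) (.node 7270 (.node 7267 (.node 7266 (.leaf 0x0) (.leaf 0x0)) (.node 7268 (.leaf 0x0) (.node 7269 (.leaf 0x0) (.leaf 0x0)))) (.node 7273 (.node 7271 (.leaf 0x0) (.node 7272 (.leaf 0x0) (.leaf 0x0))) (.node 7274 (.leaf 0x0) (.node 7275 (.leaf 0x10100020004) (.leaf 0x0))))))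

def sgOS_666 : Store := (.node 7254 sgOS_664 sgOS_665)

def sgOS_667 : Store := (.node 7232 sgOS_663 sgOS_666)

def sgOS_668 : Store := (.node 7189 sgOS_660 sgOS_667)

def sgOS_669 : Store := (.node 7103 sgOS_653 sgOS_668)

def sgOS_670 : Store := (.node 7286 (.node 7281 (.node 7278 (.node 7277 (.leaf 0x20002000004) (.leaf 0x0)) (.node 7279 (.leaf 0x0) (.node 7280 (.leaf 0x0) (.leaf 0x20001)))) (.node 7283 (.node 7282 (.leaf 0x0) (.leaf 0x0)) (.node 7284 (.leaf 0x0) (.node 7285 (.leaf 0x0) (.leaf 0x0))))) (.node 7291 (.node 7288 (.node 7287 (.leaf 0x0) (.leaf 0x0)) (.node 7289 (.leaf 0x10001) (.node 7290 (.leaf 0x0) (.leaf 0x0)))) (.node 7294 (.node 7292 (.leaf 0x0) (.node 7293 (.leaf 0x0) (.leaf 0x0))) (.node 7295 (.leaf 0x101000003) (.node 7296 (.leaf 0x0) (.leaf 0x2000003))))))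

def sgOS_671 : Store := (.node 7308 (.node 7302 (.node 7299 (.node 7298 (.leaf 0x100010003) (.leaf 0x0)) (.node 7300 (.leaf 0x0) (.node 7301 (.leaf 0x0) (.leaf 0x20001)))) (.node 7305 (.node 7303 (.leaf 0x10002) (.node 7304 (.leaf 0x0) (.leaf 0x10002))) (.node 7306 (.leaf 0x0) (.node 7307 (.leaf 0x0) (.leaf 0x0))))) (.node 7313 (.node 7310 (.node 7309 (.leaf 0x0) (.leaf 0x0)) (.node 7311 (.leaf 0x0) (.node 7312 (.leaf 0x2000002) (.leaf 0x0)))) (.node 7316 (.node 7314 (.leaf 0x0) (.node 7315 (.leaf 0x0) (.leaf 0x0))) (.node 7317 (.leaf 0x0) (.node 7318 (.leaf 0x100020003) (.leaf 0x100020003))))))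

def sgOS_672 : Store := (.node 7297 sgOS_670 sgOS_671)

def sgOS_673 : Store := (.node 7329 (.node 7324 (.node 7321 (.node 7320 (.leaf 0x0) (.leaf 0x0)) (.node 7322 (.leaf 0x0) (.node 7323 (.leaf 0x0) (.leaf 0x201010003)))) (.node 7326 (.node 7325 (.leaf 0x0) (.leaf 0x0)) (.node 7327 (.leaf 0x0) (.node 7328 (.leaf 0x0) (.leaf 0x0))))) (.node 7334 (.node 7331 (.node 7330 (.leaf 0x0) (.leaf 0x0)) (.node 7332 (.leaf 0x0) (.node 7333 (.leaf 0x0) (.leaf 0x0)))) (.node 7337 (.node 7335 (.leaf 0x0) (.node 7336 (.leaf 0x0) (.leaf 0x20001))) (.node 7338 (.leaf 0x0) (.node 7339 (.leaf 0x0) (.leaf 0x0))))))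

def sgOS_674 : Store := (.node 7351 (.node 7345 (.node 7342 (.node 7341 (.leaf 0x0) (.leaf 0x0)) (.node 7343 (.leaf 0x0) (.node 7344 (.leaf 0x20001) (.leaf 0x1000002)))) (.node 7348 (.node 7346 (.leaf 0x1) (.node 7347 (.leaf 0x0) (.leaf 0x0))) (.node 7349 (.leaf 0x0) (.node 7350 (.leaf 0x0) (.leaf 0x0))))) (.node 7356 (.node 7353 (.node 7352 (.leaf 0x200020003) (.leaf 0x2000003)) (.node 7354 (.leaf 0x200020003) (.node 7355 (.leaf 0x0) (.leaf 0x0)))) (.node 7359 (.node 7357 (.leaf 0x0) (.node 7358 (.leaf 0x1) (.leaf 0x0))) (.node 7360 (.leaf 0x1000002) (.node 7361 (.leaf 0x1010002) (.leaf 0x0))))))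

def sgOS_675 : Store := (.node 7340 sgOS_673 sgOS_674)

def sgOS_676 : Store := (.node 7319 sgOS_672 sgOS_675)

def sgOS_677 : Store := (.node 7372 (.node 7367 (.node 7364 (.node 7363 (.leaf 0x0) (.leaf 0x0)) (.node 7365 (.leaf 0x0) (.node 7366 (.leaf 0x0) (.leaf 0x20002)))) (.node 7369 (.node 7368 (.leaf 0x0) (.leaf 0x0)) (.node 7370 (.leaf 0x0) (.node 7371 (.leaf 0x0) (.leaf 0x0))))) (.node 7377 (.node 7374 (.node 7373 (.leaf 0x0) (.leaf 0x0)) (.node 7375 (.leaf 0x10002) (.node 7376 (.leaf 0x0) (.leaf 0x0)))) (.node 7380 (.node 7378 (.leaf 0x0) (.node 7379 (.leaf 0x0) (.leaf 0x101000003))) (.node 7381 (.leaf 0x10001) (.node 7382 (.leaf 0x0) (.leaf 0x0))))))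

def sgOS_678 : Store := (.node 7394 (.node 7388 (.node 7385 (.node 7384 (.leaf 0x0) (.leaf 0x0)) (.node 7386 (.leaf 0x10002) (.node 7387 (.leaf 0x0) (.leaf 0x0)))) (.node 7391 (.node 7389 (.leaf 0x0) (.node 7390 (.leaf 0x0) (.leaf 0x0))) (.node 7392 (.leaf 0x0) (.node 7393 (.leaf 0x1020203030203000008) (.leaf 0x0))))) (.node 7399 (.node 7396 (.node 7395 (.leaf 0x10101000101000009) (.leaf 0x2010001010000030008)) (.node 7397 (.leaf 0x0) (.node 7398 (.leaf 0x0) (.leaf 0x0)))) (.node 7402 (.node 7400 (.leaf 0x1) (.node 7401 (.leaf 0x30300010000030007) (.leaf 0x300010201000008))) (.node 7403 (.leaf 0x20001) (.node 7404 (.leaf 0x0) (.leaf 0x0))))))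

def sgOS_679 : Store := (.node 7383 sgOS_677 sgOS_678)

def sgOS_680 : Store := (.node 7416 (.node 7410 (.node 7407 (.node 7406 (.leaf 0x0) (.leaf 0x40502000004)) (.node 7408 (.leaf 0x0) (.node 7409 (.leaf 0x101020003) (.leaf 0x10200010004)))) (.node 7413 (.node 7411 (.leaf 0x301020003) (.node 7412 (.leaf 0x0) (.leaf 0x0))) (.node 7414 (.leaf 0x402040003) (.node 7415 (.leaf 0x0) (.leaf 0x0))))) (.node 7421 (.node 7418 (.node 7417 (.leaf 0x102010003) (.leaf 0x0)) (.node 7419 (.leaf 0x0) (.node 7420 (.leaf 0x0) (.leaf 0x100010003)))) (.node 7424 (.node 7422 (.leaf 0x0) (.node 7423 (.leaf 0x205020003) (.leaf 0x303000003))) (.node 7425 (.leaf 0x0) (.node 7426 (.leaf 0x0) (.leaf 0x0))))))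

def sgOS_681 : Store := (.node 7438 (.node 7432 (.node 7429 (.node 7428 (.leaf 0x50402040004) (.leaf 0x0)) (.node 7430 (.leaf 0x205040003) (.node 7431 (.leaf 0x304020003) (.leaf 0x30402000004)))) (.node 7435 (.node 7433 (.leaf 0x0) (.node 7434 (.leaf 0x0) (.leaf 0x0))) (.node 7436 (.leaf 0x0) (.node 7437 (.leaf 0x103000003) (.leaf 0x0))))) (.node 7443 (.node 7440 (.node 7439 (.leaf 0x203040003) (.leaf 0x0)) (.node 7441 (.leaf 0x0) (.node 7442 (.leaf 0x0) (.leaf 0x0)))) (.node 7446 (.node 7444 (.leaf 0x2050204000005) (.node 7445 (.leaf 0x40203000004) (.leaf 0x0))) (.node 7447 (.leaf 0x0) (.node 7448 (.leaf 0x0) (.leaf 0x204000003))))))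

def sgOS_682 : Store := (.node 7427 sgOS_680 sgOS_681)

def sgOS_683 : Store := (.node 7405 sgOS_679 sgOS_682)

def sgOS_684 : Store := (.node 7362 sgOS_676 sgOS_683)

def sgOS_685 : Store := (.node 7459 (.node 7454 (.node 7451 (.node 7450 (.leaf 0x50203030004) (.leaf 0x201010003)) (.node 7452 (.leaf 0x0) (.node 7453 (.leaf 0x3020002) (.leaf 0x0)))) (.node 7456 (.node 7455 (.leaf 0x0) (.leaf 0x201010003)) (.node 7457 (.leaf 0x30402000004) (.node 7458 (.leaf 0x1010002) (.leaf 0x101020003))))) (.node 7464 (.node 7461 (.node 7460 (.leaf 0x0) (.leaf 0x0)) (.node 7462 (.leaf 0x0) (.node 7463 (.leaf 0x0) (.leaf 0x10001020303000007)))) (.node 7467 (.node 7465 (.leaf 0x30001) (.node 7466 (.leaf 0x0) (.leaf 0x30000030303000008))) (.node 7468 (.leaf 0x0) (.node 7469 (.leaf 0x0) (.leaf 0x402040003))))))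

def sgOS_686 : Store := (.node 7481 (.node 7475 (.node 7472 (.node 7471 (.leaf 0x1030002) (.leaf 0x0)) (.node 7473 (.leaf 0x102010003) (.node 7474 (.leaf 0x0) (.leaf 0x0)))) (.node 7478 (.node 7476 (.leaf 0x0) (.node 7477 (.leaf 0x40200010004) (.leaf 0x50205000005))) (.node 7479 (.leaf 0x0) (.node 7480 (.leaf 0x40001020004) (.leaf 0x10205000004))))) (.node 7486 (.node 7483 (.node 7482 (.leaf 0x0) (.leaf 0x0)) (.node 7484 (.leaf 0x2010002) (.node 7485 (.leaf 0x3030002) (.leaf 0x205020003)))) (.node 7489 (.node 7487 (.leaf 0x0) (.node 7488 (.leaf 0x50102030004) (.leaf 0x0))) (.node 7490 (.leaf 0x0) (.node 7491 (.leaf 0x0) (.leaf 0x0))))))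

def sgOS_687 : Store := (.node 7470 sgOS_685 sgOS_686)

def sgOS_688 : Store := (.node 7503 (.node 7497 (.node 7494 (.node 7493 (.leaf 0x0) (.leaf 0x0)) (.node 7495 (.leaf 0x0) (.node 7496 (.leaf 0x0) (.leaf 0x0)))) (.node 7500 (.node 7498 (.leaf 0x20504050004) (.node 7499 (.leaf 0x50002) (.leaf 0x201010003))) (.node 7501 (.leaf 0x0) (.node 7502 (.leaf 0x0) (.leaf 0x0))))) (.node 7508 (.node 7505 (.node 7504 (.leaf 0x0) (.leaf 0x3020302030202030008)) (.node 7506 (.leaf 0x0) (.node 7507 (.leaf 0x100010000030300010009) (.leaf 0x1000001000100010008)))) (.node 7511 (.node 7509 (.leaf 0x0) (.node 7510 (.leaf 0x0) (.leaf 0x0))) (.node 7512 (.leaf 0x400010003) (.node 7513 (.leaf 0x10205000004) (.leaf 0x30204000004))))))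

def sgOS_689 : Store := (.node 7525 (.node 7519 (.node 7516 (.node 7515 (.leaf 0x20102000004) (.leaf 0x0)) (.node 7517 (.leaf 0x0) (.node 7518 (.leaf 0x0) (.leaf 0x0)))) (.node 7522 (.node 7520 (.leaf 0x504020003) (.node 7521 (.leaf 0x5010203010005) (.leaf 0x0))) (.node 7523 (.leaf 0x0) (.node 7524 (.leaf 0x0) (.leaf 0x0))))) (.node 7530 (.node 7527 (.node 7526 (.leaf 0x205010003) (.leaf 0x20400020004)) (.node 7528 (.leaf 0x103000003) (.node 7529 (.leaf 0x40501020004) (.leaf 0x0)))) (.node 7533 (.node 7531 (.leaf 0x0) (.node 7532 (.leaf 0x0) (.leaf 0x2010201020005))) (.node 7534 (.leaf 0x0) (.node 7535 (.leaf 0x1000102010006) (.leaf 0x30003000005))))))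

def sgOS_690 : Store := (.node 7514 sgOS_688 sgOS_689)

def sgOS_691 : Store := (.node 7492 sgOS_687 sgOS_690)

def sgOS_692 : Store := (.node 7546 (.node 7541 (.node 7538 (.node 7537 (.leaf 0x20300010100010007) (.leaf 0x0)) (.node 7539 (.leaf 0x0) (.node 7540 (.leaf 0x203000003) (.leaf 0x205010003)))) (.node 7543 (.node 7542 (.leaf 0x40502030004) (.leaf 0x0)) (.node 7544 (.leaf 0x40203000004) (.node 7545 (.leaf 0x0) (.leaf 0x0))))) (.node 7551 (.node 7548 (.node 7547 (.leaf 0x0) (.leaf 0x300030302030006)) (.node 7549 (.leaf 0x1010201020005) (.node 7550 (.leaf 0x100010000010100000009) (.leaf 0x300010004)))) (.node 7554 (.node 7552 (.leaf 0x0) (.node 7553 (.leaf 0x0) (.leaf 0x2050002))) (.node 7555 (.leaf 0x3000002) (.node 7556 (.leaf 0x302000003) (.leaf 0x0))))))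

def sgOS_693 : Store := (.node 7568 (.node 7562 (.node 7559 (.node 7558 (.leaf 0x101020003) (.leaf 0x0)) (.node 7560 (.leaf 0x0) (.node 7561 (.leaf 0x20303000004) (.leaf 0x3000003)))) (.node 7565 (.node 7563 (.leaf 0x40200010004) (.node 7564 (.leaf 0x205010004) (.leaf 0x0))) (.node 7566 (.leaf 0x0) (.node 7567 (.leaf 0x0) (.leaf 0x0))))) (.node 7573 (.node 7570 (.node 7569 (.leaf 0x0) (.leaf 0x30203000001000007)) (.node 7571 (.leaf 0x0) (.node 7572 (.leaf 0x0) (.leaf 0x0)))) (.node 7576 (.node 7574 (.leaf 0x0) (.node 7575 (.leaf 0x0) (.leaf 0x0))) (.node 7577 (.leaf 0x501020003) (.node 7578 (.leaf 0x0) (.leaf 0x0))))))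

def sgOS_694 : Store := (.node 7557 sgOS_692 sgOS_693)

def sgOS_695 : Store := (.node 7590 (.node 7584 (.node 7581 (.node 7580 (.leaf 0x0) (.leaf 0x0)) (.node 7582 (.leaf 0x0) (.node 7583 (.leaf 0x2010002) (.leaf 0x103020003)))) (.node 7587 (.node 7585 (.leaf 0x2050002) (.node 7586 (.leaf 0x0) (.leaf 0x0))) (.node 7588 (.leaf 0x0) (.node 7589 (.leaf 0x0) (.leaf 0x0))))) (.node 7595 (.node 7592 (.node 7591 (.leaf 0x0) (.leaf 0x0)) (.node 7593 (.leaf 0x30302030004) (.node 7594 (.leaf 0x0) (.leaf 0x0)))) (.node 7598 (.node 7596 (.leaf 0x20302000004) (.node 7597 (.leaf 0x0) (.leaf 0x203010004))) (.node 7599 (.leaf 0x4020002) (.node 7600 (.leaf 0x10100020004) (.leaf 0x0))))))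

def sgOS_696 : Store := (.node 7612 (.node 7606 (.node 7603 (.node 7602 (.leaf 0x0) (.leaf 0x0)) (.node 7604 (.leaf 0x10302030004) (.node 7605 (.leaf 0x1000002) (.leaf 0x30102030004)))) (.node 7609 (.node 7607 (.leaf 0x100020004) (.node 7608 (.leaf 0x0) (.leaf 0x0))) (.node 7610 (.leaf 0x10102050004) (.node 7611 (.leaf 0x40501020004) (.leaf 0x0))))) (.node 7617 (.node 7614 (.node 7613 (.leaf 0x204020003) (.leaf 0x40204000004)) (.node 7615 (.leaf 0x0) (.node 7616 (.leaf 0x0) (.leaf 0x205010004)))) (.node 7620 (.node 7618 (.leaf 0x30002000004) (.node 7619 (.leaf 0x4050205000005) (.leaf 0x0))) (.node 7621 (.leaf 0x10102040004) (.node 7622 (.leaf 0x0) (.leaf 0x0))))))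

def sgOS_697 : Store := (.node 7601 sgOS_695 sgOS_696)

def sgOS_698 : Store := (.node 7579 sgOS_694 sgOS_697)

def sgOS_699 : Store := (.node 7536 sgOS_691 sgOS_698)

def sgOS_700 : Store := (.node 7449 sgOS_684 sgOS_699)

def sgOS_701 : Store := (.node 7276 sgOS_669 sgOS_700)

def sgOS_702 : Store := (.node 7633 (.node 7628 (.node 7625 (.node 7624 (.leaf 0x400020003) (.leaf 0x402050003)) (.node 7626 (.leaf 0x0) (.node 7627 (.leaf 0x0) (.leaf 0x0)))) (.node 7630 (.node 7629 (.leaf 0x0) (.leaf 0x0)) (.node 7631 (.leaf 0x40204000004) (.node 7632 (.leaf 0x0) (.leaf 0x0))))) (.node 7638 (.node 7635 (.node 7634 (.leaf 0x0) (.leaf 0x10205010004)) (.node 7636 (.leaf 0x0) (.node 7637 (.leaf 0x0) (.leaf 0x10101020201000008)))) (.node 7641 (.node 7639 (.leaf 0x0) (.node 7640 (.leaf 0x30300010101000007) (.leaf 0x2030000030303020008))) (.node 7642 (.leaf 0x0) (.node 7643 (.leaf 0x0) (.leaf 0x0))))))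

def sgOS_703 : Store := (.node 7655 (.node 7649 (.node 7646 (.node 7645 (.leaf 0x0) (.leaf 0x4000003)) (.node 7647 (.leaf 0x20405020004) (.node 7648 (.leaf 0x0) (.leaf 0x10200010004)))) (.node 7652 (.node 7650 (.leaf 0x0) (.node 7651 (.leaf 0x0) (.leaf 0x0))) (.node 7653 (.leaf 0x0) (.node 7654 (.leaf 0x0) (.leaf 0x30205000004))))) (.node 7660 (.node 7657 (.node 7656 (.leaf 0x0) (.leaf 0x0)) (.node 7658 (.leaf 0x0) (.node 7659 (.leaf 0x0) (.leaf 0x0)))) (.node 7663 (.node 7661 (.leaf 0x40203000004) (.node 7662 (.leaf 0x0) (.leaf 0x0))) (.node 7664 (.leaf 0x0) (.node 7665 (.leaf 0x0) (.leaf 0x0))))))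

def sgOS_704 : Store := (.node 7644 sgOS_702 sgOS_703)

def sgOS_705 : Store := (.node 7676 (.node 7671 (.node 7668 (.node 7667 (.leaf 0x5040002) (.leaf 0x0)) (.node 7669 (.leaf 0x0) (.node 7670 (.leaf 0x0) (.leaf 0x0)))) (.node 7673 (.node 7672 (.leaf 0x0) (.leaf 0x30102030004)) (.node 7674 (.leaf 0x0) (.node 7675 (.leaf 0x20501020004) (.leaf 0x400010003))))) (.node 7681 (.node 7678 (.node 7677 (.leaf 0x20100010004) (.leaf 0x0)) (.node 7679 (.leaf 0x0) (.node 7680 (.leaf 0x203000001000006) (.leaf 0x2020303020102020008)))) (.node 7684 (.node 7682 (.leaf 0x0) (.node 7683 (.leaf 0x203020201000006) (.leaf 0x2020303020102020008))) (.node 7685 (.leaf 0x0) (.node 7686 (.leaf 0x0) (.leaf 0x30402000004))))))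

def sgOS_706 : Store := (.node 7698 (.node 7692 (.node 7689 (.node 7688 (.leaf 0x50002000004) (.leaf 0x10001020004)) (.node 7690 (.leaf 0x0) (.node 7691 (.leaf 0x402030003) (.leaf 0x0)))) (.node 7695 (.node 7693 (.leaf 0x0) (.node 7694 (.leaf 0x203020003) (.leaf 0x504000003))) (.node 7696 (.leaf 0x0) (.node 7697 (.leaf 0x20504050004) (.leaf 0x204000004))))) (.node 7703 (.node 7700 (.node 7699 (.leaf 0x0) (.leaf 0x0)) (.node 7701 (.leaf 0x0) (.node 7702 (.leaf 0x0) (.leaf 0x30005020004)))) (.node 7706 (.node 7704 (.leaf 0x402040003) (.node 7705 (.leaf 0x0) (.leaf 0x0))) (.node 7707 (.leaf 0x0) (.node 7708 (.leaf 0x1030002) (.leaf 0x0))))))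

def sgOS_707 : Store := (.node 7687 sgOS_705 sgOS_706)

def sgOS_708 : Store := (.node 7666 sgOS_704 sgOS_707)

def sgOS_709 : Store := (.node 7719 (.node 7714 (.node 7711 (.node 7710 (.leaf 0x0) (.leaf 0x0)) (.node 7712 (.leaf 0x0) (.node 7713 (.leaf 0x0) (.leaf 0x0)))) (.node 7716 (.node 7715 (.leaf 0x402040003) (.leaf 0x400020003)) (.node 7717 (.leaf 0x0) (.node 7718 (.leaf 0x102010003) (.leaf 0x200030003))))) (.node 7724 (.node 7721 (.node 7720 (.leaf 0x0) (.leaf 0x0)) (.node 7722 (.leaf 0x0) (.node 7723 (.leaf 0x0) (.leaf 0x30005020004)))) (.node 7727 (.node 7725 (.leaf 0x0) (.node 7726 (.leaf 0x0) (.leaf 0x0))) (.node 7728 (.leaf 0x0) (.node 7729 (.leaf 0x0) (.leaf 0x30005020004))))))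

def sgOS_710 : Store := (.node 7741 (.node 7735 (.node 7732 (.node 7731 (.leaf 0x30402000004) (.leaf 0x0)) (.node 7733 (.leaf 0x10002000004) (.node 7734 (.leaf 0x0) (.leaf 0x0)))) (.node 7738 (.node 7736 (.leaf 0x205010004) (.node 7737 (.leaf 0x301030003) (.leaf 0x0))) (.node 7739 (.leaf 0x20005000004) (.node 7740 (.leaf 0x502010003) (.leaf 0x0))))) (.node 7746 (.node 7743 (.node 7742 (.leaf 0x0) (.leaf 0x20400010004)) (.node 7744 (.leaf 0x5020002) (.node 7745 (.leaf 0x205040003) (.leaf 0x10001020004)))) (.node 7749 (.node 7747 (.leaf 0x0) (.node 7748 (.leaf 0x0) (.leaf 0x0))) (.node 7750 (.leaf 0x0) (.node 7751 (.leaf 0x203020003) (.leaf 0x203020003))))))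

def sgOS_711 : Store := (.node 7730 sgOS_709 sgOS_710)

def sgOS_712 : Store := (.node 7763 (.node 7757 (.node 7754 (.node 7753 (.leaf 0x204000003) (.leaf 0x203010003)) (.node 7755 (.leaf 0x0) (.node 7756 (.leaf 0x0) (.leaf 0x504020003)))) (.node 7760 (.node 7758 (.leaf 0x10203020004) (.node 7759 (.leaf 0x0) (.leaf 0x101020004))) (.node 7761 (.leaf 0x50400020004) (.node 7762 (.leaf 0x0) (.leaf 0x0))))) (.node 7768 (.node 7765 (.node 7764 (.leaf 0x1020101020203000009) (.leaf 0x0)) (.node 7766 (.leaf 0x1010001010202010008) (.node 7767 (.leaf 0x0) (.leaf 0x300010100000008)))) (.node 7771 (.node 7769 (.leaf 0x0) (.node 7770 (.leaf 0x0) (.leaf 0x0))) (.node 7772 (.leaf 0x40002000004) (.node 7773 (.leaf 0x50402040004) (.leaf 0x30402000004))))))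

def sgOS_713 : Store := (.node 7785 (.node 7779 (.node 7776 (.node 7775 (.leaf 0x205000003) (.leaf 0x0)) (.node 7777 (.leaf 0x0) (.node 7778 (.leaf 0x0) (.leaf 0x40001)))) (.node 7782 (.node 7780 (.leaf 0x0) (.node 7781 (.leaf 0x0) (.leaf 0x0))) (.node 7783 (.leaf 0x0) (.node 7784 (.leaf 0x0) (.leaf 0x100010003))))) (.node 7790 (.node 7787 (.node 7786 (.leaf 0x30103020004) (.leaf 0x103000003)) (.node 7788 (.leaf 0x0) (.node 7789 (.leaf 0x10200010004) (.leaf 0x0)))) (.node 7793 (.node 7791 (.leaf 0x0) (.node 7792 (.leaf 0x203040003) (.leaf 0x30102000004))) (.node 7794 (.leaf 0x203020003) (.node 7795 (.leaf 0x10204000004) (.leaf 0x0))))))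

def sgOS_714 : Store := (.node 7774 sgOS_712 sgOS_713)

def sgOS_715 : Store := (.node 7752 sgOS_711 sgOS_714)

def sgOS_716 : Store := (.node 7709 sgOS_708 sgOS_715)

def sgOS_717 : Store := (.node 7806 (.node 7801 (.node 7798 (.node 7797 (.leaf 0x0) (.leaf 0x0)) (.node 7799 (.leaf 0x501020003) (.node 7800 (.leaf 0x302000003) (.leaf 0x0)))) (.node 7803 (.node 7802 (.leaf 0x50200050004) (.leaf 0x5010002)) (.node 7804 (.leaf 0x0) (.node 7805 (.leaf 0x0) (.leaf 0x0))))) (.node 7811 (.node 7808 (.node 7807 (.leaf 0x0) (.leaf 0x0)) (.node 7809 (.leaf 0x1030002) (.node 7810 (.leaf 0x0) (.leaf 0x0)))) (.node 7814 (.node 7812 (.leaf 0x0) (.node 7813 (.leaf 0x30005020004) (.leaf 0x103020003))) (.node 7815 (.leaf 0x0) (.node 7816 (.leaf 0x20302000004) (.leaf 0x0))))))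

def sgOS_718 : Store := (.node 7828 (.node 7822 (.node 7819 (.node 7818 (.leaf 0x0) (.leaf 0x0)) (.node 7820 (.leaf 0x304020003) (.node 7821 (.leaf 0x0) (.leaf 0x10102000004)))) (.node 7825 (.node 7823 (.leaf 0x203010003) (.node 7824 (.leaf 0x504020003) (.leaf 0x0))) (.node 7826 (.leaf 0x0) (.node 7827 (.leaf 0x0) (.leaf 0x100020004))))) (.node 7833 (.node 7830 (.node 7829 (.leaf 0x302000003) (.leaf 0x0)) (.node 7831 (.leaf 0x10001) (.node 7832 (.leaf 0x0) (.leaf 0x0)))) (.node 7836 (.node 7834 (.leaf 0x40205040004) (.node 7835 (.leaf 0x0) (.leaf 0x0))) (.node 7837 (.leaf 0x30005020004) (.node 7838 (.leaf 0x0) (.leaf 0x0))))))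

def sgOS_719 : Store := (.node 7817 sgOS_717 sgOS_718)

def sgOS_720 : Store := (.node 7849 (.node 7844 (.node 7841 (.node 7840 (.leaf 0x0) (.leaf 0x0)) (.node 7842 (.leaf 0x203030201020203000009) (.node 7843 (.leaf 0x300030203020006) (.leaf 0x1020101020203000009)))) (.node 7846 (.node 7845 (.leaf 0x10202030201010007) (.leaf 0x0)) (.node 7847 (.leaf 0x0) (.node 7848 (.leaf 0x20001) (.leaf 0x0))))) (.node 7854 (.node 7851 (.node 7850 (.leaf 0x30200010004) (.leaf 0x4050205000005)) (.node 7852 (.leaf 0x0) (.node 7853 (.leaf 0x0) (.leaf 0x0)))) (.node 7857 (.node 7855 (.leaf 0x5010204000005) (.node 7856 (.leaf 0x0) (.leaf 0x50402000004))) (.node 7858 (.leaf 0x301030003) (.node 7859 (.leaf 0x301030003) (.leaf 0x0))))))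

def sgOS_721 : Store := (.node 7871 (.node 7865 (.node 7862 (.node 7861 (.leaf 0x0) (.leaf 0x0)) (.node 7863 (.leaf 0x0) (.node 7864 (.leaf 0x30204000004) (.leaf 0x0)))) (.node 7868 (.node 7866 (.leaf 0x0) (.node 7867 (.leaf 0x0) (.leaf 0x0))) (.node 7869 (.leaf 0x201000003) (.node 7870 (.leaf 0x3000002) (.leaf 0x20101000004))))) (.node 7876 (.node 7873 (.node 7872 (.leaf 0x201000003) (.leaf 0x0)) (.node 7874 (.leaf 0x0) (.node 7875 (.leaf 0x0) (.leaf 0x30302030004)))) (.node 7879 (.node 7877 (.leaf 0x1030002) (.node 7878 (.leaf 0x20001000004) (.leaf 0x0))) (.node 7880 (.leaf 0x0) (.node 7881 (.leaf 0x0) (.leaf 0x0))))))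

def sgOS_722 : Store := (.node 7860 sgOS_720 sgOS_721)

def sgOS_723 : Store := (.node 7839 sgOS_719 sgOS_722)

def sgOS_724 : Store := (.node 7892 (.node 7887 (.node 7884 (.node 7883 (.leaf 0x3020003) (.leaf 0x2050204000005)) (.node 7885 (.leaf 0x5010002) (.node 7886 (.leaf 0x0) (.leaf 0x1020001000005)))) (.node 7889 (.node 7888 (.leaf 0x0) (.leaf 0x0)) (.node 7890 (.leaf 0x20001000004) (.node 7891 (.leaf 0x205010003) (.leaf 0x0))))) (.node 7897 (.node 7894 (.node 7893 (.leaf 0x0) (.leaf 0x20304000004)) (.node 7895 (.leaf 0x0) (.node 7896 (.leaf 0x0) (.leaf 0x50002)))) (.node 7900 (.node 7898 (.leaf 0x1030002) (.node 7899 (.leaf 0x1030002) (.leaf 0x302000004))) (.node 7901 (.leaf 0x0) (.node 7902 (.leaf 0x0) (.leaf 0x0))))))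

def sgOS_725 : Store := (.node 7914 (.node 7908 (.node 7905 (.node 7904 (.leaf 0x30200050004) (.leaf 0x30201010004)) (.node 7906 (.leaf 0x50402000004) (.node 7907 (.leaf 0x0) (.leaf 0x0)))) (.node 7911 (.node 7909 (.leaf 0x0) (.node 7910 (.leaf 0x0) (.leaf 0x50400020004))) (.node 7912 (.leaf 0x0) (.node 7913 (.leaf 0x30402000004) (.leaf 0x0))))) (.node 7919 (.node 7916 (.node 7915 (.leaf 0x0) (.leaf 0x0)) (.node 7917 (.leaf 0x0) (.node 7918 (.leaf 0x201030003) (.leaf 0x0)))) (.node 7922 (.node 7920 (.leaf 0x3020501010005) (.node 7921 (.leaf 0x20001) (.leaf 0x40001020004))) (.node 7923 (.leaf 0x0) (.node 7924 (.leaf 0x0) (.leaf 0x0))))))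

def sgOS_726 : Store := (.node 7903 sgOS_724 sgOS_725)

def sgOS_727 : Store := (.node 7936 (.node 7930 (.node 7927 (.node 7926 (.leaf 0x0) (.leaf 0x0)) (.node 7928 (.leaf 0x30205000004) (.node 7929 (.leaf 0x1) (.leaf 0x0)))) (.node 7933 (.node 7931 (.leaf 0x0) (.node 7932 (.leaf 0x20101000004) (.leaf 0x205010003))) (.node 7934 (.leaf 0x0) (.node 7935 (.leaf 0x10203000004) (.leaf 0x5010203010005))))) (.node 7941 (.node 7938 (.node 7937 (.leaf 0x0) (.leaf 0x0)) (.node 7939 (.leaf 0x20304000004) (.node 7940 (.leaf 0x0) (.leaf 0x0)))) (.node 7944 (.node 7942 (.leaf 0x204050003) (.node 7943 (.leaf 0x5040002) (.leaf 0x0))) (.node 7945 (.leaf 0x0) (.node 7946 (.leaf 0x10204000004) (.leaf 0x0))))))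

def sgOS_728 : Store := (.node 7958 (.node 7952 (.node 7949 (.node 7948 (.leaf 0x20103000004) (.leaf 0x50102000004)) (.node 7950 (.leaf 0x0) (.node 7951 (.leaf 0x0) (.leaf 0x0)))) (.node 7955 (.node 7953 (.leaf 0x20501010004) (.node 7954 (.leaf 0x0) (.leaf 0x2050003))) (.node 7956 (.leaf 0x504000003) (.node 7957 (.leaf 0x50402040004) (.leaf 0x0))))) (.node 7963 (.node 7960 (.node 7959 (.leaf 0x0) (.leaf 0x0)) (.node 7961 (.leaf 0x302010003) (.node 7962 (.leaf 0x0) (.leaf 0x10002)))) (.node 7966 (.node 7964 (.leaf 0x0) (.node 7965 (.leaf 0x0) (.leaf 0x0))) (.node 7967 (.leaf 0x0) (.node 7968 (.leaf 0x0) (.leaf 0x103000003))))))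

def sgOS_729 : Store := (.node 7947 sgOS_727 sgOS_728)

def sgOS_730 : Store := (.node 7925 sgOS_726 sgOS_729)

def sgOS_731 : Store := (.node 7882 sgOS_723 sgOS_730)

def sgOS_732 : Store := (.node 7796 sgOS_716 sgOS_731)

def sgOS_733 : Store := (.node 7979 (.node 7974 (.node 7971 (.node 7970 (.leaf 0x0) (.leaf 0x2030002)) (.node 7972 (.leaf 0x0) (.node 7973 (.leaf 0x0) (.leaf 0x20001)))) (.node 7976 (.node 7975 (.leaf 0x501010003) (.leaf 0x20504000004)) (.node 7977 (.leaf 0x3000205000005) (.node 7978 (.leaf 0x0) (.leaf 0x0))))) (.node 7984 (.node 7981 (.node 7980 (.leaf 0x0) (.leaf 0x301020003)) (.node 7982 (.leaf 0x0) (.node 7983 (.leaf 0x1000003) (.leaf 0x10302010004)))) (.node 7987 (.node 7985 (.leaf 0x304000003) (.node 7986 (.leaf 0x0) (.leaf 0x0))) (.node 7988 (.leaf 0x50102000004) (.node 7989 (.leaf 0x20302040004) (.leaf 0x300050003))))))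

def sgOS_734 : Store := (.node 8001 (.node 7995 (.node 7992 (.node 7991 (.leaf 0x0) (.leaf 0x0)) (.node 7993 (.leaf 0x0) (.node 7994 (.leaf 0x0) (.leaf 0x102010004)))) (.node 7998 (.node 7996 (.leaf 0x1020002) (.node 7997 (.leaf 0x20502040004) (.leaf 0x0))) (.node 7999 (.leaf 0x0) (.node 8000 (.leaf 0x0) (.leaf 0x0))))) (.node 8006 (.node 8003 (.node 8002 (.leaf 0x0) (.leaf 0x40001020004)) (.node 8004 (.leaf 0x205010003) (.node 8005 (.leaf 0x5010002) (.leaf 0x0)))) (.node 8009 (.node 8007 (.leaf 0x0) (.node 8008 (.leaf 0x0) (.leaf 0x0))) (.node 8010 (.leaf 0x303000003) (.node 8011 (.leaf 0x50102030004) (.leaf 0x500020003))))))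

def sgOS_735 : Store := (.node 7990 sgOS_733 sgOS_734)

def sgOS_736 : Store := (.node 8022 (.node 8017 (.node 8014 (.node 8013 (.leaf 0x101020003) (.leaf 0x0)) (.node 8015 (.leaf 0x0) (.node 8016 (.leaf 0x0) (.leaf 0x20400010004)))) (.node 8019 (.node 8018 (.leaf 0x0) (.leaf 0x203000003)) (.node 8020 (.leaf 0x0) (.node 8021 (.leaf 0x0) (.leaf 0x0))))) (.node 8027 (.node 8024 (.node 8023 (.leaf 0x302010004) (.leaf 0x0)) (.node 8025 (.leaf 0x204020003) (.node 8026 (.leaf 0x302010004) (.leaf 0x40205040004)))) (.node 8030 (.node 8028 (.leaf 0x0) (.node 8029 (.leaf 0x0) (.leaf 0x0))) (.node 8031 (.leaf 0x5040002) (.node 8032 (.leaf 0x0) (.leaf 0x0))))))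

def sgOS_737 : Store := (.node 8044 (.node 8038 (.node 8035 (.node 8034 (.leaf 0x0) (.leaf 0x0)) (.node 8036 (.leaf 0x0) (.node 8037 (.leaf 0x40001) (.leaf 0x0)))) (.node 8041 (.node 8039 (.leaf 0x0) (.node 8040 (.leaf 0x0) (.leaf 0x501020003))) (.node 8042 (.leaf 0x0) (.node 8043 (.leaf 0x0) (.leaf 0x0))))) (.node 8049 (.node 8046 (.node 8045 (.leaf 0x102050003) (.leaf 0x3020302000005)) (.node 8047 (.leaf 0x4050002) (.node 8048 (.leaf 0x1) (.leaf 0x0)))) (.node 8052 (.node 8050 (.leaf 0x0) (.node 8051 (.leaf 0x100010003) (.leaf 0x20304000004))) (.node 8053 (.leaf 0x0) (.node 8054 (.leaf 0x303000003) (.leaf 0x20402000004))))))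

def sgOS_738 : Store := (.node 8033 sgOS_736 sgOS_737)

def sgOS_739 : Store := (.node 8012 sgOS_735 sgOS_738)

def sgOS_740 : Store := (.node 8065 (.node 8060 (.node 8057 (.node 8056 (.leaf 0x0) (.leaf 0x0)) (.node 8058 (.leaf 0x50205000005) (.node 8059 (.leaf 0x204000004) (.leaf 0x0)))) (.node 8062 (.node 8061 (.leaf 0x4020002) (.leaf 0x30005020004)) (.node 8063 (.leaf 0x0) (.node 8064 (.leaf 0x0) (.leaf 0x102010004))))) (.node 8070 (.node 8067 (.node 8066 (.leaf 0x0) (.leaf 0x0)) (.node 8068 (.leaf 0x102010004) (.node 8069 (.leaf 0x0) (.leaf 0x0)))) (.node 8073 (.node 8071 (.leaf 0x0) (.node 8072 (.leaf 0x0) (.leaf 0x0))) (.node 8074 (.leaf 0x0) (.node 8075 (.leaf 0x20501020004) (.leaf 0x0))))))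

def sgOS_741 : Store := (.node 8087 (.node 8081 (.node 8078 (.node 8077 (.leaf 0x0) (.leaf 0x0)) (.node 8079 (.leaf 0x1020003) (.node 8080 (.leaf 0x102010004) (.leaf 0x0)))) (.node 8084 (.node 8082 (.leaf 0x1010003) (.node 8083 (.leaf 0x0) (.leaf 0x0))) (.node 8085 (.leaf 0x0) (.node 8086 (.leaf 0x0) (.leaf 0x0))))) (.node 8092 (.node 8089 (.node 8088 (.leaf 0x0) (.leaf 0x0)) (.node 8090 (.leaf 0x0) (.node 8091 (.leaf 0x0) (.leaf 0x0)))) (.node 8095 (.node 8093 (.leaf 0x301020003) (.node 8094 (.leaf 0x100020003) (.leaf 0x3020101000005))) (.node 8096 (.leaf 0x10102000004) (.node 8097 (.leaf 0x0) (.leaf 0x0))))))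

def sgOS_742 : Store := (.node 8076 sgOS_740 sgOS_741)

def sgOS_743 : Store := (.node 8109 (.node 8103 (.node 8100 (.node 8099 (.leaf 0x0) (.leaf 0x0)) (.node 8101 (.leaf 0x0) (.node 8102 (.leaf 0x0) (.leaf 0x201030003)))) (.node 8106 (.node 8104 (.leaf 0x1010002) (.node 8105 (.leaf 0x0) (.leaf 0x0))) (.node 8107 (.leaf 0x0) (.node 8108 (.leaf 0x405010003) (.leaf 0x203000003))))) (.node 8114 (.node 8111 (.node 8110 (.leaf 0x10302010004) (.leaf 0x0)) (.node 8112 (.leaf 0x0) (.node 8113 (.leaf 0x0) (.leaf 0x20101000004)))) (.node 8117 (.node 8115 (.leaf 0x0) (.node 8116 (.leaf 0x0) (.leaf 0x0))) (.node 8118 (.leaf 0x0) (.node 8119 (.leaf 0x0) (.leaf 0x0))))))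

def sgOS_744 : Store := (.node 8131 (.node 8125 (.node 8122 (.node 8121 (.leaf 0x0) (.leaf 0x0)) (.node 8123 (.leaf 0x0) (.node 8124 (.leaf 0x50102000004) (.leaf 0x501010003)))) (.node 8128 (.node 8126 (.leaf 0x0) (.node 8127 (.leaf 0x0) (.leaf 0x0))) (.node 8129 (.leaf 0x50001) (.node 8130 (.leaf 0x30302010004) (.leaf 0x30402000004))))) (.node 8136 (.node 8133 (.node 8132 (.leaf 0x30302030004) (.leaf 0x0)) (.node 8134 (.leaf 0x0) (.node 8135 (.leaf 0x0) (.leaf 0x5010204000005)))) (.node 8139 (.node 8137 (.leaf 0x405020003) (.node 8138 (.leaf 0x40002) (.leaf 0x20504050004))) (.node 8140 (.leaf 0x0) (.node 8141 (.leaf 0x0) (.leaf 0x0))))))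

def sgOS_745 : Store := (.node 8120 sgOS_743 sgOS_744)

def sgOS_746 : Store := (.node 8098 sgOS_742 sgOS_745)

def sgOS_747 : Store := (.node 8055 sgOS_739 sgOS_746)

def sgOS_748 : Store := (.node 8152 (.node 8147 (.node 8144 (.node 8143 (.leaf 0x0) (.leaf 0x0)) (.node 8145 (.leaf 0x0) (.node 8146 (.leaf 0x0) (.leaf 0x0)))) (.node 8149 (.node 8148 (.leaf 0x0) (.leaf 0x201020003)) (.node 8150 (.leaf 0x1000002) (.node 8151 (.leaf 0x40200010004) (.leaf 0x0))))) (.node 8157 (.node 8154 (.node 8153 (.leaf 0x2040002) (.leaf 0x0)) (.node 8155 (.leaf 0x0) (.node 8156 (.leaf 0x0) (.leaf 0x500020003)))) (.node 8160 (.node 8158 (.leaf 0x30005020004) (.node 8159 (.leaf 0x0) (.leaf 0x205040003))) (.node 8161 (.leaf 0x0) (.node 8162 (.leaf 0x0) (.leaf 0x10204000004))))))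

def sgOS_749 : Store := (.node 8174 (.node 8168 (.node 8165 (.node 8164 (.leaf 0x203020003) (.leaf 0x204000003)) (.node 8166 (.leaf 0x0) (.node 8167 (.leaf 0x20405020004) (.leaf 0x0)))) (.node 8171 (.node 8169 (.leaf 0x0) (.node 8170 (.leaf 0x0) (.leaf 0x0))) (.node 8172 (.leaf 0x0) (.node 8173 (.leaf 0x10204000004) (.leaf 0x0))))) (.node 8179 (.node 8176 (.node 8175 (.leaf 0x0) (.leaf 0x0)) (.node 8177 (.leaf 0x3000205000005) (.node 8178 (.leaf 0x204000004) (.leaf 0x30204000004)))) (.node 8182 (.node 8180 (.leaf 0x205010003) (.node 8181 (.leaf 0x0) (.leaf 0x0))) (.node 8183 (.leaf 0x0) (.node 8184 (.leaf 0x101000003) (.leaf 0x100020003))))))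

def sgOS_750 : Store := (.node 8163 sgOS_748 sgOS_749)

def sgOS_751 : Store := (.node 8196 (.node 8190 (.node 8187 (.node 8186 (.leaf 0x30102000004) (.leaf 0x4020002)) (.node 8188 (.leaf 0x0) (.node 8189 (.leaf 0x0) (.leaf 0x0)))) (.node 8193 (.node 8191 (.leaf 0x0) (.node 8192 (.leaf 0x0) (.leaf 0x0))) (.node 8194 (.leaf 0x0) (.node 8195 (.leaf 0x0) (.leaf 0x0))))) (.node 8201 (.node 8198 (.node 8197 (.leaf 0x0) (.leaf 0x2050204000005)) (.node 8199 (.leaf 0x204050003) (.node 8200 (.leaf 0x30402000004) (.leaf 0x0)))) (.node 8204 (.node 8202 (.leaf 0x102040003) (.node 8203 (.leaf 0x0) (.leaf 0x0))) (.node 8205 (.leaf 0x20302000004) (.node 8206 (.leaf 0x0) (.leaf 0x204000004))))))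

def sgOS_752 : Store := (.node 8218 (.node 8212 (.node 8209 (.node 8208 (.leaf 0x20304000004) (.leaf 0x50200050004)) (.node 8210 (.leaf 0x0) (.node 8211 (.leaf 0x0) (.leaf 0x502050004)))) (.node 8215 (.node 8213 (.leaf 0x0) (.node 8214 (.leaf 0x5010203010005) (.leaf 0x40200010004))) (.node 8216 (.leaf 0x3000003) (.node 8217 (.leaf 0x0) (.leaf 0x0))))) (.node 8223 (.node 8220 (.node 8219 (.leaf 0x0) (.leaf 0x3020003)) (.node 8221 (.leaf 0x30204000004) (.node 8222 (.leaf 0x0) (.leaf 0x200030003)))) (.node 8226 (.node 8224 (.leaf 0x0) (.node 8225 (.leaf 0x0) (.leaf 0x40200010004))) (.node 8227 (.leaf 0x20402000004) (.node 8228 (.leaf 0x30102030004) (.leaf 0x203040003))))))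

def sgOS_753 : Store := (.node 8207 sgOS_751 sgOS_752)

def sgOS_754 : Store := (.node 8185 sgOS_750 sgOS_753)

def sgOS_755 : Store := (.node 8239 (.node 8234 (.node 8231 (.node 8230 (.leaf 0x0) (.leaf 0x0)) (.node 8232 (.leaf 0x0) (.node 8233 (.leaf 0x0) (.leaf 0x502050004)))) (.node 8236 (.node 8235 (.leaf 0x4050205000005) (.leaf 0x50400020004)) (.node 8237 (.leaf 0x102010004) (.node 8238 (.leaf 0x0) (.leaf 0x0))))) (.node 8244 (.node 8241 (.node 8240 (.leaf 0x0) (.leaf 0x50102030004)) (.node 8242 (.leaf 0x504000003) (.node 8243 (.leaf 0x0) (.leaf 0x0)))) (.node 8247 (.node 8245 (.leaf 0x0) (.node 8246 (.leaf 0x0) (.leaf 0x3010203000005))) (.node 8248 (.leaf 0x5010204000005) (.node 8249 (.leaf 0x0) (.leaf 0x5020003))))))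

def sgOS_756 : Store := (.node 8261 (.node 8255 (.node 8252 (.node 8251 (.leaf 0x0) (.leaf 0x0)) (.node 8253 (.leaf 0x0) (.node 8254 (.leaf 0x3010002) (.leaf 0x0)))) (.node 8258 (.node 8256 (.leaf 0x40203000004) (.node 8257 (.leaf 0x3010203000005) (.leaf 0x0))) (.node 8259 (.leaf 0x0) (.node 8260 (.leaf 0x0) (.leaf 0x0))))) (.node 8266 (.node 8263 (.node 8262 (.leaf 0x0) (.leaf 0x0)) (.node 8264 (.leaf 0x0) (.node 8265 (.leaf 0x0) (.leaf 0x0)))) (.node 8269 (.node 8267 (.leaf 0x0) (.node 8268 (.leaf 0x1020002) (.leaf 0x50102040004))) (.node 8270 (.leaf 0x400020003) (.node 8271 (.leaf 0x0) (.leaf 0x50405020004))))))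

def sgOS_757 : Store := (.node 8250 sgOS_755 sgOS_756)

def sgOS_758 : Store := (.node 8283 (.node 8277 (.node 8274 (.node 8273 (.leaf 0x0) (.leaf 0x0)) (.node 8275 (.leaf 0x1010002000005) (.node 8276 (.leaf 0x20504000004) (.leaf 0x0)))) (.node 8280 (.node 8278 (.leaf 0x30204000004) (.node 8279 (.leaf 0x30002000004) (.leaf 0x0))) (.node 8281 (.leaf 0x0) (.node 8282 (.leaf 0x30402000004) (.leaf 0x302010004))))) (.node 8288 (.node 8285 (.node 8284 (.leaf 0x0) (.leaf 0x0)) (.node 8286 (.leaf 0x501020003) (.node 8287 (.leaf 0x0) (.leaf 0x0)))) (.node 8291 (.node 8289 (.leaf 0x102010003) (.node 8290 (.leaf 0x40205040004) (.leaf 0x0))) (.node 8292 (.leaf 0x205010004) (.node 8293 (.leaf 0x20005000004) (.leaf 0x0))))))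

def sgOS_759 : Store := (.node 8305 (.node 8299 (.node 8296 (.node 8295 (.leaf 0x0) (.leaf 0x50205000004)) (.node 8297 (.leaf 0x0) (.node 8298 (.leaf 0x201030003) (.leaf 0x1030002)))) (.node 8302 (.node 8300 (.leaf 0x205040003) (.node 8301 (.leaf 0x0) (.leaf 0x0))) (.node 8303 (.leaf 0x2010002) (.node 8304 (.leaf 0x0) (.leaf 0x50402000004))))) (.node 8310 (.node 8307 (.node 8306 (.leaf 0x10201030004) (.leaf 0x30302030004)) (.node 8308 (.leaf 0x0) (.node 8309 (.leaf 0x0) (.leaf 0x0)))) (.node 8313 (.node 8311 (.leaf 0x504050003) (.node 8312 (.leaf 0x200010003) (.leaf 0x0))) (.node 8314 (.leaf 0x50002) (.node 8315 (.leaf 0x0) (.leaf 0x0))))))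

def sgOS_760 : Store := (.node 8294 sgOS_758 sgOS_759)

def sgOS_761 : Store := (.node 8272 sgOS_757 sgOS_760)

def sgOS_762 : Store := (.node 8229 sgOS_754 sgOS_761)

def sgOS_763 : Store := (.node 8142 sgOS_747 sgOS_762)

def sgOS_764 : Store := (.node 7969 sgOS_732 sgOS_763)

def sgOS_765 : Store := (.node 7623 sgOS_701 sgOS_764)

def sgOS_766 : Store := (.node 6930 sgOS_638 sgOS_765)

def sgOS_767 : Store := (.node 8326 (.node 8321 (.node 8318 (.node 8317 (.leaf 0x0) (.leaf 0x302010004)) (.node 8319 (.leaf 0x40502000004) (.node 8320 (.leaf 0x205000003) (.leaf 0x2040002)))) (.node 8323 (.node 8322 (.leaf 0x0) (.leaf 0x0)) (.node 8324 (.leaf 0x50002) (.node 8325 (.leaf 0x0) (.leaf 0x10203020004))))) (.node 8331 (.node 8328 (.node 8327 (.leaf 0x0) (.leaf 0x10205020004)) (.node 8329 (.leaf 0x0) (.node 8330 (.leaf 0x0) (.leaf 0x2050003)))) (.node 8334 (.node 8332 (.leaf 0x30200050004) (.node 8333 (.leaf 0x0) (.leaf 0x204050003)))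 (.node 8335 (.leaf 0x102000004) (.node 8336 (.leaf 0x0) (.leaf 0x0))))))

def sgOS_768 : Store := (.node 8348 (.node 8342 (.node 8339 (.node 8338 (.leaf 0x3010203000005) (.leaf 0x0)) (.node 8340 (.leaf 0x0) (.node 8341 (.leaf 0x0) (.leaf 0x0)))) (.node 8345 (.node 8343 (.leaf 0x0) (.node 8344 (.leaf 0x0) (.leaf 0x40205000004))) (.node 8346 (.leaf 0x30205040004) (.node 8347 (.leaf 0x0) (.leaf 0x0))))) (.node 8353 (.node 8350 (.node 8349 (.leaf 0x0) (.leaf 0x0)) (.node 8351 (.leaf 0x0) (.node 8352 (.leaf 0x0) (.leaf 0x40002)))) (.node 8356 (.node 8354 (.leaf 0x4000003) (.node 8355 (.leaf 0x20501020004) (.leaf 0x2030002))) (.node 8357 (.leaf 0x0) (.node 8358 (.leaf 0x0) (.leaf 0x102000004))))))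

def sgOS_769 : Store := (.node 8337 sgOS_767 sgOS_768)

def sgOS_770 : Store := (.node 8369 (.node 8364 (.node 8361 (.node 8360 (.leaf 0x0) (.leaf 0x10203020004)) (.node 8362 (.leaf 0x203020003) (.node 8363 (.leaf 0x0) (.leaf 0x0)))) (.node 8366 (.node 8365 (.leaf 0x0) (.leaf 0x204000004)) (.node 8367 (.leaf 0x1) (.node 8368 (.leaf 0x3010204000005) (.leaf 0x0))))) (.node 8374 (.node 8371 (.node 8370 (.leaf 0x30001) (.leaf 0x0)) (.node 8372 (.leaf 0x0) (.node 8373 (.leaf 0x4000002) (.leaf 0x2010002)))) (.node 8377 (.node 8375 (.leaf 0x0) (.node 8376 (.leaf 0x10102050004) (.leaf 0x205020003))) (.node 8378 (.leaf 0x0) (.node 8379 (.leaf 0x0) (.leaf 0x205000004))))))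

def sgOS_771 : Store := (.node 8391 (.node 8385 (.node 8382 (.node 8381 (.leaf 0x1010002) (.leaf 0x0)) (.node 8383 (.leaf 0x205000004) (.node 8384 (.leaf 0x40205000004) (.leaf 0x0)))) (.node 8388 (.node 8386 (.leaf 0x0) (.node 8387 (.leaf 0x0) (.leaf 0x0))) (.node 8389 (.leaf 0x1010002) (.node 8390 (.leaf 0x200050003) (.leaf 0x0))))) (.node 8396 (.node 8393 (.node 8392 (.leaf 0x0) (.leaf 0x0)) (.node 8394 (.leaf 0x50102000004) (.node 8395 (.leaf 0x50205000005) (.leaf 0x0)))) (.node 8399 (.node 8397 (.leaf 0x204050003) (.node 8398 (.leaf 0x50203000004) (.leaf 0x0))) (.node 8400 (.leaf 0x0) (.node 8401 (.leaf 0x30205000004) (.leaf 0x20102000004))))))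

def sgOS_772 : Store := (.node 8380 sgOS_770 sgOS_771)

def sgOS_773 : Store := (.node 8359 sgOS_769 sgOS_772)

def sgOS_774 : Store := (.node 8412 (.node 8407 (.node 8404 (.node 8403 (.leaf 0x40203000004) (.leaf 0x1020001000005)) (.node 8405 (.leaf 0x0) (.node 8406 (.leaf 0x0) (.leaf 0x0)))) (.node 8409 (.node 8408 (.leaf 0x204000004) (.leaf 0x0)) (.node 8410 (.leaf 0x50203010004) (.node 8411 (.leaf 0x200010003) (.leaf 0x0))))) (.node 8417 (.node 8414 (.node 8413 (.leaf 0x0) (.leaf 0x0)) (.node 8415 (.leaf 0x2040002) (.node 8416 (.leaf 0x0) (.leaf 0x40205040004)))) (.node 8420 (.node 8418 (.leaf 0x2040002) (.node 8419 (.leaf 0x4020002) (.leaf 0x0))) (.node 8421 (.leaf 0x0) (.node 8422 (.leaf 0x0) (.leaf 0x0))))))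

def sgOS_775 : Store := (.node 8434 (.node 8428 (.node 8425 (.node 8424 (.leaf 0x3010204000005) (.leaf 0x0)) (.node 8426 (.leaf 0x50402040004) (.node 8427 (.leaf 0x0) (.leaf 0x0)))) (.node 8431 (.node 8429 (.leaf 0x0) (.node 8430 (.leaf 0x20005000004) (.leaf 0x103020003))) (.node 8432 (.leaf 0x4050002) (.node 8433 (.leaf 0x10203000004) (.leaf 0x0))))) (.node 8439 (.node 8436 (.node 8435 (.leaf 0x0) (.leaf 0x504000003)) (.node 8437 (.leaf 0x0) (.node 8438 (.leaf 0x10205000004) (.leaf 0x3020002)))) (.node 8442 (.node 8440 (.leaf 0x5020002) (.node 8441 (.leaf 0x0) (.leaf 0x0))) (.node 8443 (.leaf 0x0) (.node 8444 (.leaf 0x103020003) (.leaf 0x4000003))))))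

def sgOS_776 : Store := (.node 8423 sgOS_774 sgOS_775)

def sgOS_777 : Store := (.node 8456 (.node 8450 (.node 8447 (.node 8446 (.leaf 0x205020003) (.leaf 0x504050003)) (.node 8448 (.leaf 0x0) (.node 8449 (.leaf 0x0) (.leaf 0x5010002)))) (.node 8453 (.node 8451 (.leaf 0x1) (.node 8452 (.leaf 0x3040002) (.leaf 0x30103020004))) (.node 8454 (.leaf 0x0) (.node 8455 (.leaf 0x0) (.leaf 0x0))))) (.node 8461 (.node 8458 (.node 8457 (.leaf 0x102010003) (.leaf 0x0)) (.node 8459 (.leaf 0x0) (.node 8460 (.leaf 0x3000002) (.leaf 0x0)))) (.node 8464 (.node 8462 (.leaf 0x0) (.node 8463 (.leaf 0x0) (.leaf 0x0))) (.node 8465 (.leaf 0x302030003) (.node 8466 (.leaf 0x2050002) (.leaf 0x204000004))))))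

def sgOS_778 : Store := (.node 8478 (.node 8472 (.node 8469 (.node 8468 (.leaf 0x102000004) (.leaf 0x0)) (.node 8470 (.leaf 0x0) (.node 8471 (.leaf 0x0) (.leaf 0x0)))) (.node 8475 (.node 8473 (.leaf 0x3020101000005) (.node 8474 (.leaf 0x0) (.leaf 0x1000003))) (.node 8476 (.leaf 0x0) (.node 8477 (.leaf 0x0) (.leaf 0x0))))) (.node 8483 (.node 8480 (.node 8479 (.leaf 0x504000003) (.leaf 0x1000003)) (.node 8481 (.leaf 0x201000003) (.node 8482 (.leaf 0x2010002) (.leaf 0x0)))) (.node 8486 (.node 8484 (.leaf 0x0) (.node 8485 (.leaf 0x0) (.leaf 0x10100020004))) (.node 8487 (.leaf 0x302000004) (.node 8488 (.leaf 0x5020002) (.leaf 0x0))))))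

def sgOS_779 : Store := (.node 8467 sgOS_777 sgOS_778)

def sgOS_780 : Store := (.node 8445 sgOS_776 sgOS_779)

def sgOS_781 : Store := (.node 8402 sgOS_773 sgOS_780)

def sgOS_782 : Store := (.node 8499 (.node 8494 (.node 8491 (.node 8490 (.leaf 0x0) (.leaf 0x0)) (.node 8492 (.leaf 0x0) (.node 8493 (.leaf 0x40204000004) (.leaf 0x20100010004)))) (.node 8496 (.node 8495 (.leaf 0x1010002) (.leaf 0x30203000004)) (.node 8497 (.leaf 0x0) (.node 8498 (.leaf 0x0) (.leaf 0x300020003))))) (.node 8504 (.node 8501 (.node 8500 (.leaf 0x1030002) (.leaf 0x10302010004)) (.node 8502 (.leaf 0x20102000004) (.node 8503 (.leaf 0x0) (.leaf 0x0)))) (.node 8507 (.node 8505 (.leaf 0x0) (.node 8506 (.leaf 0x5020003) (.leaf 0x0))) (.node 8508 (.leaf 0x30204000004) (.node 8509 (.leaf 0x50203000004) (.leaf 0x402040003))))))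

def sgOS_783 : Store := (.node 8521 (.node 8515 (.node 8512 (.node 8511 (.leaf 0x0) (.leaf 0x0)) (.node 8513 (.leaf 0x0) (.node 8514 (.leaf 0x0) (.leaf 0x0)))) (.node 8518 (.node 8516 (.leaf 0x0) (.node 8517 (.leaf 0x40001020004) (.leaf 0x0))) (.node 8519 (.leaf 0x0) (.node 8520 (.leaf 0x200030003) (.leaf 0x2050002))))) (.node 8526 (.node 8523 (.node 8522 (.leaf 0x0) (.leaf 0x200030003)) (.node 8524 (.leaf 0x2050002) (.node 8525 (.leaf 0x0) (.leaf 0x0)))) (.node 8529 (.node 8527 (.leaf 0x5040002) (.node 8528 (.leaf 0x0) (.leaf 0x1010002))) (.node 8530 (.leaf 0x3020101000005) (.node 8531 (.leaf 0x10203000004) (.leaf 0x0))))))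

def sgOS_784 : Store := (.node 8510 sgOS_782 sgOS_783)

def sgOS_785 : Store := (.node 8542 (.node 8537 (.node 8534 (.node 8533 (.leaf 0x0) (.leaf 0x0)) (.node 8535 (.leaf 0x0) (.node 8536 (.leaf 0x0) (.leaf 0x0)))) (.node 8539 (.node 8538 (.leaf 0x0) (.leaf 0x0)) (.node 8540 (.leaf 0x0) (.node 8541 (.leaf 0x10102000004) (.leaf 0x5010002))))) (.node 8547 (.node 8544 (.node 8543 (.leaf 0x304020003) (.leaf 0x0)) (.node 8545 (.leaf 0x0) (.node 8546 (.leaf 0x0) (.leaf 0x0)))) (.node 8550 (.node 8548 (.leaf 0x40203030004) (.node 8549 (.leaf 0x50102000004) (.leaf 0x50400020004))) (.node 8551 (.leaf 0x0) (.node 8552 (.leaf 0x1020001000005) (.leaf 0x0))))))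

def sgOS_786 : Store := (.node 8564 (.node 8558 (.node 8555 (.node 8554 (.leaf 0x0) (.leaf 0x0)) (.node 8556 (.leaf 0x300010100000008) (.node 8557 (.leaf 0x1010003030001020009) (.leaf 0x0)))) (.node 8561 (.node 8559 (.leaf 0x0) (.node 8560 (.leaf 0x0) (.leaf 0x0))) (.node 8562 (.leaf 0x30102030004) (.node 8563 (.leaf 0x0) (.leaf 0x40002))))) (.node 8569 (.node 8566 (.node 8565 (.leaf 0x0) (.leaf 0x201030003)) (.node 8567 (.leaf 0x0) (.node 8568 (.leaf 0x0) (.leaf 0x30205000004)))) (.node 8572 (.node 8570 (.leaf 0x0) (.node 8571 (.leaf 0x5000003) (.leaf 0x504020003))) (.node 8573 (.leaf 0x10302010004) (.node 8574 (.leaf 0x0) (.leaf 0x0))))))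

def sgOS_787 : Store := (.node 8553 sgOS_785 sgOS_786)

def sgOS_788 : Store := (.node 8532 sgOS_784 sgOS_787)

def sgOS_789 : Store := (.node 8585 (.node 8580 (.node 8577 (.node 8576 (.leaf 0x0) (.leaf 0x3000002)) (.node 8578 (.leaf 0x201020003) (.node 8579 (.leaf 0x40205000004) (.leaf 0x3000002)))) (.node 8582 (.node 8581 (.leaf 0x0) (.leaf 0x0)) (.node 8583 (.leaf 0x0) (.node 8584 (.leaf 0x50203030004) (.leaf 0x30102040004))))) (.node 8590 (.node 8587 (.node 8586 (.leaf 0x0) (.leaf 0x0)) (.node 8588 (.leaf 0x0) (.node 8589 (.leaf 0x0) (.leaf 0x30205000004)))) (.node 8593 (.node 8591 (.leaf 0x0) (.node 8592 (.leaf 0x10102000004) (.leaf 0x0))) (.node 8594 (.leaf 0x0) (.node 8595 (.leaf 0x0) (.leaf 0x0))))))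

def sgOS_790 : Store := (.node 8607 (.node 8601 (.node 8598 (.node 8597 (.leaf 0x0) (.leaf 0x0)) (.node 8599 (.leaf 0x0) (.node 8600 (.leaf 0x20101000004) (.leaf 0x0)))) (.node 8604 (.node 8602 (.leaf 0x0) (.node 8603 (.leaf 0x0) (.leaf 0x0))) (.node 8605 (.leaf 0x0) (.node 8606 (.leaf 0x0) (.leaf 0x0))))) (.node 8612 (.node 8609 (.node 8608 (.leaf 0x0) (.leaf 0x0)) (.node 8610 (.leaf 0x0) (.node 8611 (.leaf 0x1000003) (.leaf 0x0)))) (.node 8615 (.node 8613 (.leaf 0x1010002) (.node 8614 (.leaf 0x400010003) (.leaf 0x50001))) (.node 8616 (.leaf 0x0) (.node 8617 (.leaf 0x0) (.leaf 0x3020002))))))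

def sgOS_791 : Store := (.node 8596 sgOS_789 sgOS_790)

def sgOS_792 : Store := (.node 8629 (.node 8623 (.node 8620 (.node 8619 (.leaf 0x0) (.leaf 0x5010002)) (.node 8621 (.leaf 0x0) (.node 8622 (.leaf 0x200010003) (.leaf 0x0)))) (.node 8626 (.node 8624 (.leaf 0x0) (.node 8625 (.leaf 0x20405020004) (.leaf 0x10002000005))) (.node 8627 (.leaf 0x501020003) (.node 8628 (.leaf 0x0) (.leaf 0x302040003))))) (.node 8634 (.node 8631 (.node 8630 (.leaf 0x0) (.leaf 0x0)) (.node 8632 (.leaf 0x2050204000005) (.node 8633 (.leaf 0x50203000004) (.leaf 0x0)))) (.node 8637 (.node 8635 (.leaf 0x2050204000005) (.node 8636 (.leaf 0x405000003) (.leaf 0x0))) (.node 8638 (.leaf 0x0) (.node 8639 (.leaf 0x0) (.leaf 0x0))))))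

def sgOS_793 : Store := (.node 8651 (.node 8645 (.node 8642 (.node 8641 (.leaf 0x10001020004) (.leaf 0x0)) (.node 8643 (.leaf 0x50201000004) (.node 8644 (.leaf 0x0) (.leaf 0x0)))) (.node 8648 (.node 8646 (.leaf 0x0) (.node 8647 (.leaf 0x0) (.leaf 0x40204000004))) (.node 8649 (.leaf 0x3010002) (.node 8650 (.leaf 0x0) (.leaf 0x0))))) (.node 8656 (.node 8653 (.node 8652 (.leaf 0x0) (.leaf 0x0)) (.node 8654 (.leaf 0x10302010004) (.node 8655 (.leaf 0x0) (.leaf 0x0)))) (.node 8659 (.node 8657 (.leaf 0x4020002) (.node 8658 (.leaf 0x0) (.leaf 0x0))) (.node 8660 (.leaf 0x5040002) (.node 8661 (.leaf 0x0) (.leaf 0x0))))))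

def sgOS_794 : Store := (.node 8640 sgOS_792 sgOS_793)

def sgOS_795 : Store := (.node 8618 sgOS_791 sgOS_794)

def sgOS_796 : Store := (.node 8575 sgOS_788 sgOS_795)

def sgOS_797 : Store := (.node 8489 sgOS_781 sgOS_796)

def sgOS_798 : Store := (.node 8672 (.node 8667 (.node 8664 (.node 8663 (.leaf 0x5040002) (.leaf 0x204000004)) (.node 8665 (.leaf 0x0) (.node 8666 (.leaf 0x0) (.leaf 0x0)))) (.node 8669 (.node 8668 (.leaf 0x30002000004) (.leaf 0x0)) (.node 8670 (.leaf 0x501020003) (.node 8671 (.leaf 0x5010204000005) (.leaf 0x0))))) (.node 8677 (.node 8674 (.node 8673 (.leaf 0x0) (.leaf 0x500020003)) (.node 8675 (.leaf 0x1020002) (.node 8676 (.leaf 0x3020101000005) (.leaf 0x0)))) (.node 8680 (.node 8678 (.leaf 0x20001020004) (.node 8679 (.leaf 0x0) (.leaf 0x0))) (.node 8681 (.leaf 0x0) (.node 8682 (.leaf 0x0) (.leaf 0x0))))))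

def sgOS_799 : Store := (.node 8694 (.node 8688 (.node 8685 (.node 8684 (.leaf 0x0) (.leaf 0x201030003)) (.node 8686 (.leaf 0x0) (.node 8687 (.leaf 0x0) (.leaf 0x0)))) (.node 8691 (.node 8689 (.leaf 0x30205040004) (.node 8690 (.leaf 0x20501020004) (.leaf 0x20502040004))) (.node 8692 (.leaf 0x3030002) (.node 8693 (.leaf 0x0) (.leaf 0x0))))) (.node 8699 (.node 8696 (.node 8695 (.leaf 0x20001) (.leaf 0x1010002)) (.node 8697 (.leaf 0x201030003) (.node 8698 (.leaf 0x0) (.leaf 0x201000003)))) (.node 8702 (.node 8700 (.leaf 0x0) (.node 8701 (.leaf 0x0) (.leaf 0x504050003))) (.node 8703 (.leaf 0x0) (.node 8704 (.leaf 0x502000003) (.leaf 0x50201010004))))))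

def sgOS_800 : Store := (.node 8683 sgOS_798 sgOS_799)

def sgOS_801 : Store := (.node 8715 (.node 8710 (.node 8707 (.node 8706 (.leaf 0x50201010004) (.leaf 0x0)) (.node 8708 (.leaf 0x0) (.node 8709 (.leaf 0x201000003) (.leaf 0x201000003)))) (.node 8712 (.node 8711 (.leaf 0x504000003) (.leaf 0x0)) (.node 8713 (.leaf 0x0) (.node 8714 (.leaf 0x0) (.leaf 0x0))))) (.node 8720 (.node 8717 (.node 8716 (.leaf 0x0) (.leaf 0x0)) (.node 8718 (.leaf 0x0) (.node 8719 (.leaf 0x40203000004) (.leaf 0x402040003)))) (.node 8723 (.node 8721 (.leaf 0x0) (.node 8722 (.leaf 0x0) (.leaf 0x0))) (.node 8724 (.leaf 0x0) (.node 8725 (.leaf 0x30204000004) (.leaf 0x3000205000005))))))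

def sgOS_802 : Store := (.node 8737 (.node 8731 (.node 8728 (.node 8727 (.leaf 0x0) (.leaf 0x0)) (.node 8729 (.leaf 0x0) (.node 8730 (.leaf 0x0) (.leaf 0x30201020004)))) (.node 8734 (.node 8732 (.leaf 0x10001) (.node 8733 (.leaf 0x0) (.leaf 0x100010102010006))) (.node 8735 (.leaf 0x0) (.node 8736 (.leaf 0x0) (.leaf 0x0))))) (.node 8742 (.node 8739 (.node 8738 (.leaf 0x504020003) (.leaf 0x0)) (.node 8740 (.leaf 0x0) (.node 8741 (.leaf 0x0) (.leaf 0x0)))) (.node 8745 (.node 8743 (.leaf 0x0) (.node 8744 (.leaf 0x0) (.leaf 0x0))) (.node 8746 (.leaf 0x30005020004) (.node 8747 (.leaf 0x0) (.leaf 0x0))))))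

def sgOS_803 : Store := (.node 8726 sgOS_801 sgOS_802)

def sgOS_804 : Store := (.node 8705 sgOS_800 sgOS_803)

def sgOS_805 : Store := (.node 8758 (.node 8753 (.node 8750 (.node 8749 (.leaf 0x0) (.leaf 0x0)) (.node 8751 (.leaf 0x0) (.node 8752 (.leaf 0x0) (.leaf 0x0)))) (.node 8755 (.node 8754 (.leaf 0x205020003) (.leaf 0x302010003)) (.node 8756 (.leaf 0x0) (.node 8757 (.leaf 0x0) (.leaf 0x30102000004))))) (.node 8763 (.node 8760 (.node 8759 (.leaf 0x0) (.leaf 0x0)) (.node 8761 (.leaf 0x30102000004) (.node 8762 (.leaf 0x1030002) (.leaf 0x0)))) (.node 8766 (.node 8764 (.leaf 0x0) (.node 8765 (.leaf 0x0) (.leaf 0x30203030201000007))) (.node 8767 (.leaf 0x203030001010100000009) (.node 8768 (.leaf 0x0) (.leaf 0x100000102030300000009))))))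

def sgOS_806 : Store := (.node 8780 (.node 8774 (.node 8771 (.node 8770 (.leaf 0x0) (.leaf 0x0)) (.node 8772 (.leaf 0x101020004) (.node 8773 (.leaf 0x200050003) (.leaf 0x30005020004)))) (.node 8777 (.node 8775 (.leaf 0x0) (.node 8776 (.leaf 0x0) (.leaf 0x0))) (.node 8778 (.leaf 0x0) (.node 8779 (.leaf 0x301020003) (.leaf 0x20301030004))))) (.node 8785 (.node 8782 (.node 8781 (.leaf 0x30102030004) (.leaf 0x50203030004)) (.node 8783 (.leaf 0x0) (.node 8784 (.leaf 0x0) (.leaf 0x0)))) (.node 8788 (.node 8786 (.leaf 0x0) (.node 8787 (.leaf 0x402030003) (.leaf 0x504020003))) (.node 8789 (.leaf 0x40204000004) (.node 8790 (.leaf 0x30205040004) (.leaf 0x0))))))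

def sgOS_807 : Store := (.node 8769 sgOS_805 sgOS_806)

def sgOS_808 : Store := (.node 8802 (.node 8796 (.node 8793 (.node 8792 (.leaf 0x0) (.leaf 0x0)) (.node 8794 (.leaf 0x304020003) (.node 8795 (.leaf 0x50402000004) (.leaf 0x0)))) (.node 8799 (.node 8797 (.leaf 0x0) (.node 8798 (.leaf 0x0) (.leaf 0x0))) (.node 8800 (.leaf 0x502050003) (.node 8801 (.leaf 0x0) (.leaf 0x5010002))))) (.node 8807 (.node 8804 (.node 8803 (.leaf 0x50002) (.leaf 0x0)) (.node 8805 (.leaf 0x0) (.node 8806 (.leaf 0x0) (.leaf 0x0)))) (.node 8810 (.node 8808 (.leaf 0x501020003) (.node 8809 (.leaf 0x1010002) (.leaf 0x1020002))) (.node 8811 (.leaf 0x301020003) (.node 8812 (.leaf 0x0) (.leaf 0x0))))))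

def sgOS_809 : Store := (.node 8824 (.node 8818 (.node 8815 (.node 8814 (.leaf 0x0) (.leaf 0x0)) (.node 8816 (.leaf 0x405000003) (.node 8817 (.leaf 0x20302040004) (.leaf 0x50205040004)))) (.node 8821 (.node 8819 (.leaf 0x0) (.node 8820 (.leaf 0x0) (.leaf 0x0))) (.node 8822 (.leaf 0x0) (.node 8823 (.leaf 0x0) (.leaf 0x0))))) (.node 8829 (.node 8826 (.node 8825 (.leaf 0x0) (.leaf 0x0)) (.node 8827 (.leaf 0x0) (.node 8828 (.leaf 0x30201010004) (.leaf 0x20304000004)))) (.node 8832 (.node 8830 (.leaf 0x501020003) (.node 8831 (.leaf 0x40002) (.leaf 0x0))) (.node 8833 (.leaf 0x0) (.node 8834 (.leaf 0x0) (.leaf 0x0))))))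

def sgOS_810 : Store := (.node 8813 sgOS_808 sgOS_809)

def sgOS_811 : Store := (.node 8791 sgOS_807 sgOS_810)

def sgOS_812 : Store := (.node 8748 sgOS_804 sgOS_811)

def sgOS_813 : Store := (.node 8845 (.node 8840 (.node 8837 (.node 8836 (.leaf 0x10302030004) (.leaf 0x40200010004)) (.node 8838 (.leaf 0x0) (.node 8839 (.leaf 0x30205040004) (.leaf 0x0)))) (.node 8842 (.node 8841 (.leaf 0x0) (.leaf 0x3010203000005)) (.node 8843 (.leaf 0x204050003) (.node 8844 (.leaf 0x405010003) (.leaf 0x20302000004))))) (.node 8850 (.node 8847 (.node 8846 (.leaf 0x0) (.leaf 0x0)) (.node 8848 (.leaf 0x0) (.node 8849 (.leaf 0x0) (.leaf 0x0)))) (.node 8853 (.node 8851 (.leaf 0x0) (.node 8852 (.leaf 0x0) (.leaf 0x20400010004))) (.node 8854 (.leaf 0x0) (.node 8855 (.leaf 0x0) (.leaf 0x0))))))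

def sgOS_814 : Store := (.node 8867 (.node 8861 (.node 8858 (.node 8857 (.leaf 0x0) (.leaf 0x2050003)) (.node 8859 (.leaf 0x3010203000005) (.node 8860 (.leaf 0x2050002) (.leaf 0x0)))) (.node 8864 (.node 8862 (.leaf 0x0) (.node 8863 (.leaf 0x0) (.leaf 0x0))) (.node 8865 (.leaf 0x5020001000005) (.node 8866 (.leaf 0x0) (.leaf 0x3030002))))) (.node 8872 (.node 8869 (.node 8868 (.leaf 0x0) (.leaf 0x0)) (.node 8870 (.leaf 0x30200010004) (.node 8871 (.leaf 0x501010003) (.leaf 0x20002)))) (.node 8875 (.node 8873 (.leaf 0x3020501010005) (.node 8874 (.leaf 0x0) (.leaf 0x0))) (.node 8876 (.leaf 0x0) (.node 8877 (.leaf 0x0) (.leaf 0x10203000004))))))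

def sgOS_815 : Store := (.node 8856 sgOS_813 sgOS_814)

def sgOS_816 : Store := (.node 8889 (.node 8883 (.node 8880 (.node 8879 (.leaf 0x2050204000005) (.leaf 0x50204000004)) (.node 8881 (.leaf 0x10302010004) (.node 8882 (.leaf 0x0) (.leaf 0x0)))) (.node 8886 (.node 8884 (.leaf 0x203000003) (.node 8885 (.leaf 0x0) (.leaf 0x0))) (.node 8887 (.leaf 0x0) (.node 8888 (.leaf 0x0) (.leaf 0x0))))) (.node 8894 (.node 8891 (.node 8890 (.leaf 0x0) (.leaf 0x0)) (.node 8892 (.leaf 0x0) (.node 8893 (.leaf 0x0) (.leaf 0x10203020004)))) (.node 8897 (.node 8895 (.leaf 0x0) (.node 8896 (.leaf 0x0) (.leaf 0x0))) (.node 8898 (.leaf 0x20504000004) (.node 8899 (.leaf 0x0) (.leaf 0x504020003))))))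

def sgOS_817 : Store := (.node 8911 (.node 8905 (.node 8902 (.node 8901 (.leaf 0x30201010004) (.leaf 0x402030003)) (.node 8903 (.leaf 0x0) (.node 8904 (.leaf 0x0) (.leaf 0x0)))) (.node 8908 (.node 8906 (.leaf 0x0) (.node 8907 (.leaf 0x0) (.leaf 0x0))) (.node 8909 (.leaf 0x30002000004) (.node 8910 (.leaf 0x0) (.leaf 0x0))))) (.node 8916 (.node 8913 (.node 8912 (.leaf 0x20501020004) (.leaf 0x0)) (.node 8914 (.leaf 0x50200050004) (.node 8915 (.leaf 0x302000003) (.leaf 0x40502030004)))) (.node 8919 (.node 8917 (.leaf 0x0) (.node 8918 (.leaf 0x0) (.leaf 0x0))) (.node 8920 (.leaf 0x0) (.node 8921 (.leaf 0x0) (.leaf 0x0))))))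

def sgOS_818 : Store := (.node 8900 sgOS_816 sgOS_817)

def sgOS_819 : Store := (.node 8878 sgOS_815 sgOS_818)

def sgOS_820 : Store := (.node 8932 (.node 8927 (.node 8924 (.node 8923 (.leaf 0x0) (.leaf 0x0)) (.node 8925 (.leaf 0x0) (.node 8926 (.leaf 0x0) (.leaf 0x50102040004)))) (.node 8929 (.node 8928 (.leaf 0x0) (.leaf 0x0)) (.node 8930 (.leaf 0x0) (.node 8931 (.leaf 0x0) (.leaf 0x0))))) (.node 8937 (.node 8934 (.node 8933 (.leaf 0x0) (.leaf 0x0)) (.node 8935 (.leaf 0x0) (.node 8936 (.leaf 0x0) (.leaf 0x0)))) (.node 8940 (.node 8938 (.leaf 0x0) (.node 8939 (.leaf 0x0) (.leaf 0x0))) (.node 8941 (.leaf 0x0) (.node 8942 (.leaf 0x0) (.leaf 0x0))))))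

def sgOS_821 : Store := (.node 8954 (.node 8948 (.node 8945 (.node 8944 (.leaf 0x0) (.leaf 0x0)) (.node 8946 (.leaf 0x0) (.node 8947 (.leaf 0x0) (.leaf 0x0)))) (.node 8951 (.node 8949 (.leaf 0x201030003) (.node 8950 (.leaf 0x0) (.leaf 0x50402050004))) (.node 8952 (.leaf 0x0) (.node 8953 (.leaf 0x0) (.leaf 0x400020003))))) (.node 8959 (.node 8956 (.node 8955 (.leaf 0x0) (.leaf 0x402040003)) (.node 8957 (.leaf 0x502040003) (.node 8958 (.leaf 0x5040002) (.leaf 0x0)))) (.node 8962 (.node 8960 (.leaf 0x0) (.node 8961 (.leaf 0x20501020004) (.leaf 0x30203010004))) (.node 8963 (.leaf 0x1010002) (.node 8964 (.leaf 0x0) (.leaf 0x0))))))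

def sgOS_822 : Store := (.node 8943 sgOS_820 sgOS_821)

def sgOS_823 : Store := (.node 8976 (.node 8970 (.node 8967 (.node 8966 (.leaf 0x0) (.leaf 0x0)) (.node 8968 (.leaf 0x30002030004) (.node 8969 (.leaf 0x5000003) (.leaf 0x5020001000005)))) (.node 8973 (.node 8971 (.leaf 0x0) (.node 8972 (.leaf 0x20304000004) (.leaf 0x0))) (.node 8974 (.leaf 0x0) (.node 8975 (.leaf 0x30201030004) (.leaf 0x0))))) (.node 8981 (.node 8978 (.node 8977 (.leaf 0x0) (.leaf 0x0)) (.node 8979 (.leaf 0x0) (.node 8980 (.leaf 0x0) (.leaf 0x0)))) (.node 8984 (.node 8982 (.leaf 0x0) (.node 8983 (.leaf 0x502010003) (.leaf 0x3020002))) (.node 8985 (.leaf 0x504000003) (.node 8986 (.leaf 0x0) (.leaf 0x0))))))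

def sgOS_824 : Store := (.node 8998 (.node 8992 (.node 8989 (.node 8988 (.leaf 0x0) (.leaf 0x0)) (.node 8990 (.leaf 0x405000003) (.node 8991 (.leaf 0x0) (.leaf 0x30103020004)))) (.node 8995 (.node 8993 (.leaf 0x0) (.node 8994 (.leaf 0x0) (.leaf 0x0))) (.node 8996 (.leaf 0x205020003) (.node 8997 (.leaf 0x0) (.leaf 0x402010003))))) (.node 9003 (.node 9000 (.node 8999 (.leaf 0x205000004) (.leaf 0x20501010004)) (.node 9001 (.leaf 0x0) (.node 9002 (.leaf 0x0) (.leaf 0x30103020004)))) (.node 9006 (.node 9004 (.leaf 0x20304000004) (.node 9005 (.leaf 0x20303000004) (.leaf 0x402040003))) (.node 9007 (.leaf 0x0) (.node 9008 (.leaf 0x0) (.leaf 0x0))))))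

def sgOS_825 : Store := (.node 8987 sgOS_823 sgOS_824)

def sgOS_826 : Store := (.node 8965 sgOS_822 sgOS_825)

def sgOS_827 : Store := (.node 8922 sgOS_819 sgOS_826)

def sgOS_828 : Store := (.node 8835 sgOS_812 sgOS_827)

def sgOS_829 : Store := (.node 8662 sgOS_797 sgOS_828)

def sgOS_830 : Store := (.node 9019 (.node 9014 (.node 9011 (.node 9010 (.leaf 0x0) (.leaf 0x50402050004)) (.node 9012 (.leaf 0x0) (.node 9013 (.leaf 0x0) (.leaf 0x0)))) (.node 9016 (.node 9015 (.leaf 0x0) (.leaf 0x0)) (.node 9017 (.leaf 0x402030003) (.node 9018 (.leaf 0x2010002) (.leaf 0x5040002))))) (.node 9024 (.node 9021 (.node 9020 (.leaf 0x40204000004) (.leaf 0x0)) (.node 9022 (.leaf 0x0) (.node 9023 (.leaf 0x0) (.leaf 0x102000004)))) (.node 9027 (.node 9025 (.leaf 0x201030003) (.node 9026 (.leaf 0x0) (.leaf 0x102000004))) (.node 9028 (.leaf 0x40002000004) (.node 9029 (.leaf 0x0) (.leaf 0x0))))))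

def sgOS_831 : Store := (.node 9041 (.node 9035 (.node 9032 (.node 9031 (.leaf 0x40002) (.leaf 0x40205040004)) (.node 9033 (.leaf 0x40203030004) (.node 9034 (.leaf 0x0) (.leaf 0x2040002)))) (.node 9038 (.node 9036 (.leaf 0x0) (.node 9037 (.leaf 0x0) (.leaf 0x0))) (.node 9039 (.leaf 0x30302030004) (.node 9040 (.leaf 0x205010003) (.leaf 0x101020004))))) (.node 9046 (.node 9043 (.node 9042 (.leaf 0x10205000004) (.leaf 0x0)) (.node 9044 (.leaf 0x0) (.node 9045 (.leaf 0x10201010004) (.leaf 0x40001)))) (.node 9049 (.node 9047 (.leaf 0x101020003) (.node 9048 (.leaf 0x0) (.leaf 0x1000002))) (.node 9050 (.leaf 0x0) (.node 9051 (.leaf 0x0) (.leaf 0x0))))))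

def sgOS_832 : Store := (.node 9030 sgOS_830 sgOS_831)

def sgOS_833 : Store := (.node 9062 (.node 9057 (.node 9054 (.node 9053 (.leaf 0x10205000004) (.leaf 0x0)) (.node 9055 (.leaf 0x0) (.node 9056 (.leaf 0x0) (.leaf 0x0)))) (.node 9059 (.node 9058 (.leaf 0x0) (.leaf 0x0)) (.node 9060 (.leaf 0x40205040004) (.node 9061 (.leaf 0x30005020004) (.leaf 0x0))))) (.node 9067 (.node 9064 (.node 9063 (.leaf 0x5010204000005) (.leaf 0x0)) (.node 9065 (.leaf 0x0) (.node 9066 (.leaf 0x50102000004) (.leaf 0x2040003)))) (.node 9070 (.node 9068 (.leaf 0x2030003) (.node 9069 (.leaf 0x0) (.leaf 0x10205010004))) (.node 9071 (.leaf 0x0) (.node 9072 (.leaf 0x0) (.leaf 0x40205040004))))))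

def sgOS_834 : Store := (.node 9084 (.node 9078 (.node 9075 (.node 9074 (.leaf 0x502010003) (.leaf 0x0)) (.node 9076 (.leaf 0x303000003) (.node 9077 (.leaf 0x1010002) (.leaf 0x0)))) (.node 9081 (.node 9079 (.leaf 0x0) (.node 9080 (.leaf 0x0) (.leaf 0x0))) (.node 9082 (.leaf 0x30005020004) (.node 9083 (.leaf 0x0) (.leaf 0x30201030004))))) (.node 9089 (.node 9086 (.node 9085 (.leaf 0x0) (.leaf 0x0)) (.node 9087 (.leaf 0x405020003) (.node 9088 (.leaf 0x0) (.leaf 0x0)))) (.node 9092 (.node 9090 (.leaf 0x0) (.node 9091 (.leaf 0x0) (.leaf 0x0))) (.node 9093 (.leaf 0x0) (.node 9094 (.leaf 0x100010000010100000009) (.leaf 0x1000303000300000008))))))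

def sgOS_835 : Store := (.node 9073 sgOS_833 sgOS_834)

def sgOS_836 : Store := (.node 9052 sgOS_832 sgOS_835)

def sgOS_837 : Store := (.node 9105 (.node 9100 (.node 9097 (.node 9096 (.leaf 0x30003030005) (.leaf 0x0)) (.node 9098 (.leaf 0x20101000302030007) (.node 9099 (.leaf 0x0) (.leaf 0x0)))) (.node 9102 (.node 9101 (.leaf 0x10203020004) (.leaf 0x0)) (.node 9103 (.leaf 0x30005020004) (.node 9104 (.leaf 0x0) (.leaf 0x0))))) (.node 9110 (.node 9107 (.node 9106 (.leaf 0x0) (.leaf 0x0)) (.node 9108 (.leaf 0x0) (.node 9109 (.leaf 0x304000003) (.leaf 0x10102000004)))) (.node 9113 (.node 9111 (.leaf 0x3000002) (.node 9112 (.leaf 0x304000003) (.leaf 0x0))) (.node 9114 (.leaf 0x0) (.node 9115 (.leaf 0x20005000004) (.leaf 0x0))))))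

def sgOS_838 : Store := (.node 9127 (.node 9121 (.node 9118 (.node 9117 (.leaf 0x1020003) (.leaf 0x1020003)) (.node 9119 (.leaf 0x405010003) (.node 9120 (.leaf 0x0) (.leaf 0x0)))) (.node 9124 (.node 9122 (.leaf 0x3010002) (.node 9123 (.leaf 0x10203020004) (.leaf 0x3020302000005))) (.node 9125 (.leaf 0x203010004) (.node 9126 (.leaf 0x0) (.leaf 0x0))))) (.node 9132 (.node 9129 (.node 9128 (.leaf 0x0) (.leaf 0x0)) (.node 9130 (.leaf 0x0) (.node 9131 (.leaf 0x0) (.leaf 0x0)))) (.node 9135 (.node 9133 (.leaf 0x0) (.node 9134 (.leaf 0x0) (.leaf 0x0))) (.node 9136 (.leaf 0x0) (.node 9137 (.leaf 0x0) (.leaf 0x0))))))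

def sgOS_839 : Store := (.node 9116 sgOS_837 sgOS_838)

def sgOS_840 : Store := (.node 9149 (.node 9143 (.node 9140 (.node 9139 (.leaf 0x30102030004) (.leaf 0x0)) (.node 9141 (.leaf 0x0) (.node 9142 (.leaf 0x0) (.leaf 0x40205040004)))) (.node 9146 (.node 9144 (.leaf 0x102010003) (.node 9145 (.leaf 0x102010003) (.leaf 0x0))) (.node 9147 (.leaf 0x0) (.node 9148 (.leaf 0x0) (.leaf 0x0))))) (.node 9154 (.node 9151 (.node 9150 (.leaf 0x0) (.leaf 0x3020002)) (.node 9152 (.leaf 0x300050003) (.node 9153 (.leaf 0x0) (.leaf 0x30203000004)))) (.node 9157 (.node 9155 (.leaf 0x0) (.node 9156 (.leaf 0x0) (.leaf 0x1010002))) (.node 9158 (.leaf 0x0) (.node 9159 (.leaf 0x5010002) (.leaf 0x200010003))))))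

def sgOS_841 : Store := (.node 9171 (.node 9165 (.node 9162 (.node 9161 (.leaf 0x0) (.leaf 0x0)) (.node 9163 (.leaf 0x0) (.node 9164 (.leaf 0x20302040004) (.leaf 0x3020302000005)))) (.node 9168 (.node 9166 (.leaf 0x3020501010005) (.node 9167 (.leaf 0x0) (.leaf 0x20304000004))) (.node 9169 (.leaf 0x0) (.node 9170 (.leaf 0x0) (.leaf 0x30002050004))))) (.node 9176 (.node 9173 (.node 9172 (.leaf 0x50205000004) (.leaf 0x504020003)) (.node 9174 (.leaf 0x0) (.node 9175 (.leaf 0x0) (.leaf 0x0)))) (.node 9179 (.node 9177 (.leaf 0x0) (.node 9178 (.leaf 0x0) (.leaf 0x0))) (.node 9180 (.leaf 0x0) (.node 9181 (.leaf 0x30200050004) (.leaf 0x10001))))))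

def sgOS_842 : Store := (.node 9160 sgOS_840 sgOS_841)

def sgOS_843 : Store := (.node 9138 sgOS_839 sgOS_842)

def sgOS_844 : Store := (.node 9095 sgOS_836 sgOS_843)

def sgOS_845 : Store := (.node 9192 (.node 9187 (.node 9184 (.node 9183 (.leaf 0x0) (.leaf 0x0)) (.node 9185 (.leaf 0x0) (.node 9186 (.leaf 0x0) (.leaf 0x50400020004)))) (.node 9189 (.node 9188 (.leaf 0x30203000004) (.leaf 0x50400020004)) (.node 9190 (.leaf 0x0) (.node 9191 (.leaf 0x0) (.leaf 0x302000004))))) (.node 9197 (.node 9194 (.node 9193 (.leaf 0x40002) (.leaf 0x402010003)) (.node 9195 (.leaf 0x0) (.node 9196 (.leaf 0x30002050004) (.leaf 0x0)))) (.node 9200 (.node 9198 (.leaf 0x0) (.node 9199 (.leaf 0x0) (.leaf 0x102000004))) (.node 9201 (.leaf 0x0) (.node 9202 (.leaf 0x0) (.leaf 0x2050003))))))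

def sgOS_846 : Store := (.node 9214 (.node 9208 (.node 9205 (.node 9204 (.leaf 0x0) (.leaf 0x0)) (.node 9206 (.leaf 0x205010003) (.node 9207 (.leaf 0x1) (.leaf 0x0)))) (.node 9211 (.node 9209 (.leaf 0x20501020004) (.node 9210 (.leaf 0x0) (.leaf 0x0))) (.node 9212 (.leaf 0x0) (.node 9213 (.leaf 0x4050205000005) (.leaf 0x102010003))))) (.node 9219 (.node 9216 (.node 9215 (.leaf 0x0) (.leaf 0x5000002)) (.node 9217 (.leaf 0x20502040004) (.node 9218 (.leaf 0x0) (.leaf 0x0)))) (.node 9222 (.node 9220 (.leaf 0x0) (.node 9221 (.leaf 0x102000004) (.leaf 0x0))) (.node 9223 (.leaf 0x50402000004) (.node 9224 (.leaf 0x2050002) (.leaf 0x0))))))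

def sgOS_847 : Store := (.node 9203 sgOS_845 sgOS_846)

def sgOS_848 : Store := (.node 9235 (.node 9230 (.node 9227 (.node 9226 (.leaf 0x0) (.leaf 0x0)) (.node 9228 (.leaf 0x502050004) (.node 9229 (.leaf 0x20502040004) (.leaf 0x10200010004)))) (.node 9232 (.node 9231 (.leaf 0x501020003) (.leaf 0x0)) (.node 9233 (.leaf 0x0) (.node 9234 (.leaf 0x20504000004) (.leaf 0x10200010004))))) (.node 9240 (.node 9237 (.node 9236 (.leaf 0x0) (.leaf 0x20504000004)) (.node 9238 (.leaf 0x0) (.node 9239 (.leaf 0x0) (.leaf 0x0)))) (.node 9243 (.node 9241 (.leaf 0x2010002) (.node 9242 (.leaf 0x40203000004) (.leaf 0x0))) (.node 9244 (.leaf 0x0) (.node 9245 (.leaf 0x20502040004) (.leaf 0x0))))))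

def sgOS_849 : Store := (.node 9257 (.node 9251 (.node 9248 (.node 9247 (.leaf 0x0) (.leaf 0x3000002)) (.node 9249 (.leaf 0x3020002) (.node 9250 (.leaf 0x0) (.leaf 0x3000002)))) (.node 9254 (.node 9252 (.leaf 0x504000003) (.node 9253 (.leaf 0x0) (.leaf 0x0))) (.node 9255 (.leaf 0x20504050004) (.node 9256 (.leaf 0x201030003) (.leaf 0x50204000004))))) (.node 9262 (.node 9259 (.node 9258 (.leaf 0x204000004) (.leaf 0x0)) (.node 9260 (.leaf 0x0) (.node 9261 (.leaf 0x0) (.leaf 0x40002)))) (.node 9265 (.node 9263 (.leaf 0x10002000004) (.node 9264 (.leaf 0x0) (.leaf 0x1000003))) (.node 9266 (.leaf 0x2050204000005) (.node 9267 (.leaf 0x0) (.leaf 0x0))))))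

def sgOS_850 : Store := (.node 9246 sgOS_848 sgOS_849)

def sgOS_851 : Store := (.node 9225 sgOS_847 sgOS_850)

def sgOS_852 : Store := (.node 9278 (.node 9273 (.node 9270 (.node 9269 (.leaf 0x0) (.leaf 0x205020003)) (.node 9271 (.leaf 0x3000003) (.node 9272 (.leaf 0x302000004) (.leaf 0x0)))) (.node 9275 (.node 9274 (.leaf 0x0) (.leaf 0x0)) (.node 9276 (.leaf 0x0) (.node 9277 (.leaf 0x50205010004) (.leaf 0x102030003))))) (.node 9283 (.node 9280 (.node 9279 (.leaf 0x50400020004) (.leaf 0x50205010004)) (.node 9281 (.leaf 0x0) (.node 9282 (.leaf 0x0) (.leaf 0x0)))) (.node 9286 (.node 9284 (.leaf 0x500020003) (.node 9285 (.leaf 0x0) (.leaf 0x0))) (.node 9287 (.leaf 0x0) (.node 9288 (.leaf 0x0) (.leaf 0x0))))))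

def sgOS_853 : Store := (.node 9300 (.node 9294 (.node 9291 (.node 9290 (.leaf 0x0) (.leaf 0x20501020004)) (.node 9292 (.leaf 0x501010003) (.node 9293 (.leaf 0x10102000004) (.leaf 0x40502050004)))) (.node 9297 (.node 9295 (.leaf 0x0) (.node 9296 (.leaf 0x0) (.leaf 0x0))) (.node 9298 (.leaf 0x405020003) (.node 9299 (.leaf 0x205010004) (.leaf 0x4000003))))) (.node 9305 (.node 9302 (.node 9301 (.leaf 0x0) (.leaf 0x0)) (.node 9303 (.leaf 0x0) (.node 9304 (.leaf 0x40203000004) (.leaf 0x0)))) (.node 9308 (.node 9306 (.leaf 0x20103000004) (.node 9307 (.leaf 0x0) (.leaf 0x0))) (.node 9309 (.leaf 0x0) (.node 9310 (.leaf 0x0) (.leaf 0x20501020004))))))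

def sgOS_854 : Store := (.node 9289 sgOS_852 sgOS_853)

def sgOS_855 : Store := (.node 9322 (.node 9316 (.node 9313 (.node 9312 (.leaf 0x20405020004) (.leaf 0x20502040004)) (.node 9314 (.leaf 0x20001) (.node 9315 (.leaf 0x0) (.leaf 0x0)))) (.node 9319 (.node 9317 (.leaf 0x0) (.node 9318 (.leaf 0x102010003) (.leaf 0x20504000004))) (.node 9320 (.leaf 0x0) (.node 9321 (.leaf 0x402030003) (.leaf 0x0))))) (.node 9327 (.node 9324 (.node 9323 (.leaf 0x0) (.leaf 0x0)) (.node 9325 (.leaf 0x50002) (.node 9326 (.leaf 0x0) (.leaf 0x3030002)))) (.node 9330 (.node 9328 (.leaf 0x102010003) (.node 9329 (.leaf 0x1) (.leaf 0x0))) (.node 9331 (.leaf 0x0) (.node 9332 (.leaf 0x50203000004) (.leaf 0x304000003))))))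

def sgOS_856 : Store := (.node 9344 (.node 9338 (.node 9335 (.node 9334 (.leaf 0x50203030004) (.leaf 0x30002050004)) (.node 9336 (.leaf 0x0) (.node 9337 (.leaf 0x0) (.leaf 0x0)))) (.node 9341 (.node 9339 (.leaf 0x1030002) (.node 9340 (.leaf 0x0) (.leaf 0x3040002))) (.node 9342 (.leaf 0x0) (.node 9343 (.leaf 0x504020003) (.leaf 0x0))))) (.node 9349 (.node 9346 (.node 9345 (.leaf 0x0) (.leaf 0x30102030004)) (.node 9347 (.leaf 0x3030002) (.node 9348 (.leaf 0x40002000004) (.leaf 0x0)))) (.node 9352 (.node 9350 (.leaf 0x5000003) (.node 9351 (.leaf 0x0) (.leaf 0x0))) (.node 9353 (.leaf 0x101000003) (.node 9354 (.leaf 0x5020002) (.leaf 0x4000003))))))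

def sgOS_857 : Store := (.node 9333 sgOS_855 sgOS_856)

def sgOS_858 : Store := (.node 9311 sgOS_854 sgOS_857)

def sgOS_859 : Store := (.node 9268 sgOS_851 sgOS_858)

def sgOS_860 : Store := (.node 9182 sgOS_844 sgOS_859)

def sgOS_861 : Store := (.node 9365 (.node 9360 (.node 9357 (.node 9356 (.leaf 0x0) (.leaf 0x10302010004)) (.node 9358 (.leaf 0x0) (.node 9359 (.leaf 0x0) (.leaf 0x0)))) (.node 9362 (.node 9361 (.leaf 0x30204000004) (.leaf 0x102000004)) (.node 9363 (.leaf 0x205010004) (.node 9364 (.leaf 0x2030002) (.leaf 0x0))))) (.node 9370 (.node 9367 (.node 9366 (.leaf 0x0) (.leaf 0x0)) (.node 9368 (.leaf 0x0) (.node 9369 (.leaf 0x0) (.leaf 0x0)))) (.node 9373 (.node 9371 (.leaf 0x0) (.node 9372 (.leaf 0x0) (.leaf 0x0))) (.node 9374 (.leaf 0x0) (.node 9375 (.leaf 0x0) (.leaf 0x0))))))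

def sgOS_862 : Store := (.node 9387 (.node 9381 (.node 9378 (.node 9377 (.leaf 0x30002050004) (.leaf 0x40002)) (.node 9379 (.leaf 0x0) (.node 9380 (.leaf 0x0) (.leaf 0x0)))) (.node 9384 (.node 9382 (.leaf 0x0) (.node 9383 (.leaf 0x5040002) (.leaf 0x20501020004))) (.node 9385 (.leaf 0x10203020004) (.node 9386 (.leaf 0x0) (.leaf 0x0))))) (.node 9392 (.node 9389 (.node 9388 (.leaf 0x0) (.leaf 0x50201010004)) (.node 9390 (.leaf 0x50205010004) (.node 9391 (.leaf 0x1000002) (.leaf 0x5040002)))) (.node 9395 (.node 9393 (.leaf 0x0) (.node 9394 (.leaf 0x0) (.leaf 0x30102000004))) (.node 9396 (.leaf 0x0) (.node 9397 (.leaf 0x0) (.leaf 0x20001))))))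

def sgOS_863 : Store := (.node 9376 sgOS_861 sgOS_862)

def sgOS_864 : Store := (.node 9408 (.node 9403 (.node 9400 (.node 9399 (.leaf 0x200050003) (.leaf 0x0)) (.node 9401 (.leaf 0x0) (.node 9402 (.leaf 0x50205000004) (.leaf 0x50203010004)))) (.node 9405 (.node 9404 (.leaf 0x5020003) (.leaf 0x0)) (.node 9406 (.leaf 0x50205000004) (.node 9407 (.leaf 0x0) (.leaf 0x0))))) (.node 9413 (.node 9410 (.node 9409 (.leaf 0x0) (.leaf 0x0)) (.node 9411 (.leaf 0x205010003) (.node 9412 (.leaf 0x0) (.leaf 0x0)))) (.node 9416 (.node 9414 (.leaf 0x0) (.node 9415 (.leaf 0x0) (.leaf 0x4050002))) (.node 9417 (.leaf 0x201010003) (.node 9418 (.leaf 0x10203000004) (.leaf 0x1010002000005))))))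

def sgOS_865 : Store := (.node 9430 (.node 9424 (.node 9421 (.node 9420 (.leaf 0x0) (.leaf 0x0)) (.node 9422 (.leaf 0x0) (.node 9423 (.leaf 0x0) (.leaf 0x3020002)))) (.node 9427 (.node 9425 (.leaf 0x0) (.node 9426 (.leaf 0x0) (.leaf 0x0))) (.node 9428 (.leaf 0x0) (.node 9429 (.leaf 0x0) (.leaf 0x0))))) (.node 9435 (.node 9432 (.node 9431 (.leaf 0x0) (.leaf 0x502040003)) (.node 9433 (.leaf 0x0) (.node 9434 (.leaf 0x3020002) (.leaf 0x0)))) (.node 9438 (.node 9436 (.leaf 0x0) (.node 9437 (.leaf 0x20001000004) (.leaf 0x0))) (.node 9439 (.leaf 0x50102000004) (.node 9440 (.leaf 0x20001) (.leaf 0x405010003))))))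

def sgOS_866 : Store := (.node 9419 sgOS_864 sgOS_865)

def sgOS_867 : Store := (.node 9398 sgOS_863 sgOS_866)

def sgOS_868 : Store := (.node 9451 (.node 9446 (.node 9443 (.node 9442 (.leaf 0x0) (.leaf 0x0)) (.node 9444 (.leaf 0x0) (.node 9445 (.leaf 0x0) (.leaf 0x10203020004)))) (.node 9448 (.node 9447 (.leaf 0x0) (.leaf 0x203030003)) (.node 9449 (.leaf 0x0) (.node 9450 (.leaf 0x0) (.leaf 0x102030003))))) (.node 9456 (.node 9453 (.node 9452 (.leaf 0x0) (.leaf 0x20504000004)) (.node 9454 (.leaf 0x402040003) (.node 9455 (.leaf 0x50002) (.leaf 0x0)))) (.node 9459 (.node 9457 (.leaf 0x0) (.node 9458 (.leaf 0x20303000004) (.leaf 0x4020002))) (.node 9460 (.leaf 0x203010003) (.node 9461 (.leaf 0x10102040004) (.leaf 0x0))))))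

def sgOS_869 : Store := (.node 9473 (.node 9467 (.node 9464 (.node 9463 (.leaf 0x0) (.leaf 0x0)) (.node 9465 (.leaf 0x30204000004) (.node 9466 (.leaf 0x201010003) (.leaf 0x0)))) (.node 9470 (.node 9468 (.leaf 0x10204000004) (.node 9469 (.leaf 0x20304000004) (.leaf 0x0))) (.node 9471 (.leaf 0x0) (.node 9472 (.leaf 0x0) (.leaf 0x504000003))))) (.node 9478 (.node 9475 (.node 9474 (.leaf 0x30302030004) (.leaf 0x0)) (.node 9476 (.leaf 0x30204000004) (.node 9477 (.leaf 0x0) (.leaf 0x0)))) (.node 9481 (.node 9479 (.leaf 0x20501020004) (.node 9480 (.leaf 0x0) (.leaf 0x30102000004))) (.node 9482 (.leaf 0x0) (.node 9483 (.leaf 0x30102000004) (.leaf 0x0))))))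

def sgOS_870 : Store := (.node 9462 sgOS_868 sgOS_869)

def sgOS_871 : Store := (.node 9495 (.node 9489 (.node 9486 (.node 9485 (.leaf 0x0) (.leaf 0x0)) (.node 9487 (.leaf 0x50205000004) (.node 9488 (.leaf 0x2000002) (.leaf 0x501020003)))) (.node 9492 (.node 9490 (.leaf 0x205020003) (.node 9491 (.leaf 0x0) (.leaf 0x0))) (.node 9493 (.leaf 0x30002) (.node 9494 (.leaf 0x20502040004) (.leaf 0x101020004))))) (.node 9500 (.node 9497 (.node 9496 (.leaf 0x0) (.leaf 0x504000003)) (.node 9498 (.leaf 0x0) (.node 9499 (.leaf 0x0) (.leaf 0x0)))) (.node 9503 (.node 9501 (.leaf 0x40201000004) (.node 9502 (.leaf 0x504020003) (.leaf 0x0))) (.node 9504 (.leaf 0x50002000004) (.node 9505 (.leaf 0x0) (.leaf 0x0))))))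

def sgOS_872 : Store := (.node 9517 (.node 9511 (.node 9508 (.node 9507 (.leaf 0x302000004) (.leaf 0x0)) (.node 9509 (.leaf 0x0) (.node 9510 (.leaf 0x0) (.leaf 0x0)))) (.node 9514 (.node 9512 (.leaf 0x0) (.node 9513 (.leaf 0x0) (.leaf 0x0))) (.node 9515 (.leaf 0x0) (.node 9516 (.leaf 0x5010002) (.leaf 0x0))))) (.node 9522 (.node 9519 (.node 9518 (.leaf 0x0) (.leaf 0x0)) (.node 9520 (.leaf 0x0) (.node 9521 (.leaf 0x400010003) (.leaf 0x0)))) (.node 9525 (.node 9523 (.leaf 0x30002030004) (.node 9524 (.leaf 0x10001020004) (.leaf 0x4020002))) (.node 9526 (.leaf 0x0) (.node 9527 (.leaf 0x0) (.leaf 0x205000004))))))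

def sgOS_873 : Store := (.node 9506 sgOS_871 sgOS_872)

def sgOS_874 : Store := (.node 9484 sgOS_870 sgOS_873)

def sgOS_875 : Store := (.node 9441 sgOS_867 sgOS_874)

def sgOS_876 : Store := (.node 9538 (.node 9533 (.node 9530 (.node 9529 (.leaf 0x10201010004) (.leaf 0x40201000004)) (.node 9531 (.leaf 0x0) (.node 9532 (.leaf 0x40205000004) (.leaf 0x0)))) (.node 9535 (.node 9534 (.leaf 0x0) (.leaf 0x0)) (.node 9536 (.leaf 0x0) (.node 9537 (.leaf 0x0) (.leaf 0x0))))) (.node 9543 (.node 9540 (.node 9539 (.leaf 0x5040002) (.leaf 0x0)) (.node 9541 (.leaf 0x0) (.node 9542 (.leaf 0x0) (.leaf 0x30002030004)))) (.node 9546 (.node 9544 (.leaf 0x50203030004) (.node 9545 (.leaf 0x0) (.leaf 0x205010004))) (.node 9547 (.leaf 0x0) (.node 9548 (.leaf 0x0) (.leaf 0x40002000004))))))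

def sgOS_877 : Store := (.node 9560 (.node 9554 (.node 9551 (.node 9550 (.leaf 0x30001) (.leaf 0x0)) (.node 9552 (.leaf 0x20502000004) (.node 9553 (.leaf 0x0) (.leaf 0x0)))) (.node 9557 (.node 9555 (.leaf 0x0) (.node 9556 (.leaf 0x0) (.leaf 0x0))) (.node 9558 (.leaf 0x40203000004) (.node 9559 (.leaf 0x0) (.leaf 0x0))))) (.node 9565 (.node 9562 (.node 9561 (.leaf 0x0) (.leaf 0x0)) (.node 9563 (.leaf 0x3020501010005) (.node 9564 (.leaf 0x50203030004) (.leaf 0x20002)))) (.node 9568 (.node 9566 (.leaf 0x0) (.node 9567 (.leaf 0x1000002) (.leaf 0x0))) (.node 9569 (.leaf 0x0) (.node 9570 (.leaf 0x30200050004) (.leaf 0x20400010004))))))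

def sgOS_878 : Store := (.node 9549 sgOS_876 sgOS_877)

def sgOS_879 : Store := (.node 9582 (.node 9576 (.node 9573 (.node 9572 (.leaf 0x1030002) (.leaf 0x10302010004)) (.node 9574 (.leaf 0x0) (.node 9575 (.leaf 0x0) (.leaf 0x0)))) (.node 9579 (.node 9577 (.leaf 0x0) (.node 9578 (.leaf 0x0) (.leaf 0x0))) (.node 9580 (.leaf 0x0) (.node 9581 (.leaf 0x0) (.leaf 0x0))))) (.node 9587 (.node 9584 (.node 9583 (.leaf 0x0) (.leaf 0x50402000004)) (.node 9585 (.leaf 0x0) (.node 9586 (.leaf 0x0) (.leaf 0x50402050004)))) (.node 9590 (.node 9588 (.leaf 0x20502040004) (.node 9589 (.leaf 0x0) (.leaf 0x0))) (.node 9591 (.leaf 0x0) (.node 9592 (.leaf 0x0) (.leaf 0x40203000004))))))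

def sgOS_880 : Store := (.node 9604 (.node 9598 (.node 9595 (.node 9594 (.leaf 0x0) (.leaf 0x0)) (.node 9596 (.leaf 0x0) (.node 9597 (.leaf 0x0) (.leaf 0x20502000004)))) (.node 9601 (.node 9599 (.leaf 0x2030002) (.node 9600 (.leaf 0x0) (.leaf 0x0))) (.node 9602 (.leaf 0x50203030004) (.node 9603 (.leaf 0x0) (.leaf 0x0))))) (.node 9609 (.node 9606 (.node 9605 (.leaf 0x0) (.leaf 0x0)) (.node 9607 (.leaf 0x1030002) (.node 9608 (.leaf 0x0) (.leaf 0x1030002)))) (.node 9612 (.node 9610 (.leaf 0x0) (.node 9611 (.leaf 0x0) (.leaf 0x0))) (.node 9613 (.leaf 0x0) (.node 9614 (.leaf 0x2000002) (.leaf 0x0))))))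

def sgOS_881 : Store := (.node 9593 sgOS_879 sgOS_880)

def sgOS_882 : Store := (.node 9571 sgOS_878 sgOS_881)

def sgOS_883 : Store := (.node 9625 (.node 9620 (.node 9617 (.node 9616 (.leaf 0x0) (.leaf 0x0)) (.node 9618 (.leaf 0x0) (.node 9619 (.leaf 0x504000003) (.leaf 0x20001010004)))) (.node 9622 (.node 9621 (.leaf 0x0) (.leaf 0x502010003)) (.node 9623 (.leaf 0x20001010004) (.node 9624 (.leaf 0x0) (.leaf 0x0))))) (.node 9630 (.node 9627 (.node 9626 (.leaf 0x2030002) (.leaf 0x20304000004)) (.node 9628 (.leaf 0x0) (.node 9629 (.leaf 0x30102030004) (.leaf 0x205010003)))) (.node 9633 (.node 9631 (.leaf 0x0) (.node 9632 (.leaf 0x0) (.leaf 0x0))) (.node 9634 (.leaf 0x10201030004) (.node 9635 (.leaf 0x201030003) (.leaf 0x20402000004))))))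

def sgOS_884 : Store := (.node 9647 (.node 9641 (.node 9638 (.node 9637 (.leaf 0x102000003) (.leaf 0x0)) (.node 9639 (.leaf 0x0) (.node 9640 (.leaf 0x10203020004) (.leaf 0x300020003)))) (.node 9644 (.node 9642 (.leaf 0x205000004) (.node 9643 (.leaf 0x0) (.leaf 0x50002))) (.node 9645 (.leaf 0x0) (.node 9646 (.leaf 0x0) (.leaf 0x0))))) (.node 9652 (.node 9649 (.node 9648 (.leaf 0x0) (.leaf 0x0)) (.node 9650 (.leaf 0x30102030004) (.node 9651 (.leaf 0x0) (.leaf 0x0)))) (.node 9655 (.node 9653 (.leaf 0x0) (.node 9654 (.leaf 0x1000002) (.leaf 0x0))) (.node 9656 (.leaf 0x30302030004) (.node 9657 (.leaf 0x1000002) (.leaf 0x50205040004))))))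

def sgOS_885 : Store := (.node 9636 sgOS_883 sgOS_884)

def sgOS_886 : Store := (.node 9669 (.node 9663 (.node 9660 (.node 9659 (.leaf 0x0) (.leaf 0x0)) (.node 9661 (.leaf 0x50201010004) (.node 9662 (.leaf 0x0) (.leaf 0x3030002)))) (.node 9666 (.node 9664 (.leaf 0x30302010004) (.node 9665 (.leaf 0x0) (.leaf 0x0))) (.node 9667 (.leaf 0x0) (.node 9668 (.leaf 0x0) (.leaf 0x0))))) (.node 9674 (.node 9671 (.node 9670 (.leaf 0x0) (.leaf 0x0)) (.node 9672 (.leaf 0x0) (.node 9673 (.leaf 0x0) (.leaf 0x0)))) (.node 9677 (.node 9675 (.leaf 0x0) (.node 9676 (.leaf 0x10201030004) (.leaf 0x0))) (.node 9678 (.leaf 0x5040002) (.node 9679 (.leaf 0x504000003) (.leaf 0x0))))))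

def sgOS_887 : Store := (.node 9691 (.node 9685 (.node 9682 (.node 9681 (.leaf 0x0) (.leaf 0x0)) (.node 9683 (.leaf 0x30201030004) (.node 9684 (.leaf 0x30204000004) (.leaf 0x0)))) (.node 9688 (.node 9686 (.leaf 0x0) (.node 9687 (.leaf 0x0) (.leaf 0x0))) (.node 9689 (.leaf 0x1000002) (.node 9690 (.leaf 0x0) (.leaf 0x10201030004))))) (.node 9696 (.node 9693 (.node 9692 (.leaf 0x5020003) (.leaf 0x502050003)) (.node 9694 (.leaf 0x0) (.node 9695 (.leaf 0x0) (.leaf 0x203020003)))) (.node 9699 (.node 9697 (.leaf 0x0) (.node 9698 (.leaf 0x50402000004) (.leaf 0x3010203000005))) (.node 9700 (.leaf 0x100010003) (.node 9701 (.leaf 0x0) (.leaf 0x0))))))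

def sgOS_888 : Store := (.node 9680 sgOS_886 sgOS_887)

def sgOS_889 : Store := (.node 9658 sgOS_885 sgOS_888)

def sgOS_890 : Store := (.node 9615 sgOS_882 sgOS_889)

def sgOS_891 : Store := (.node 9528 sgOS_875 sgOS_890)

def sgOS_892 : Store := (.node 9355 sgOS_860 sgOS_891)

def sgOS_893 : Store := (.node 9009 sgOS_829 sgOS_892)

def sgOS_894 : Store := (.node 9712 (.node 9707 (.node 9704 (.node 9703 (.leaf 0x0) (.leaf 0x0)) (.node 9705 (.leaf 0x0) (.node 9706 (.leaf 0x0) (.leaf 0x0)))) (.node 9709 (.node 9708 (.leaf 0x0) (.leaf 0x0)) (.node 9710 (.leaf 0x0) (.node 9711 (.leaf 0x0) (.leaf 0x30102000004))))) (.node 9717 (.node 9714 (.node 9713 (.leaf 0x0) (.leaf 0x0)) (.node 9715 (.leaf 0x0) (.node 9716 (.leaf 0x0) (.leaf 0x50205000004)))) (.node 9720 (.node 9718 (.leaf 0x20405020004) (.node 9719 (.leaf 0x20303000004) (.leaf 0x302030003))) (.node 9721 (.leaf 0x0) (.node 9722 (.leaf 0x0) (.leaf 0x0))))))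

def sgOS_895 : Store := (.node 9734 (.node 9728 (.node 9725 (.node 9724 (.leaf 0x0) (.leaf 0x0)) (.node 9726 (.leaf 0x0) (.node 9727 (.leaf 0x0) (.leaf 0x0)))) (.node 9731 (.node 9729 (.leaf 0x0) (.node 9730 (.leaf 0x0) (.leaf 0x30102030004))) (.node 9732 (.leaf 0x0) (.node 9733 (.leaf 0x0) (.leaf 0x0))))) (.node 9739 (.node 9736 (.node 9735 (.leaf 0x0) (.leaf 0x0)) (.node 9737 (.leaf 0x0) (.node 9738 (.leaf 0x0) (.leaf 0x20405000004)))) (.node 9742 (.node 9740 (.leaf 0x3010204000005) (.node 9741 (.leaf 0x0) (.leaf 0x20405000004))) (.node 9743 (.leaf 0x0) (.node 9744 (.leaf 0x0) (.leaf 0x1010002000005))))))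

def sgOS_896 : Store := (.node 9723 sgOS_894 sgOS_895)

def sgOS_897 : Store := (.node 9755 (.node 9750 (.node 9747 (.node 9746 (.leaf 0x0) (.leaf 0x203040003)) (.node 9748 (.leaf 0x0) (.node 9749 (.leaf 0x402050003) (.leaf 0x0)))) (.node 9752 (.node 9751 (.leaf 0x0) (.leaf 0x4000003)) (.node 9753 (.leaf 0x1020002) (.node 9754 (.leaf 0x0) (.leaf 0x1010003))))) (.node 9760 (.node 9757 (.node 9756 (.leaf 0x20501020004) (.leaf 0x0)) (.node 9758 (.leaf 0x0) (.node 9759 (.leaf 0x0) (.leaf 0x50201000004)))) (.node 9763 (.node 9761 (.leaf 0x20102000004) (.node 9762 (.leaf 0x5010204000005) (.leaf 0x0))) (.node 9764 (.leaf 0x0) (.node 9765 (.leaf 0x0) (.leaf 0x402040003))))))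

def sgOS_898 : Store := (.node 9777 (.node 9771 (.node 9768 (.node 9767 (.leaf 0x5020002) (.leaf 0x0)) (.node 9769 (.leaf 0x10200010004) (.node 9770 (.leaf 0x20001000004) (.leaf 0x0)))) (.node 9774 (.node 9772 (.leaf 0x0) (.node 9773 (.leaf 0x0) (.leaf 0x303020003))) (.node 9775 (.leaf 0x30102000004) (.node 9776 (.leaf 0x0) (.leaf 0x0))))) (.node 9782 (.node 9779 (.node 9778 (.leaf 0x0) (.leaf 0x0)) (.node 9780 (.leaf 0x0) (.node 9781 (.leaf 0x0) (.leaf 0x0)))) (.node 9785 (.node 9783 (.leaf 0x0) (.node 9784 (.leaf 0x0) (.leaf 0x0))) (.node 9786 (.leaf 0x0) (.node 9787 (.leaf 0x20001) (.leaf 0x2050002))))))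

def sgOS_899 : Store := (.node 9766 sgOS_897 sgOS_898)

def sgOS_900 : Store := (.node 9745 sgOS_896 sgOS_899)

def sgOS_901 : Store := (.node 9798 (.node 9793 (.node 9790 (.node 9789 (.leaf 0x20103000004) (.leaf 0x0)) (.node 9791 (.leaf 0x10102050004) (.node 9792 (.leaf 0x0) (.leaf 0x0)))) (.node 9795 (.node 9794 (.leaf 0x0) (.leaf 0x10203020004)) (.node 9796 (.leaf 0x102010004) (.node 9797 (.leaf 0x0) (.leaf 0x203020003))))) (.node 9803 (.node 9800 (.node 9799 (.leaf 0x0) (.leaf 0x0)) (.node 9801 (.leaf 0x0) (.node 9802 (.leaf 0x0) (.leaf 0x10204050004)))) (.node 9806 (.node 9804 (.leaf 0x0) (.node 9805 (.leaf 0x0) (.leaf 0x0))) (.node 9807 (.leaf 0x0) (.node 9808 (.leaf 0x20502040004) (.leaf 0x0))))))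

def sgOS_902 : Store := (.node 9820 (.node 9814 (.node 9811 (.node 9810 (.leaf 0x0) (.leaf 0x0)) (.node 9812 (.leaf 0x0) (.node 9813 (.leaf 0x0) (.leaf 0x0)))) (.node 9817 (.node 9815 (.leaf 0x10205020004) (.node 9816 (.leaf 0x0) (.leaf 0x30102000004))) (.node 9818 (.leaf 0x10205020004) (.node 9819 (.leaf 0x10002000005) (.leaf 0x0))))) (.node 9825 (.node 9822 (.node 9821 (.leaf 0x0) (.leaf 0x0)) (.node 9823 (.leaf 0x0) (.node 9824 (.leaf 0x0) (.leaf 0x20502040004)))) (.node 9828 (.node 9826 (.leaf 0x300020003) (.node 9827 (.leaf 0x0) (.leaf 0x0))) (.node 9829 (.leaf 0x3010204000005) (.node 9830 (.leaf 0x102040003) (.leaf 0x1000003))))))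

def sgOS_903 : Store := (.node 9809 sgOS_901 sgOS_902)

def sgOS_904 : Store := (.node 9842 (.node 9836 (.node 9833 (.node 9832 (.leaf 0x10001) (.leaf 0x0)) (.node 9834 (.leaf 0x0) (.node 9835 (.leaf 0x0) (.leaf 0x0)))) (.node 9839 (.node 9837 (.leaf 0x0) (.node 9838 (.leaf 0x5040002) (.leaf 0x0))) (.node 9840 (.leaf 0x0) (.node 9841 (.leaf 0x0) (.leaf 0x0))))) (.node 9847 (.node 9844 (.node 9843 (.leaf 0x0) (.leaf 0x0)) (.node 9845 (.leaf 0x2050204000005) (.node 9846 (.leaf 0x2050204000005) (.leaf 0x100020003)))) (.node 9850 (.node 9848 (.leaf 0x0) (.node 9849 (.leaf 0x0) (.leaf 0x502010003))) (.node 9851 (.leaf 0x0) (.node 9852 (.leaf 0x20402000004) (.leaf 0x102000004))))))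

def sgOS_905 : Store := (.node 9864 (.node 9858 (.node 9855 (.node 9854 (.leaf 0x100020003) (.leaf 0x0)) (.node 9856 (.leaf 0x0) (.node 9857 (.leaf 0x20001) (.leaf 0x0)))) (.node 9861 (.node 9859 (.leaf 0x0) (.node 9860 (.leaf 0x1) (.leaf 0x300010003000006))) (.node 9862 (.leaf 0x30001000005) (.node 9863 (.leaf 0x0) (.leaf 0x0))))) (.node 9869 (.node 9866 (.node 9865 (.leaf 0x0) (.leaf 0x1)) (.node 9867 (.leaf 0x0) (.node 9868 (.leaf 0x0) (.leaf 0x0)))) (.node 9872 (.node 9870 (.leaf 0x0) (.node 9871 (.leaf 0x3030001010005) (.leaf 0x10201000005))) (.node 9873 (.leaf 0x10201000005) (.node 9874 (.leaf 0x3030201010005) (.leaf 0x10001))))))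

def sgOS_906 : Store := (.node 9853 sgOS_904 sgOS_905)

def sgOS_907 : Store := (.node 9831 sgOS_903 sgOS_906)

def sgOS_908 : Store := (.node 9788 sgOS_900 sgOS_907)

def sgOS_909 : Store := (.node 9885 (.node 9880 (.node 9877 (.node 9876 (.leaf 0x0) (.leaf 0x0)) (.node 9878 (.leaf 0x0) (.node 9879 (.leaf 0x0) (.leaf 0x0)))) (.node 9882 (.node 9881 (.leaf 0x0) (.leaf 0x0)) (.node 9883 (.leaf 0x0) (.node 9884 (.leaf 0x0) (.leaf 0x0))))) (.node 9890 (.node 9887 (.node 9886 (.leaf 0x0) (.leaf 0x0)) (.node 9888 (.leaf 0x0) (.node 9889 (.leaf 0x10001) (.leaf 0x20001)))) (.node 9893 (.node 9891 (.leaf 0x0) (.node 9892 (.leaf 0x2020002) (.leaf 0x100000003))) (.node 9894 (.leaf 0x0) (.node 9895 (.leaf 0x10001) (.leaf 0x1))))))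

def sgOS_910 : Store := (.node 9907 (.node 9901 (.node 9898 (.node 9897 (.leaf 0x1000002) (.leaf 0x0)) (.node 9899 (.leaf 0x30201020004) (.node 9900 (.leaf 0x30001) (.leaf 0x30001000005)))) (.node 9904 (.node 9902 (.leaf 0x300010004) (.node 9903 (.leaf 0x10201000005) (.leaf 0x0))) (.node 9905 (.leaf 0x0) (.node 9906 (.leaf 0x300030004) (.leaf 0x0))))) (.node 9912 (.node 9909 (.node 9908 (.leaf 0x10102010004) (.leaf 0x10003000004)) (.node 9910 (.leaf 0x0) (.node 9911 (.leaf 0x30001010004) (.leaf 0x0)))) (.node 9915 (.node 9913 (.leaf 0x0) (.node 9914 (.leaf 0x10002) (.leaf 0x10002))) (.node 9916 (.leaf 0x10003) (.node 9917 (.leaf 0x0) (.leaf 0x0))))))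

def sgOS_911 : Store := (.node 9896 sgOS_909 sgOS_910)

def sgOS_912 : Store := (.node 9928 (.node 9923 (.node 9920 (.node 9919 (.leaf 0x0) (.leaf 0x0)) (.node 9921 (.leaf 0x0) (.node 9922 (.leaf 0x0) (.leaf 0x0)))) (.node 9925 (.node 9924 (.leaf 0x0) (.leaf 0x0)) (.node 9926 (.leaf 0x0) (.node 9927 (.leaf 0x10001) (.leaf 0x100000003))))) (.node 9933 (.node 9930 (.node 9929 (.leaf 0x0) (.leaf 0x10003)) (.node 9931 (.leaf 0x10001) (.node 9932 (.leaf 0x10001) (.leaf 0x0)))) (.node 9936 (.node 9934 (.leaf 0x30001) (.node 9935 (.leaf 0x0) (.leaf 0x0))) (.node 9937 (.leaf 0x0) (.node 9938 (.leaf 0x10001) (.leaf 0x102010003))))))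

def sgOS_913 : Store := (.node 9950 (.node 9944 (.node 9941 (.node 9940 (.leaf 0x0) (.leaf 0x3020101000006)) (.node 9942 (.leaf 0x10201010004) (.node 9943 (.leaf 0x0) (.leaf 0x302010100000006)))) (.node 9947 (.node 9945 (.leaf 0x1020101000005) (.node 9946 (.leaf 0x0) (.leaf 0x0))) (.node 9948 (.leaf 0x0) (.node 9949 (.leaf 0x20001) (.leaf 0x2020002))))) (.node 9955 (.node 9952 (.node 9951 (.leaf 0x0) (.leaf 0x0)) (.node 9953 (.leaf 0x0) (.node 9954 (.leaf 0x0) (.leaf 0x0)))) (.node 9958 (.node 9956 (.leaf 0x10002) (.node 9957 (.leaf 0x20001) (.leaf 0x0))) (.node 9959 (.leaf 0x0) (.node 9960 (.leaf 0x10001) (.leaf 0x0))))))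

def sgOS_914 : Store := (.node 9939 sgOS_912 sgOS_913)

def sgOS_915 : Store := (.node 9918 sgOS_911 sgOS_914)

def sgOS_916 : Store := (.node 9971 (.node 9966 (.node 9963 (.node 9962 (.leaf 0x0) (.leaf 0x0)) (.node 9964 (.leaf 0x0) (.node 9965 (.leaf 0x0) (.leaf 0x10003)))) (.node 9968 (.node 9967 (.leaf 0x0) (.leaf 0x0)) (.node 9969 (.leaf 0x0) (.node 9970 (.leaf 0x0) (.leaf 0x0))))) (.node 9976 (.node 9973 (.node 9972 (.leaf 0x0) (.leaf 0x0)) (.node 9974 (.leaf 0x0) (.node 9975 (.leaf 0x0) (.leaf 0x10002)))) (.node 9979 (.node 9977 (.leaf 0x0) (.node 9978 (.leaf 0x2020002) (.leaf 0x10002))) (.node 9980 (.leaf 0x0) (.node 9981 (.leaf 0x0) (.leaf 0x0))))))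

def sgOS_917 : Store := (.node 9993 (.node 9987 (.node 9984 (.node 9983 (.leaf 0x2) (.leaf 0x10003)) (.node 9985 (.leaf 0x0) (.node 9986 (.leaf 0x2) (.leaf 0x2020002)))) (.node 9990 (.node 9988 (.leaf 0x0) (.node 9989 (.leaf 0x0) (.leaf 0x0))) (.node 9991 (.leaf 0x0) (.node 9992 (.leaf 0x10001) (.leaf 0x0))))) (.node 9998 (.node 9995 (.node 9994 (.leaf 0x0) (.leaf 0x0)) (.node 9996 (.leaf 0x0) (.node 9997 (.leaf 0x0) (.leaf 0x30001)))) (.node 10001 (.node 9999 (.leaf 0x300030003) (.node 10000 (.leaf 0x30001) (.leaf 0x0))) (.node 10002 (.leaf 0x0) (.node 10003 (.leaf 0x0) (.leaf 0x0))))))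

def sgOS_918 : Store := (.node 9982 sgOS_916 sgOS_917)

def sgOS_919 : Store := (.node 10015 (.node 10009 (.node 10006 (.node 10005 (.leaf 0x2) (.leaf 0x2)) (.node 10007 (.leaf 0x2) (.node 10008 (.leaf 0x0) (.leaf 0x0)))) (.node 10012 (.node 10010 (.leaf 0x0) (.node 10011 (.leaf 0x0) (.leaf 0x2))) (.node 10013 (.leaf 0x2) (.node 10014 (.leaf 0x0) (.leaf 0x0))))) (.node 10020 (.node 10017 (.node 10016 (.leaf 0x0) (.leaf 0x0)) (.node 10018 (.leaf 0x0) (.node 10019 (.leaf 0x10002) (.leaf 0x0)))) (.node 10023 (.node 10021 (.leaf 0x0) (.node 10022 (.leaf 0x0) (.leaf 0x0))) (.node 10024 (.leaf 0x0) (.node 10025 (.leaf 0x2020002) (.leaf 0x2020002))))))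

def sgOS_920 : Store := (.node 10037 (.node 10031 (.node 10028 (.node 10027 (.leaf 0x0) (.leaf 0x2020002)) (.node 10029 (.leaf 0x2020002) (.node 10030 (.leaf 0x0) (.leaf 0x0)))) (.node 10034 (.node 10032 (.leaf 0x0) (.node 10033 (.leaf 0x0) (.leaf 0x0))) (.node 10035 (.leaf 0x0) (.node 10036 (.leaf 0x0) (.leaf 0x0))))) (.node 10042 (.node 10039 (.node 10038 (.leaf 0x0) (.leaf 0x2)) (.node 10040 (.leaf 0x2) (.node 10041 (.leaf 0x100000003) (.leaf 0x0)))) (.node 10045 (.node 10043 (.leaf 0x2) (.node 10044 (.leaf 0x100000003) (.leaf 0x0))) (.node 10046 (.leaf 0x0) (.node 10047 (.leaf 0x0) (.leaf 0x0))))))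

def sgOS_921 : Store := (.node 10026 sgOS_919 sgOS_920)

def sgOS_922 : Store := (.node 10004 sgOS_918 sgOS_921)

def sgOS_923 : Store := (.node 9961 sgOS_915 sgOS_922)

def sgOS_924 : Store := (.node 9875 sgOS_908 sgOS_923)

def sgOS_925 : Store := (.node 10058 (.node 10053 (.node 10050 (.node 10049 (.leaf 0x0) (.leaf 0x0)) (.node 10051 (.leaf 0x0) (.node 10052 (.leaf 0x0) (.leaf 0x10002)))) (.node 10055 (.node 10054 (.leaf 0x0) (.leaf 0x0)) (.node 10056 (.leaf 0x10002) (.node 10057 (.leaf 0x0) (.leaf 0x10002))))) (.node 10063 (.node 10060 (.node 10059 (.leaf 0x0) (.leaf 0x0)) (.node 10061 (.leaf 0x0) (.node 10062 (.leaf 0x0) (.leaf 0x0)))) (.node 10066 (.node 10064 (.leaf 0x0) (.node 10065 (.leaf 0x0) (.leaf 0x0))) (.node 10067 (.leaf 0x30001) (.node 10068 (.leaf 0x0) (.leaf 0x30001010004))))))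

def sgOS_926 : Store := (.node 10080 (.node 10074 (.node 10071 (.node 10070 (.leaf 0x300030004) (.leaf 0x0)) (.node 10072 (.leaf 0x0) (.node 10073 (.leaf 0x0) (.leaf 0x0)))) (.node 10077 (.node 10075 (.leaf 0x2020002) (.node 10076 (.leaf 0x0) (.leaf 0x0))) (.node 10078 (.leaf 0x0) (.node 10079 (.leaf 0x0) (.leaf 0x0))))) (.node 10085 (.node 10082 (.node 10081 (.leaf 0x0) (.leaf 0x0)) (.node 10083 (.leaf 0x10001) (.node 10084 (.leaf 0x0) (.leaf 0x0)))) (.node 10088 (.node 10086 (.leaf 0x0) (.node 10087 (.leaf 0x0) (.leaf 0x0))) (.node 10089 (.leaf 0x20001) (.node 10090 (.leaf 0x0) (.leaf 0x10002))))))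

def sgOS_927 : Store := (.node 10069 sgOS_925 sgOS_926)

def sgOS_928 : Store := (.node 10101 (.node 10096 (.node 10093 (.node 10092 (.leaf 0x0) (.leaf 0x0)) (.node 10094 (.leaf 0x0) (.node 10095 (.leaf 0x0) (.leaf 0x0)))) (.node 10098 (.node 10097 (.leaf 0x0) (.leaf 0x0)) (.node 10099 (.leaf 0x0) (.node 10100 (.leaf 0x0) (.leaf 0x0))))) (.node 10106 (.node 10103 (.node 10102 (.leaf 0x10003) (.leaf 0x0)) (.node 10104 (.leaf 0x0) (.node 10105 (.leaf 0x0) (.leaf 0x20001)))) (.node 10109 (.node 10107 (.leaf 0x1) (.node 10108 (.leaf 0x0) (.leaf 0x0))) (.node 10110 (.leaf 0x0) (.node 10111 (.leaf 0x1000002) (.leaf 0x0))))))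

def sgOS_929 : Store := (.node 10123 (.node 10117 (.node 10114 (.node 10113 (.leaf 0x0) (.leaf 0x20001)) (.node 10115 (.leaf 0x0) (.node 10116 (.leaf 0x0) (.leaf 0x0)))) (.node 10120 (.node 10118 (.leaf 0x0) (.node 10119 (.leaf 0x10002) (.leaf 0x10001))) (.node 10121 (.leaf 0x20001) (.node 10122 (.leaf 0x0) (.leaf 0x1000002))))) (.node 10128 (.node 10125 (.node 10124 (.leaf 0x0) (.leaf 0x20001)) (.node 10126 (.leaf 0x0) (.node 10127 (.leaf 0x0) (.leaf 0x20001)))) (.node 10131 (.node 10129 (.leaf 0x0) (.node 10130 (.leaf 0x2020002) (.leaf 0x0))) (.node 10132 (.leaf 0x0) (.node 10133 (.leaf 0x2020002) (.leaf 0x0))))))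

def sgOS_930 : Store := (.node 10112 sgOS_928 sgOS_929)

def sgOS_931 : Store := (.node 10091 sgOS_927 sgOS_930)

def sgOS_932 : Store := (.node 10144 (.node 10139 (.node 10136 (.node 10135 (.leaf 0x2020002) (.leaf 0x0)) (.node 10137 (.leaf 0x300030003) (.node 10138 (.leaf 0x0) (.leaf 0x0)))) (.node 10141 (.node 10140 (.leaf 0x102010003) (.leaf 0x20001)) (.node 10142 (.leaf 0x30001010004) (.node 10143 (.leaf 0x0) (.leaf 0x3020102030005))))) (.node 10149 (.node 10146 (.node 10145 (.leaf 0x100030001000006) (.leaf 0x0)) (.node 10147 (.leaf 0x1000300010005) (.node 10148 (.leaf 0x0) (.leaf 0x10201000005)))) (.node 10152 (.node 10150 (.leaf 0x0) (.node 10151 (.leaf 0x2) (.leaf 0x10001))) (.node 10153 (.leaf 0x10002) (.node 10154 (.leaf 0x2) (.leaf 0x0))))))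

def sgOS_933 : Store := (.node 10166 (.node 10160 (.node 10157 (.node 10156 (.leaf 0x0) (.leaf 0x0)) (.node 10158 (.leaf 0x0) (.node 10159 (.leaf 0x1) (.leaf 0x0)))) (.node 10163 (.node 10161 (.leaf 0x0) (.node 10162 (.leaf 0x0) (.leaf 0x0))) (.node 10164 (.leaf 0x0) (.node 10165 (.leaf 0x0) (.leaf 0x0))))) (.node 10171 (.node 10168 (.node 10167 (.leaf 0x10001) (.leaf 0x0)) (.node 10169 (.leaf 0x0) (.node 10170 (.leaf 0x0) (.leaf 0x0)))) (.node 10174 (.node 10172 (.leaf 0x300030003) (.node 10173 (.leaf 0x1010201000005) (.leaf 0x1010201000005))) (.node 10175 (.leaf 0x102010003) (.node 10176 (.leaf 0x0) (.leaf 0x1020101000005))))))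

def sgOS_934 : Store := (.node 10155 sgOS_932 sgOS_933)

def sgOS_935 : Store := (.node 10188 (.node 10182 (.node 10179 (.node 10178 (.leaf 0x0) (.leaf 0x100000003)) (.node 10180 (.leaf 0x1) (.node 10181 (.leaf 0x2) (.leaf 0x100000003)))) (.node 10185 (.node 10183 (.leaf 0x10002) (.node 10184 (.leaf 0x0) (.leaf 0x0))) (.node 10186 (.leaf 0x0) (.node 10187 (.leaf 0x0) (.leaf 0x0))))) (.node 10193 (.node 10190 (.node 10189 (.leaf 0x0) (.leaf 0x100000003)) (.node 10191 (.leaf 0x0) (.node 10192 (.leaf 0x0) (.leaf 0x0)))) (.node 10196 (.node 10194 (.leaf 0x0) (.node 10195 (.leaf 0x0) (.leaf 0x0))) (.node 10197 (.leaf 0x0) (.node 10198 (.leaf 0x100000003) (.leaf 0x0))))))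

def sgOS_936 : Store := (.node 10210 (.node 10204 (.node 10201 (.node 10200 (.leaf 0x300030004) (.leaf 0x0)) (.node 10202 (.leaf 0x0) (.node 10203 (.leaf 0x10003000004) (.leaf 0x30001010005)))) (.node 10207 (.node 10205 (.leaf 0x0) (.node 10206 (.leaf 0x0) (.leaf 0x10002))) (.node 10208 (.leaf 0x10001) (.node 10209 (.leaf 0x10001) (.leaf 0x10002))))) (.node 10215 (.node 10212 (.node 10211 (.leaf 0x0) (.leaf 0x0)) (.node 10213 (.leaf 0x0) (.node 10214 (.leaf 0x10003) (.leaf 0x2)))) (.node 10218 (.node 10216 (.leaf 0x0) (.node 10217 (.leaf 0x2) (.leaf 0x1))) (.node 10219 (.leaf 0x20001) (.node 10220 (.leaf 0x0) (.leaf 0x0))))))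

def sgOS_937 : Store := (.node 10199 sgOS_935 sgOS_936)

def sgOS_938 : Store := (.node 10177 sgOS_934 sgOS_937)

def sgOS_939 : Store := (.node 10134 sgOS_931 sgOS_938)

def sgOS_940 : Store := (.node 10231 (.node 10226 (.node 10223 (.node 10222 (.leaf 0x0) (.leaf 0x1)) (.node 10224 (.leaf 0x10002) (.node 10225 (.leaf 0x0) (.leaf 0x1)))) (.node 10228 (.node 10227 (.leaf 0x0) (.leaf 0x100000003)) (.node 10229 (.leaf 0x0) (.node 10230 (.leaf 0x0) (.leaf 0x0))))) (.node 10236 (.node 10233 (.node 10232 (.leaf 0x100000003) (.leaf 0x100000003)) (.node 10234 (.leaf 0x0) (.node 10235 (.leaf 0x0) (.leaf 0x0)))) (.node 10239 (.node 10237 (.leaf 0x0) (.node 10238 (.leaf 0x0) (.leaf 0x0))) (.node 10240 (.leaf 0x0) (.node 10241 (.leaf 0x0) (.leaf 0x0))))))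

def sgOS_941 : Store := (.node 10253 (.node 10247 (.node 10244 (.node 10243 (.leaf 0x0) (.leaf 0x0)) (.node 10245 (.leaf 0x0) (.node 10246 (.leaf 0x0) (.leaf 0x0)))) (.node 10250 (.node 10248 (.leaf 0x0) (.node 10249 (.leaf 0x0) (.leaf 0x1))) (.node 10251 (.leaf 0x1) (.node 10252 (.leaf 0x1000002) (.leaf 0x10002))))) (.node 10258 (.node 10255 (.node 10254 (.leaf 0x0) (.leaf 0x0)) (.node 10256 (.leaf 0x10003) (.node 10257 (.leaf 0x2020002) (.leaf 0x20001)))) (.node 10261 (.node 10259 (.leaf 0x10003) (.node 10260 (.leaf 0x0) (.leaf 0x0))) (.node 10262 (.leaf 0x0) (.node 10263 (.leaf 0x0) (.leaf 0x0))))))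

def sgOS_942 : Store := (.node 10242 sgOS_940 sgOS_941)

def sgOS_943 : Store := (.node 10275 (.node 10269 (.node 10266 (.node 10265 (.leaf 0x0) (.leaf 0x0)) (.node 10267 (.leaf 0x10002) (.node 10268 (.leaf 0x0) (.leaf 0x0)))) (.node 10272 (.node 10270 (.leaf 0x10002) (.node 10271 (.leaf 0x0) (.leaf 0x0))) (.node 10273 (.leaf 0x0) (.node 10274 (.leaf 0x10002) (.leaf 0x100000003))))) (.node 10280 (.node 10277 (.node 10276 (.leaf 0x0) (.leaf 0x0)) (.node 10278 (.leaf 0x0) (.node 10279 (.leaf 0x0) (.leaf 0x0)))) (.node 10283 (.node 10281 (.leaf 0x0) (.node 10282 (.leaf 0x0) (.leaf 0x0))) (.node 10284 (.leaf 0x0) (.node 10285 (.leaf 0x0) (.leaf 0x0))))))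

def sgOS_944 : Store := (.node 10297 (.node 10291 (.node 10288 (.node 10287 (.leaf 0x0) (.leaf 0x0)) (.node 10289 (.leaf 0x10001) (.node 10290 (.leaf 0x0) (.leaf 0x0)))) (.node 10294 (.node 10292 (.leaf 0x10002) (.node 10293 (.leaf 0x1) (.leaf 0x0))) (.node 10295 (.leaf 0x0) (.node 10296 (.leaf 0x0) (.leaf 0x0))))) (.node 10302 (.node 10299 (.node 10298 (.leaf 0x0) (.leaf 0x0)) (.node 10300 (.leaf 0x0) (.node 10301 (.leaf 0x0) (.leaf 0x2)))) (.node 10305 (.node 10303 (.leaf 0x2) (.node 10304 (.leaf 0x0) (.leaf 0x100000003))) (.node 10306 (.leaf 0x0) (.node 10307 (.leaf 0x0) (.leaf 0x0))))))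

def sgOS_945 : Store := (.node 10286 sgOS_943 sgOS_944)

def sgOS_946 : Store := (.node 10264 sgOS_942 sgOS_945)

def sgOS_947 : Store := (.node 10318 (.node 10313 (.node 10310 (.node 10309 (.leaf 0x0) (.leaf 0x0)) (.node 10311 (.leaf 0x0) (.node 10312 (.leaf 0x0) (.leaf 0x10002)))) (.node 10315 (.node 10314 (.leaf 0x2020002) (.leaf 0x0)) (.node 10316 (.leaf 0x0) (.node 10317 (.leaf 0x0) (.leaf 0x0))))) (.node 10323 (.node 10320 (.node 10319 (.leaf 0x0) (.leaf 0x0)) (.node 10321 (.leaf 0x0) (.node 10322 (.leaf 0x0) (.leaf 0x0)))) (.node 10326 (.node 10324 (.leaf 0x10001) (.node 10325 (.leaf 0x0) (.leaf 0x0))) (.node 10327 (.leaf 0x10002) (.node 10328 (.leaf 0x10002) (.leaf 0x10002))))))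

def sgOS_948 : Store := (.node 10340 (.node 10334 (.node 10331 (.node 10330 (.leaf 0x0) (.leaf 0x0)) (.node 10332 (.leaf 0x0) (.node 10333 (.leaf 0x0) (.leaf 0x0)))) (.node 10337 (.node 10335 (.leaf 0x0) (.node 10336 (.leaf 0x0) (.leaf 0x2020002))) (.node 10338 (.leaf 0x2020002) (.node 10339 (.leaf 0x0) (.leaf 0x0))))) (.node 10345 (.node 10342 (.node 10341 (.leaf 0x10002) (.leaf 0x0)) (.node 10343 (.leaf 0x20001) (.node 10344 (.leaf 0x20001) (.leaf 0x0)))) (.node 10348 (.node 10346 (.leaf 0x0) (.node 10347 (.leaf 0x10002) (.leaf 0x0))) (.node 10349 (.leaf 0x0) (.node 10350 (.leaf 0x0) (.leaf 0x10002))))))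

def sgOS_949 : Store := (.node 10329 sgOS_947 sgOS_948)

def sgOS_950 : Store := (.node 10362 (.node 10356 (.node 10353 (.node 10352 (.leaf 0x20001) (.leaf 0x0)) (.node 10354 (.leaf 0x0) (.node 10355 (.leaf 0x0) (.leaf 0x100000003)))) (.node 10359 (.node 10357 (.leaf 0x0) (.node 10358 (.leaf 0x0) (.leaf 0x0))) (.node 10360 (.leaf 0x0) (.node 10361 (.leaf 0x0) (.leaf 0x0))))) (.node 10367 (.node 10364 (.node 10363 (.leaf 0x100000003) (.leaf 0x0)) (.node 10365 (.leaf 0x20001) (.node 10366 (.leaf 0x0) (.leaf 0x0)))) (.node 10370 (.node 10368 (.leaf 0x10003) (.node 10369 (.leaf 0x0) (.leaf 0x0))) (.node 10371 (.leaf 0x10002) (.node 10372 (.leaf 0x0) (.leaf 0x0))))))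

def sgOS_951 : Store := (.node 10384 (.node 10378 (.node 10375 (.node 10374 (.leaf 0x0) (.leaf 0x0)) (.node 10376 (.leaf 0x0) (.node 10377 (.leaf 0x0) (.leaf 0x0)))) (.node 10381 (.node 10379 (.leaf 0x0) (.node 10380 (.leaf 0x0) (.leaf 0x0))) (.node 10382 (.leaf 0x1) (.node 10383 (.leaf 0x20001) (.leaf 0x0))))) (.node 10389 (.node 10386 (.node 10385 (.leaf 0x1) (.leaf 0x2)) (.node 10387 (.leaf 0x0) (.node 10388 (.leaf 0x0) (.leaf 0x10001)))) (.node 10392 (.node 10390 (.leaf 0x0) (.node 10391 (.leaf 0x100000003) (.leaf 0x10003))) (.node 10393 (.leaf 0x0) (.node 10394 (.leaf 0x2) (.leaf 0x0))))))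

def sgOS_952 : Store := (.node 10373 sgOS_950 sgOS_951)

def sgOS_953 : Store := (.node 10351 sgOS_949 sgOS_952)

def sgOS_954 : Store := (.node 10308 sgOS_946 sgOS_953)

def sgOS_955 : Store := (.node 10221 sgOS_939 sgOS_954)

def sgOS_956 : Store := (.node 10048 sgOS_924 sgOS_955)

def sgOS_957 : Store := (.node 10405 (.node 10400 (.node 10397 (.node 10396 (.leaf 0x2) (.leaf 0x0)) (.node 10398 (.leaf 0x0) (.node 10399 (.leaf 0x0) (.leaf 0x1)))) (.node 10402 (.node 10401 (.leaf 0x10002) (.leaf 0x0)) (.node 10403 (.leaf 0x100000003) (.node 10404 (.leaf 0x10001) (.leaf 0x0))))) (.node 10410 (.node 10407 (.node 10406 (.leaf 0x100000003) (.leaf 0x1)) (.node 10408 (.leaf 0x100000003) (.node 10409 (.leaf 0x0) (.leaf 0x0)))) (.node 10413 (.node 10411 (.leaf 0x2) (.node 10412 (.leaf 0x2) (.leaf 0x0))) (.node 10414 (.leaf 0x0) (.node 10415 (.leaf 0x0) (.leaf 0x0))))))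

def sgOS_958 : Store := (.node 10427 (.node 10421 (.node 10418 (.node 10417 (.leaf 0x0) (.leaf 0x100000003)) (.node 10419 (.leaf 0x0) (.node 10420 (.leaf 0x0) (.leaf 0x20001)))) (.node 10424 (.node 10422 (.leaf 0x0) (.node 10423 (.leaf 0x0) (.leaf 0x0))) (.node 10425 (.leaf 0x10002) (.node 10426 (.leaf 0x0) (.leaf 0x10002))))) (.node 10432 (.node 10429 (.node 10428 (.leaf 0x10002) (.leaf 0x0)) (.node 10430 (.leaf 0x0) (.node 10431 (.leaf 0x0) (.leaf 0x0)))) (.node 10435 (.node 10433 (.leaf 0x0) (.node 10434 (.leaf 0x10002) (.leaf 0x0))) (.node 10436 (.leaf 0x0) (.node 10437 (.leaf 0x0) (.leaf 0x0))))))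

def sgOS_959 : Store := (.node 10416 sgOS_957 sgOS_958)

def sgOS_960 : Store := (.node 10448 (.node 10443 (.node 10440 (.node 10439 (.leaf 0x2020002) (.leaf 0x0)) (.node 10441 (.leaf 0x0) (.node 10442 (.leaf 0x0) (.leaf 0x0)))) (.node 10445 (.node 10444 (.leaf 0x0) (.leaf 0x0)) (.node 10446 (.leaf 0x20001) (.node 10447 (.leaf 0x10003) (.leaf 0x100000003))))) (.node 10453 (.node 10450 (.node 10449 (.leaf 0x10002) (.leaf 0x0)) (.node 10451 (.leaf 0x0) (.node 10452 (.leaf 0x2) (.leaf 0x20001)))) (.node 10456 (.node 10454 (.leaf 0x10002) (.node 10455 (.leaf 0x2) (.leaf 0x0))) (.node 10457 (.leaf 0x1) (.node 10458 (.leaf 0x0) (.leaf 0x0))))))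

def sgOS_961 : Store := (.node 10470 (.node 10464 (.node 10461 (.node 10460 (.leaf 0x0) (.leaf 0x0)) (.node 10462 (.leaf 0x0) (.node 10463 (.leaf 0x0) (.leaf 0x0)))) (.node 10467 (.node 10465 (.leaf 0x0) (.node 10466 (.leaf 0x1) (.leaf 0x1))) (.node 10468 (.leaf 0x10002) (.node 10469 (.leaf 0x1) (.leaf 0x1000002))))) (.node 10475 (.node 10472 (.node 10471 (.leaf 0x0) (.leaf 0x0)) (.node 10473 (.leaf 0x0) (.node 10474 (.leaf 0x0) (.leaf 0x0)))) (.node 10478 (.node 10476 (.leaf 0x0) (.node 10477 (.leaf 0x1) (.leaf 0x0))) (.node 10479 (.leaf 0x0) (.node 10480 (.leaf 0x0) (.leaf 0x2))))))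

def sgOS_962 : Store := (.node 10459 sgOS_960 sgOS_961)

def sgOS_963 : Store := (.node 10438 sgOS_959 sgOS_962)

def sgOS_964 : Store := (.node 10491 (.node 10486 (.node 10483 (.node 10482 (.leaf 0x0) (.leaf 0x2)) (.node 10484 (.leaf 0x0) (.node 10485 (.leaf 0x0) (.leaf 0x0)))) (.node 10488 (.node 10487 (.leaf 0x0) (.leaf 0x0)) (.node 10489 (.leaf 0x2) (.node 10490 (.leaf 0x0) (.leaf 0x0))))) (.node 10496 (.node 10493 (.node 10492 (.leaf 0x10002) (.leaf 0x0)) (.node 10494 (.leaf 0x100000003) (.node 10495 (.leaf 0x0) (.leaf 0x0)))) (.node 10499 (.node 10497 (.leaf 0x0) (.node 10498 (.leaf 0x0) (.leaf 0x0))) (.node 10500 (.leaf 0x0) (.node 10501 (.leaf 0x1) (.leaf 0x0))))))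

def sgOS_965 : Store := (.node 10513 (.node 10507 (.node 10504 (.node 10503 (.leaf 0x2020002) (.leaf 0x0)) (.node 10505 (.leaf 0x0) (.node 10506 (.leaf 0x1) (.leaf 0x0)))) (.node 10510 (.node 10508 (.leaf 0x0) (.node 10509 (.leaf 0x0) (.leaf 0x20001))) (.node 10511 (.leaf 0x0) (.node 10512 (.leaf 0x0) (.leaf 0x0))))) (.node 10518 (.node 10515 (.node 10514 (.leaf 0x0) (.leaf 0x0)) (.node 10516 (.leaf 0x10002) (.node 10517 (.leaf 0x10002) (.leaf 0x10002)))) (.node 10521 (.node 10519 (.leaf 0x0) (.node 10520 (.leaf 0x0) (.leaf 0x0))) (.node 10522 (.leaf 0x2) (.node 10523 (.leaf 0x0) (.leaf 0x20001))))))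

def sgOS_966 : Store := (.node 10502 sgOS_964 sgOS_965)

def sgOS_967 : Store := (.node 10535 (.node 10529 (.node 10526 (.node 10525 (.leaf 0x0) (.leaf 0x0)) (.node 10527 (.leaf 0x2) (.node 10528 (.leaf 0x0) (.leaf 0x1000002)))) (.node 10532 (.node 10530 (.leaf 0x1000002) (.node 10531 (.leaf 0x1) (.leaf 0x1000002))) (.node 10533 (.leaf 0x0) (.node 10534 (.leaf 0x0) (.leaf 0x0))))) (.node 10540 (.node 10537 (.node 10536 (.leaf 0x0) (.leaf 0x0)) (.node 10538 (.leaf 0x0) (.node 10539 (.leaf 0x0) (.leaf 0x0)))) (.node 10543 (.node 10541 (.leaf 0x0) (.node 10542 (.leaf 0x0) (.leaf 0x1000002))) (.node 10544 (.leaf 0x2020002) (.node 10545 (.leaf 0x20001) (.leaf 0x1000002))))))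

def sgOS_968 : Store := (.node 10557 (.node 10551 (.node 10548 (.node 10547 (.leaf 0x0) (.leaf 0x100000003)) (.node 10549 (.leaf 0x0) (.node 10550 (.leaf 0x10002) (.leaf 0x10001)))) (.node 10554 (.node 10552 (.leaf 0x20001) (.node 10553 (.leaf 0x0) (.leaf 0x10001))) (.node 10555 (.leaf 0x1) (.node 10556 (.leaf 0x0) (.leaf 0x0))))) (.node 10562 (.node 10559 (.node 10558 (.leaf 0x0) (.leaf 0x0)) (.node 10560 (.leaf 0x0) (.node 10561 (.leaf 0x10001) (.leaf 0x2)))) (.node 10565 (.node 10563 (.leaf 0x0) (.node 10564 (.leaf 0x20001) (.leaf 0x0))) (.node 10566 (.leaf 0x0) (.node 10567 (.leaf 0x0) (.leaf 0x2))))))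

def sgOS_969 : Store := (.node 10546 sgOS_967 sgOS_968)

def sgOS_970 : Store := (.node 10524 sgOS_966 sgOS_969)

def sgOS_971 : Store := (.node 10481 sgOS_963 sgOS_970)

def sgOS_972 : Store := (.node 10578 (.node 10573 (.node 10570 (.node 10569 (.leaf 0x10002) (.leaf 0x0)) (.node 10571 (.leaf 0x2020002) (.node 10572 (.leaf 0x0) (.leaf 0x0)))) (.node 10575 (.node 10574 (.leaf 0x0) (.leaf 0x10001)) (.node 10576 (.leaf 0x2020002) (.node 10577 (.leaf 0x0) (.leaf 0x0))))) (.node 10583 (.node 10580 (.node 10579 (.leaf 0x0) (.leaf 0x10002)) (.node 10581 (.leaf 0x0) (.node 10582 (.leaf 0x0) (.leaf 0x0)))) (.node 10586 (.node 10584 (.leaf 0x0) (.node 10585 (.leaf 0x0) (.leaf 0x0))) (.node 10587 (.leaf 0x1) (.node 10588 (.leaf 0x0) (.leaf 0x0))))))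

def sgOS_973 : Store := (.node 10600 (.node 10594 (.node 10591 (.node 10590 (.leaf 0x0) (.leaf 0x0)) (.node 10592 (.leaf 0x10003) (.node 10593 (.leaf 0x0) (.leaf 0x20001)))) (.node 10597 (.node 10595 (.leaf 0x0) (.node 10596 (.leaf 0x0) (.leaf 0x20001))) (.node 10598 (.leaf 0x0) (.node 10599 (.leaf 0x10003000004) (.leaf 0x0))))) (.node 10605 (.node 10602 (.node 10601 (.leaf 0x0) (.leaf 0x100000004)) (.node 10603 (.leaf 0x0) (.node 10604 (.leaf 0x10102010004) (.leaf 0x0)))) (.node 10608 (.node 10606 (.leaf 0x1) (.node 10607 (.leaf 0x2) (.leaf 0x10002))) (.node 10609 (.leaf 0x1) (.node 10610 (.leaf 0x0) (.leaf 0x1))))))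

def sgOS_974 : Store := (.node 10589 sgOS_972 sgOS_973)

def sgOS_975 : Store := (.node 10621 (.node 10616 (.node 10613 (.node 10612 (.leaf 0x0) (.leaf 0x0)) (.node 10614 (.leaf 0x0) (.node 10615 (.leaf 0x0) (.leaf 0x0)))) (.node 10618 (.node 10617 (.leaf 0x0) (.leaf 0x10002)) (.node 10619 (.leaf 0x0) (.node 10620 (.leaf 0x2020002) (.leaf 0x0))))) (.node 10626 (.node 10623 (.node 10622 (.leaf 0x0) (.leaf 0x0)) (.node 10624 (.leaf 0x2020002) (.node 10625 (.leaf 0x10001) (.leaf 0x0)))) (.node 10629 (.node 10627 (.leaf 0x10003000004) (.node 10628 (.leaf 0x0) (.leaf 0x0))) (.node 10630 (.leaf 0x3020101000006) (.node 10631 (.leaf 0x0) (.leaf 0x0))))))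

def sgOS_976 : Store := (.node 10643 (.node 10637 (.node 10634 (.node 10633 (.leaf 0x0) (.leaf 0x10003)) (.node 10635 (.leaf 0x10002) (.node 10636 (.leaf 0x0) (.leaf 0x2)))) (.node 10640 (.node 10638 (.leaf 0x10003) (.node 10639 (.leaf 0x0) (.leaf 0x0))) (.node 10641 (.leaf 0x0) (.node 10642 (.leaf 0x1) (.leaf 0x0))))) (.node 10648 (.node 10645 (.node 10644 (.leaf 0x0) (.leaf 0x0)) (.node 10646 (.leaf 0x100000003) (.node 10647 (.leaf 0x0) (.leaf 0x300030004)))) (.node 10651 (.node 10649 (.leaf 0x30001010005) (.node 10650 (.leaf 0x30001010005) (.leaf 0x10003000004))) (.node 10652 (.leaf 0x0) (.node 10653 (.leaf 0x1010003000005) (.leaf 0x0))))))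

def sgOS_977 : Store := (.node 10632 sgOS_975 sgOS_976)

def sgOS_978 : Store := (.node 10611 sgOS_974 sgOS_977)

def sgOS_979 : Store := (.node 10664 (.node 10659 (.node 10656 (.node 10655 (.leaf 0x10002) (.leaf 0x0)) (.node 10657 (.leaf 0x0) (.node 10658 (.leaf 0x0) (.leaf 0x10002)))) (.node 10661 (.node 10660 (.leaf 0x10002) (.leaf 0x0)) (.node 10662 (.leaf 0x0) (.node 10663 (.leaf 0x1) (.leaf 0x2))))) (.node 10669 (.node 10666 (.node 10665 (.leaf 0x0) (.leaf 0x0)) (.node 10667 (.leaf 0x0) (.node 10668 (.leaf 0x0) (.leaf 0x0)))) (.node 10672 (.node 10670 (.leaf 0x0) (.node 10671 (.leaf 0x20001) (.leaf 0x0))) (.node 10673 (.leaf 0x0) (.node 10674 (.leaf 0x0) (.leaf 0x0))))))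

def sgOS_980 : Store := (.node 10686 (.node 10680 (.node 10677 (.node 10676 (.leaf 0x0) (.leaf 0x0)) (.node 10678 (.leaf 0x0) (.node 10679 (.leaf 0x0) (.leaf 0x0)))) (.node 10683 (.node 10681 (.leaf 0x0) (.node 10682 (.leaf 0x0) (.leaf 0x0))) (.node 10684 (.leaf 0x0) (.node 10685 (.leaf 0x20001) (.leaf 0x0))))) (.node 10691 (.node 10688 (.node 10687 (.leaf 0x0) (.leaf 0x0)) (.node 10689 (.leaf 0x0) (.node 10690 (.leaf 0x0) (.leaf 0x0)))) (.node 10694 (.node 10692 (.leaf 0x0) (.node 10693 (.leaf 0x0) (.leaf 0x0))) (.node 10695 (.leaf 0x0) (.node 10696 (.leaf 0x0) (.leaf 0x0))))))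

def sgOS_981 : Store := (.node 10675 sgOS_979 sgOS_980)

def sgOS_982 : Store := (.node 10708 (.node 10702 (.node 10699 (.node 10698 (.leaf 0x100000003) (.leaf 0x100000003)) (.node 10700 (.leaf 0x0) (.node 10701 (.leaf 0x0) (.leaf 0x0)))) (.node 10705 (.node 10703 (.leaf 0x0) (.node 10704 (.leaf 0x0) (.leaf 0x0))) (.node 10706 (.leaf 0x0) (.node 10707 (.leaf 0x0) (.leaf 0x0))))) (.node 10713 (.node 10710 (.node 10709 (.leaf 0x10001) (.leaf 0x0)) (.node 10711 (.leaf 0x0) (.node 10712 (.leaf 0x0) (.leaf 0x0)))) (.node 10716 (.node 10714 (.leaf 0x100000003) (.node 10715 (.leaf 0x0) (.leaf 0x0))) (.node 10717 (.leaf 0x0) (.node 10718 (.leaf 0x0) (.leaf 0x0))))))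

def sgOS_983 : Store := (.node 10730 (.node 10724 (.node 10721 (.node 10720 (.leaf 0x0) (.leaf 0x0)) (.node 10722 (.leaf 0x1000002) (.node 10723 (.leaf 0x100000003) (.leaf 0x0)))) (.node 10727 (.node 10725 (.leaf 0x0) (.node 10726 (.leaf 0x0) (.leaf 0x0))) (.node 10728 (.leaf 0x0) (.node 10729 (.leaf 0x0) (.leaf 0x0))))) (.node 10735 (.node 10732 (.node 10731 (.leaf 0x0) (.leaf 0x0)) (.node 10733 (.leaf 0x0) (.node 10734 (.leaf 0x0) (.leaf 0x0)))) (.node 10738 (.node 10736 (.leaf 0x0) (.node 10737 (.leaf 0x0) (.leaf 0x0))) (.node 10739 (.leaf 0x100000003) (.node 10740 (.leaf 0x0) (.leaf 0x0))))))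

def sgOS_984 : Store := (.node 10719 sgOS_982 sgOS_983)

def sgOS_985 : Store := (.node 10697 sgOS_981 sgOS_984)

def sgOS_986 : Store := (.node 10654 sgOS_978 sgOS_985)

def sgOS_987 : Store := (.node 10568 sgOS_971 sgOS_986)

def sgOS_988 : Store := (.node 10751 (.node 10746 (.node 10743 (.node 10742 (.leaf 0x100000003) (.leaf 0x10002)) (.node 10744 (.leaf 0x0) (.node 10745 (.leaf 0x0) (.leaf 0x2)))) (.node 10748 (.node 10747 (.leaf 0x2) (.leaf 0x10001)) (.node 10749 (.leaf 0x2) (.node 10750 (.leaf 0x2) (.leaf 0x0))))) (.node 10756 (.node 10753 (.node 10752 (.leaf 0x0) (.leaf 0x2)) (.node 10754 (.leaf 0x20001) (.node 10755 (.leaf 0x100000003) (.leaf 0x2)))) (.node 10759 (.node 10757 (.leaf 0x1) (.node 10758 (.leaf 0x0) (.leaf 0x0))) (.node 10760 (.leaf 0x20001) (.node 10761 (.leaf 0x20001) (.leaf 0x0))))))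

def sgOS_989 : Store := (.node 10773 (.node 10767 (.node 10764 (.node 10763 (.leaf 0x20001) (.leaf 0x20001)) (.node 10765 (.leaf 0x0) (.node 10766 (.leaf 0x0) (.leaf 0x10003)))) (.node 10770 (.node 10768 (.leaf 0x0) (.node 10769 (.leaf 0x10002) (.leaf 0x10003))) (.node 10771 (.leaf 0x1) (.node 10772 (.leaf 0x1) (.leaf 0x0))))) (.node 10778 (.node 10775 (.node 10774 (.leaf 0x0) (.leaf 0x0)) (.node 10776 (.leaf 0x0) (.node 10777 (.leaf 0x0) (.leaf 0x0)))) (.node 10781 (.node 10779 (.leaf 0x0) (.node 10780 (.leaf 0x0) (.leaf 0x1))) (.node 10782 (.leaf 0x20001) (.node 10783 (.leaf 0x10002) (.leaf 0x1))))))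

def sgOS_990 : Store := (.node 10762 sgOS_988 sgOS_989)

def sgOS_991 : Store := (.node 10794 (.node 10789 (.node 10786 (.node 10785 (.leaf 0x0) (.leaf 0x0)) (.node 10787 (.leaf 0x0) (.node 10788 (.leaf 0x0) (.leaf 0x0)))) (.node 10791 (.node 10790 (.leaf 0x0) (.leaf 0x0)) (.node 10792 (.leaf 0x0) (.node 10793 (.leaf 0x1000002) (.leaf 0x0))))) (.node 10799 (.node 10796 (.node 10795 (.leaf 0x0) (.leaf 0x0)) (.node 10797 (.leaf 0x10003) (.node 10798 (.leaf 0x10003) (.leaf 0x0)))) (.node 10802 (.node 10800 (.leaf 0x10003) (.node 10801 (.leaf 0x0) (.leaf 0x0))) (.node 10803 (.leaf 0x0) (.node 10804 (.leaf 0x0) (.leaf 0x0))))))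

def sgOS_992 : Store := (.node 10816 (.node 10810 (.node 10807 (.node 10806 (.leaf 0x0) (.leaf 0x0)) (.node 10808 (.leaf 0x0) (.node 10809 (.leaf 0x10002) (.leaf 0x0)))) (.node 10813 (.node 10811 (.leaf 0x10001) (.node 10812 (.leaf 0x0) (.leaf 0x0))) (.node 10814 (.leaf 0x1) (.node 10815 (.leaf 0x0) (.leaf 0x10002))))) (.node 10821 (.node 10818 (.node 10817 (.leaf 0x0) (.leaf 0x0)) (.node 10819 (.leaf 0x0) (.node 10820 (.leaf 0x10002) (.leaf 0x0)))) (.node 10824 (.node 10822 (.leaf 0x0) (.node 10823 (.leaf 0x0) (.leaf 0x0))) (.node 10825 (.leaf 0x100000003) (.node 10826 (.leaf 0x100000003) (.leaf 0x0))))))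

def sgOS_993 : Store := (.node 10805 sgOS_991 sgOS_992)

def sgOS_994 : Store := (.node 10784 sgOS_990 sgOS_993)

def sgOS_995 : Store := (.node 10837 (.node 10832 (.node 10829 (.node 10828 (.leaf 0x0) (.leaf 0x0)) (.node 10830 (.leaf 0x0) (.node 10831 (.leaf 0x0) (.leaf 0x10001)))) (.node 10834 (.node 10833 (.leaf 0x0) (.leaf 0x0)) (.node 10835 (.leaf 0x0) (.node 10836 (.leaf 0x0) (.leaf 0x0))))) (.node 10842 (.node 10839 (.node 10838 (.leaf 0x0) (.leaf 0x10001)) (.node 10840 (.leaf 0x0) (.node 10841 (.leaf 0x0) (.leaf 0x100000003)))) (.node 10845 (.node 10843 (.leaf 0x0) (.node 10844 (.leaf 0x0) (.leaf 0x0))) (.node 10846 (.leaf 0x0) (.node 10847 (.leaf 0x0) (.leaf 0x0))))))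

def sgOS_996 : Store := (.node 10859 (.node 10853 (.node 10850 (.node 10849 (.leaf 0x0) (.leaf 0x0)) (.node 10851 (.leaf 0x0) (.node 10852 (.leaf 0x0) (.leaf 0x0)))) (.node 10856 (.node 10854 (.leaf 0x0) (.node 10855 (.leaf 0x0) (.leaf 0x10001))) (.node 10857 (.leaf 0x0) (.node 10858 (.leaf 0x1000002) (.leaf 0x0))))) (.node 10864 (.node 10861 (.node 10860 (.leaf 0x0) (.leaf 0x0)) (.node 10862 (.leaf 0x10002) (.node 10863 (.leaf 0x10001) (.leaf 0x0)))) (.node 10867 (.node 10865 (.leaf 0x0) (.node 10866 (.leaf 0x0) (.leaf 0x0))) (.node 10868 (.leaf 0x0) (.node 10869 (.leaf 0x0) (.leaf 0x1))))))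

def sgOS_997 : Store := (.node 10848 sgOS_995 sgOS_996)

def sgOS_998 : Store := (.node 10881 (.node 10875 (.node 10872 (.node 10871 (.leaf 0x0) (.leaf 0x100000004)) (.node 10873 (.leaf 0x1010003000005) (.node 10874 (.leaf 0x10102010004) (.leaf 0x10001)))) (.node 10878 (.node 10876 (.leaf 0x1010003000005) (.node 10877 (.leaf 0x0) (.leaf 0x0))) (.node 10879 (.leaf 0x0) (.node 10880 (.leaf 0x10002) (.leaf 0x0))))) (.node 10886 (.node 10883 (.node 10882 (.leaf 0x0) (.leaf 0x0)) (.node 10884 (.leaf 0x0) (.node 10885 (.leaf 0x0) (.leaf 0x0)))) (.node 10889 (.node 10887 (.leaf 0x20001) (.node 10888 (.leaf 0x10001) (.leaf 0x10003))) (.node 10890 (.leaf 0x0) (.node 10891 (.leaf 0x0) (.leaf 0x0))))))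

def sgOS_999 : Store := (.node 10903 (.node 10897 (.node 10894 (.node 10893 (.leaf 0x0) (.leaf 0x0)) (.node 10895 (.leaf 0x0) (.node 10896 (.leaf 0x0) (.leaf 0x100000005)))) (.node 10900 (.node 10898 (.leaf 0x1) (.node 10899 (.leaf 0x0) (.leaf 0x20001))) (.node 10901 (.leaf 0x0) (.node 10902 (.leaf 0x0) (.leaf 0x0))))) (.node 10908 (.node 10905 (.node 10904 (.leaf 0x1) (.leaf 0x10001)) (.node 10906 (.leaf 0x0) (.node 10907 (.leaf 0x0) (.leaf 0x0)))) (.node 10911 (.node 10909 (.leaf 0x1) (.node 10910 (.leaf 0x0) (.leaf 0x100000003))) (.node 10912 (.leaf 0x1000002) (.node 10913 (.leaf 0x0) (.leaf 0x0))))))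

def sgOS_1000 : Store := (.node 10892 sgOS_998 sgOS_999)

def sgOS_1001 : Store := (.node 10870 sgOS_997 sgOS_1000)

def sgOS_1002 : Store := (.node 10827 sgOS_994 sgOS_1001)

def sgOS_1003 : Store := (.node 10924 (.node 10919 (.node 10916 (.node 10915 (.leaf 0x0) (.leaf 0x0)) (.node 10917 (.leaf 0x0) (.node 10918 (.leaf 0x0) (.leaf 0x10001)))) (.node 10921 (.node 10920 (.leaf 0x0) (.leaf 0x0)) (.node 10922 (.leaf 0x0) (.node 10923 (.leaf 0x10001) (.leaf 0x0))))) (.node 10929 (.node 10926 (.node 10925 (.leaf 0x0) (.leaf 0x10001)) (.node 10927 (.leaf 0x0) (.node 10928 (.leaf 0x10002) (.leaf 0x20001)))) (.node 10932 (.node 10930 (.leaf 0x20001) (.node 10931 (.leaf 0x20001) (.leaf 0x0))) (.node 10933 (.leaf 0x0) (.node 10934 (.leaf 0x0) (.leaf 0x0))))))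

def sgOS_1004 : Store := (.node 10946 (.node 10940 (.node 10937 (.node 10936 (.leaf 0x0) (.leaf 0x0)) (.node 10938 (.leaf 0x0) (.node 10939 (.leaf 0x0) (.leaf 0x0)))) (.node 10943 (.node 10941 (.leaf 0x0) (.node 10942 (.leaf 0x20001) (.leaf 0x10001))) (.node 10944 (.leaf 0x0) (.node 10945 (.leaf 0x1000002) (.leaf 0x10002))))) (.node 10951 (.node 10948 (.node 10947 (.leaf 0x100000003) (.leaf 0x0)) (.node 10949 (.leaf 0x0) (.node 10950 (.leaf 0x0) (.leaf 0x0)))) (.node 10954 (.node 10952 (.leaf 0x0) (.node 10953 (.leaf 0x0) (.leaf 0x0))) (.node 10955 (.leaf 0x0) (.node 10956 (.leaf 0x2) (.leaf 0x2))))))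

def sgOS_1005 : Store := (.node 10935 sgOS_1003 sgOS_1004)

def sgOS_1006 : Store := (.node 10968 (.node 10962 (.node 10959 (.node 10958 (.leaf 0x100000003) (.leaf 0x2)) (.node 10960 (.leaf 0x0) (.node 10961 (.leaf 0x0) (.leaf 0x0)))) (.node 10965 (.node 10963 (.leaf 0x20001) (.node 10964 (.leaf 0x20001) (.leaf 0x0))) (.node 10966 (.leaf 0x20001) (.node 10967 (.leaf 0x20001) (.leaf 0x2))))) (.node 10973 (.node 10970 (.node 10969 (.leaf 0x0) (.leaf 0x0)) (.node 10971 (.leaf 0x0) (.node 10972 (.leaf 0x0) (.leaf 0x0)))) (.node 10976 (.node 10974 (.leaf 0x0) (.node 10975 (.leaf 0x0) (.leaf 0x0))) (.node 10977 (.leaf 0x0) (.node 10978 (.leaf 0x0) (.leaf 0x0))))))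

def sgOS_1007 : Store := (.node 10990 (.node 10984 (.node 10981 (.node 10980 (.leaf 0x0) (.leaf 0x0)) (.node 10982 (.leaf 0x0) (.node 10983 (.leaf 0x0) (.leaf 0x0)))) (.node 10987 (.node 10985 (.leaf 0x0) (.node 10986 (.leaf 0x2) (.leaf 0x2))) (.node 10988 (.leaf 0x1) (.node 10989 (.leaf 0x0) (.leaf 0x0))))) (.node 10995 (.node 10992 (.node 10991 (.leaf 0x0) (.leaf 0x1)) (.node 10993 (.leaf 0x0) (.node 10994 (.leaf 0x0) (.leaf 0x2)))) (.node 10998 (.node 10996 (.leaf 0x10001) (.node 10997 (.leaf 0x0) (.leaf 0x100000003))) (.node 10999 (.leaf 0x100000003) (.node 11000 (.leaf 0x0) (.leaf 0x100000003))))))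

def sgOS_1008 : Store := (.node 10979 sgOS_1006 sgOS_1007)

def sgOS_1009 : Store := (.node 10957 sgOS_1005 sgOS_1008)

def sgOS_1010 : Store := (.node 11011 (.node 11006 (.node 11003 (.node 11002 (.leaf 0x100000003) (.leaf 0x0)) (.node 11004 (.leaf 0x0) (.node 11005 (.leaf 0x20001) (.leaf 0x100000003)))) (.node 11008 (.node 11007 (.leaf 0x0) (.leaf 0x20001)) (.node 11009 (.leaf 0x10001) (.node 11010 (.leaf 0x0) (.leaf 0x0))))) (.node 11016 (.node 11013 (.node 11012 (.leaf 0x10002) (.leaf 0x0)) (.node 11014 (.leaf 0x2020002) (.node 11015 (.leaf 0x10002) (.leaf 0x0)))) (.node 11019 (.node 11017 (.leaf 0x2020002) (.node 11018 (.leaf 0x0) (.leaf 0x0))) (.node 11020 (.leaf 0x0) (.node 11021 (.leaf 0x0) (.leaf 0x0))))))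

def sgOS_1011 : Store := (.node 11033 (.node 11027 (.node 11024 (.node 11023 (.leaf 0x0) (.leaf 0x20001)) (.node 11025 (.leaf 0x0) (.node 11026 (.leaf 0x0) (.leaf 0x0)))) (.node 11030 (.node 11028 (.leaf 0x10001) (.node 11029 (.leaf 0x0) (.leaf 0x0))) (.node 11031 (.leaf 0x0) (.node 11032 (.leaf 0x0) (.leaf 0x1000002))))) (.node 11038 (.node 11035 (.node 11034 (.leaf 0x0) (.leaf 0x10002)) (.node 11036 (.leaf 0x0) (.node 11037 (.leaf 0x0) (.leaf 0x1)))) (.node 11041 (.node 11039 (.leaf 0x0) (.node 11040 (.leaf 0x0) (.leaf 0x0))) (.node 11042 (.leaf 0x0) (.node 11043 (.leaf 0x0) (.leaf 0x10003))))))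

def sgOS_1012 : Store := (.node 11022 sgOS_1010 sgOS_1011)

def sgOS_1013 : Store := (.node 11055 (.node 11049 (.node 11046 (.node 11045 (.leaf 0x0) (.leaf 0x0)) (.node 11047 (.leaf 0x0) (.node 11048 (.leaf 0x0) (.leaf 0x0)))) (.node 11052 (.node 11050 (.leaf 0x0) (.node 11051 (.leaf 0x0) (.leaf 0x0))) (.node 11053 (.leaf 0x0) (.node 11054 (.leaf 0x0) (.leaf 0x10001))))) (.node 11060 (.node 11057 (.node 11056 (.leaf 0x1000002) (.leaf 0x2020002)) (.node 11058 (.leaf 0x0) (.node 11059 (.leaf 0x0) (.leaf 0x0)))) (.node 11063 (.node 11061 (.leaf 0x0) (.node 11062 (.leaf 0x0) (.leaf 0x10001))) (.node 11064 (.leaf 0x0) (.node 11065 (.leaf 0x0) (.leaf 0x0))))))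

def sgOS_1014 : Store := (.node 11077 (.node 11071 (.node 11068 (.node 11067 (.leaf 0x0) (.leaf 0x0)) (.node 11069 (.leaf 0x0) (.node 11070 (.leaf 0x0) (.leaf 0x0)))) (.node 11074 (.node 11072 (.leaf 0x10001) (.node 11073 (.leaf 0x2) (.leaf 0x0))) (.node 11075 (.leaf 0x0) (.node 11076 (.leaf 0x1000002) (.leaf 0x20001))))) (.node 11082 (.node 11079 (.node 11078 (.leaf 0x0) (.leaf 0x0)) (.node 11080 (.leaf 0x2) (.node 11081 (.leaf 0x0) (.leaf 0x0)))) (.node 11085 (.node 11083 (.leaf 0x0) (.node 11084 (.leaf 0x0) (.leaf 0x0))) (.node 11086 (.leaf 0x0) (.node 11087 (.leaf 0x0) (.leaf 0x0))))))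

def sgOS_1015 : Store := (.node 11066 sgOS_1013 sgOS_1014)

def sgOS_1016 : Store := (.node 11044 sgOS_1012 sgOS_1015)

def sgOS_1017 : Store := (.node 11001 sgOS_1009 sgOS_1016)

def sgOS_1018 : Store := (.node 10914 sgOS_1002 sgOS_1017)

def sgOS_1019 : Store := (.node 10741 sgOS_987 sgOS_1018)

def sgOS_1020 : Store := (.node 10395 sgOS_956 sgOS_1019)

def sgOS_1021 : Store := (.node 9702 sgOS_893 sgOS_1020)

def sgOS_1022 : Store := (.node 8316 sgOS_766 sgOS_1021)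

def sgOS_1023 : Store := (.node 5544 sgOS_511 sgOS_1022)

def sgOS_1024 : Store := (.node 11098 (.node 11093 (.node 11090 (.node 11089 (.leaf 0x0) (.leaf 0x0)) (.node 11091 (.leaf 0x2) (.node 11092 (.leaf 0x0) (.leaf 0x1)))) (.node 11095 (.node 11094 (.leaf 0x0) (.leaf 0x0)) (.node 11096 (.leaf 0x10002) (.node 11097 (.leaf 0x10002) (.leaf 0x0))))) (.node 11103 (.node 11100 (.node 11099 (.leaf 0x0) (.leaf 0x10002)) (.node 11101 (.leaf 0x100000003) (.node 11102 (.leaf 0x0) (.leaf 0x10002)))) (.node 11106 (.node 11104 (.leaf 0x10002) (.node 11105 (.leaf 0x1) (.leaf 0x0))) (.node 11107 (.leaf 0x10002) (.node 11108 (.leaf 0x10001) (.leaf 0x0))))))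

def sgOS_1025 : Store := (.node 11120 (.node 11114 (.node 11111 (.node 11110 (.leaf 0x20001) (.leaf 0x20001)) (.node 11112 (.leaf 0x0) (.node 11113 (.leaf 0x0) (.leaf 0x10001)))) (.node 11117 (.node 11115 (.leaf 0x10001) (.node 11116 (.leaf 0x0) (.leaf 0x0))) (.node 11118 (.leaf 0x0) (.node 11119 (.leaf 0x0) (.leaf 0x0))))) (.node 11125 (.node 11122 (.node 11121 (.leaf 0x1000002) (.leaf 0x1000002)) (.node 11123 (.leaf 0x0) (.node 11124 (.leaf 0x0) (.leaf 0x0)))) (.node 11128 (.node 11126 (.leaf 0x2) (.node 11127 (.leaf 0x2) (.leaf 0x0))) (.node 11129 (.leaf 0x1) (.node 11130 (.leaf 0x0) (.leaf 0x0))))))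

def sgOS_1026 : Store := (.node 11109 sgOS_1024 sgOS_1025)

def sgOS_1027 : Store := (.node 11141 (.node 11136 (.node 11133 (.node 11132 (.leaf 0x0) (.leaf 0x0)) (.node 11134 (.leaf 0x0) (.node 11135 (.leaf 0x0) (.leaf 0x0)))) (.node 11138 (.node 11137 (.leaf 0x0) (.leaf 0x0)) (.node 11139 (.leaf 0x0) (.node 11140 (.leaf 0x100000003) (.leaf 0x0))))) (.node 11146 (.node 11143 (.node 11142 (.leaf 0x0) (.leaf 0x100000003)) (.node 11144 (.leaf 0x0) (.node 11145 (.leaf 0x0) (.leaf 0x0)))) (.node 11149 (.node 11147 (.leaf 0x0) (.node 11148 (.leaf 0x0) (.leaf 0x0))) (.node 11150 (.leaf 0x0) (.node 11151 (.leaf 0x0) (.leaf 0x0))))))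

def sgOS_1028 : Store := (.node 11163 (.node 11157 (.node 11154 (.node 11153 (.leaf 0x0) (.leaf 0x0)) (.node 11155 (.leaf 0x0) (.node 11156 (.leaf 0x0) (.leaf 0x1)))) (.node 11160 (.node 11158 (.leaf 0x0) (.node 11159 (.leaf 0x0) (.leaf 0x20001))) (.node 11161 (.leaf 0x0) (.node 11162 (.leaf 0x0) (.leaf 0x20001))))) (.node 11168 (.node 11165 (.node 11164 (.leaf 0x0) (.leaf 0x0)) (.node 11166 (.leaf 0x0) (.node 11167 (.leaf 0x0) (.leaf 0x0)))) (.node 11171 (.node 11169 (.leaf 0x0) (.node 11170 (.leaf 0x0) (.leaf 0x10001))) (.node 11172 (.leaf 0x0) (.node 11173 (.leaf 0x0) (.leaf 0x1))))))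

def sgOS_1029 : Store := (.node 11152 sgOS_1027 sgOS_1028)

def sgOS_1030 : Store := (.node 11131 sgOS_1026 sgOS_1029)

def sgOS_1031 : Store := (.node 11184 (.node 11179 (.node 11176 (.node 11175 (.leaf 0x0) (.leaf 0x0)) (.node 11177 (.leaf 0x0) (.node 11178 (.leaf 0x0) (.leaf 0x0)))) (.node 11181 (.node 11180 (.leaf 0x0) (.leaf 0x0)) (.node 11182 (.leaf 0x0) (.node 11183 (.leaf 0x0) (.leaf 0x0))))) (.node 11189 (.node 11186 (.node 11185 (.leaf 0x0) (.leaf 0x0)) (.node 11187 (.leaf 0x100000003) (.node 11188 (.leaf 0x0) (.leaf 0x10001)))) (.node 11192 (.node 11190 (.leaf 0x0) (.node 11191 (.leaf 0x0) (.leaf 0x0))) (.node 11193 (.leaf 0x0) (.node 11194 (.leaf 0x0) (.leaf 0x0))))))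

def sgOS_1032 : Store := (.node 11206 (.node 11200 (.node 11197 (.node 11196 (.leaf 0x2) (.leaf 0x2)) (.node 11198 (.leaf 0x0) (.node 11199 (.leaf 0x0) (.leaf 0x0)))) (.node 11203 (.node 11201 (.leaf 0x0) (.node 11202 (.leaf 0x30001) (.leaf 0x20001))) (.node 11204 (.leaf 0x0) (.node 11205 (.leaf 0x10001) (.leaf 0x1))))) (.node 11211 (.node 11208 (.node 11207 (.leaf 0x0) (.leaf 0x0)) (.node 11209 (.leaf 0x0) (.node 11210 (.leaf 0x0) (.leaf 0x0)))) (.node 11214 (.node 11212 (.leaf 0x0) (.node 11213 (.leaf 0x0) (.leaf 0x0))) (.node 11215 (.leaf 0x10003) (.node 11216 (.leaf 0x0) (.leaf 0x20001))))))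

def sgOS_1033 : Store := (.node 11195 sgOS_1031 sgOS_1032)

def sgOS_1034 : Store := (.node 11228 (.node 11222 (.node 11219 (.node 11218 (.leaf 0x10003) (.leaf 0x0)) (.node 11220 (.leaf 0x0) (.node 11221 (.leaf 0x0) (.leaf 0x2020002)))) (.node 11225 (.node 11223 (.leaf 0x10001) (.node 11224 (.leaf 0x100000003) (.leaf 0x10001))) (.node 11226 (.leaf 0x0) (.node 11227 (.leaf 0x0) (.leaf 0x0))))) (.node 11233 (.node 11230 (.node 11229 (.leaf 0x10003) (.leaf 0x0)) (.node 11231 (.leaf 0x0) (.node 11232 (.leaf 0x0) (.leaf 0x1)))) (.node 11236 (.node 11234 (.leaf 0x100000003) (.node 11235 (.leaf 0x0) (.leaf 0x10003))) (.node 11237 (.leaf 0x0) (.node 11238 (.leaf 0x0) (.leaf 0x0))))))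

def sgOS_1035 : Store := (.node 11250 (.node 11244 (.node 11241 (.node 11240 (.leaf 0x1) (.leaf 0x20001)) (.node 11242 (.leaf 0x0) (.node 11243 (.leaf 0x0) (.leaf 0x2)))) (.node 11247 (.node 11245 (.leaf 0x20001) (.node 11246 (.leaf 0x2) (.leaf 0x0))) (.node 11248 (.leaf 0x0) (.node 11249 (.leaf 0x0) (.leaf 0x0))))) (.node 11255 (.node 11252 (.node 11251 (.leaf 0x0) (.leaf 0x0)) (.node 11253 (.leaf 0x0) (.node 11254 (.leaf 0x0) (.leaf 0x0)))) (.node 11258 (.node 11256 (.leaf 0x0) (.node 11257 (.leaf 0x0) (.leaf 0x0))) (.node 11259 (.leaf 0x1) (.node 11260 (.leaf 0x0) (.leaf 0x0))))))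

def sgOS_1036 : Store := (.node 11239 sgOS_1034 sgOS_1035)

def sgOS_1037 : Store := (.node 11217 sgOS_1033 sgOS_1036)

def sgOS_1038 : Store := (.node 11174 sgOS_1030 sgOS_1037)

def sgOS_1039 : Store := (.node 11271 (.node 11266 (.node 11263 (.node 11262 (.leaf 0x1) (.leaf 0x0)) (.node 11264 (.leaf 0x30001000004) (.node 11265 (.leaf 0x0) (.leaf 0x10201010004)))) (.node 11268 (.node 11267 (.leaf 0x20302010004) (.leaf 0x10100030004)) (.node 11269 (.leaf 0x10100030004) (.node 11270 (.leaf 0x0) (.leaf 0x0))))) (.node 11276 (.node 11273 (.node 11272 (.leaf 0x0) (.leaf 0x0)) (.node 11274 (.leaf 0x0) (.node 11275 (.leaf 0x0) (.leaf 0x0)))) (.node 11279 (.node 11277 (.leaf 0x0) (.node 11278 (.leaf 0x0) (.leaf 0x0))) (.node 11280 (.leaf 0x0) (.node 11281 (.leaf 0x0) (.leaf 0x0))))))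

def sgOS_1040 : Store := (.node 11293 (.node 11287 (.node 11284 (.node 11283 (.leaf 0x10001) (.leaf 0x0)) (.node 11285 (.leaf 0x0) (.node 11286 (.leaf 0x0) (.leaf 0x20001)))) (.node 11290 (.node 11288 (.leaf 0x1000002) (.node 11289 (.leaf 0x10002) (.leaf 0x10002))) (.node 11291 (.leaf 0x0) (.node 11292 (.leaf 0x0) (.leaf 0x0))))) (.node 11298 (.node 11295 (.node 11294 (.leaf 0x100000003) (.leaf 0x0)) (.node 11296 (.leaf 0x0) (.node 11297 (.leaf 0x100000003) (.leaf 0x0)))) (.node 11301 (.node 11299 (.leaf 0x0) (.node 11300 (.leaf 0x20001) (.leaf 0x0))) (.node 11302 (.leaf 0x0) (.node 11303 (.leaf 0x1) (.leaf 0x0))))))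

def sgOS_1041 : Store := (.node 11282 sgOS_1039 sgOS_1040)

def sgOS_1042 : Store := (.node 11314 (.node 11309 (.node 11306 (.node 11305 (.leaf 0x0) (.leaf 0x0)) (.node 11307 (.leaf 0x0) (.node 11308 (.leaf 0x0) (.leaf 0x0)))) (.node 11311 (.node 11310 (.leaf 0x0) (.leaf 0x1000002)) (.node 11312 (.leaf 0x0) (.node 11313 (.leaf 0x0) (.leaf 0x0))))) (.node 11319 (.node 11316 (.node 11315 (.leaf 0x0) (.leaf 0x100000003)) (.node 11317 (.leaf 0x0) (.node 11318 (.leaf 0x10001) (.leaf 0x0)))) (.node 11322 (.node 11320 (.leaf 0x0) (.node 11321 (.leaf 0x0) (.leaf 0x0))) (.node 11323 (.leaf 0x0) (.node 11324 (.leaf 0x0) (.leaf 0x0))))))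

def sgOS_1043 : Store := (.node 11336 (.node 11330 (.node 11327 (.node 11326 (.leaf 0x0) (.leaf 0x0)) (.node 11328 (.leaf 0x0) (.node 11329 (.leaf 0x1) (.leaf 0x0)))) (.node 11333 (.node 11331 (.leaf 0x0) (.node 11332 (.leaf 0x0) (.leaf 0x0))) (.node 11334 (.leaf 0x0) (.node 11335 (.leaf 0x0) (.leaf 0x0))))) (.node 11341 (.node 11338 (.node 11337 (.leaf 0x100000003) (.leaf 0x0)) (.node 11339 (.leaf 0x0) (.node 11340 (.leaf 0x0) (.leaf 0x1000002)))) (.node 11344 (.node 11342 (.leaf 0x0) (.node 11343 (.leaf 0x0) (.leaf 0x0))) (.node 11345 (.leaf 0x10001) (.node 11346 (.leaf 0x1) (.leaf 0x0))))))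

def sgOS_1044 : Store := (.node 11325 sgOS_1042 sgOS_1043)

def sgOS_1045 : Store := (.node 11304 sgOS_1041 sgOS_1044)

def sgOS_1046 : Store := (.node 11357 (.node 11352 (.node 11349 (.node 11348 (.leaf 0x1000002) (.leaf 0x0)) (.node 11350 (.leaf 0x0) (.node 11351 (.leaf 0x10001) (.leaf 0x2)))) (.node 11354 (.node 11353 (.leaf 0x1000002) (.leaf 0x0)) (.node 11355 (.leaf 0x2) (.node 11356 (.leaf 0x1) (.leaf 0x0))))) (.node 11362 (.node 11359 (.node 11358 (.leaf 0x0) (.leaf 0x20001)) (.node 11360 (.leaf 0x100000003) (.node 11361 (.leaf 0x0) (.leaf 0x2)))) (.node 11365 (.node 11363 (.leaf 0x0) (.node 11364 (.leaf 0x100000003) (.leaf 0x100000003))) (.node 11366 (.leaf 0x0) (.node 11367 (.leaf 0x2) (.leaf 0x0))))))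

def sgOS_1047 : Store := (.node 11379 (.node 11373 (.node 11370 (.node 11369 (.leaf 0x0) (.leaf 0x0)) (.node 11371 (.leaf 0x10001) (.node 11372 (.leaf 0x0) (.leaf 0x0)))) (.node 11376 (.node 11374 (.leaf 0x0) (.node 11375 (.leaf 0x0) (.leaf 0x10003))) (.node 11377 (.leaf 0x10003) (.node 11378 (.leaf 0x100000003) (.leaf 0x10003))))) (.node 11384 (.node 11381 (.node 11380 (.leaf 0x10003) (.leaf 0x0)) (.node 11382 (.leaf 0x0) (.node 11383 (.leaf 0x0) (.leaf 0x0)))) (.node 11387 (.node 11385 (.leaf 0x10002) (.node 11386 (.leaf 0x0) (.leaf 0x0))) (.node 11388 (.leaf 0x0) (.node 11389 (.leaf 0x0) (.leaf 0x0))))))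

def sgOS_1048 : Store := (.node 11368 sgOS_1046 sgOS_1047)

def sgOS_1049 : Store := (.node 11401 (.node 11395 (.node 11392 (.node 11391 (.leaf 0x0) (.leaf 0x0)) (.node 11393 (.leaf 0x0) (.node 11394 (.leaf 0x0) (.leaf 0x0)))) (.node 11398 (.node 11396 (.leaf 0x0) (.node 11397 (.leaf 0x0) (.leaf 0x0))) (.node 11399 (.leaf 0x0) (.node 11400 (.leaf 0x0) (.leaf 0x0))))) (.node 11406 (.node 11403 (.node 11402 (.leaf 0x1) (.leaf 0x0)) (.node 11404 (.leaf 0x0) (.node 11405 (.leaf 0x0) (.leaf 0x0)))) (.node 11409 (.node 11407 (.leaf 0x0) (.node 11408 (.leaf 0x0) (.leaf 0x20001))) (.node 11410 (.leaf 0x0) (.node 11411 (.leaf 0x0) (.leaf 0x10003))))))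

def sgOS_1050 : Store := (.node 11423 (.node 11417 (.node 11414 (.node 11413 (.leaf 0x10003) (.leaf 0x10003)) (.node 11415 (.leaf 0x1) (.node 11416 (.leaf 0x0) (.leaf 0x0)))) (.node 11420 (.node 11418 (.leaf 0x10002) (.node 11419 (.leaf 0x0) (.leaf 0x0))) (.node 11421 (.leaf 0x0) (.node 11422 (.leaf 0x0) (.leaf 0x0))))) (.node 11428 (.node 11425 (.node 11424 (.leaf 0x0) (.leaf 0x0)) (.node 11426 (.leaf 0x20001) (.node 11427 (.leaf 0x0) (.leaf 0x0)))) (.node 11431 (.node 11429 (.leaf 0x0) (.node 11430 (.leaf 0x0) (.leaf 0x0))) (.node 11432 (.leaf 0x100000003) (.node 11433 (.leaf 0x0) (.leaf 0x10001))))))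

def sgOS_1051 : Store := (.node 11412 sgOS_1049 sgOS_1050)

def sgOS_1052 : Store := (.node 11390 sgOS_1048 sgOS_1051)

def sgOS_1053 : Store := (.node 11347 sgOS_1045 sgOS_1052)

def sgOS_1054 : Store := (.node 11261 sgOS_1038 sgOS_1053)

def sgOS_1055 : Store := (.node 11444 (.node 11439 (.node 11436 (.node 11435 (.leaf 0x10001) (.leaf 0x0)) (.node 11437 (.leaf 0x0) (.node 11438 (.leaf 0x0) (.leaf 0x0)))) (.node 11441 (.node 11440 (.leaf 0x0) (.leaf 0x0)) (.node 11442 (.leaf 0x0) (.node 11443 (.leaf 0x0) (.leaf 0x0))))) (.node 11449 (.node 11446 (.node 11445 (.leaf 0x0) (.leaf 0x10002)) (.node 11447 (.leaf 0x0) (.node 11448 (.leaf 0x20001) (.leaf 0x10002)))) (.node 11452 (.node 11450 (.leaf 0x10002) (.node 11451 (.leaf 0x0) (.leaf 0x0))) (.node 11453 (.leaf 0x0) (.node 11454 (.leaf 0x0) (.leaf 0x0))))))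

def sgOS_1056 : Store := (.node 11466 (.node 11460 (.node 11457 (.node 11456 (.leaf 0x0) (.leaf 0x0)) (.node 11458 (.leaf 0x0) (.node 11459 (.leaf 0x0) (.leaf 0x0)))) (.node 11463 (.node 11461 (.leaf 0x0) (.node 11462 (.leaf 0x0) (.leaf 0x0))) (.node 11464 (.leaf 0x0) (.node 11465 (.leaf 0x100000003) (.leaf 0x0))))) (.node 11471 (.node 11468 (.node 11467 (.leaf 0x10002) (.leaf 0x0)) (.node 11469 (.leaf 0x0) (.node 11470 (.leaf 0x10002) (.leaf 0x0)))) (.node 11474 (.node 11472 (.leaf 0x20001) (.node 11473 (.leaf 0x0) (.leaf 0x0))) (.node 11475 (.leaf 0x0) (.node 11476 (.leaf 0x0) (.leaf 0x0))))))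

def sgOS_1057 : Store := (.node 11455 sgOS_1055 sgOS_1056)

def sgOS_1058 : Store := (.node 11487 (.node 11482 (.node 11479 (.node 11478 (.leaf 0x0) (.leaf 0x10002)) (.node 11480 (.leaf 0x0) (.node 11481 (.leaf 0x0) (.leaf 0x0)))) (.node 11484 (.node 11483 (.leaf 0x10001) (.leaf 0x0)) (.node 11485 (.leaf 0x1) (.node 11486 (.leaf 0x0) (.leaf 0x0))))) (.node 11492 (.node 11489 (.node 11488 (.leaf 0x100000003) (.leaf 0x100000003)) (.node 11490 (.leaf 0x20001) (.node 11491 (.leaf 0x100000003) (.leaf 0x100000003)))) (.node 11495 (.node 11493 (.leaf 0x0) (.node 11494 (.leaf 0x0) (.leaf 0x100000003))) (.node 11496 (.leaf 0x20001) (.node 11497 (.leaf 0x0) (.leaf 0x0))))))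

def sgOS_1059 : Store := (.node 11509 (.node 11503 (.node 11500 (.node 11499 (.leaf 0x100000003) (.leaf 0x100000003)) (.node 11501 (.leaf 0x0) (.node 11502 (.leaf 0x0) (.leaf 0x100000003)))) (.node 11506 (.node 11504 (.leaf 0x100000003) (.node 11505 (.leaf 0x0) (.leaf 0x0))) (.node 11507 (.leaf 0x20001) (.node 11508 (.leaf 0x0) (.leaf 0x0))))) (.node 11514 (.node 11511 (.node 11510 (.leaf 0x10002) (.leaf 0x100000003)) (.node 11512 (.leaf 0x10002) (.node 11513 (.leaf 0x0) (.leaf 0x0)))) (.node 11517 (.node 11515 (.leaf 0x0) (.node 11516 (.leaf 0x0) (.leaf 0x0))) (.node 11518 (.leaf 0x100000003) (.node 11519 (.leaf 0x0) (.leaf 0x0))))))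

def sgOS_1060 : Store := (.node 11498 sgOS_1058 sgOS_1059)

def sgOS_1061 : Store := (.node 11477 sgOS_1057 sgOS_1060)

def sgOS_1062 : Store := (.node 11530 (.node 11525 (.node 11522 (.node 11521 (.leaf 0x0) (.leaf 0x0)) (.node 11523 (.leaf 0x0) (.node 11524 (.leaf 0x0) (.leaf 0x1000002)))) (.node 11527 (.node 11526 (.leaf 0x0) (.leaf 0x0)) (.node 11528 (.leaf 0x2) (.node 11529 (.leaf 0x0) (.leaf 0x0))))) (.node 11535 (.node 11532 (.node 11531 (.leaf 0x0) (.leaf 0x0)) (.node 11533 (.leaf 0x0) (.node 11534 (.leaf 0x0) (.leaf 0x2)))) (.node 11538 (.node 11536 (.leaf 0x0) (.node 11537 (.leaf 0x302010100000006) (.leaf 0x1))) (.node 11539 (.leaf 0x0) (.node 11540 (.leaf 0x300030004) (.leaf 0x0))))))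

def sgOS_1063 : Store := (.node 11552 (.node 11546 (.node 11543 (.node 11542 (.leaf 0x0) (.leaf 0x0)) (.node 11544 (.leaf 0x0) (.node 11545 (.leaf 0x0) (.leaf 0x20001)))) (.node 11549 (.node 11547 (.leaf 0x0) (.node 11548 (.leaf 0x0) (.leaf 0x0))) (.node 11550 (.leaf 0x0) (.node 11551 (.leaf 0x0) (.leaf 0x10002))))) (.node 11557 (.node 11554 (.node 11553 (.leaf 0x0) (.leaf 0x10002)) (.node 11555 (.leaf 0x10002) (.node 11556 (.leaf 0x1) (.leaf 0x0)))) (.node 11560 (.node 11558 (.leaf 0x100000003) (.node 11559 (.leaf 0x10003) (.leaf 0x0))) (.node 11561 (.leaf 0x100000003) (.node 11562 (.leaf 0x2) (.leaf 0x1))))))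

def sgOS_1064 : Store := (.node 11541 sgOS_1062 sgOS_1063)

def sgOS_1065 : Store := (.node 11574 (.node 11568 (.node 11565 (.node 11564 (.leaf 0x0) (.leaf 0x10002)) (.node 11566 (.leaf 0x0) (.node 11567 (.leaf 0x1000002) (.leaf 0x10002)))) (.node 11571 (.node 11569 (.leaf 0x0) (.node 11570 (.leaf 0x1000002) (.leaf 0x0))) (.node 11572 (.leaf 0x0) (.node 11573 (.leaf 0x20001) (.leaf 0x0))))) (.node 11579 (.node 11576 (.node 11575 (.leaf 0x20001) (.leaf 0x0)) (.node 11577 (.leaf 0x0) (.node 11578 (.leaf 0x0) (.leaf 0x0)))) (.node 11582 (.node 11580 (.leaf 0x0) (.node 11581 (.leaf 0x0) (.leaf 0x0))) (.node 11583 (.leaf 0x0) (.node 11584 (.leaf 0x0) (.leaf 0x0))))))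

def sgOS_1066 : Store := (.node 11596 (.node 11590 (.node 11587 (.node 11586 (.leaf 0x0) (.leaf 0x100000005)) (.node 11588 (.leaf 0x1) (.node 11589 (.leaf 0x0) (.leaf 0x300000005)))) (.node 11593 (.node 11591 (.leaf 0x20001) (.node 11592 (.leaf 0x0) (.leaf 0x0))) (.node 11594 (.leaf 0x0) (.node 11595 (.leaf 0x0) (.leaf 0x0))))) (.node 11601 (.node 11598 (.node 11597 (.leaf 0x100000005) (.leaf 0x300030003)) (.node 11599 (.leaf 0x0) (.node 11600 (.leaf 0x100000003) (.leaf 0x0)))) (.node 11604 (.node 11602 (.leaf 0x0) (.node 11603 (.leaf 0x0) (.leaf 0x20001))) (.node 11605 (.leaf 0x0) (.node 11606 (.leaf 0x0) (.leaf 0x2))))))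

def sgOS_1067 : Store := (.node 11585 sgOS_1065 sgOS_1066)

def sgOS_1068 : Store := (.node 11563 sgOS_1064 sgOS_1067)

def sgOS_1069 : Store := (.node 11520 sgOS_1061 sgOS_1068)

def sgOS_1070 : Store := (.node 11617 (.node 11612 (.node 11609 (.node 11608 (.leaf 0x0) (.leaf 0x100000003)) (.node 11610 (.leaf 0x0) (.node 11611 (.leaf 0x1000002) (.leaf 0x10002)))) (.node 11614 (.node 11613 (.leaf 0x0) (.leaf 0x10002)) (.node 11615 (.leaf 0x0) (.node 11616 (.leaf 0x0) (.leaf 0x10002))))) (.node 11622 (.node 11619 (.node 11618 (.leaf 0x1) (.leaf 0x2020002)) (.node 11620 (.leaf 0x0) (.node 11621 (.leaf 0x0) (.leaf 0x0)))) (.node 11625 (.node 11623 (.leaf 0x20001) (.node 11624 (.leaf 0x0) (.leaf 0x0))) (.node 11626 (.leaf 0x0) (.node 11627 (.leaf 0x0) (.leaf 0x0))))))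

def sgOS_1071 : Store := (.node 11639 (.node 11633 (.node 11630 (.node 11629 (.leaf 0x0) (.leaf 0x100000003)) (.node 11631 (.leaf 0x0) (.node 11632 (.leaf 0x10003) (.leaf 0x1)))) (.node 11636 (.node 11634 (.leaf 0x0) (.node 11635 (.leaf 0x0) (.leaf 0x0))) (.node 11637 (.leaf 0x0) (.node 11638 (.leaf 0x0) (.leaf 0x0))))) (.node 11644 (.node 11641 (.node 11640 (.leaf 0x0) (.leaf 0x0)) (.node 11642 (.leaf 0x1) (.node 11643 (.leaf 0x0) (.leaf 0x0)))) (.node 11647 (.node 11645 (.leaf 0x0) (.node 11646 (.leaf 0x0) (.leaf 0x1))) (.node 11648 (.leaf 0x0) (.node 11649 (.leaf 0x0) (.leaf 0x2))))))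

def sgOS_1072 : Store := (.node 11628 sgOS_1070 sgOS_1071)

def sgOS_1073 : Store := (.node 11661 (.node 11655 (.node 11652 (.node 11651 (.leaf 0x10001) (.leaf 0x0)) (.node 11653 (.leaf 0x2) (.node 11654 (.leaf 0x0) (.leaf 0x0)))) (.node 11658 (.node 11656 (.leaf 0x0) (.node 11657 (.leaf 0x10002) (.leaf 0x2020002))) (.node 11659 (.leaf 0x0) (.node 11660 (.leaf 0x0) (.leaf 0x100000003))))) (.node 11666 (.node 11663 (.node 11662 (.leaf 0x0) (.leaf 0x100000003)) (.node 11664 (.leaf 0x20001) (.node 11665 (.leaf 0x0) (.leaf 0x0)))) (.node 11669 (.node 11667 (.leaf 0x20001) (.node 11668 (.leaf 0x100000003) (.leaf 0x0))) (.node 11670 (.leaf 0x0) (.node 11671 (.leaf 0x0) (.leaf 0x0))))))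

def sgOS_1074 : Store := (.node 11683 (.node 11677 (.node 11674 (.node 11673 (.leaf 0x0) (.leaf 0x0)) (.node 11675 (.leaf 0x100000003) (.node 11676 (.leaf 0x0) (.leaf 0x0)))) (.node 11680 (.node 11678 (.leaf 0x0) (.node 11679 (.leaf 0x0) (.leaf 0x0))) (.node 11681 (.leaf 0x1) (.node 11682 (.leaf 0x100000003) (.leaf 0x0))))) (.node 11688 (.node 11685 (.node 11684 (.leaf 0x0) (.leaf 0x2)) (.node 11686 (.leaf 0x2) (.node 11687 (.leaf 0x0) (.leaf 0x0)))) (.node 11691 (.node 11689 (.leaf 0x10001) (.node 11690 (.leaf 0x0) (.leaf 0x100000003))) (.node 11692 (.leaf 0x0) (.node 11693 (.leaf 0x0) (.leaf 0x100000003))))))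

def sgOS_1075 : Store := (.node 11672 sgOS_1073 sgOS_1074)

def sgOS_1076 : Store := (.node 11650 sgOS_1072 sgOS_1075)

def sgOS_1077 : Store := (.node 11704 (.node 11699 (.node 11696 (.node 11695 (.leaf 0x100000003) (.leaf 0x0)) (.node 11697 (.leaf 0x0) (.node 11698 (.leaf 0x0) (.leaf 0x10002)))) (.node 11701 (.node 11700 (.leaf 0x10001) (.leaf 0x20001)) (.node 11702 (.leaf 0x0) (.node 11703 (.leaf 0x0) (.leaf 0x0))))) (.node 11709 (.node 11706 (.node 11705 (.leaf 0x0) (.leaf 0x0)) (.node 11707 (.leaf 0x1000002) (.node 11708 (.leaf 0x0) (.leaf 0x0)))) (.node 11712 (.node 11710 (.leaf 0x0) (.node 11711 (.leaf 0x0) (.leaf 0x0))) (.node 11713 (.leaf 0x10002) (.node 11714 (.leaf 0x1) (.leaf 0x0))))))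

def sgOS_1078 : Store := (.node 11726 (.node 11720 (.node 11717 (.node 11716 (.leaf 0x0) (.leaf 0x0)) (.node 11718 (.leaf 0x0) (.node 11719 (.leaf 0x0) (.leaf 0x0)))) (.node 11723 (.node 11721 (.leaf 0x0) (.node 11722 (.leaf 0x0) (.leaf 0x0))) (.node 11724 (.leaf 0x0) (.node 11725 (.leaf 0x0) (.leaf 0x2))))) (.node 11731 (.node 11728 (.node 11727 (.leaf 0x0) (.leaf 0x0)) (.node 11729 (.leaf 0x2) (.node 11730 (.leaf 0x2) (.leaf 0x0)))) (.node 11734 (.node 11732 (.leaf 0x0) (.node 11733 (.leaf 0x1000002) (.leaf 0x1000002))) (.node 11735 (.leaf 0x0) (.node 11736 (.leaf 0x1000002) (.leaf 0x1000002))))))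

def sgOS_1079 : Store := (.node 11715 sgOS_1077 sgOS_1078)

def sgOS_1080 : Store := (.node 11748 (.node 11742 (.node 11739 (.node 11738 (.leaf 0x10001) (.leaf 0x0)) (.node 11740 (.leaf 0x0) (.node 11741 (.leaf 0x20001) (.leaf 0x0)))) (.node 11745 (.node 11743 (.leaf 0x0) (.node 11744 (.leaf 0x1) (.leaf 0x0))) (.node 11746 (.leaf 0x0) (.node 11747 (.leaf 0x0) (.leaf 0x0))))) (.node 11753 (.node 11750 (.node 11749 (.leaf 0x0) (.leaf 0x0)) (.node 11751 (.leaf 0x0) (.node 11752 (.leaf 0x2) (.leaf 0x0)))) (.node 11756 (.node 11754 (.leaf 0x0) (.node 11755 (.leaf 0x0) (.leaf 0x0))) (.node 11757 (.leaf 0x0) (.node 11758 (.leaf 0x0) (.leaf 0x0))))))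

def sgOS_1081 : Store := (.node 11770 (.node 11764 (.node 11761 (.node 11760 (.leaf 0x0) (.leaf 0x0)) (.node 11762 (.leaf 0x0) (.node 11763 (.leaf 0x0) (.leaf 0x0)))) (.node 11767 (.node 11765 (.leaf 0x0) (.node 11766 (.leaf 0x0) (.leaf 0x0))) (.node 11768 (.leaf 0x0) (.node 11769 (.leaf 0x0) (.leaf 0x0))))) (.node 11775 (.node 11772 (.node 11771 (.leaf 0x0) (.leaf 0x0)) (.node 11773 (.leaf 0x0) (.node 11774 (.leaf 0x0) (.leaf 0x0)))) (.node 11778 (.node 11776 (.leaf 0x0) (.node 11777 (.leaf 0x10002) (.leaf 0x0))) (.node 11779 (.leaf 0x0) (.node 11780 (.leaf 0x0) (.leaf 0x0))))))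

def sgOS_1082 : Store := (.node 11759 sgOS_1080 sgOS_1081)

def sgOS_1083 : Store := (.node 11737 sgOS_1079 sgOS_1082)

def sgOS_1084 : Store := (.node 11694 sgOS_1076 sgOS_1083)

def sgOS_1085 : Store := (.node 11607 sgOS_1069 sgOS_1084)

def sgOS_1086 : Store := (.node 11434 sgOS_1054 sgOS_1085)

def sgOS_1087 : Store := (.node 11791 (.node 11786 (.node 11783 (.node 11782 (.leaf 0x0) (.leaf 0x0)) (.node 11784 (.leaf 0x0) (.node 11785 (.leaf 0x0) (.leaf 0x10001)))) (.node 11788 (.node 11787 (.leaf 0x2) (.leaf 0x0)) (.node 11789 (.leaf 0x0) (.node 11790 (.leaf 0x0) (.leaf 0x0))))) (.node 11796 (.node 11793 (.node 11792 (.leaf 0x0) (.leaf 0x0)) (.node 11794 (.leaf 0x10003) (.node 11795 (.leaf 0x0) (.leaf 0x0)))) (.node 11799 (.node 11797 (.leaf 0x1) (.node 11798 (.leaf 0x1000002) (.leaf 0x1000002))) (.node 11800 (.leaf 0x0) (.node 11801 (.leaf 0x20001) (.leaf 0x0))))))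

def sgOS_1088 : Store := (.node 11813 (.node 11807 (.node 11804 (.node 11803 (.leaf 0x0) (.leaf 0x0)) (.node 11805 (.leaf 0x0) (.node 11806 (.leaf 0x0) (.leaf 0x0)))) (.node 11810 (.node 11808 (.leaf 0x1000002) (.node 11809 (.leaf 0x0) (.leaf 0x0))) (.node 11811 (.leaf 0x10001) (.node 11812 (.leaf 0x100000003) (.leaf 0x100000003))))) (.node 11818 (.node 11815 (.node 11814 (.leaf 0x2020002) (.leaf 0x0)) (.node 11816 (.leaf 0x0) (.node 11817 (.leaf 0x0) (.leaf 0x10002)))) (.node 11821 (.node 11819 (.leaf 0x100000003) (.node 11820 (.leaf 0x0) (.leaf 0x10002))) (.node 11822 (.leaf 0x100000003) (.node 11823 (.leaf 0x0) (.leaf 0x0))))))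

def sgOS_1089 : Store := (.node 11802 sgOS_1087 sgOS_1088)

def sgOS_1090 : Store := (.node 11834 (.node 11829 (.node 11826 (.node 11825 (.leaf 0x0) (.leaf 0x0)) (.node 11827 (.leaf 0x0) (.node 11828 (.leaf 0x100000003) (.leaf 0x10002)))) (.node 11831 (.node 11830 (.leaf 0x0) (.leaf 0x0)) (.node 11832 (.leaf 0x0) (.node 11833 (.leaf 0x100000003) (.leaf 0x0))))) (.node 11839 (.node 11836 (.node 11835 (.leaf 0x0) (.leaf 0x100000003)) (.node 11837 (.leaf 0x0) (.node 11838 (.leaf 0x0) (.leaf 0x0)))) (.node 11842 (.node 11840 (.leaf 0x0) (.node 11841 (.leaf 0x0) (.leaf 0x10002))) (.node 11843 (.leaf 0x10001) (.node 11844 (.leaf 0x0) (.leaf 0x0))))))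

def sgOS_1091 : Store := (.node 11856 (.node 11850 (.node 11847 (.node 11846 (.leaf 0x1000002) (.leaf 0x10001)) (.node 11848 (.leaf 0x0) (.node 11849 (.leaf 0x2) (.leaf 0x10001)))) (.node 11853 (.node 11851 (.leaf 0x0) (.node 11852 (.leaf 0x0) (.leaf 0x10002))) (.node 11854 (.leaf 0x100000003) (.node 11855 (.leaf 0x0) (.leaf 0x0))))) (.node 11861 (.node 11858 (.node 11857 (.leaf 0x2) (.leaf 0x0)) (.node 11859 (.leaf 0x100000003) (.node 11860 (.leaf 0x0) (.leaf 0x0)))) (.node 11864 (.node 11862 (.leaf 0x0) (.node 11863 (.leaf 0x0) (.leaf 0x100000003))) (.node 11865 (.leaf 0x0) (.node 11866 (.leaf 0x0) (.leaf 0x300000005))))))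

def sgOS_1092 : Store := (.node 11845 sgOS_1090 sgOS_1091)

def sgOS_1093 : Store := (.node 11824 sgOS_1089 sgOS_1092)

def sgOS_1094 : Store := (.node 11877 (.node 11872 (.node 11869 (.node 11868 (.leaf 0x20001) (.leaf 0x0)) (.node 11870 (.leaf 0x0) (.node 11871 (.leaf 0x0) (.leaf 0x0)))) (.node 11874 (.node 11873 (.leaf 0x10001) (.leaf 0x30001)) (.node 11875 (.leaf 0x3020002) (.node 11876 (.leaf 0x10001) (.leaf 0x0))))) (.node 11882 (.node 11879 (.node 11878 (.leaf 0x10002) (.leaf 0x0)) (.node 11880 (.leaf 0x0) (.node 11881 (.leaf 0x0) (.leaf 0x0)))) (.node 11885 (.node 11883 (.leaf 0x0) (.node 11884 (.leaf 0x0) (.leaf 0x0))) (.node 11886 (.leaf 0x0) (.node 11887 (.leaf 0x0) (.leaf 0x0))))))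

def sgOS_1095 : Store := (.node 11899 (.node 11893 (.node 11890 (.node 11889 (.leaf 0x0) (.leaf 0x0)) (.node 11891 (.leaf 0x0) (.node 11892 (.leaf 0x0) (.leaf 0x0)))) (.node 11896 (.node 11894 (.leaf 0x0) (.node 11895 (.leaf 0x0) (.leaf 0x0))) (.node 11897 (.leaf 0x0) (.node 11898 (.leaf 0x0) (.leaf 0x0))))) (.node 11904 (.node 11901 (.node 11900 (.leaf 0x0) (.leaf 0x2)) (.node 11902 (.leaf 0x0) (.node 11903 (.leaf 0x0) (.leaf 0x0)))) (.node 11907 (.node 11905 (.leaf 0x1) (.node 11906 (.leaf 0x100000003) (.leaf 0x0))) (.node 11908 (.leaf 0x0) (.node 11909 (.leaf 0x0) (.leaf 0x0))))))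

def sgOS_1096 : Store := (.node 11888 sgOS_1094 sgOS_1095)

def sgOS_1097 : Store := (.node 11921 (.node 11915 (.node 11912 (.node 11911 (.leaf 0x0) (.leaf 0x1)) (.node 11913 (.leaf 0x1) (.node 11914 (.leaf 0x0) (.leaf 0x0)))) (.node 11918 (.node 11916 (.leaf 0x20001) (.node 11917 (.leaf 0x100000003) (.leaf 0x100000003))) (.node 11919 (.leaf 0x0) (.node 11920 (.leaf 0x0) (.leaf 0x0))))) (.node 11926 (.node 11923 (.node 11922 (.leaf 0x0) (.leaf 0x0)) (.node 11924 (.leaf 0x100000003) (.node 11925 (.leaf 0x0) (.leaf 0x0)))) (.node 11929 (.node 11927 (.leaf 0x0) (.node 11928 (.leaf 0x0) (.leaf 0x0))) (.node 11930 (.leaf 0x10002) (.node 11931 (.leaf 0x0) (.leaf 0x0))))))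

def sgOS_1098 : Store := (.node 11943 (.node 11937 (.node 11934 (.node 11933 (.leaf 0x0) (.leaf 0x100000003)) (.node 11935 (.leaf 0x0) (.node 11936 (.leaf 0x0) (.leaf 0x0)))) (.node 11940 (.node 11938 (.leaf 0x0) (.node 11939 (.leaf 0x2020002) (.leaf 0x0))) (.node 11941 (.leaf 0x0) (.node 11942 (.leaf 0x0) (.leaf 0x0))))) (.node 11948 (.node 11945 (.node 11944 (.leaf 0x0) (.leaf 0x10001)) (.node 11946 (.leaf 0x0) (.node 11947 (.leaf 0x10002) (.leaf 0x10002)))) (.node 11951 (.node 11949 (.leaf 0x0) (.node 11950 (.leaf 0x0) (.leaf 0x0))) (.node 11952 (.leaf 0x20001) (.node 11953 (.leaf 0x0) (.leaf 0x1))))))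

def sgOS_1099 : Store := (.node 11932 sgOS_1097 sgOS_1098)

def sgOS_1100 : Store := (.node 11910 sgOS_1096 sgOS_1099)

def sgOS_1101 : Store := (.node 11867 sgOS_1093 sgOS_1100)

def sgOS_1102 : Store := (.node 11964 (.node 11959 (.node 11956 (.node 11955 (.leaf 0x1) (.leaf 0x0)) (.node 11957 (.leaf 0x0) (.node 11958 (.leaf 0x0) (.leaf 0x0)))) (.node 11961 (.node 11960 (.leaf 0x0) (.leaf 0x0)) (.node 11962 (.leaf 0x0) (.node 11963 (.leaf 0x0) (.leaf 0x0))))) (.node 11969 (.node 11966 (.node 11965 (.leaf 0x1000002) (.leaf 0x1)) (.node 11967 (.leaf 0x1) (.node 11968 (.leaf 0x10001) (.leaf 0x0)))) (.node 11972 (.node 11970 (.leaf 0x0) (.node 11971 (.leaf 0x1) (.leaf 0x10001))) (.node 11973 (.leaf 0x0) (.node 11974 (.leaf 0x0) (.leaf 0x1000002))))))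

def sgOS_1103 : Store := (.node 11986 (.node 11980 (.node 11977 (.node 11976 (.leaf 0x0) (.leaf 0x0)) (.node 11978 (.leaf 0x0) (.node 11979 (.leaf 0x0) (.leaf 0x0)))) (.node 11983 (.node 11981 (.leaf 0x0) (.node 11982 (.leaf 0x0) (.leaf 0x0))) (.node 11984 (.leaf 0x0) (.node 11985 (.leaf 0x0) (.leaf 0x10001))))) (.node 11991 (.node 11988 (.node 11987 (.leaf 0x0) (.leaf 0x0)) (.node 11989 (.leaf 0x0) (.node 11990 (.leaf 0x0) (.leaf 0x0)))) (.node 11994 (.node 11992 (.leaf 0x1) (.node 11993 (.leaf 0x10003) (.leaf 0x0))) (.node 11995 (.leaf 0x10003) (.node 11996 (.leaf 0x0) (.leaf 0x0))))))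

def sgOS_1104 : Store := (.node 11975 sgOS_1102 sgOS_1103)

def sgOS_1105 : Store := (.node 12007 (.node 12002 (.node 11999 (.node 11998 (.leaf 0x0) (.leaf 0x0)) (.node 12000 (.leaf 0x0) (.node 12001 (.leaf 0x100000003) (.leaf 0x0)))) (.node 12004 (.node 12003 (.leaf 0x1) (.leaf 0x0)) (.node 12005 (.leaf 0x0) (.node 12006 (.leaf 0x0) (.leaf 0x10003))))) (.node 12012 (.node 12009 (.node 12008 (.leaf 0x2) (.leaf 0x0)) (.node 12010 (.leaf 0x10002) (.node 12011 (.leaf 0x1) (.leaf 0x0)))) (.node 12015 (.node 12013 (.leaf 0x0) (.node 12014 (.leaf 0x0) (.leaf 0x0))) (.node 12016 (.leaf 0x0) (.node 12017 (.leaf 0x0) (.leaf 0x0))))))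

def sgOS_1106 : Store := (.node 12029 (.node 12023 (.node 12020 (.node 12019 (.leaf 0x0) (.leaf 0x0)) (.node 12021 (.leaf 0x0) (.node 12022 (.leaf 0x0) (.leaf 0x0)))) (.node 12026 (.node 12024 (.leaf 0x1) (.node 12025 (.leaf 0x20001) (.leaf 0x0))) (.node 12027 (.leaf 0x0) (.node 12028 (.leaf 0x0) (.leaf 0x0))))) (.node 12034 (.node 12031 (.node 12030 (.leaf 0x0) (.leaf 0x10003)) (.node 12032 (.leaf 0x10003) (.node 12033 (.leaf 0x0) (.leaf 0x0)))) (.node 12037 (.node 12035 (.leaf 0x0) (.node 12036 (.leaf 0x0) (.leaf 0x0))) (.node 12038 (.leaf 0x0) (.node 12039 (.leaf 0x2) (.leaf 0x0))))))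

def sgOS_1107 : Store := (.node 12018 sgOS_1105 sgOS_1106)

def sgOS_1108 : Store := (.node 11997 sgOS_1104 sgOS_1107)

def sgOS_1109 : Store := (.node 12050 (.node 12045 (.node 12042 (.node 12041 (.leaf 0x0) (.leaf 0x1)) (.node 12043 (.leaf 0x0) (.node 12044 (.leaf 0x0) (.leaf 0x0)))) (.node 12047 (.node 12046 (.leaf 0x2) (.leaf 0x0)) (.node 12048 (.leaf 0x0) (.node 12049 (.leaf 0x0) (.leaf 0x20001))))) (.node 12055 (.node 12052 (.node 12051 (.leaf 0x0) (.leaf 0x0)) (.node 12053 (.leaf 0x0) (.node 12054 (.leaf 0x0) (.leaf 0x0)))) (.node 12058 (.node 12056 (.leaf 0x20001) (.node 12057 (.leaf 0x100000003) (.leaf 0x0))) (.node 12059 (.leaf 0x2) (.node 12060 (.leaf 0x1) (.leaf 0x0))))))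

def sgOS_1110 : Store := (.node 12072 (.node 12066 (.node 12063 (.node 12062 (.leaf 0x0) (.leaf 0x0)) (.node 12064 (.leaf 0x0) (.node 12065 (.leaf 0x0) (.leaf 0x0)))) (.node 12069 (.node 12067 (.leaf 0x0) (.node 12068 (.leaf 0x0) (.leaf 0x0))) (.node 12070 (.leaf 0x2) (.node 12071 (.leaf 0x10001) (.leaf 0x0))))) (.node 12077 (.node 12074 (.node 12073 (.leaf 0x0) (.leaf 0x0)) (.node 12075 (.leaf 0x0) (.node 12076 (.leaf 0x0) (.leaf 0x0)))) (.node 12080 (.node 12078 (.leaf 0x0) (.node 12079 (.leaf 0x0) (.leaf 0x0))) (.node 12081 (.leaf 0x0) (.node 12082 (.leaf 0x0) (.leaf 0x20001))))))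

def sgOS_1111 : Store := (.node 12061 sgOS_1109 sgOS_1110)

def sgOS_1112 : Store := (.node 12094 (.node 12088 (.node 12085 (.node 12084 (.leaf 0x0) (.leaf 0x0)) (.node 12086 (.leaf 0x0) (.node 12087 (.leaf 0x1) (.leaf 0x0)))) (.node 12091 (.node 12089 (.leaf 0x0) (.node 12090 (.leaf 0x0) (.leaf 0x0))) (.node 12092 (.leaf 0x0) (.node 12093 (.leaf 0x0) (.leaf 0x0))))) (.node 12099 (.node 12096 (.node 12095 (.leaf 0x0) (.leaf 0x0)) (.node 12097 (.leaf 0x0) (.node 12098 (.leaf 0x10002) (.leaf 0x10001)))) (.node 12102 (.node 12100 (.leaf 0x0) (.node 12101 (.leaf 0x0) (.leaf 0x0))) (.node 12103 (.leaf 0x0) (.node 12104 (.leaf 0x0) (.leaf 0x1))))))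

def sgOS_1113 : Store := (.node 12116 (.node 12110 (.node 12107 (.node 12106 (.leaf 0x0) (.leaf 0x0)) (.node 12108 (.leaf 0x10001) (.node 12109 (.leaf 0x10001) (.leaf 0x0)))) (.node 12113 (.node 12111 (.leaf 0x0) (.node 12112 (.leaf 0x10001) (.leaf 0x0))) (.node 12114 (.leaf 0x0) (.node 12115 (.leaf 0x10001) (.leaf 0x0))))) (.node 12121 (.node 12118 (.node 12117 (.leaf 0x0) (.leaf 0x10002)) (.node 12119 (.leaf 0x20001) (.node 12120 (.leaf 0x2020002) (.leaf 0x10002)))) (.node 12124 (.node 12122 (.leaf 0x0) (.node 12123 (.leaf 0x0) (.leaf 0x0))) (.node 12125 (.leaf 0x0) (.node 12126 (.leaf 0x0) (.leaf 0x100000003))))))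

def sgOS_1114 : Store := (.node 12105 sgOS_1112 sgOS_1113)

def sgOS_1115 : Store := (.node 12083 sgOS_1111 sgOS_1114)

def sgOS_1116 : Store := (.node 12040 sgOS_1108 sgOS_1115)

def sgOS_1117 : Store := (.node 11954 sgOS_1101 sgOS_1116)

def sgOS_1118 : Store := (.node 12137 (.node 12132 (.node 12129 (.node 12128 (.leaf 0x0) (.leaf 0x0)) (.node 12130 (.leaf 0x100000003) (.node 12131 (.leaf 0x0) (.leaf 0x2)))) (.node 12134 (.node 12133 (.leaf 0x0) (.leaf 0x1)) (.node 12135 (.leaf 0x0) (.node 12136 (.leaf 0x0) (.leaf 0x10001))))) (.node 12142 (.node 12139 (.node 12138 (.leaf 0x0) (.leaf 0x10002)) (.node 12140 (.leaf 0x0) (.node 12141 (.leaf 0x0) (.leaf 0x0)))) (.node 12145 (.node 12143 (.leaf 0x0) (.node 12144 (.leaf 0x100000003) (.leaf 0x0))) (.node 12146 (.leaf 0x0) (.node 12147 (.leaf 0x0) (.leaf 0x0))))))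

def sgOS_1119 : Store := (.node 12159 (.node 12153 (.node 12150 (.node 12149 (.leaf 0x0) (.leaf 0x0)) (.node 12151 (.leaf 0x0) (.node 12152 (.leaf 0x0) (.leaf 0x0)))) (.node 12156 (.node 12154 (.leaf 0x0) (.node 12155 (.leaf 0x0) (.leaf 0x0))) (.node 12157 (.leaf 0x0) (.node 12158 (.leaf 0x10002) (.leaf 0x0))))) (.node 12164 (.node 12161 (.node 12160 (.leaf 0x0) (.leaf 0x2)) (.node 12162 (.leaf 0x2) (.node 12163 (.leaf 0x2) (.leaf 0x0)))) (.node 12167 (.node 12165 (.leaf 0x100000003) (.node 12166 (.leaf 0x0) (.leaf 0x10001))) (.node 12168 (.leaf 0x0) (.node 12169 (.leaf 0x0) (.leaf 0x2))))))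

def sgOS_1120 : Store := (.node 12148 sgOS_1118 sgOS_1119)

def sgOS_1121 : Store := (.node 12180 (.node 12175 (.node 12172 (.node 12171 (.leaf 0x0) (.leaf 0x0)) (.node 12173 (.leaf 0x0) (.node 12174 (.leaf 0x0) (.leaf 0x100000005)))) (.node 12177 (.node 12176 (.leaf 0x300030003) (.leaf 0x0)) (.node 12178 (.leaf 0x300000005) (.node 12179 (.leaf 0x102010003) (.leaf 0x0))))) (.node 12185 (.node 12182 (.node 12181 (.leaf 0x0) (.leaf 0x10001)) (.node 12183 (.leaf 0x100000003) (.node 12184 (.leaf 0x10002) (.leaf 0x0)))) (.node 12188 (.node 12186 (.leaf 0x0) (.node 12187 (.leaf 0x0) (.leaf 0x0))) (.node 12189 (.leaf 0x10001) (.node 12190 (.leaf 0x10001) (.leaf 0x0))))))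

def sgOS_1122 : Store := (.node 12202 (.node 12196 (.node 12193 (.node 12192 (.leaf 0x20001) (.leaf 0x0)) (.node 12194 (.leaf 0x0) (.node 12195 (.leaf 0x0) (.leaf 0x10001)))) (.node 12199 (.node 12197 (.leaf 0x1000002) (.node 12198 (.leaf 0x1000002) (.leaf 0x0))) (.node 12200 (.leaf 0x0) (.node 12201 (.leaf 0x0) (.leaf 0x0))))) (.node 12207 (.node 12204 (.node 12203 (.leaf 0x0) (.leaf 0x0)) (.node 12205 (.leaf 0x100000003) (.node 12206 (.leaf 0x20001) (.leaf 0x0)))) (.node 12210 (.node 12208 (.leaf 0x0) (.node 12209 (.leaf 0x0) (.leaf 0x0))) (.node 12211 (.leaf 0x20001) (.node 12212 (.leaf 0x0) (.leaf 0x0))))))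

def sgOS_1123 : Store := (.node 12191 sgOS_1121 sgOS_1122)

def sgOS_1124 : Store := (.node 12170 sgOS_1120 sgOS_1123)

def sgOS_1125 : Store := (.node 12223 (.node 12218 (.node 12215 (.node 12214 (.leaf 0x20001) (.leaf 0x0)) (.node 12216 (.leaf 0x0) (.node 12217 (.leaf 0x0) (.leaf 0x10001)))) (.node 12220 (.node 12219 (.leaf 0x0) (.leaf 0x0)) (.node 12221 (.leaf 0x10002) (.node 12222 (.leaf 0x0) (.leaf 0x0))))) (.node 12228 (.node 12225 (.node 12224 (.leaf 0x20001) (.leaf 0x0)) (.node 12226 (.leaf 0x0) (.node 12227 (.leaf 0x0) (.leaf 0x0)))) (.node 12231 (.node 12229 (.leaf 0x0) (.node 12230 (.leaf 0x1000002) (.leaf 0x2))) (.node 12232 (.leaf 0x1) (.node 12233 (.leaf 0x1000002) (.leaf 0x10001))))))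

def sgOS_1126 : Store := (.node 12245 (.node 12239 (.node 12236 (.node 12235 (.leaf 0x0) (.leaf 0x0)) (.node 12237 (.leaf 0x10001) (.node 12238 (.leaf 0x1000002) (.leaf 0x1000002)))) (.node 12242 (.node 12240 (.leaf 0x1) (.node 12241 (.leaf 0x0) (.leaf 0x10001))) (.node 12243 (.leaf 0x0) (.node 12244 (.leaf 0x0) (.leaf 0x0))))) (.node 12250 (.node 12247 (.node 12246 (.leaf 0x100000003) (.leaf 0x0)) (.node 12248 (.leaf 0x2) (.node 12249 (.leaf 0x100000003) (.leaf 0x0)))) (.node 12253 (.node 12251 (.leaf 0x10002) (.node 12252 (.leaf 0x0) (.leaf 0x1))) (.node 12254 (.leaf 0x10002) (.node 12255 (.leaf 0x10002) (.leaf 0x0))))))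

def sgOS_1127 : Store := (.node 12234 sgOS_1125 sgOS_1126)

def sgOS_1128 : Store := (.node 12267 (.node 12261 (.node 12258 (.node 12257 (.leaf 0x0) (.leaf 0x0)) (.node 12259 (.leaf 0x300000005) (.node 12260 (.leaf 0x102010003) (.leaf 0x0)))) (.node 12264 (.node 12262 (.leaf 0x0) (.node 12263 (.leaf 0x0) (.leaf 0x0))) (.node 12265 (.leaf 0x0) (.node 12266 (.leaf 0x0) (.leaf 0x0))))) (.node 12272 (.node 12269 (.node 12268 (.leaf 0x0) (.leaf 0x0)) (.node 12270 (.leaf 0x0) (.node 12271 (.leaf 0x0) (.leaf 0x0)))) (.node 12275 (.node 12273 (.leaf 0x0) (.node 12274 (.leaf 0x0) (.leaf 0x0))) (.node 12276 (.leaf 0x0) (.node 12277 (.leaf 0x0) (.leaf 0x0))))))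

def sgOS_1129 : Store := (.node 12289 (.node 12283 (.node 12280 (.node 12279 (.leaf 0x0) (.leaf 0x0)) (.node 12281 (.leaf 0x100000003) (.node 12282 (.leaf 0x0) (.leaf 0x2)))) (.node 12286 (.node 12284 (.leaf 0x100000003) (.node 12285 (.leaf 0x0) (.leaf 0x0))) (.node 12287 (.leaf 0x0) (.node 12288 (.leaf 0x0) (.leaf 0x1))))) (.node 12294 (.node 12291 (.node 12290 (.leaf 0x0) (.leaf 0x0)) (.node 12292 (.leaf 0x0) (.node 12293 (.leaf 0x0) (.leaf 0x0)))) (.node 12297 (.node 12295 (.leaf 0x2020002) (.node 12296 (.leaf 0x1) (.leaf 0x0))) (.node 12298 (.leaf 0x2020002) (.node 12299 (.leaf 0x0) (.leaf 0x0))))))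

def sgOS_1130 : Store := (.node 12278 sgOS_1128 sgOS_1129)

def sgOS_1131 : Store := (.node 12256 sgOS_1127 sgOS_1130)

def sgOS_1132 : Store := (.node 12213 sgOS_1124 sgOS_1131)

def sgOS_1133 : Store := (.node 12310 (.node 12305 (.node 12302 (.node 12301 (.leaf 0x20001) (.leaf 0x20001)) (.node 12303 (.leaf 0x20001) (.node 12304 (.leaf 0x0) (.leaf 0x0)))) (.node 12307 (.node 12306 (.leaf 0x0) (.leaf 0x0)) (.node 12308 (.leaf 0x0) (.node 12309 (.leaf 0x10001) (.leaf 0x0))))) (.node 12315 (.node 12312 (.node 12311 (.leaf 0x0) (.leaf 0x10001)) (.node 12313 (.leaf 0x0) (.node 12314 (.leaf 0x100000003) (.leaf 0x0)))) (.node 12318 (.node 12316 (.leaf 0x100000003) (.node 12317 (.leaf 0x100000003) (.leaf 0x2020002))) (.node 12319 (.leaf 0x0) (.node 12320 (.leaf 0x0) (.leaf 0x50001))))))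

def sgOS_1134 : Store := (.node 12332 (.node 12326 (.node 12323 (.node 12322 (.leaf 0x0) (.leaf 0x20001)) (.node 12324 (.leaf 0x40001) (.node 12325 (.leaf 0x0) (.leaf 0x0)))) (.node 12329 (.node 12327 (.leaf 0x0) (.node 12328 (.leaf 0x0) (.leaf 0x0))) (.node 12330 (.leaf 0x0) (.node 12331 (.leaf 0x0) (.leaf 0x0))))) (.node 12337 (.node 12334 (.node 12333 (.leaf 0x0) (.leaf 0x0)) (.node 12335 (.leaf 0x0) (.node 12336 (.leaf 0x0) (.leaf 0x0)))) (.node 12340 (.node 12338 (.leaf 0x0) (.node 12339 (.leaf 0x0) (.leaf 0x0))) (.node 12341 (.leaf 0x0) (.node 12342 (.leaf 0x2000002) (.leaf 0x0))))))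

def sgOS_1135 : Store := (.node 12321 sgOS_1133 sgOS_1134)

def sgOS_1136 : Store := (.node 12354 (.node 12348 (.node 12345 (.node 12344 (.leaf 0x0) (.leaf 0x0)) (.node 12346 (.leaf 0x0) (.node 12347 (.leaf 0x0) (.leaf 0x0)))) (.node 12351 (.node 12349 (.leaf 0x1) (.node 12350 (.leaf 0x10001) (.leaf 0x0))) (.node 12352 (.leaf 0x10001000005) (.node 12353 (.leaf 0x0) (.leaf 0x0))))) (.node 12359 (.node 12356 (.node 12355 (.leaf 0x0) (.leaf 0x0)) (.node 12357 (.leaf 0x0) (.node 12358 (.leaf 0x0) (.leaf 0x1)))) (.node 12362 (.node 12360 (.leaf 0x0) (.node 12361 (.leaf 0x0) (.leaf 0x0))) (.node 12363 (.leaf 0x0) (.node 12364 (.leaf 0x0) (.leaf 0x0))))))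

def sgOS_1137 : Store := (.node 12376 (.node 12370 (.node 12367 (.node 12366 (.leaf 0x1) (.leaf 0x0)) (.node 12368 (.leaf 0x0) (.node 12369 (.leaf 0x0) (.leaf 0x0)))) (.node 12373 (.node 12371 (.leaf 0x0) (.node 12372 (.leaf 0x0) (.leaf 0x2020002))) (.node 12374 (.leaf 0x0) (.node 12375 (.leaf 0x0) (.leaf 0x0))))) (.node 12381 (.node 12378 (.node 12377 (.leaf 0x0) (.leaf 0x0)) (.node 12379 (.leaf 0x10001000005) (.node 12380 (.leaf 0x0) (.leaf 0x0)))) (.node 12384 (.node 12382 (.leaf 0x0) (.node 12383 (.leaf 0x0) (.leaf 0x0))) (.node 12385 (.leaf 0x0) (.node 12386 (.leaf 0x0) (.leaf 0x0))))))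

def sgOS_1138 : Store := (.node 12365 sgOS_1136 sgOS_1137)

def sgOS_1139 : Store := (.node 12343 sgOS_1135 sgOS_1138)

def sgOS_1140 : Store := (.node 12397 (.node 12392 (.node 12389 (.node 12388 (.leaf 0x0) (.leaf 0x0)) (.node 12390 (.leaf 0x0) (.node 12391 (.leaf 0x202000003) (.leaf 0x0)))) (.node 12394 (.node 12393 (.leaf 0x0) (.leaf 0x1)) (.node 12395 (.leaf 0x0) (.node 12396 (.leaf 0x0) (.leaf 0x0))))) (.node 12402 (.node 12399 (.node 12398 (.leaf 0x0) (.leaf 0x0)) (.node 12400 (.leaf 0x0) (.node 12401 (.leaf 0x1) (.leaf 0x0)))) (.node 12405 (.node 12403 (.leaf 0x0) (.node 12404 (.leaf 0x0) (.leaf 0x0))) (.node 12406 (.leaf 0x0) (.node 12407 (.leaf 0x0) (.leaf 0x10001))))))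

def sgOS_1141 : Store := (.node 12419 (.node 12413 (.node 12410 (.node 12409 (.leaf 0x0) (.leaf 0x0)) (.node 12411 (.leaf 0x0) (.node 12412 (.leaf 0x10002) (.leaf 0x0)))) (.node 12416 (.node 12414 (.leaf 0x10002) (.node 12415 (.leaf 0x0) (.leaf 0x0))) (.node 12417 (.leaf 0x0) (.node 12418 (.leaf 0x0) (.leaf 0x0))))) (.node 12424 (.node 12421 (.node 12420 (.leaf 0x0) (.leaf 0x0)) (.node 12422 (.leaf 0x10001) (.node 12423 (.leaf 0x0) (.leaf 0x0)))) (.node 12427 (.node 12425 (.leaf 0x0) (.node 12426 (.leaf 0x100010004) (.leaf 0x0))) (.node 12428 (.leaf 0x0) (.node 12429 (.leaf 0x0) (.leaf 0x0))))))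

def sgOS_1142 : Store := (.node 12408 sgOS_1140 sgOS_1141)

def sgOS_1143 : Store := (.node 12441 (.node 12435 (.node 12432 (.node 12431 (.leaf 0x0) (.leaf 0x0)) (.node 12433 (.leaf 0x0) (.node 12434 (.leaf 0x0) (.leaf 0x0)))) (.node 12438 (.node 12436 (.leaf 0x0) (.node 12437 (.leaf 0x0) (.leaf 0x0))) (.node 12439 (.leaf 0x0) (.node 12440 (.leaf 0x0) (.leaf 0x0))))) (.node 12446 (.node 12443 (.node 12442 (.leaf 0x0) (.leaf 0x1)) (.node 12444 (.leaf 0x0) (.node 12445 (.leaf 0x0) (.leaf 0x0)))) (.node 12449 (.node 12447 (.leaf 0x0) (.node 12448 (.leaf 0x0) (.leaf 0x0))) (.node 12450 (.leaf 0x0) (.node 12451 (.leaf 0x0) (.leaf 0x0))))))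

def sgOS_1144 : Store := (.node 12463 (.node 12457 (.node 12454 (.node 12453 (.leaf 0x0) (.leaf 0x1)) (.node 12455 (.leaf 0x0) (.node 12456 (.leaf 0x0) (.leaf 0x0)))) (.node 12460 (.node 12458 (.leaf 0x0) (.node 12459 (.leaf 0x0) (.leaf 0x0))) (.node 12461 (.leaf 0x0) (.node 12462 (.leaf 0x1) (.leaf 0x0))))) (.node 12468 (.node 12465 (.node 12464 (.leaf 0x0) (.leaf 0x0)) (.node 12466 (.leaf 0x0) (.node 12467 (.leaf 0x0) (.leaf 0x0)))) (.node 12471 (.node 12469 (.leaf 0x202000003) (.node 12470 (.leaf 0x202000003) (.leaf 0x0))) (.node 12472 (.leaf 0x0) (.node 12473 (.leaf 0x0) (.leaf 0x0))))))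

def sgOS_1145 : Store := (.node 12452 sgOS_1143 sgOS_1144)

def sgOS_1146 : Store := (.node 12430 sgOS_1142 sgOS_1145)

def sgOS_1147 : Store := (.node 12387 sgOS_1139 sgOS_1146)

def sgOS_1148 : Store := (.node 12300 sgOS_1132 sgOS_1147)

def sgOS_1149 : Store := (.node 12127 sgOS_1117 sgOS_1148)

def sgOS_1150 : Store := (.node 11781 sgOS_1086 sgOS_1149)

def sgOS_1151 : Store := (.node 12484 (.node 12479 (.node 12476 (.node 12475 (.leaf 0x0) (.leaf 0x0)) (.node 12477 (.leaf 0x10001000005) (.node 12478 (.leaf 0x10001) (.leaf 0x0)))) (.node 12481 (.node 12480 (.leaf 0x0) (.leaf 0x0)) (.node 12482 (.leaf 0x0) (.node 12483 (.leaf 0x0) (.leaf 0x10001))))) (.node 12489 (.node 12486 (.node 12485 (.leaf 0x0) (.leaf 0x0)) (.node 12487 (.leaf 0x0) (.node 12488 (.leaf 0x0) (.leaf 0x1)))) (.node 12492 (.node 12490 (.leaf 0x10001000004) (.node 12491 (.leaf 0x1) (.leaf 0x0))) (.node 12493 (.leaf 0x0) (.node 12494 (.leaf 0x0) (.leaf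 0x0))))))

def sgOS_1152 : Store := (.node 12506 (.node 12500 (.node 12497 (.node 12496 (.leaf 0x10001000005) (.leaf 0x10001000004)) (.node 12498 (.leaf 0x0) (.node 12499 (.leaf 0x0) (.leaf 0x0)))) (.node 12503 (.node 12501 (.leaf 0x0) (.node 12502 (.leaf 0x0) (.leaf 0x0))) (.node 12504 (.leaf 0x1) (.node 12505 (.leaf 0x1) (.leaf 0x0))))) (.node 12511 (.node 12508 (.node 12507 (.leaf 0x0) (.leaf 0x0)) (.node 12509 (.leaf 0x0) (.node 12510 (.leaf 0x0) (.leaf 0x10001000005)))) (.node 12514 (.node 12512 (.leaf 0x1) (.node 12513 (.leaf 0x0) (.leaf 0x0))) (.node 12515 (.leaf 0x0) (.node 12516 (.leaf 0x0) (.leaf 0x1))))))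

def sgOS_1153 : Store := (.node 12495 sgOS_1151 sgOS_1152)

def sgOS_1154 : Store := (.node 12527 (.node 12522 (.node 12519 (.node 12518 (.leaf 0x0) (.leaf 0x1)) (.node 12520 (.leaf 0x0) (.node 12521 (.leaf 0x0) (.leaf 0x0)))) (.node 12524 (.node 12523 (.leaf 0x0) (.leaf 0x0)) (.node 12525 (.leaf 0x0) (.node 12526 (.leaf 0x0) (.leaf 0x0))))) (.node 12532 (.node 12529 (.node 12528 (.leaf 0x0) (.leaf 0x0)) (.node 12530 (.leaf 0x0) (.node 12531 (.leaf 0x0) (.leaf 0x1)))) (.node 12535 (.node 12533 (.leaf 0x0) (.node 12534 (.leaf 0x0) (.leaf 0x0))) (.node 12536 (.leaf 0x0) (.node 12537 (.leaf 0x0) (.leaf 0x0))))))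

def sgOS_1155 : Store := (.node 12549 (.node 12543 (.node 12540 (.node 12539 (.leaf 0x1) (.leaf 0x0)) (.node 12541 (.leaf 0x0) (.node 12542 (.leaf 0x0) (.leaf 0x0)))) (.node 12546 (.node 12544 (.leaf 0x0) (.node 12545 (.leaf 0x0) (.leaf 0x0))) (.node 12547 (.leaf 0x0) (.node 12548 (.leaf 0x101000003) (.leaf 0x0))))) (.node 12554 (.node 12551 (.node 12550 (.leaf 0x0) (.leaf 0x0)) (.node 12552 (.leaf 0x1) (.node 12553 (.leaf 0x10001) (.leaf 0x30001)))) (.node 12557 (.node 12555 (.leaf 0x0) (.node 12556 (.leaf 0x0) (.leaf 0x0))) (.node 12558 (.leaf 0x0) (.node 12559 (.leaf 0x1) (.leaf 0x0))))))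

def sgOS_1156 : Store := (.node 12538 sgOS_1154 sgOS_1155)

def sgOS_1157 : Store := (.node 12517 sgOS_1153 sgOS_1156)

def sgOS_1158 : Store := (.node 12570 (.node 12565 (.node 12562 (.node 12561 (.leaf 0x1) (.leaf 0x0)) (.node 12563 (.leaf 0x0) (.node 12564 (.leaf 0x0) (.leaf 0x0)))) (.node 12567 (.node 12566 (.leaf 0x1000002) (.leaf 0x10001000005)) (.node 12568 (.leaf 0x10001) (.node 12569 (.leaf 0x0) (.leaf 0x0))))) (.node 12575 (.node 12572 (.node 12571 (.leaf 0x0) (.leaf 0x0)) (.node 12573 (.leaf 0x0) (.node 12574 (.leaf 0x0) (.leaf 0x0)))) (.node 12578 (.node 12576 (.leaf 0x0) (.node 12577 (.leaf 0x0) (.leaf 0x0))) (.node 12579 (.leaf 0x0) (.node 12580 (.leaf 0x10001) (.leaf 0x0))))))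

def sgOS_1159 : Store := (.node 12592 (.node 12586 (.node 12583 (.node 12582 (.leaf 0x10001) (.leaf 0x0)) (.node 12584 (.leaf 0x0) (.node 12585 (.leaf 0x0) (.leaf 0x0)))) (.node 12589 (.node 12587 (.leaf 0x0) (.node 12588 (.leaf 0x0) (.leaf 0x0))) (.node 12590 (.leaf 0x0) (.node 12591 (.leaf 0x0) (.leaf 0x0))))) (.node 12597 (.node 12594 (.node 12593 (.leaf 0x0) (.leaf 0x0)) (.node 12595 (.leaf 0x1) (.node 12596 (.leaf 0x1) (.leaf 0x0)))) (.node 12600 (.node 12598 (.leaf 0x0) (.node 12599 (.leaf 0x0) (.leaf 0x0))) (.node 12601 (.leaf 0x0) (.node 12602 (.leaf 0x1) (.leaf 0x0))))))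

def sgOS_1160 : Store := (.node 12581 sgOS_1158 sgOS_1159)

def sgOS_1161 : Store := (.node 12614 (.node 12608 (.node 12605 (.node 12604 (.leaf 0x0) (.leaf 0x0)) (.node 12606 (.leaf 0x0) (.node 12607 (.leaf 0x0) (.leaf 0x0)))) (.node 12611 (.node 12609 (.leaf 0x10001) (.node 12610 (.leaf 0x0) (.leaf 0x0))) (.node 12612 (.leaf 0x0) (.node 12613 (.leaf 0x0) (.leaf 0x0))))) (.node 12619 (.node 12616 (.node 12615 (.leaf 0x0) (.leaf 0x0)) (.node 12617 (.leaf 0x0) (.node 12618 (.leaf 0x0) (.leaf 0x0)))) (.node 12622 (.node 12620 (.leaf 0x0) (.node 12621 (.leaf 0x0) (.leaf 0x0))) (.node 12623 (.leaf 0x0) (.node 12624 (.leaf 0x0) (.leaf 0x0))))))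

def sgOS_1162 : Store := (.node 12636 (.node 12630 (.node 12627 (.node 12626 (.leaf 0x0) (.leaf 0x0)) (.node 12628 (.leaf 0x0) (.node 12629 (.leaf 0x0) (.leaf 0x0)))) (.node 12633 (.node 12631 (.leaf 0x0) (.node 12632 (.leaf 0x0) (.leaf 0x0))) (.node 12634 (.leaf 0x0) (.node 12635 (.leaf 0x0) (.leaf 0x1))))) (.node 12641 (.node 12638 (.node 12637 (.leaf 0x0) (.leaf 0x1)) (.node 12639 (.leaf 0x0) (.node 12640 (.leaf 0x0) (.leaf 0x0)))) (.node 12644 (.node 12642 (.leaf 0x0) (.node 12643 (.leaf 0x0) (.leaf 0x1))) (.node 12645 (.leaf 0x0) (.node 12646 (.leaf 0x0) (.leaf 0x0))))))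

def sgOS_1163 : Store := (.node 12625 sgOS_1161 sgOS_1162)

def sgOS_1164 : Store := (.node 12603 sgOS_1160 sgOS_1163)

def sgOS_1165 : Store := (.node 12560 sgOS_1157 sgOS_1164)

def sgOS_1166 : Store := (.node 12657 (.node 12652 (.node 12649 (.node 12648 (.leaf 0x0) (.leaf 0x0)) (.node 12650 (.leaf 0x0) (.node 12651 (.leaf 0x0) (.leaf 0x0)))) (.node 12654 (.node 12653 (.leaf 0x1) (.leaf 0x0)) (.node 12655 (.leaf 0x0) (.node 12656 (.leaf 0x0) (.leaf 0x0))))) (.node 12662 (.node 12659 (.node 12658 (.leaf 0x1) (.leaf 0x0)) (.node 12660 (.leaf 0x0) (.node 12661 (.leaf 0x0) (.leaf 0x0)))) (.node 12665 (.node 12663 (.leaf 0x0) (.node 12664 (.leaf 0x0) (.leaf 0x0))) (.node 12666 (.leaf 0x0) (.node 12667 (.leaf 0x0) (.leaf 0x0))))))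

def sgOS_1167 : Store := (.node 12679 (.node 12673 (.node 12670 (.node 12669 (.leaf 0x0) (.leaf 0x0)) (.node 12671 (.leaf 0x0) (.node 12672 (.leaf 0x0) (.leaf 0x0)))) (.node 12676 (.node 12674 (.leaf 0x2020002) (.node 12675 (.leaf 0x0) (.leaf 0x0))) (.node 12677 (.leaf 0x0) (.node 12678 (.leaf 0x1) (.leaf 0x0))))) (.node 12684 (.node 12681 (.node 12680 (.leaf 0x10002) (.leaf 0x10001000005)) (.node 12682 (.leaf 0x0) (.node 12683 (.leaf 0x0) (.leaf 0x0)))) (.node 12687 (.node 12685 (.leaf 0x1010002) (.node 12686 (.leaf 0x1010002) (.leaf 0x0))) (.node 12688 (.leaf 0x0) (.node 12689 (.leaf 0x0) (.leaf 0x0))))))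

def sgOS_1168 : Store := (.node 12668 sgOS_1166 sgOS_1167)

def sgOS_1169 : Store := (.node 12700 (.node 12695 (.node 12692 (.node 12691 (.leaf 0x0) (.leaf 0x0)) (.node 12693 (.leaf 0x0) (.node 12694 (.leaf 0x0) (.leaf 0x0)))) (.node 12697 (.node 12696 (.leaf 0x0) (.leaf 0x0)) (.node 12698 (.leaf 0x0) (.node 12699 (.leaf 0x0) (.leaf 0x0))))) (.node 12705 (.node 12702 (.node 12701 (.leaf 0x0) (.leaf 0x0)) (.node 12703 (.leaf 0x0) (.node 12704 (.leaf 0x0) (.leaf 0x0)))) (.node 12708 (.node 12706 (.leaf 0x1) (.node 12707 (.leaf 0x0) (.leaf 0x1))) (.node 12709 (.leaf 0x0) (.node 12710 (.leaf 0x0) (.leaf 0x0))))))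

def sgOS_1170 : Store := (.node 12722 (.node 12716 (.node 12713 (.node 12712 (.leaf 0x0) (.leaf 0x202000003)) (.node 12714 (.leaf 0x0) (.node 12715 (.leaf 0x10001) (.leaf 0x0)))) (.node 12719 (.node 12717 (.leaf 0x0) (.node 12718 (.leaf 0x0) (.leaf 0x0))) (.node 12720 (.leaf 0x0) (.node 12721 (.leaf 0x1010002) (.leaf 0x202000003))))) (.node 12727 (.node 12724 (.node 12723 (.leaf 0x0) (.leaf 0x0)) (.node 12725 (.leaf 0x0) (.node 12726 (.leaf 0x0) (.leaf 0x0)))) (.node 12730 (.node 12728 (.leaf 0x0) (.node 12729 (.leaf 0x0) (.leaf 0x0))) (.node 12731 (.leaf 0x0) (.node 12732 (.leaf 0x0) (.leaf 0x0))))))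

def sgOS_1171 : Store := (.node 12711 sgOS_1169 sgOS_1170)

def sgOS_1172 : Store := (.node 12690 sgOS_1168 sgOS_1171)

def sgOS_1173 : Store := (.node 12743 (.node 12738 (.node 12735 (.node 12734 (.leaf 0x0) (.leaf 0x0)) (.node 12736 (.leaf 0x0) (.node 12737 (.leaf 0x0) (.leaf 0x0)))) (.node 12740 (.node 12739 (.leaf 0x0) (.leaf 0x0)) (.node 12741 (.leaf 0x1) (.node 12742 (.leaf 0x1) (.leaf 0x0))))) (.node 12748 (.node 12745 (.node 12744 (.leaf 0x0) (.leaf 0x0)) (.node 12746 (.leaf 0x0) (.node 12747 (.leaf 0x0) (.leaf 0x0)))) (.node 12751 (.node 12749 (.leaf 0x0) (.node 12750 (.leaf 0x0) (.leaf 0x1))) (.node 12752 (.leaf 0x0) (.node 12753 (.leaf 0x0) (.leaf 0x0))))))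

def sgOS_1174 : Store := (.node 12765 (.node 12759 (.node 12756 (.node 12755 (.leaf 0x0) (.leaf 0x0)) (.node 12757 (.leaf 0x0) (.node 12758 (.leaf 0x0) (.leaf 0x0)))) (.node 12762 (.node 12760 (.leaf 0x0) (.node 12761 (.leaf 0x0) (.leaf 0x1))) (.node 12763 (.leaf 0x0) (.node 12764 (.leaf 0x1) (.leaf 0x0))))) (.node 12770 (.node 12767 (.node 12766 (.leaf 0x0) (.leaf 0x0)) (.node 12768 (.leaf 0x0) (.node 12769 (.leaf 0x0) (.leaf 0x0)))) (.node 12773 (.node 12771 (.leaf 0x0) (.node 12772 (.leaf 0x0) (.leaf 0x0))) (.node 12774 (.leaf 0x0) (.node 12775 (.leaf 0x0) (.leaf 0x0))))))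

def sgOS_1175 : Store := (.node 12754 sgOS_1173 sgOS_1174)

def sgOS_1176 : Store := (.node 12787 (.node 12781 (.node 12778 (.node 12777 (.leaf 0x0) (.leaf 0x0)) (.node 12779 (.leaf 0x0) (.node 12780 (.leaf 0x0) (.leaf 0x0)))) (.node 12784 (.node 12782 (.leaf 0x0) (.node 12783 (.leaf 0x0) (.leaf 0x0))) (.node 12785 (.leaf 0x202000003) (.node 12786 (.leaf 0x10001) (.leaf 0x0))))) (.node 12792 (.node 12789 (.node 12788 (.leaf 0x0) (.leaf 0x0)) (.node 12790 (.leaf 0x0) (.node 12791 (.leaf 0x0) (.leaf 0x0)))) (.node 12795 (.node 12793 (.leaf 0x0) (.node 12794 (.leaf 0x0) (.leaf 0x0))) (.node 12796 (.leaf 0x0) (.node 12797 (.leaf 0x0) (.leaf 0x0))))))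

def sgOS_1177 : Store := (.node 12809 (.node 12803 (.node 12800 (.node 12799 (.leaf 0x0) (.leaf 0x0)) (.node 12801 (.leaf 0x0) (.node 12802 (.leaf 0x0) (.leaf 0x0)))) (.node 12806 (.node 12804 (.leaf 0x0) (.node 12805 (.leaf 0x0) (.leaf 0x0))) (.node 12807 (.leaf 0x0) (.node 12808 (.leaf 0x0) (.leaf 0x0))))) (.node 12814 (.node 12811 (.node 12810 (.leaf 0x0) (.leaf 0x0)) (.node 12812 (.leaf 0x0) (.node 12813 (.leaf 0x0) (.leaf 0x0)))) (.node 12817 (.node 12815 (.leaf 0x0) (.node 12816 (.leaf 0x0) (.leaf 0x0))) (.node 12818 (.leaf 0x0) (.node 12819 (.leaf 0x0) (.leaf 0x0))))))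

def sgOS_1178 : Store := (.node 12798 sgOS_1176 sgOS_1177)

def sgOS_1179 : Store := (.node 12776 sgOS_1175 sgOS_1178)

def sgOS_1180 : Store := (.node 12733 sgOS_1172 sgOS_1179)

def sgOS_1181 : Store := (.node 12647 sgOS_1165 sgOS_1180)

def sgOS_1182 : Store := (.node 12830 (.node 12825 (.node 12822 (.node 12821 (.leaf 0x0) (.leaf 0x0)) (.node 12823 (.leaf 0x0) (.node 12824 (.leaf 0x0) (.leaf 0x0)))) (.node 12827 (.node 12826 (.leaf 0x1) (.leaf 0x0)) (.node 12828 (.leaf 0x1) (.node 12829 (.leaf 0x0) (.leaf 0x0))))) (.node 12835 (.node 12832 (.node 12831 (.leaf 0x0) (.leaf 0x0)) (.node 12833 (.leaf 0x0) (.node 12834 (.leaf 0x0) (.leaf 0x0)))) (.node 12838 (.node 12836 (.leaf 0x0) (.node 12837 (.leaf 0x0) (.leaf 0x0))) (.node 12839 (.leaf 0x1) (.node 12840 (.leaf 0x1) (.leaf 0x0))))))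

def sgOS_1183 : Store := (.node 12852 (.node 12846 (.node 12843 (.node 12842 (.leaf 0x0) (.leaf 0x0)) (.node 12844 (.leaf 0x0) (.node 12845 (.leaf 0x0) (.leaf 0x0)))) (.node 12849 (.node 12847 (.leaf 0x0) (.node 12848 (.leaf 0x0) (.leaf 0x0))) (.node 12850 (.leaf 0x0) (.node 12851 (.leaf 0x0) (.leaf 0x0))))) (.node 12857 (.node 12854 (.node 12853 (.leaf 0x0) (.leaf 0x0)) (.node 12855 (.leaf 0x0) (.node 12856 (.leaf 0x0) (.leaf 0x0)))) (.node 12860 (.node 12858 (.leaf 0x0) (.node 12859 (.leaf 0x0) (.leaf 0x0))) (.node 12861 (.leaf 0x0) (.node 12862 (.leaf 0x0) (.leaf 0x0))))))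

def sgOS_1184 : Store := (.node 12841 sgOS_1182 sgOS_1183)

def sgOS_1185 : Store := (.node 12873 (.node 12868 (.node 12865 (.node 12864 (.leaf 0x0) (.leaf 0x0)) (.node 12866 (.leaf 0x0) (.node 12867 (.leaf 0x0) (.leaf 0x0)))) (.node 12870 (.node 12869 (.leaf 0x0) (.leaf 0x0)) (.node 12871 (.leaf 0x0) (.node 12872 (.leaf 0x0) (.leaf 0x0))))) (.node 12878 (.node 12875 (.node 12874 (.leaf 0x0) (.leaf 0x0)) (.node 12876 (.leaf 0x0) (.node 12877 (.leaf 0x0) (.leaf 0x0)))) (.node 12881 (.node 12879 (.leaf 0x0) (.node 12880 (.leaf 0x0) (.leaf 0x0))) (.node 12882 (.leaf 0x0) (.node 12883 (.leaf 0x0) (.leaf 0x0))))))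

def sgOS_1186 : Store := (.node 12895 (.node 12889 (.node 12886 (.node 12885 (.leaf 0x0) (.leaf 0x0)) (.node 12887 (.leaf 0x0) (.node 12888 (.leaf 0x0) (.leaf 0x0)))) (.node 12892 (.node 12890 (.leaf 0x0) (.node 12891 (.leaf 0x0) (.leaf 0x0))) (.node 12893 (.leaf 0x0) (.node 12894 (.leaf 0x0) (.leaf 0x0))))) (.node 12900 (.node 12897 (.node 12896 (.leaf 0x0) (.leaf 0x100010004)) (.node 12898 (.leaf 0x100010004) (.node 12899 (.leaf 0x0) (.leaf 0x0)))) (.node 12903 (.node 12901 (.leaf 0x0) (.node 12902 (.leaf 0x0) (.leaf 0x0))) (.node 12904 (.leaf 0x0) (.node 12905 (.leaf 0x1) (.leaf 0x0))))))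

def sgOS_1187 : Store := (.node 12884 sgOS_1185 sgOS_1186)

def sgOS_1188 : Store := (.node 12863 sgOS_1184 sgOS_1187)

def sgOS_1189 : Store := (.node 12916 (.node 12911 (.node 12908 (.node 12907 (.leaf 0x0) (.leaf 0x0)) (.node 12909 (.leaf 0x202000003) (.node 12910 (.leaf 0x2020002) (.leaf 0x2020002)))) (.node 12913 (.node 12912 (.leaf 0x0) (.leaf 0x0)) (.node 12914 (.leaf 0x0) (.node 12915 (.leaf 0x0) (.leaf 0x1))))) (.node 12921 (.node 12918 (.node 12917 (.leaf 0x0) (.leaf 0x1)) (.node 12919 (.leaf 0x0) (.node 12920 (.leaf 0x0) (.leaf 0x0)))) (.node 12924 (.node 12922 (.leaf 0x0) (.node 12923 (.leaf 0x0) (.leaf 0x0))) (.node 12925 (.leaf 0x0) (.node 12926 (.leaf 0x0) (.leaf 0x0))))))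

def sgOS_1190 : Store := (.node 12938 (.node 12932 (.node 12929 (.node 12928 (.leaf 0x0) (.leaf 0x0)) (.node 12930 (.leaf 0x0) (.node 12931 (.leaf 0x1) (.leaf 0x0)))) (.node 12935 (.node 12933 (.leaf 0x0) (.node 12934 (.leaf 0x0) (.leaf 0x0))) (.node 12936 (.leaf 0x0) (.node 12937 (.leaf 0x0) (.leaf 0x1))))) (.node 12943 (.node 12940 (.node 12939 (.leaf 0x0) (.leaf 0x1)) (.node 12941 (.leaf 0x0) (.node 12942 (.leaf 0x0) (.leaf 0x0)))) (.node 12946 (.node 12944 (.leaf 0x1) (.node 12945 (.leaf 0x0) (.leaf 0x1))) (.node 12947 (.leaf 0x0) (.node 12948 (.leaf 0x0) (.leaf 0x0))))))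

def sgOS_1191 : Store := (.node 12927 sgOS_1189 sgOS_1190)

def sgOS_1192 : Store := (.node 12960 (.node 12954 (.node 12951 (.node 12950 (.leaf 0x0) (.leaf 0x0)) (.node 12952 (.leaf 0x0) (.node 12953 (.leaf 0x0) (.leaf 0x0)))) (.node 12957 (.node 12955 (.leaf 0x0) (.node 12956 (.leaf 0x0) (.leaf 0x0))) (.node 12958 (.leaf 0x0) (.node 12959 (.leaf 0x0) (.leaf 0x0))))) (.node 12965 (.node 12962 (.node 12961 (.leaf 0x0) (.leaf 0x0)) (.node 12963 (.leaf 0x0) (.node 12964 (.leaf 0x0) (.leaf 0x0)))) (.node 12968 (.node 12966 (.leaf 0x0) (.node 12967 (.leaf 0x0) (.leaf 0x0))) (.node 12969 (.leaf 0x0) (.node 12970 (.leaf 0x0) (.leaf 0x0))))))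

def sgOS_1193 : Store := (.node 12982 (.node 12976 (.node 12973 (.node 12972 (.leaf 0x0) (.leaf 0x0)) (.node 12974 (.leaf 0x0) (.node 12975 (.leaf 0x0) (.leaf 0x0)))) (.node 12979 (.node 12977 (.leaf 0x0) (.node 12978 (.leaf 0x0) (.leaf 0x0))) (.node 12980 (.leaf 0x0) (.node 12981 (.leaf 0x0) (.leaf 0x0))))) (.node 12987 (.node 12984 (.node 12983 (.leaf 0x0) (.leaf 0x0)) (.node 12985 (.leaf 0x0) (.node 12986 (.leaf 0x0) (.leaf 0x0)))) (.node 12990 (.node 12988 (.leaf 0x1) (.node 12989 (.leaf 0x10001) (.leaf 0x0))) (.node 12991 (.leaf 0x0) (.node 12992 (.leaf 0x0) (.leaf 0x1))))))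

def sgOS_1194 : Store := (.node 12971 sgOS_1192 sgOS_1193)

def sgOS_1195 : Store := (.node 12949 sgOS_1191 sgOS_1194)

def sgOS_1196 : Store := (.node 12906 sgOS_1188 sgOS_1195)

def sgOS_1197 : Store := (.node 13003 (.node 12998 (.node 12995 (.node 12994 (.leaf 0x1) (.leaf 0x0)) (.node 12996 (.leaf 0x1) (.node 12997 (.leaf 0x0) (.leaf 0x0)))) (.node 13000 (.node 12999 (.leaf 0x0) (.leaf 0x0)) (.node 13001 (.leaf 0x0) (.node 13002 (.leaf 0x0) (.leaf 0x0))))) (.node 13008 (.node 13005 (.node 13004 (.leaf 0x0) (.leaf 0x0)) (.node 13006 (.leaf 0x0) (.node 13007 (.leaf 0x10001) (.leaf 0x1)))) (.node 13011 (.node 13009 (.leaf 0x0) (.node 13010 (.leaf 0x1) (.leaf 0x0))) (.node 13012 (.leaf 0x0) (.node 13013 (.leaf 0x0) (.leaf 0x0))))))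

def sgOS_1198 : Store := (.node 13025 (.node 13019 (.node 13016 (.node 13015 (.leaf 0x0) (.leaf 0x0)) (.node 13017 (.leaf 0x202000003) (.node 13018 (.leaf 0x0) (.leaf 0x0)))) (.node 13022 (.node 13020 (.leaf 0x0) (.node 13021 (.leaf 0x202000003) (.leaf 0x0))) (.node 13023 (.leaf 0x202000003) (.node 13024 (.leaf 0x0) (.leaf 0x0))))) (.node 13030 (.node 13027 (.node 13026 (.leaf 0x0) (.leaf 0x0)) (.node 13028 (.leaf 0x0) (.node 13029 (.leaf 0x1) (.leaf 0x0)))) (.node 13033 (.node 13031 (.leaf 0x0) (.node 13032 (.leaf 0x0) (.leaf 0x0))) (.node 13034 (.leaf 0x0) (.node 13035 (.leaf 0x0) (.leaf 0x100010004))))))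

def sgOS_1199 : Store := (.node 13014 sgOS_1197 sgOS_1198)

def sgOS_1200 : Store := (.node 13047 (.node 13041 (.node 13038 (.node 13037 (.leaf 0x0) (.leaf 0x0)) (.node 13039 (.leaf 0x0) (.node 13040 (.leaf 0x0) (.leaf 0x0)))) (.node 13044 (.node 13042 (.leaf 0x1) (.node 13043 (.leaf 0x0) (.leaf 0x1))) (.node 13045 (.leaf 0x0) (.node 13046 (.leaf 0x0) (.leaf 0x0))))) (.node 13052 (.node 13049 (.node 13048 (.leaf 0x0) (.leaf 0x0)) (.node 13050 (.leaf 0x0) (.node 13051 (.leaf 0x0) (.leaf 0x0)))) (.node 13055 (.node 13053 (.leaf 0x0) (.node 13054 (.leaf 0x0) (.leaf 0x0))) (.node 13056 (.leaf 0x0) (.node 13057 (.leaf 0x1) (.leaf 0x0))))))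

def sgOS_1201 : Store := (.node 13069 (.node 13063 (.node 13060 (.node 13059 (.leaf 0x0) (.leaf 0x0)) (.node 13061 (.leaf 0x0) (.node 13062 (.leaf 0x0) (.leaf 0x1)))) (.node 13066 (.node 13064 (.leaf 0x1) (.node 13065 (.leaf 0x0) (.leaf 0x0))) (.node 13067 (.leaf 0x0) (.node 13068 (.leaf 0x0) (.leaf 0x0))))) (.node 13074 (.node 13071 (.node 13070 (.leaf 0x0) (.leaf 0x0)) (.node 13072 (.leaf 0x0) (.node 13073 (.leaf 0x0) (.leaf 0x0)))) (.node 13077 (.node 13075 (.leaf 0x0) (.node 13076 (.leaf 0x0) (.leaf 0x0))) (.node 13078 (.leaf 0x0) (.node 13079 (.leaf 0x0) (.leaf 0x0))))))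

def sgOS_1202 : Store := (.node 13058 sgOS_1200 sgOS_1201)

def sgOS_1203 : Store := (.node 13036 sgOS_1199 sgOS_1202)

def sgOS_1204 : Store := (.node 13090 (.node 13085 (.node 13082 (.node 13081 (.leaf 0x0) (.leaf 0x0)) (.node 13083 (.leaf 0x0) (.node 13084 (.leaf 0x0) (.leaf 0x0)))) (.node 13087 (.node 13086 (.leaf 0x0) (.leaf 0x0)) (.node 13088 (.leaf 0x0) (.node 13089 (.leaf 0x0) (.leaf 0x0))))) (.node 13095 (.node 13092 (.node 13091 (.leaf 0x20001) (.leaf 0x0)) (.node 13093 (.leaf 0x2000002) (.node 13094 (.leaf 0x0) (.leaf 0x0)))) (.node 13098 (.node 13096 (.leaf 0x0) (.node 13097 (.leaf 0x0) (.leaf 0x0))) (.node 13099 (.leaf 0x0) (.node 13100 (.leaf 0x0) (.leaf 0x0))))))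

def sgOS_1205 : Store := (.node 13112 (.node 13106 (.node 13103 (.node 13102 (.leaf 0x0) (.leaf 0x0)) (.node 13104 (.leaf 0x0) (.node 13105 (.leaf 0x0) (.leaf 0x0)))) (.node 13109 (.node 13107 (.leaf 0x0) (.node 13108 (.leaf 0x0) (.leaf 0x0))) (.node 13110 (.leaf 0x0) (.node 13111 (.leaf 0x0) (.leaf 0x20001))))) (.node 13117 (.node 13114 (.node 13113 (.leaf 0x0) (.leaf 0x101000003)) (.node 13115 (.leaf 0x101000003) (.node 13116 (.leaf 0x0) (.leaf 0x0)))) (.node 13120 (.node 13118 (.leaf 0x0) (.node 13119 (.leaf 0x0) (.leaf 0x0))) (.node 13121 (.leaf 0x0) (.node 13122 (.leaf 0x0) (.leaf 0x0))))))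

def sgOS_1206 : Store := (.node 13101 sgOS_1204 sgOS_1205)

def sgOS_1207 : Store := (.node 13134 (.node 13128 (.node 13125 (.node 13124 (.leaf 0x0) (.leaf 0x0)) (.node 13126 (.leaf 0x0) (.node 13127 (.leaf 0x0) (.leaf 0x0)))) (.node 13131 (.node 13129 (.leaf 0x0) (.node 13130 (.leaf 0x0) (.leaf 0x0))) (.node 13132 (.leaf 0x0) (.node 13133 (.leaf 0x0) (.leaf 0x0))))) (.node 13139 (.node 13136 (.node 13135 (.leaf 0x0) (.leaf 0x1)) (.node 13137 (.leaf 0x0) (.node 13138 (.leaf 0x0) (.leaf 0x0)))) (.node 13142 (.node 13140 (.leaf 0x0) (.node 13141 (.leaf 0x0) (.leaf 0x0))) (.node 13143 (.leaf 0x0) (.node 13144 (.leaf 0x0) (.leaf 0x0))))))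

def sgOS_1208 : Store := (.node 13156 (.node 13150 (.node 13147 (.node 13146 (.leaf 0x0) (.leaf 0x0)) (.node 13148 (.leaf 0x0) (.node 13149 (.leaf 0x0) (.leaf 0x0)))) (.node 13153 (.node 13151 (.leaf 0x0) (.node 13152 (.leaf 0x0) (.leaf 0x0))) (.node 13154 (.leaf 0x1) (.node 13155 (.leaf 0x0) (.leaf 0x1))))) (.node 13161 (.node 13158 (.node 13157 (.leaf 0x0) (.leaf 0x0)) (.node 13159 (.leaf 0x0) (.node 13160 (.leaf 0x0) (.leaf 0x1)))) (.node 13164 (.node 13162 (.leaf 0x0) (.node 13163 (.leaf 0x1) (.leaf 0x0))) (.node 13165 (.leaf 0x0) (.node 13166 (.leaf 0x0) (.leaf 0x0))))))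

def sgOS_1209 : Store := (.node 13145 sgOS_1207 sgOS_1208)

def sgOS_1210 : Store := (.node 13123 sgOS_1206 sgOS_1209)

def sgOS_1211 : Store := (.node 13080 sgOS_1203 sgOS_1210)

def sgOS_1212 : Store := (.node 12993 sgOS_1196 sgOS_1211)

def sgOS_1213 : Store := (.node 12820 sgOS_1181 sgOS_1212)

def sgOS_1214 : Store := (.node 13177 (.node 13172 (.node 13169 (.node 13168 (.leaf 0x0) (.leaf 0x0)) (.node 13170 (.leaf 0x0) (.node 13171 (.leaf 0x0) (.leaf 0x0)))) (.node 13174 (.node 13173 (.leaf 0x0) (.leaf 0x0)) (.node 13175 (.leaf 0x0) (.node 13176 (.leaf 0x0) (.leaf 0x0))))) (.node 13182 (.node 13179 (.node 13178 (.leaf 0x0) (.leaf 0x0)) (.node 13180 (.leaf 0x0) (.node 13181 (.leaf 0x0) (.leaf 0x0)))) (.node 13185 (.node 13183 (.leaf 0x0) (.node 13184 (.leaf 0x0) (.leaf 0x0))) (.node 13186 (.leaf 0x0) (.node 13187 (.leaf 0x0) (.leaf 0x0))))))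

def sgOS_1215 : Store := (.node 13199 (.node 13193 (.node 13190 (.node 13189 (.leaf 0x0) (.leaf 0x0)) (.node 13191 (.leaf 0x202000003) (.node 13192 (.leaf 0x1010002) (.leaf 0x0)))) (.node 13196 (.node 13194 (.leaf 0x0) (.node 13195 (.leaf 0x0) (.leaf 0x0))) (.node 13197 (.leaf 0x0) (.node 13198 (.leaf 0x0) (.leaf 0x0))))) (.node 13204 (.node 13201 (.node 13200 (.leaf 0x0) (.leaf 0x0)) (.node 13202 (.leaf 0x0) (.node 13203 (.leaf 0x0) (.leaf 0x0)))) (.node 13207 (.node 13205 (.leaf 0x0) (.node 13206 (.leaf 0x0) (.leaf 0x0))) (.node 13208 (.leaf 0x0) (.node 13209 (.leaf 0x0) (.leaf 0x0))))))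

def sgOS_1216 : Store := (.node 13188 sgOS_1214 sgOS_1215)

def sgOS_1217 : Store := (.node 13220 (.node 13215 (.node 13212 (.node 13211 (.leaf 0x0) (.leaf 0x0)) (.node 13213 (.leaf 0x0) (.node 13214 (.leaf 0x0) (.leaf 0x0)))) (.node 13217 (.node 13216 (.leaf 0x0) (.leaf 0x0)) (.node 13218 (.leaf 0x0) (.node 13219 (.leaf 0x0) (.leaf 0x0))))) (.node 13225 (.node 13222 (.node 13221 (.leaf 0x0) (.leaf 0x0)) (.node 13223 (.leaf 0x0) (.node 13224 (.leaf 0x0) (.leaf 0x1)))) (.node 13228 (.node 13226 (.leaf 0x0) (.node 13227 (.leaf 0x1) (.leaf 0x0))) (.node 13229 (.leaf 0x0) (.node 13230 (.leaf 0x0) (.leaf 0x10001))))))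

def sgOS_1218 : Store := (.node 13242 (.node 13236 (.node 13233 (.node 13232 (.leaf 0x0) (.leaf 0x10001)) (.node 13234 (.leaf 0x0) (.node 13235 (.leaf 0x0) (.leaf 0x0)))) (.node 13239 (.node 13237 (.leaf 0x0) (.node 13238 (.leaf 0x1) (.leaf 0x0))) (.node 13240 (.leaf 0x0) (.node 13241 (.leaf 0x1) (.leaf 0x0))))) (.node 13247 (.node 13244 (.node 13243 (.leaf 0x0) (.leaf 0x0)) (.node 13245 (.leaf 0x0) (.node 13246 (.leaf 0x0) (.leaf 0x0)))) (.node 13250 (.node 13248 (.leaf 0x0) (.node 13249 (.leaf 0x0) (.leaf 0x0))) (.node 13251 (.leaf 0x0) (.node 13252 (.leaf 0x0) (.leaf 0x0))))))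

def sgOS_1219 : Store := (.node 13231 sgOS_1217 sgOS_1218)

def sgOS_1220 : Store := (.node 13210 sgOS_1216 sgOS_1219)

def sgOS_1221 : Store := (.node 13263 (.node 13258 (.node 13255 (.node 13254 (.leaf 0x0) (.leaf 0x0)) (.node 13256 (.leaf 0x0) (.node 13257 (.leaf 0x0) (.leaf 0x0)))) (.node 13260 (.node 13259 (.leaf 0x0) (.leaf 0x0)) (.node 13261 (.leaf 0x0) (.node 13262 (.leaf 0x0) (.leaf 0x0))))) (.node 13268 (.node 13265 (.node 13264 (.leaf 0x0) (.leaf 0x0)) (.node 13266 (.leaf 0x0) (.node 13267 (.leaf 0x0) (.leaf 0x0)))) (.node 13271 (.node 13269 (.leaf 0x0) (.node 13270 (.leaf 0x0) (.leaf 0x0))) (.node 13272 (.leaf 0x0) (.node 13273 (.leaf 0x0) (.leaf 0x0))))))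

def sgOS_1222 : Store := (.node 13285 (.node 13279 (.node 13276 (.node 13275 (.leaf 0x0) (.leaf 0x0)) (.node 13277 (.leaf 0x0) (.node 13278 (.leaf 0x0) (.leaf 0x0)))) (.node 13282 (.node 13280 (.leaf 0x0) (.node 13281 (.leaf 0x1) (.leaf 0x0))) (.node 13283 (.leaf 0x0) (.node 13284 (.leaf 0x0) (.leaf 0x0))))) (.node 13290 (.node 13287 (.node 13286 (.leaf 0x0) (.leaf 0x0)) (.node 13288 (.leaf 0x0) (.node 13289 (.leaf 0x0) (.leaf 0x0)))) (.node 13293 (.node 13291 (.leaf 0x0) (.node 13292 (.leaf 0x0) (.leaf 0x0))) (.node 13294 (.leaf 0x0) (.node 13295 (.leaf 0x0) (.leaf 0x0))))))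

def sgOS_1223 : Store := (.node 13274 sgOS_1221 sgOS_1222)

def sgOS_1224 : Store := (.node 13307 (.node 13301 (.node 13298 (.node 13297 (.leaf 0x0) (.leaf 0x0)) (.node 13299 (.leaf 0x0) (.node 13300 (.leaf 0x0) (.leaf 0x0)))) (.node 13304 (.node 13302 (.leaf 0x1010002) (.node 13303 (.leaf 0x1) (.leaf 0x0))) (.node 13305 (.leaf 0x0) (.node 13306 (.leaf 0x0) (.leaf 0x0))))) (.node 13312 (.node 13309 (.node 13308 (.leaf 0x0) (.leaf 0x0)) (.node 13310 (.leaf 0x0) (.node 13311 (.leaf 0x0) (.leaf 0x0)))) (.node 13315 (.node 13313 (.leaf 0x0) (.node 13314 (.leaf 0x0) (.leaf 0x0))) (.node 13316 (.leaf 0x0) (.node 13317 (.leaf 0x0) (.leaf 0x0))))))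

def sgOS_1225 : Store := (.node 13329 (.node 13323 (.node 13320 (.node 13319 (.leaf 0x0) (.leaf 0x0)) (.node 13321 (.leaf 0x0) (.node 13322 (.leaf 0x0) (.leaf 0x0)))) (.node 13326 (.node 13324 (.leaf 0x0) (.node 13325 (.leaf 0x1) (.leaf 0x0))) (.node 13327 (.leaf 0x0) (.node 13328 (.leaf 0x0) (.leaf 0x0))))) (.node 13334 (.node 13331 (.node 13330 (.leaf 0x0) (.leaf 0x0)) (.node 13332 (.leaf 0x0) (.node 13333 (.leaf 0x0) (.leaf 0x0)))) (.node 13337 (.node 13335 (.leaf 0x0) (.node 13336 (.leaf 0x0) (.leaf 0x0))) (.node 13338 (.leaf 0x0) (.node 13339 (.leaf 0x0) (.leaf 0x0))))))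

def sgOS_1226 : Store := (.node 13318 sgOS_1224 sgOS_1225)

def sgOS_1227 : Store := (.node 13296 sgOS_1223 sgOS_1226)

def sgOS_1228 : Store := (.node 13253 sgOS_1220 sgOS_1227)

def sgOS_1229 : Store := (.node 13350 (.node 13345 (.node 13342 (.node 13341 (.leaf 0x0) (.leaf 0x0)) (.node 13343 (.leaf 0x0) (.node 13344 (.leaf 0x0) (.leaf 0x0)))) (.node 13347 (.node 13346 (.leaf 0x0) (.leaf 0x0)) (.node 13348 (.leaf 0x0) (.node 13349 (.leaf 0x0) (.leaf 0x0))))) (.node 13355 (.node 13352 (.node 13351 (.leaf 0x101000003) (.leaf 0x0)) (.node 13353 (.leaf 0x0) (.node 13354 (.leaf 0x0) (.leaf 0x0)))) (.node 13358 (.node 13356 (.leaf 0x0) (.node 13357 (.leaf 0x0) (.leaf 0x0))) (.node 13359 (.leaf 0x20001) (.node 13360 (.leaf 0x0) (.leaf 0x0))))))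

def sgOS_1230 : Store := (.node 13372 (.node 13366 (.node 13363 (.node 13362 (.leaf 0x0) (.leaf 0x0)) (.node 13364 (.leaf 0x0) (.node 13365 (.leaf 0x1010002) (.leaf 0x0)))) (.node 13369 (.node 13367 (.leaf 0x0) (.node 13368 (.leaf 0x0) (.leaf 0x0))) (.node 13370 (.leaf 0x0) (.node 13371 (.leaf 0x1) (.leaf 0x0))))) (.node 13377 (.node 13374 (.node 13373 (.leaf 0x1) (.leaf 0x2020002)) (.node 13375 (.leaf 0x0) (.node 13376 (.leaf 0x0) (.leaf 0x0)))) (.node 13380 (.node 13378 (.leaf 0x0) (.node 13379 (.leaf 0x0) (.leaf 0x1))) (.node 13381 (.leaf 0x0) (.node 13382 (.leaf 0x0) (.leaf 0x0))))))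

def sgOS_1231 : Store := (.node 13361 sgOS_1229 sgOS_1230)

def sgOS_1232 : Store := (.node 13393 (.node 13388 (.node 13385 (.node 13384 (.leaf 0x0) (.leaf 0x0)) (.node 13386 (.leaf 0x0) (.node 13387 (.leaf 0x0) (.leaf 0x0)))) (.node 13390 (.node 13389 (.leaf 0x0) (.leaf 0x0)) (.node 13391 (.leaf 0x0) (.node 13392 (.leaf 0x0) (.leaf 0x0))))) (.node 13398 (.node 13395 (.node 13394 (.leaf 0x0) (.leaf 0x0)) (.node 13396 (.leaf 0x0) (.node 13397 (.leaf 0x0) (.leaf 0x0)))) (.node 13401 (.node 13399 (.leaf 0x0) (.node 13400 (.leaf 0x0) (.leaf 0x0))) (.node 13402 (.leaf 0x1) (.node 13403 (.leaf 0x0) (.leaf 0x0))))))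

def sgOS_1233 : Store := (.node 13415 (.node 13409 (.node 13406 (.node 13405 (.leaf 0x0) (.leaf 0x0)) (.node 13407 (.leaf 0x0) (.node 13408 (.leaf 0x0) (.leaf 0x0)))) (.node 13412 (.node 13410 (.leaf 0x0) (.node 13411 (.leaf 0x0) (.leaf 0x0))) (.node 13413 (.leaf 0x0) (.node 13414 (.leaf 0x0) (.leaf 0x0))))) (.node 13420 (.node 13417 (.node 13416 (.leaf 0x0) (.leaf 0x0)) (.node 13418 (.leaf 0x0) (.node 13419 (.leaf 0x0) (.leaf 0x0)))) (.node 13423 (.node 13421 (.leaf 0x0) (.node 13422 (.leaf 0x0) (.leaf 0x0))) (.node 13424 (.leaf 0x0) (.node 13425 (.leaf 0x0) (.leaf 0x0))))))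

def sgOS_1234 : Store := (.node 13404 sgOS_1232 sgOS_1233)

def sgOS_1235 : Store := (.node 13383 sgOS_1231 sgOS_1234)

def sgOS_1236 : Store := (.node 13436 (.node 13431 (.node 13428 (.node 13427 (.leaf 0x0) (.leaf 0x0)) (.node 13429 (.leaf 0x0) (.node 13430 (.leaf 0x0) (.leaf 0x0)))) (.node 13433 (.node 13432 (.leaf 0x0) (.leaf 0x0)) (.node 13434 (.leaf 0x0) (.node 13435 (.leaf 0x0) (.leaf 0x0))))) (.node 13441 (.node 13438 (.node 13437 (.leaf 0x0) (.leaf 0x0)) (.node 13439 (.leaf 0x0) (.node 13440 (.leaf 0x0) (.leaf 0x0)))) (.node 13444 (.node 13442 (.leaf 0x1) (.node 13443 (.leaf 0x0) (.leaf 0x0))) (.node 13445 (.leaf 0x0) (.node 13446 (.leaf 0x0) (.leaf 0x0))))))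

def sgOS_1237 : Store := (.node 13458 (.node 13452 (.node 13449 (.node 13448 (.leaf 0x0) (.leaf 0x0)) (.node 13450 (.leaf 0x0) (.node 13451 (.leaf 0x0) (.leaf 0x0)))) (.node 13455 (.node 13453 (.leaf 0x0) (.node 13454 (.leaf 0x0) (.leaf 0x0))) (.node 13456 (.leaf 0x0) (.node 13457 (.leaf 0x0) (.leaf 0x0))))) (.node 13463 (.node 13460 (.node 13459 (.leaf 0x0) (.leaf 0x0)) (.node 13461 (.leaf 0x0) (.node 13462 (.leaf 0x0) (.leaf 0x1)))) (.node 13466 (.node 13464 (.leaf 0x0) (.node 13465 (.leaf 0x1) (.leaf 0x0))) (.node 13467 (.leaf 0x0) (.node 13468 (.leaf 0x0) (.leaf 0x0))))))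

def sgOS_1238 : Store := (.node 13447 sgOS_1236 sgOS_1237)

def sgOS_1239 : Store := (.node 13480 (.node 13474 (.node 13471 (.node 13470 (.leaf 0x0) (.leaf 0x0)) (.node 13472 (.leaf 0x0) (.node 13473 (.leaf 0x0) (.leaf 0x0)))) (.node 13477 (.node 13475 (.leaf 0x0) (.node 13476 (.leaf 0x1) (.leaf 0x0))) (.node 13478 (.leaf 0x1) (.node 13479 (.leaf 0x0) (.leaf 0x0))))) (.node 13485 (.node 13482 (.node 13481 (.leaf 0x0) (.leaf 0x0)) (.node 13483 (.leaf 0x0) (.node 13484 (.leaf 0x0) (.leaf 0x0)))) (.node 13488 (.node 13486 (.leaf 0x0) (.node 13487 (.leaf 0x0) (.leaf 0x0))) (.node 13489 (.leaf 0x0) (.node 13490 (.leaf 0x0) (.leaf 0x0))))))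

def sgOS_1240 : Store := (.node 13502 (.node 13496 (.node 13493 (.node 13492 (.leaf 0x0) (.leaf 0x0)) (.node 13494 (.leaf 0x0) (.node 13495 (.leaf 0x0) (.leaf 0x0)))) (.node 13499 (.node 13497 (.leaf 0x0) (.node 13498 (.leaf 0x0) (.leaf 0x0))) (.node 13500 (.leaf 0x0) (.node 13501 (.leaf 0x0) (.leaf 0x0))))) (.node 13507 (.node 13504 (.node 13503 (.leaf 0x0) (.leaf 0x0)) (.node 13505 (.leaf 0x1) (.node 13506 (.leaf 0x0) (.leaf 0x0)))) (.node 13510 (.node 13508 (.leaf 0x0) (.node 13509 (.leaf 0x0) (.leaf 0x0))) (.node 13511 (.leaf 0x0) (.node 13512 (.leaf 0x0) (.leaf 0x0))))))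

def sgOS_1241 : Store := (.node 13491 sgOS_1239 sgOS_1240)

def sgOS_1242 : Store := (.node 13469 sgOS_1238 sgOS_1241)

def sgOS_1243 : Store := (.node 13426 sgOS_1235 sgOS_1242)

def sgOS_1244 : Store := (.node 13340 sgOS_1228 sgOS_1243)

def sgOS_1245 : Store := (.node 13523 (.node 13518 (.node 13515 (.node 13514 (.leaf 0x0) (.leaf 0x0)) (.node 13516 (.leaf 0x0) (.node 13517 (.leaf 0x0) (.leaf 0x0)))) (.node 13520 (.node 13519 (.leaf 0x20001) (.leaf 0x0)) (.node 13521 (.leaf 0x2000002) (.node 13522 (.leaf 0x0) (.leaf 0x0))))) (.node 13528 (.node 13525 (.node 13524 (.leaf 0x0) (.leaf 0x0)) (.node 13526 (.leaf 0x0) (.node 13527 (.leaf 0x0) (.leaf 0x0)))) (.node 13531 (.node 13529 (.leaf 0x0) (.node 13530 (.leaf 0x0) (.leaf 0x0))) (.node 13532 (.leaf 0x0) (.node 13533 (.leaf 0x100010004) (.leaf 0x0))))))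

def sgOS_1246 : Store := (.node 13545 (.node 13539 (.node 13536 (.node 13535 (.leaf 0x0) (.leaf 0x0)) (.node 13537 (.leaf 0x0) (.node 13538 (.leaf 0x0) (.leaf 0x1)))) (.node 13542 (.node 13540 (.leaf 0x0) (.node 13541 (.leaf 0x1) (.leaf 0x0))) (.node 13543 (.leaf 0x0) (.node 13544 (.leaf 0x0) (.leaf 0x0))))) (.node 13550 (.node 13547 (.node 13546 (.leaf 0x0) (.leaf 0x0)) (.node 13548 (.leaf 0x0) (.node 13549 (.leaf 0x0) (.leaf 0x0)))) (.node 13553 (.node 13551 (.leaf 0x0) (.node 13552 (.leaf 0x0) (.leaf 0x0))) (.node 13554 (.leaf 0x0) (.node 13555 (.leaf 0x0) (.leaf 0x1))))))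

def sgOS_1247 : Store := (.node 13534 sgOS_1245 sgOS_1246)

def sgOS_1248 : Store := (.node 13566 (.node 13561 (.node 13558 (.node 13557 (.leaf 0x0) (.leaf 0x0)) (.node 13559 (.leaf 0x0) (.node 13560 (.leaf 0x10001) (.leaf 0x0)))) (.node 13563 (.node 13562 (.leaf 0x0) (.leaf 0x0)) (.node 13564 (.leaf 0x0) (.node 13565 (.leaf 0x0) (.leaf 0x0))))) (.node 13571 (.node 13568 (.node 13567 (.leaf 0x0) (.leaf 0x0)) (.node 13569 (.leaf 0x0) (.node 13570 (.leaf 0x0) (.leaf 0x0)))) (.node 13574 (.node 13572 (.leaf 0x0) (.node 13573 (.leaf 0x0) (.leaf 0x0))) (.node 13575 (.leaf 0x0) (.node 13576 (.leaf 0x0) (.leaf 0x0))))))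

def sgOS_1249 : Store := (.node 13588 (.node 13582 (.node 13579 (.node 13578 (.leaf 0x0) (.leaf 0x0)) (.node 13580 (.leaf 0x0) (.node 13581 (.leaf 0x0) (.leaf 0x0)))) (.node 13585 (.node 13583 (.leaf 0x1) (.node 13584 (.leaf 0x0) (.leaf 0x0))) (.node 13586 (.leaf 0x0) (.node 13587 (.leaf 0x0) (.leaf 0x0))))) (.node 13593 (.node 13590 (.node 13589 (.leaf 0x0) (.leaf 0x0)) (.node 13591 (.leaf 0x0) (.node 13592 (.leaf 0x0) (.leaf 0x0)))) (.node 13596 (.node 13594 (.leaf 0x0) (.node 13595 (.leaf 0x202000003) (.leaf 0x202000003))) (.node 13597 (.leaf 0x0) (.node 13598 (.leaf 0x202000003) (.leaf 0x0))))))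

def sgOS_1250 : Store := (.node 13577 sgOS_1248 sgOS_1249)

def sgOS_1251 : Store := (.node 13556 sgOS_1247 sgOS_1250)

def sgOS_1252 : Store := (.node 13609 (.node 13604 (.node 13601 (.node 13600 (.leaf 0x0) (.leaf 0x0)) (.node 13602 (.leaf 0x0) (.node 13603 (.leaf 0x0) (.leaf 0x0)))) (.node 13606 (.node 13605 (.leaf 0x0) (.leaf 0x0)) (.node 13607 (.leaf 0x0) (.node 13608 (.leaf 0x0) (.leaf 0x0))))) (.node 13614 (.node 13611 (.node 13610 (.leaf 0x0) (.leaf 0x0)) (.node 13612 (.leaf 0x0) (.node 13613 (.leaf 0x0) (.leaf 0x0)))) (.node 13617 (.node 13615 (.leaf 0x0) (.node 13616 (.leaf 0x1) (.leaf 0x0))) (.node 13618 (.leaf 0x1) (.node 13619 (.leaf 0x0) (.leaf 0x0))))))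

def sgOS_1253 : Store := (.node 13631 (.node 13625 (.node 13622 (.node 13621 (.leaf 0x0) (.leaf 0x0)) (.node 13623 (.leaf 0x0) (.node 13624 (.leaf 0x0) (.leaf 0x0)))) (.node 13628 (.node 13626 (.leaf 0x0) (.node 13627 (.leaf 0x0) (.leaf 0x0))) (.node 13629 (.leaf 0x0) (.node 13630 (.leaf 0x1) (.leaf 0x1))))) (.node 13636 (.node 13633 (.node 13632 (.leaf 0x0) (.leaf 0x0)) (.node 13634 (.leaf 0x0) (.node 13635 (.leaf 0x0) (.leaf 0x0)))) (.node 13639 (.node 13637 (.leaf 0x0) (.node 13638 (.leaf 0x0) (.leaf 0x0))) (.node 13640 (.leaf 0x0) (.node 13641 (.leaf 0x0) (.leaf 0x0))))))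

def sgOS_1254 : Store := (.node 13620 sgOS_1252 sgOS_1253)

def sgOS_1255 : Store := (.node 13653 (.node 13647 (.node 13644 (.node 13643 (.leaf 0x0) (.leaf 0x0)) (.node 13645 (.leaf 0x0) (.node 13646 (.leaf 0x0) (.leaf 0x0)))) (.node 13650 (.node 13648 (.leaf 0x0) (.node 13649 (.leaf 0x0) (.leaf 0x0))) (.node 13651 (.leaf 0x1) (.node 13652 (.leaf 0x0) (.leaf 0x1))))) (.node 13658 (.node 13655 (.node 13654 (.leaf 0x1) (.leaf 0x0)) (.node 13656 (.leaf 0x0) (.node 13657 (.leaf 0x0) (.leaf 0x0)))) (.node 13661 (.node 13659 (.leaf 0x0) (.node 13660 (.leaf 0x0) (.leaf 0x1))) (.node 13662 (.leaf 0x0) (.node 13663 (.leaf 0x0) (.leaf 0x0))))))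

def sgOS_1256 : Store := (.node 13675 (.node 13669 (.node 13666 (.node 13665 (.leaf 0x20001) (.leaf 0x0)) (.node 13667 (.leaf 0x20001) (.node 13668 (.leaf 0x101000003) (.leaf 0x0)))) (.node 13672 (.node 13670 (.leaf 0x0) (.node 13671 (.leaf 0x0) (.leaf 0x0))) (.node 13673 (.leaf 0x0) (.node 13674 (.leaf 0x0) (.leaf 0x0))))) (.node 13680 (.node 13677 (.node 13676 (.leaf 0x0) (.leaf 0x0)) (.node 13678 (.leaf 0x0) (.node 13679 (.leaf 0x0) (.leaf 0x0)))) (.node 13683 (.node 13681 (.leaf 0x10001000005) (.node 13682 (.leaf 0x10001000005) (.leaf 0x0))) (.node 13684 (.leaf 0x0) (.node 13685 (.leaf 0x0) (.leaf 0x1000002))))))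

def sgOS_1257 : Store := (.node 13664 sgOS_1255 sgOS_1256)

def sgOS_1258 : Store := (.node 13642 sgOS_1254 sgOS_1257)

def sgOS_1259 : Store := (.node 13599 sgOS_1251 sgOS_1258)

def sgOS_1260 : Store := (.node 13696 (.node 13691 (.node 13688 (.node 13687 (.leaf 0x0) (.leaf 0x1000002)) (.node 13689 (.leaf 0x0) (.node 13690 (.leaf 0x0) (.leaf 0x0)))) (.node 13693 (.node 13692 (.leaf 0x0) (.leaf 0x0)) (.node 13694 (.leaf 0x10001000005) (.node 13695 (.leaf 0x0) (.leaf 0x1))))) (.node 13701 (.node 13698 (.node 13697 (.leaf 0x0) (.leaf 0x0)) (.node 13699 (.leaf 0x0) (.node 13700 (.leaf 0x1) (.leaf 0x0)))) (.node 13704 (.node 13702 (.leaf 0x1) (.node 13703 (.leaf 0x0) (.leaf 0x0))) (.node 13705 (.leaf 0x0) (.node 13706 (.leaf 0x0) (.leaf 0x1))))))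

def sgOS_1261 : Store := (.node 13718 (.node 13712 (.node 13709 (.node 13708 (.leaf 0x0) (.leaf 0x1)) (.node 13710 (.leaf 0x1) (.node 13711 (.leaf 0x0) (.leaf 0x0)))) (.node 13715 (.node 13713 (.leaf 0x0) (.node 13714 (.leaf 0x0) (.leaf 0x1))) (.node 13716 (.leaf 0x0) (.node 13717 (.leaf 0x0) (.leaf 0x0))))) (.node 13723 (.node 13720 (.node 13719 (.leaf 0x0) (.leaf 0x0)) (.node 13721 (.leaf 0x0) (.node 13722 (.leaf 0x0) (.leaf 0x0)))) (.node 13726 (.node 13724 (.leaf 0x0) (.node 13725 (.leaf 0x0) (.leaf 0x0))) (.node 13727 (.leaf 0x0) (.node 13728 (.leaf 0x1) (.leaf 0x1))))))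

def sgOS_1262 : Store := (.node 13707 sgOS_1260 sgOS_1261)

def sgOS_1263 : Store := (.node 13740 (.node 13734 (.node 13731 (.node 13730 (.leaf 0x0) (.leaf 0x0)) (.node 13732 (.leaf 0x0) (.node 13733 (.leaf 0x0) (.leaf 0x0)))) (.node 13737 (.node 13735 (.leaf 0x1) (.node 13736 (.leaf 0x0) (.leaf 0x1))) (.node 13738 (.leaf 0x0) (.node 13739 (.leaf 0x0) (.leaf 0x0))))) (.node 13745 (.node 13742 (.node 13741 (.leaf 0x0) (.leaf 0x0)) (.node 13743 (.leaf 0x0) (.node 13744 (.leaf 0x0) (.leaf 0x0)))) (.node 13748 (.node 13746 (.leaf 0x0) (.node 13747 (.leaf 0x0) (.leaf 0x0))) (.node 13749 (.leaf 0x1) (.node 13750 (.leaf 0x0) (.leaf 0x1))))))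

def sgOS_1264 : Store := (.node 13762 (.node 13756 (.node 13753 (.node 13752 (.leaf 0x1) (.leaf 0x0)) (.node 13754 (.leaf 0x0) (.node 13755 (.leaf 0x0) (.leaf 0x1)))) (.node 13759 (.node 13757 (.leaf 0x0) (.node 13758 (.leaf 0x1) (.leaf 0x0))) (.node 13760 (.leaf 0x0) (.node 13761 (.leaf 0x0) (.leaf 0x0))))) (.node 13767 (.node 13764 (.node 13763 (.leaf 0x0) (.leaf 0x0)) (.node 13765 (.leaf 0x1) (.node 13766 (.leaf 0x0) (.leaf 0x0)))) (.node 13770 (.node 13768 (.leaf 0x0) (.node 13769 (.leaf 0x0) (.leaf 0x0))) (.node 13771 (.leaf 0x0) (.node 13772 (.leaf 0x0) (.leaf 0x0))))))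

def sgOS_1265 : Store := (.node 13751 sgOS_1263 sgOS_1264)

def sgOS_1266 : Store := (.node 13729 sgOS_1262 sgOS_1265)

def sgOS_1267 : Store := (.node 13783 (.node 13778 (.node 13775 (.node 13774 (.leaf 0x0) (.leaf 0x0)) (.node 13776 (.leaf 0x0) (.node 13777 (.leaf 0x1) (.leaf 0x0)))) (.node 13780 (.node 13779 (.leaf 0x0) (.leaf 0x0)) (.node 13781 (.leaf 0x0) (.node 13782 (.leaf 0x0) (.leaf 0x0))))) (.node 13788 (.node 13785 (.node 13784 (.leaf 0x0) (.leaf 0x0)) (.node 13786 (.leaf 0x0) (.node 13787 (.leaf 0x0) (.leaf 0x0)))) (.node 13791 (.node 13789 (.leaf 0x0) (.node 13790 (.leaf 0x0) (.leaf 0x0))) (.node 13792 (.leaf 0x0) (.node 13793 (.leaf 0x0) (.leaf 0x0))))))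

def sgOS_1268 : Store := (.node 13805 (.node 13799 (.node 13796 (.node 13795 (.leaf 0x0) (.leaf 0x0)) (.node 13797 (.leaf 0x0) (.node 13798 (.leaf 0x0) (.leaf 0x10001000005)))) (.node 13802 (.node 13800 (.leaf 0x0) (.node 13801 (.leaf 0x0) (.leaf 0x0))) (.node 13803 (.leaf 0x0) (.node 13804 (.leaf 0x0) (.leaf 0x0))))) (.node 13810 (.node 13807 (.node 13806 (.leaf 0x0) (.leaf 0x0)) (.node 13808 (.leaf 0x1) (.node 13809 (.leaf 0x0) (.leaf 0x0)))) (.node 13813 (.node 13811 (.leaf 0x0) (.node 13812 (.leaf 0x0) (.leaf 0x0))) (.node 13814 (.leaf 0x0) (.node 13815 (.leaf 0x0) (.leaf 0x0))))))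

def sgOS_1269 : Store := (.node 13794 sgOS_1267 sgOS_1268)

def sgOS_1270 : Store := (.node 13827 (.node 13821 (.node 13818 (.node 13817 (.leaf 0x0) (.leaf 0x0)) (.node 13819 (.leaf 0x1) (.node 13820 (.leaf 0x0) (.leaf 0x0)))) (.node 13824 (.node 13822 (.leaf 0x0) (.node 13823 (.leaf 0x0) (.leaf 0x0))) (.node 13825 (.leaf 0x0) (.node 13826 (.leaf 0x0) (.leaf 0x0))))) (.node 13832 (.node 13829 (.node 13828 (.leaf 0x0) (.leaf 0x0)) (.node 13830 (.leaf 0x0) (.node 13831 (.leaf 0x0) (.leaf 0x0)))) (.node 13835 (.node 13833 (.leaf 0x0) (.node 13834 (.leaf 0x0) (.leaf 0x0))) (.node 13836 (.leaf 0x0) (.node 13837 (.leaf 0x0) (.leaf 0x0))))))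

def sgOS_1271 : Store := (.node 13849 (.node 13843 (.node 13840 (.node 13839 (.leaf 0x0) (.leaf 0x0)) (.node 13841 (.leaf 0x0) (.node 13842 (.leaf 0x0) (.leaf 0x0)))) (.node 13846 (.node 13844 (.leaf 0x0) (.node 13845 (.leaf 0x0) (.leaf 0x0))) (.node 13847 (.leaf 0x0) (.node 13848 (.leaf 0x1) (.leaf 0x0))))) (.node 13854 (.node 13851 (.node 13850 (.leaf 0x0) (.leaf 0x0)) (.node 13852 (.leaf 0x0) (.node 13853 (.leaf 0x0) (.leaf 0x0)))) (.node 13857 (.node 13855 (.leaf 0x0) (.node 13856 (.leaf 0x1) (.leaf 0x0))) (.node 13858 (.leaf 0x0) (.node 13859 (.leaf 0x0) (.leaf 0x0))))))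

def sgOS_1272 : Store := (.node 13838 sgOS_1270 sgOS_1271)

def sgOS_1273 : Store := (.node 13816 sgOS_1269 sgOS_1272)

def sgOS_1274 : Store := (.node 13773 sgOS_1266 sgOS_1273)

def sgOS_1275 : Store := (.node 13686 sgOS_1259 sgOS_1274)

def sgOS_1276 : Store := (.node 13513 sgOS_1244 sgOS_1275)

def sgOS_1277 : Store := (.node 13167 sgOS_1213 sgOS_1276)

def sgOS_1278 : Store := (.node 12474 sgOS_1150 sgOS_1277)

def sgOS_1279 : Store := (.node 13870 (.node 13865 (.node 13862 (.node 13861 (.leaf 0x0) (.leaf 0x0)) (.node 13863 (.leaf 0x0) (.node 13864 (.leaf 0x0) (.leaf 0x0)))) (.node 13867 (.node 13866 (.leaf 0x0) (.leaf 0x0)) (.node 13868 (.leaf 0x0) (.node 13869 (.leaf 0x0) (.leaf 0x0))))) (.node 13875 (.node 13872 (.node 13871 (.leaf 0x0) (.leaf 0x0)) (.node 13873 (.leaf 0x0) (.node 13874 (.leaf 0x0) (.leaf 0x10001000004)))) (.node 13878 (.node 13876 (.leaf 0x0) (.node 13877 (.leaf 0x1) (.leaf 0x10001000005))) (.node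 13879 (.leaf 0x0) (.node 13880 (.leaf 0x0) (.leaf 0x0))))))

def sgOS_1280 : Store := (.node 13892 (.node 13886 (.node 13883 (.node 13882 (.leaf 0x10001000005) (.leaf 0x0)) (.node 13884 (.leaf 0x0) (.node 13885 (.leaf 0x10001000005) (.leaf 0x0)))) (.node 13889 (.node 13887 (.leaf 0x0) (.node 13888 (.leaf 0x0) (.leaf 0x0))) (.node 13890 (.leaf 0x0) (.node 13891 (.leaf 0x1) (.leaf 0x0))))) (.node 13897 (.node 13894 (.node 13893 (.leaf 0x0) (.leaf 0x0)) (.node 13895 (.leaf 0x0) (.node 13896 (.leaf 0x0) (.leaf 0x0)))) (.node 13900 (.node 13898 (.leaf 0x0) (.node 13899 (.leaf 0x0) (.leaf 0x0))) (.node 13901 (.leaf 0x0) (.node 13902 (.leaf 0x0) (.leaf 0x0))))))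

def sgOS_1281 : Store := (.node 13881 sgOS_1279 sgOS_1280)

def sgOS_1282 : Store := (.node 13913 (.node 13908 (.node 13905 (.node 13904 (.leaf 0x0) (.leaf 0x0)) (.node 13906 (.leaf 0x1) (.node 13907 (.leaf 0x0) (.leaf 0x0)))) (.node 13910 (.node 13909 (.leaf 0x0) (.leaf 0x0)) (.node 13911 (.leaf 0x0) (.node 13912 (.leaf 0x0) (.leaf 0x0))))) (.node 13918 (.node 13915 (.node 13914 (.leaf 0x0) (.leaf 0x0)) (.node 13916 (.leaf 0x0) (.node 13917 (.leaf 0x0) (.leaf 0x0)))) (.node 13921 (.node 13919 (.leaf 0x0) (.node 13920 (.leaf 0x0) (.leaf 0x0))) (.node 13922 (.leaf 0x0) (.node 13923 (.leaf 0x0) (.leaf 0x0))))))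

def sgOS_1283 : Store := (.node 13935 (.node 13929 (.node 13926 (.node 13925 (.leaf 0x0) (.leaf 0x0)) (.node 13927 (.leaf 0x0) (.node 13928 (.leaf 0x0) (.leaf 0x0)))) (.node 13932 (.node 13930 (.leaf 0x0) (.node 13931 (.leaf 0x0) (.leaf 0x0))) (.node 13933 (.leaf 0x0) (.node 13934 (.leaf 0x0) (.leaf 0x0))))) (.node 13940 (.node 13937 (.node 13936 (.leaf 0x0) (.leaf 0x0)) (.node 13938 (.leaf 0x0) (.node 13939 (.leaf 0x0) (.leaf 0x0)))) (.node 13943 (.node 13941 (.leaf 0x0) (.node 13942 (.leaf 0x0) (.leaf 0x0))) (.node 13944 (.leaf 0x0) (.node 13945 (.leaf 0x0) (.leaf 0x0))))))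

def sgOS_1284 : Store := (.node 13924 sgOS_1282 sgOS_1283)

def sgOS_1285 : Store := (.node 13903 sgOS_1281 sgOS_1284)

def sgOS_1286 : Store := (.node 13956 (.node 13951 (.node 13948 (.node 13947 (.leaf 0x0) (.leaf 0x0)) (.node 13949 (.leaf 0x0) (.node 13950 (.leaf 0x0) (.leaf 0x0)))) (.node 13953 (.node 13952 (.leaf 0x0) (.leaf 0x0)) (.node 13954 (.leaf 0x0) (.node 13955 (.leaf 0x0) (.leaf 0x0))))) (.node 13961 (.node 13958 (.node 13957 (.leaf 0x0) (.leaf 0x0)) (.node 13959 (.leaf 0x1) (.node 13960 (.leaf 0x0) (.leaf 0x1)))) (.node 13964 (.node 13962 (.leaf 0x0) (.node 13963 (.leaf 0x0) (.leaf 0x0))) (.node 13965 (.leaf 0x0) (.node 13966 (.leaf 0x0) (.leaf 0x0))))))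

def sgOS_1287 : Store := (.node 13978 (.node 13972 (.node 13969 (.node 13968 (.leaf 0x0) (.leaf 0x0)) (.node 13970 (.leaf 0x0) (.node 13971 (.leaf 0x0) (.leaf 0x0)))) (.node 13975 (.node 13973 (.leaf 0x0) (.node 13974 (.leaf 0x0) (.leaf 0x0))) (.node 13976 (.leaf 0x0) (.node 13977 (.leaf 0x0) (.leaf 0x0))))) (.node 13983 (.node 13980 (.node 13979 (.leaf 0x0) (.leaf 0x0)) (.node 13981 (.leaf 0x0) (.node 13982 (.leaf 0x0) (.leaf 0x0)))) (.node 13986 (.node 13984 (.leaf 0x0) (.node 13985 (.leaf 0x0) (.leaf 0x0))) (.node 13987 (.leaf 0x0) (.node 13988 (.leaf 0x0) (.leaf 0x0))))))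

def sgOS_1288 : Store := (.node 13967 sgOS_1286 sgOS_1287)

def sgOS_1289 : Store := (.node 14000 (.node 13994 (.node 13991 (.node 13990 (.leaf 0x0) (.leaf 0x0)) (.node 13992 (.leaf 0x0) (.node 13993 (.leaf 0x0) (.leaf 0x0)))) (.node 13997 (.node 13995 (.leaf 0x0) (.node 13996 (.leaf 0x0) (.leaf 0x0))) (.node 13998 (.leaf 0x0) (.node 13999 (.leaf 0x0) (.leaf 0x0))))) (.node 14005 (.node 14002 (.node 14001 (.leaf 0x0) (.leaf 0x1)) (.node 14003 (.leaf 0x0) (.node 14004 (.leaf 0x202000003) (.leaf 0x0)))) (.node 14008 (.node 14006 (.leaf 0x0) (.node 14007 (.leaf 0x0) (.leaf 0x0))) (.node 14009 (.leaf 0x0) (.node 14010 (.leaf 0x0) (.leaf 0x0))))))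

def sgOS_1290 : Store := (.node 14022 (.node 14016 (.node 14013 (.node 14012 (.leaf 0x0) (.leaf 0x0)) (.node 14014 (.leaf 0x0) (.node 14015 (.leaf 0x0) (.leaf 0x0)))) (.node 14019 (.node 14017 (.leaf 0x0) (.node 14018 (.leaf 0x0) (.leaf 0x0))) (.node 14020 (.leaf 0x0) (.node 14021 (.leaf 0x0) (.leaf 0x1))))) (.node 14027 (.node 14024 (.node 14023 (.leaf 0x0) (.leaf 0x1)) (.node 14025 (.leaf 0x0) (.node 14026 (.leaf 0x0) (.leaf 0x0)))) (.node 14030 (.node 14028 (.leaf 0x0) (.node 14029 (.leaf 0x0) (.leaf 0x0))) (.node 14031 (.leaf 0x1) (.node 14032 (.leaf 0x1) (.leaf 0x0))))))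

def sgOS_1291 : Store := (.node 14011 sgOS_1289 sgOS_1290)

def sgOS_1292 : Store := (.node 13989 sgOS_1288 sgOS_1291)

def sgOS_1293 : Store := (.node 13946 sgOS_1285 sgOS_1292)

def sgOS_1294 : Store := (.node 14043 (.node 14038 (.node 14035 (.node 14034 (.leaf 0x0) (.leaf 0x0)) (.node 14036 (.leaf 0x0) (.node 14037 (.leaf 0x0) (.leaf 0x0)))) (.node 14040 (.node 14039 (.leaf 0x0) (.leaf 0x0)) (.node 14041 (.leaf 0x0) (.node 14042 (.leaf 0x0) (.leaf 0x0))))) (.node 14048 (.node 14045 (.node 14044 (.leaf 0x10001000004) (.leaf 0x0)) (.node 14046 (.leaf 0x0) (.node 14047 (.leaf 0x0) (.leaf 0x0)))) (.node 14051 (.node 14049 (.leaf 0x0) (.node 14050 (.leaf 0x0) (.leaf 0x1))) (.node 14052 (.leaf 0x0) (.node 14053 (.leaf 0x0) (.leaf 0x0))))))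

def sgOS_1295 : Store := (.node 14065 (.node 14059 (.node 14056 (.node 14055 (.leaf 0x0) (.leaf 0x0)) (.node 14057 (.leaf 0x0) (.node 14058 (.leaf 0x1) (.leaf 0x0)))) (.node 14062 (.node 14060 (.leaf 0x0) (.node 14061 (.leaf 0x0) (.leaf 0x0))) (.node 14063 (.leaf 0x0) (.node 14064 (.leaf 0x0) (.leaf 0x0))))) (.node 14070 (.node 14067 (.node 14066 (.leaf 0x0) (.leaf 0x0)) (.node 14068 (.leaf 0x0) (.node 14069 (.leaf 0x0) (.leaf 0x0)))) (.node 14073 (.node 14071 (.leaf 0x0) (.node 14072 (.leaf 0x0) (.leaf 0x0))) (.node 14074 (.leaf 0x1) (.node 14075 (.leaf 0x0) (.leaf 0x0))))))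

def sgOS_1296 : Store := (.node 14054 sgOS_1294 sgOS_1295)

def sgOS_1297 : Store := (.node 14086 (.node 14081 (.node 14078 (.node 14077 (.leaf 0x0) (.leaf 0x0)) (.node 14079 (.leaf 0x0) (.node 14080 (.leaf 0x0) (.leaf 0x0)))) (.node 14083 (.node 14082 (.leaf 0x0) (.leaf 0x0)) (.node 14084 (.leaf 0x0) (.node 14085 (.leaf 0x0) (.leaf 0x0))))) (.node 14091 (.node 14088 (.node 14087 (.leaf 0x0) (.leaf 0x1)) (.node 14089 (.leaf 0x0) (.node 14090 (.leaf 0x0) (.leaf 0x0)))) (.node 14094 (.node 14092 (.leaf 0x1) (.node 14093 (.leaf 0x0) (.leaf 0x1))) (.node 14095 (.leaf 0x0) (.node 14096 (.leaf 0x0) (.leaf 0x0))))))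

def sgOS_1298 : Store := (.node 14108 (.node 14102 (.node 14099 (.node 14098 (.leaf 0x0) (.leaf 0x0)) (.node 14100 (.leaf 0x0) (.node 14101 (.leaf 0x0) (.leaf 0x0)))) (.node 14105 (.node 14103 (.leaf 0x0) (.node 14104 (.leaf 0x0) (.leaf 0x0))) (.node 14106 (.leaf 0x0) (.node 14107 (.leaf 0x0) (.leaf 0x0))))) (.node 14113 (.node 14110 (.node 14109 (.leaf 0x1) (.leaf 0x0)) (.node 14111 (.leaf 0x0) (.node 14112 (.leaf 0x0) (.leaf 0x0)))) (.node 14116 (.node 14114 (.leaf 0x0) (.node 14115 (.leaf 0x0) (.leaf 0x0))) (.node 14117 (.leaf 0x0) (.node 14118 (.leaf 0x0) (.leaf 0x0))))))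

def sgOS_1299 : Store := (.node 14097 sgOS_1297 sgOS_1298)

def sgOS_1300 : Store := (.node 14076 sgOS_1296 sgOS_1299)

def sgOS_1301 : Store := (.node 14129 (.node 14124 (.node 14121 (.node 14120 (.leaf 0x0) (.leaf 0x1)) (.node 14122 (.leaf 0x0) (.node 14123 (.leaf 0x1) (.leaf 0x0)))) (.node 14126 (.node 14125 (.leaf 0x0) (.leaf 0x0)) (.node 14127 (.leaf 0x0) (.node 14128 (.leaf 0x0) (.leaf 0x0))))) (.node 14134 (.node 14131 (.node 14130 (.leaf 0x1) (.leaf 0x0)) (.node 14132 (.leaf 0x0) (.node 14133 (.leaf 0x0) (.leaf 0x0)))) (.node 14137 (.node 14135 (.leaf 0x1) (.node 14136 (.leaf 0x0) (.leaf 0x10001000004))) (.node 14138 (.leaf 0x0) (.node 14139 (.leaf 0x0) (.leaf 0x0))))))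

def sgOS_1302 : Store := (.node 14151 (.node 14145 (.node 14142 (.node 14141 (.leaf 0x1) (.leaf 0x0)) (.node 14143 (.leaf 0x0) (.node 14144 (.leaf 0x0) (.leaf 0x0)))) (.node 14148 (.node 14146 (.leaf 0x0) (.node 14147 (.leaf 0x0) (.leaf 0x0))) (.node 14149 (.leaf 0x0) (.node 14150 (.leaf 0x0) (.leaf 0x0))))) (.node 14156 (.node 14153 (.node 14152 (.leaf 0x0) (.leaf 0x0)) (.node 14154 (.leaf 0x0) (.node 14155 (.leaf 0x0) (.leaf 0x0)))) (.node 14159 (.node 14157 (.leaf 0x0) (.node 14158 (.leaf 0x0) (.leaf 0x0))) (.node 14160 (.leaf 0x0) (.node 14161 (.leaf 0x0) (.leaf 0x0))))))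

def sgOS_1303 : Store := (.node 14140 sgOS_1301 sgOS_1302)

def sgOS_1304 : Store := (.node 14173 (.node 14167 (.node 14164 (.node 14163 (.leaf 0x1) (.leaf 0x1)) (.node 14165 (.leaf 0x0) (.node 14166 (.leaf 0x0) (.leaf 0x0)))) (.node 14170 (.node 14168 (.leaf 0x0) (.node 14169 (.leaf 0x1) (.leaf 0x0))) (.node 14171 (.leaf 0x1) (.node 14172 (.leaf 0x0) (.leaf 0x0))))) (.node 14178 (.node 14175 (.node 14174 (.leaf 0x0) (.leaf 0x0)) (.node 14176 (.leaf 0x0) (.node 14177 (.leaf 0x0) (.leaf 0x0)))) (.node 14181 (.node 14179 (.leaf 0x0) (.node 14180 (.leaf 0x0) (.leaf 0x0))) (.node 14182 (.leaf 0x0) (.node 14183 (.leaf 0x0) (.leaf 0x0))))))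

def sgOS_1305 : Store := (.node 14195 (.node 14189 (.node 14186 (.node 14185 (.leaf 0x0) (.leaf 0x0)) (.node 14187 (.leaf 0x0) (.node 14188 (.leaf 0x0) (.leaf 0x0)))) (.node 14192 (.node 14190 (.leaf 0x0) (.node 14191 (.leaf 0x0) (.leaf 0x0))) (.node 14193 (.leaf 0x0) (.node 14194 (.leaf 0x0) (.leaf 0x0))))) (.node 14200 (.node 14197 (.node 14196 (.leaf 0x0) (.leaf 0x0)) (.node 14198 (.leaf 0x0) (.node 14199 (.leaf 0x0) (.leaf 0x0)))) (.node 14203 (.node 14201 (.leaf 0x0) (.node 14202 (.leaf 0x0) (.leaf 0x0))) (.node 14204 (.leaf 0x0) (.node 14205 (.leaf 0x0) (.leaf 0x0))))))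

def sgOS_1306 : Store := (.node 14184 sgOS_1304 sgOS_1305)

def sgOS_1307 : Store := (.node 14162 sgOS_1303 sgOS_1306)

def sgOS_1308 : Store := (.node 14119 sgOS_1300 sgOS_1307)

def sgOS_1309 : Store := (.node 14033 sgOS_1293 sgOS_1308)

def sgOS_1310 : Store := (.node 14216 (.node 14211 (.node 14208 (.node 14207 (.leaf 0x1) (.leaf 0x0)) (.node 14209 (.leaf 0x0) (.node 14210 (.leaf 0x0) (.leaf 0x0)))) (.node 14213 (.node 14212 (.leaf 0x0) (.leaf 0x0)) (.node 14214 (.leaf 0x0) (.node 14215 (.leaf 0x0) (.leaf 0x0))))) (.node 14221 (.node 14218 (.node 14217 (.leaf 0x0) (.leaf 0x0)) (.node 14219 (.leaf 0x10001) (.node 14220 (.leaf 0x0) (.leaf 0x100010004)))) (.node 14224 (.node 14222 (.leaf 0x0) (.node 14223 (.leaf 0x0) (.leaf 0x0))) (.node 14225 (.leaf 0x0) (.node 14226 (.leaf 0x0) (.leaf 0x0))))))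

def sgOS_1311 : Store := (.node 14238 (.node 14232 (.node 14229 (.node 14228 (.leaf 0x0) (.leaf 0x0)) (.node 14230 (.leaf 0x0) (.node 14231 (.leaf 0x0) (.leaf 0x0)))) (.node 14235 (.node 14233 (.leaf 0x101000003) (.node 14234 (.leaf 0x0) (.leaf 0x0))) (.node 14236 (.leaf 0x0) (.node 14237 (.leaf 0x0) (.leaf 0x0))))) (.node 14243 (.node 14240 (.node 14239 (.leaf 0x1) (.leaf 0x0)) (.node 14241 (.leaf 0x1) (.node 14242 (.leaf 0x0) (.leaf 0x0)))) (.node 14246 (.node 14244 (.leaf 0x0) (.node 14245 (.leaf 0x0) (.leaf 0x1))) (.node 14247 (.leaf 0x0) (.node 14248 (.leaf 0x1) (.leaf 0x0))))))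

def sgOS_1312 : Store := (.node 14227 sgOS_1310 sgOS_1311)

def sgOS_1313 : Store := (.node 14259 (.node 14254 (.node 14251 (.node 14250 (.leaf 0x0) (.leaf 0x0)) (.node 14252 (.leaf 0x0) (.node 14253 (.leaf 0x0) (.leaf 0x1)))) (.node 14256 (.node 14255 (.leaf 0x0) (.leaf 0x10001000004)) (.node 14257 (.leaf 0x0) (.node 14258 (.leaf 0x0) (.leaf 0x0))))) (.node 14264 (.node 14261 (.node 14260 (.leaf 0x0) (.leaf 0x101000003)) (.node 14262 (.leaf 0x1) (.node 14263 (.leaf 0x0) (.leaf 0x0)))) (.node 14267 (.node 14265 (.leaf 0x0) (.node 14266 (.leaf 0x0) (.leaf 0x1))) (.node 14268 (.leaf 0x0) (.node 14269 (.leaf 0x1) (.leaf 0x0))))))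

def sgOS_1314 : Store := (.node 14281 (.node 14275 (.node 14272 (.node 14271 (.leaf 0x0) (.leaf 0x0)) (.node 14273 (.leaf 0x0) (.node 14274 (.leaf 0x0) (.leaf 0x0)))) (.node 14278 (.node 14276 (.leaf 0x0) (.node 14277 (.leaf 0x0) (.leaf 0x0))) (.node 14279 (.leaf 0x0) (.node 14280 (.leaf 0x0) (.leaf 0x0))))) (.node 14286 (.node 14283 (.node 14282 (.leaf 0x0) (.leaf 0x0)) (.node 14284 (.leaf 0x0) (.node 14285 (.leaf 0x0) (.leaf 0x0)))) (.node 14289 (.node 14287 (.leaf 0x0) (.node 14288 (.leaf 0x0) (.leaf 0x2000002))) (.node 14290 (.leaf 0x0) (.node 14291 (.leaf 0x101000003) (.leaf 0x0))))))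

def sgOS_1315 : Store := (.node 14270 sgOS_1313 sgOS_1314)

def sgOS_1316 : Store := (.node 14249 sgOS_1312 sgOS_1315)

def sgOS_1317 : Store := (.node 14302 (.node 14297 (.node 14294 (.node 14293 (.leaf 0x0) (.leaf 0x0)) (.node 14295 (.leaf 0x0) (.node 14296 (.leaf 0x0) (.leaf 0x0)))) (.node 14299 (.node 14298 (.leaf 0x0) (.leaf 0x0)) (.node 14300 (.leaf 0x0) (.node 14301 (.leaf 0x0) (.leaf 0x0))))) (.node 14307 (.node 14304 (.node 14303 (.leaf 0x0) (.leaf 0x0)) (.node 14305 (.leaf 0x0) (.node 14306 (.leaf 0x0) (.leaf 0x0)))) (.node 14310 (.node 14308 (.leaf 0x0) (.node 14309 (.leaf 0x0) (.leaf 0x0))) (.node 14311 (.leaf 0x0) (.node 14312 (.leaf 0x0) (.leaf 0x0))))))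

def sgOS_1318 : Store := (.node 14324 (.node 14318 (.node 14315 (.node 14314 (.leaf 0x0) (.leaf 0x0)) (.node 14316 (.leaf 0x0) (.node 14317 (.leaf 0x0) (.leaf 0x0)))) (.node 14321 (.node 14319 (.leaf 0x0) (.node 14320 (.leaf 0x0) (.leaf 0x0))) (.node 14322 (.leaf 0x0) (.node 14323 (.leaf 0x0) (.leaf 0x0))))) (.node 14329 (.node 14326 (.node 14325 (.leaf 0x0) (.leaf 0x0)) (.node 14327 (.leaf 0x0) (.node 14328 (.leaf 0x0) (.leaf 0x0)))) (.node 14332 (.node 14330 (.leaf 0x101000003) (.node 14331 (.leaf 0x202000003) (.leaf 0x0))) (.node 14333 (.leaf 0x2020002) (.node 14334 (.leaf 0x0) (.leaf 0x0))))))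

def sgOS_1319 : Store := (.node 14313 sgOS_1317 sgOS_1318)

def sgOS_1320 : Store := (.node 14346 (.node 14340 (.node 14337 (.node 14336 (.leaf 0x0) (.leaf 0x0)) (.node 14338 (.leaf 0x0) (.node 14339 (.leaf 0x0) (.leaf 0x1)))) (.node 14343 (.node 14341 (.leaf 0x0) (.node 14342 (.leaf 0x0) (.leaf 0x0))) (.node 14344 (.leaf 0x0) (.node 14345 (.leaf 0x0) (.leaf 0x0))))) (.node 14351 (.node 14348 (.node 14347 (.leaf 0x0) (.leaf 0x0)) (.node 14349 (.leaf 0x0) (.node 14350 (.leaf 0x0) (.leaf 0x0)))) (.node 14354 (.node 14352 (.leaf 0x0) (.node 14353 (.leaf 0x0) (.leaf 0x0))) (.node 14355 (.leaf 0x0) (.node 14356 (.leaf 0x0) (.leaf 0x0))))))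

def sgOS_1321 : Store := (.node 14368 (.node 14362 (.node 14359 (.node 14358 (.leaf 0x1) (.leaf 0x0)) (.node 14360 (.leaf 0x0) (.node 14361 (.leaf 0x0) (.leaf 0x0)))) (.node 14365 (.node 14363 (.leaf 0x0) (.node 14364 (.leaf 0x0) (.leaf 0x0))) (.node 14366 (.leaf 0x0) (.node 14367 (.leaf 0x0) (.leaf 0x0))))) (.node 14373 (.node 14370 (.node 14369 (.leaf 0x0) (.leaf 0x0)) (.node 14371 (.leaf 0x0) (.node 14372 (.leaf 0x0) (.leaf 0x0)))) (.node 14376 (.node 14374 (.leaf 0x0) (.node 14375 (.leaf 0x0) (.leaf 0x0))) (.node 14377 (.leaf 0x0) (.node 14378 (.leaf 0x0) (.leaf 0x1))))))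

def sgOS_1322 : Store := (.node 14357 sgOS_1320 sgOS_1321)

def sgOS_1323 : Store := (.node 14335 sgOS_1319 sgOS_1322)

def sgOS_1324 : Store := (.node 14292 sgOS_1316 sgOS_1323)

def sgOS_1325 : Store := (.node 14389 (.node 14384 (.node 14381 (.node 14380 (.leaf 0x0) (.leaf 0x0)) (.node 14382 (.leaf 0x0) (.node 14383 (.leaf 0x0) (.leaf 0x0)))) (.node 14386 (.node 14385 (.leaf 0x0) (.leaf 0x0)) (.node 14387 (.leaf 0x0) (.node 14388 (.leaf 0x0) (.leaf 0x0))))) (.node 14394 (.node 14391 (.node 14390 (.leaf 0x0) (.leaf 0x0)) (.node 14392 (.leaf 0x0) (.node 14393 (.leaf 0x0) (.leaf 0x0)))) (.node 14397 (.node 14395 (.leaf 0x0) (.node 14396 (.leaf 0x0) (.leaf 0x0))) (.node 14398 (.leaf 0x0) (.node 14399 (.leaf 0x0) (.leaf 0x0))))))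

def sgOS_1326 : Store := (.node 14411 (.node 14405 (.node 14402 (.node 14401 (.leaf 0x0) (.leaf 0x0)) (.node 14403 (.leaf 0x0) (.node 14404 (.leaf 0x0) (.leaf 0x0)))) (.node 14408 (.node 14406 (.leaf 0x0) (.node 14407 (.leaf 0x0) (.leaf 0x0))) (.node 14409 (.leaf 0x0) (.node 14410 (.leaf 0x0) (.leaf 0x0))))) (.node 14416 (.node 14413 (.node 14412 (.leaf 0x0) (.leaf 0x0)) (.node 14414 (.leaf 0x0) (.node 14415 (.leaf 0x0) (.leaf 0x0)))) (.node 14419 (.node 14417 (.leaf 0x0) (.node 14418 (.leaf 0x0) (.leaf 0x0))) (.node 14420 (.leaf 0x0) (.node 14421 (.leaf 0x0) (.leaf 0x0))))))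

def sgOS_1327 : Store := (.node 14400 sgOS_1325 sgOS_1326)

def sgOS_1328 : Store := (.node 14433 (.node 14427 (.node 14424 (.node 14423 (.leaf 0x0) (.leaf 0x0)) (.node 14425 (.leaf 0x0) (.node 14426 (.leaf 0x0) (.leaf 0x0)))) (.node 14430 (.node 14428 (.leaf 0x0) (.node 14429 (.leaf 0x0) (.leaf 0x0))) (.node 14431 (.leaf 0x0) (.node 14432 (.leaf 0x0) (.leaf 0x0))))) (.node 14438 (.node 14435 (.node 14434 (.leaf 0x0) (.leaf 0x0)) (.node 14436 (.leaf 0x0) (.node 14437 (.leaf 0x0) (.leaf 0x0)))) (.node 14441 (.node 14439 (.leaf 0x0) (.node 14440 (.leaf 0x0) (.leaf 0x0))) (.node 14442 (.leaf 0x0) (.node 14443 (.leaf 0x0) (.leaf 0x0))))))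

def sgOS_1329 : Store := (.node 14455 (.node 14449 (.node 14446 (.node 14445 (.leaf 0x0) (.leaf 0x0)) (.node 14447 (.leaf 0x0) (.node 14448 (.leaf 0x0) (.leaf 0x0)))) (.node 14452 (.node 14450 (.leaf 0x0) (.node 14451 (.leaf 0x0) (.leaf 0x0))) (.node 14453 (.leaf 0x0) (.node 14454 (.leaf 0x0) (.leaf 0x0))))) (.node 14460 (.node 14457 (.node 14456 (.leaf 0x0) (.leaf 0x0)) (.node 14458 (.leaf 0x0) (.node 14459 (.leaf 0x0) (.leaf 0x0)))) (.node 14463 (.node 14461 (.leaf 0x0) (.node 14462 (.leaf 0x0) (.leaf 0x0))) (.node 14464 (.leaf 0x0) (.node 14465 (.leaf 0x0) (.leaf 0x0))))))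

def sgOS_1330 : Store := (.node 14444 sgOS_1328 sgOS_1329)

def sgOS_1331 : Store := (.node 14422 sgOS_1327 sgOS_1330)

def sgOS_1332 : Store := (.node 14476 (.node 14471 (.node 14468 (.node 14467 (.leaf 0x0) (.leaf 0x0)) (.node 14469 (.leaf 0x0) (.node 14470 (.leaf 0x0) (.leaf 0x0)))) (.node 14473 (.node 14472 (.leaf 0x0) (.leaf 0x0)) (.node 14474 (.leaf 0x0) (.node 14475 (.leaf 0x0) (.leaf 0x0))))) (.node 14481 (.node 14478 (.node 14477 (.leaf 0x0) (.leaf 0x0)) (.node 14479 (.leaf 0x0) (.node 14480 (.leaf 0x0) (.leaf 0x0)))) (.node 14484 (.node 14482 (.leaf 0x0) (.node 14483 (.leaf 0x0) (.leaf 0x0))) (.node 14485 (.leaf 0x0) (.node 14486 (.leaf 0x0) (.leaf 0x0))))))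

def sgOS_1333 : Store := (.node 14498 (.node 14492 (.node 14489 (.node 14488 (.leaf 0x0) (.leaf 0x0)) (.node 14490 (.leaf 0x0) (.node 14491 (.leaf 0x0) (.leaf 0x0)))) (.node 14495 (.node 14493 (.leaf 0x0) (.node 14494 (.leaf 0x0) (.leaf 0x0))) (.node 14496 (.leaf 0x0) (.node 14497 (.leaf 0x0) (.leaf 0x1))))) (.node 14503 (.node 14500 (.node 14499 (.leaf 0x1) (.leaf 0x1)) (.node 14501 (.leaf 0x0) (.node 14502 (.leaf 0x0) (.leaf 0x0)))) (.node 14506 (.node 14504 (.leaf 0x0) (.node 14505 (.leaf 0x0) (.leaf 0x0))) (.node 14507 (.leaf 0x0) (.node 14508 (.leaf 0x0) (.leaf 0x0))))))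

def sgOS_1334 : Store := (.node 14487 sgOS_1332 sgOS_1333)

def sgOS_1335 : Store := (.node 14520 (.node 14514 (.node 14511 (.node 14510 (.leaf 0x0) (.leaf 0x0)) (.node 14512 (.leaf 0x0) (.node 14513 (.leaf 0x0) (.leaf 0x0)))) (.node 14517 (.node 14515 (.leaf 0x0) (.node 14516 (.leaf 0x0) (.leaf 0x0))) (.node 14518 (.leaf 0x0) (.node 14519 (.leaf 0x0) (.leaf 0x0))))) (.node 14525 (.node 14522 (.node 14521 (.leaf 0x0) (.leaf 0x0)) (.node 14523 (.leaf 0x0) (.node 14524 (.leaf 0x0) (.leaf 0x0)))) (.node 14528 (.node 14526 (.leaf 0x0) (.node 14527 (.leaf 0x1) (.leaf 0x0))) (.node 14529 (.leaf 0x0) (.node 14530 (.leaf 0x0) (.leaf 0x0))))))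

def sgOS_1336 : Store := (.node 14542 (.node 14536 (.node 14533 (.node 14532 (.leaf 0x0) (.leaf 0x1)) (.node 14534 (.leaf 0x0) (.node 14535 (.leaf 0x1) (.leaf 0x0)))) (.node 14539 (.node 14537 (.leaf 0x0) (.node 14538 (.leaf 0x0) (.leaf 0x0))) (.node 14540 (.leaf 0x0) (.node 14541 (.leaf 0x1) (.leaf 0x1))))) (.node 14547 (.node 14544 (.node 14543 (.leaf 0x0) (.leaf 0x0)) (.node 14545 (.leaf 0x0) (.node 14546 (.leaf 0x0) (.leaf 0x0)))) (.node 14550 (.node 14548 (.leaf 0x0) (.node 14549 (.leaf 0x0) (.leaf 0x0))) (.node 14551 (.leaf 0x0) (.node 14552 (.leaf 0x0) (.leaf 0x0))))))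

def sgOS_1337 : Store := (.node 14531 sgOS_1335 sgOS_1336)

def sgOS_1338 : Store := (.node 14509 sgOS_1334 sgOS_1337)

def sgOS_1339 : Store := (.node 14466 sgOS_1331 sgOS_1338)

def sgOS_1340 : Store := (.node 14379 sgOS_1324 sgOS_1339)

def sgOS_1341 : Store := (.node 14206 sgOS_1309 sgOS_1340)

def sgOS_1342 : Store := (.node 14563 (.node 14558 (.node 14555 (.node 14554 (.leaf 0x0) (.leaf 0x1)) (.node 14556 (.leaf 0x1) (.node 14557 (.leaf 0x0) (.leaf 0x0)))) (.node 14560 (.node 14559 (.leaf 0x0) (.leaf 0x0)) (.node 14561 (.leaf 0x0) (.node 14562 (.leaf 0x0) (.leaf 0x0))))) (.node 14568 (.node 14565 (.node 14564 (.leaf 0x0) (.leaf 0x0)) (.node 14566 (.leaf 0x0) (.node 14567 (.leaf 0x0) (.leaf 0x0)))) (.node 14571 (.node 14569 (.leaf 0x0) (.node 14570 (.leaf 0x0) (.leaf 0x0))) (.node 14572 (.leaf 0x0) (.node 14573 (.leaf 0x0) (.leaf 0x0))))))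

def sgOS_1343 : Store := (.node 14585 (.node 14579 (.node 14576 (.node 14575 (.leaf 0x0) (.leaf 0x0)) (.node 14577 (.leaf 0x0) (.node 14578 (.leaf 0x0) (.leaf 0x0)))) (.node 14582 (.node 14580 (.leaf 0x0) (.node 14581 (.leaf 0x0) (.leaf 0x1))) (.node 14583 (.leaf 0x0) (.node 14584 (.leaf 0x0) (.leaf 0x0))))) (.node 14590 (.node 14587 (.node 14586 (.leaf 0x0) (.leaf 0x0)) (.node 14588 (.leaf 0x0) (.node 14589 (.leaf 0x0) (.leaf 0x0)))) (.node 14593 (.node 14591 (.leaf 0x0) (.node 14592 (.leaf 0x0) (.leaf 0x0))) (.node 14594 (.leaf 0x0) (.node 14595 (.leaf 0x0) (.leaf 0x0))))))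

def sgOS_1344 : Store := (.node 14574 sgOS_1342 sgOS_1343)

def sgOS_1345 : Store := (.node 14606 (.node 14601 (.node 14598 (.node 14597 (.leaf 0x0) (.leaf 0x0)) (.node 14599 (.leaf 0x0) (.node 14600 (.leaf 0x0) (.leaf 0x0)))) (.node 14603 (.node 14602 (.leaf 0x0) (.leaf 0x10001000005)) (.node 14604 (.leaf 0x10001000005) (.node 14605 (.leaf 0x10001000004) (.leaf 0x0))))) (.node 14611 (.node 14608 (.node 14607 (.leaf 0x0) (.leaf 0x0)) (.node 14609 (.leaf 0x0) (.node 14610 (.leaf 0x0) (.leaf 0x1)))) (.node 14614 (.node 14612 (.leaf 0x0) (.node 14613 (.leaf 0x0) (.leaf 0x0))) (.node 14615 (.leaf 0x0) (.node 14616 (.leaf 0x0) (.leaf 0x1))))))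

def sgOS_1346 : Store := (.node 14628 (.node 14622 (.node 14619 (.node 14618 (.leaf 0x0) (.leaf 0x1)) (.node 14620 (.leaf 0x0) (.node 14621 (.leaf 0x0) (.leaf 0x0)))) (.node 14625 (.node 14623 (.leaf 0x0) (.node 14624 (.leaf 0x0) (.leaf 0x0))) (.node 14626 (.leaf 0x0) (.node 14627 (.leaf 0x0) (.leaf 0x0))))) (.node 14633 (.node 14630 (.node 14629 (.leaf 0x0) (.leaf 0x0)) (.node 14631 (.leaf 0x0) (.node 14632 (.leaf 0x0) (.leaf 0x0)))) (.node 14636 (.node 14634 (.leaf 0x0) (.node 14635 (.leaf 0x0) (.leaf 0x0))) (.node 14637 (.leaf 0x0) (.node 14638 (.leaf 0x0) (.leaf 0x0))))))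

def sgOS_1347 : Store := (.node 14617 sgOS_1345 sgOS_1346)

def sgOS_1348 : Store := (.node 14596 sgOS_1344 sgOS_1347)

def sgOS_1349 : Store := (.node 14649 (.node 14644 (.node 14641 (.node 14640 (.leaf 0x0) (.leaf 0x0)) (.node 14642 (.leaf 0x0) (.node 14643 (.leaf 0x0) (.leaf 0x0)))) (.node 14646 (.node 14645 (.leaf 0x0) (.leaf 0x0)) (.node 14647 (.leaf 0x0) (.node 14648 (.leaf 0x0) (.leaf 0x0))))) (.node 14654 (.node 14651 (.node 14650 (.leaf 0x0) (.leaf 0x0)) (.node 14652 (.leaf 0x0) (.node 14653 (.leaf 0x0) (.leaf 0x0)))) (.node 14657 (.node 14655 (.leaf 0x0) (.node 14656 (.leaf 0x0) (.leaf 0x0))) (.node 14658 (.leaf 0x0) (.node 14659 (.leaf 0x0) (.leaf 0x0))))))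

def sgOS_1350 : Store := (.node 14671 (.node 14665 (.node 14662 (.node 14661 (.leaf 0x0) (.leaf 0x1)) (.node 14663 (.leaf 0x0) (.node 14664 (.leaf 0x0) (.leaf 0x0)))) (.node 14668 (.node 14666 (.leaf 0x0) (.node 14667 (.leaf 0x0) (.leaf 0x0))) (.node 14669 (.leaf 0x0) (.node 14670 (.leaf 0x0) (.leaf 0x0))))) (.node 14676 (.node 14673 (.node 14672 (.leaf 0x0) (.leaf 0x0)) (.node 14674 (.leaf 0x0) (.node 14675 (.leaf 0x0) (.leaf 0x1)))) (.node 14679 (.node 14677 (.leaf 0x0) (.node 14678 (.leaf 0x0) (.leaf 0x0))) (.node 14680 (.leaf 0x0) (.node 14681 (.leaf 0x0) (.leaf 0x0))))))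

def sgOS_1351 : Store := (.node 14660 sgOS_1349 sgOS_1350)

def sgOS_1352 : Store := (.node 14693 (.node 14687 (.node 14684 (.node 14683 (.leaf 0x0) (.leaf 0x0)) (.node 14685 (.leaf 0x0) (.node 14686 (.leaf 0x0) (.leaf 0x0)))) (.node 14690 (.node 14688 (.leaf 0x0) (.node 14689 (.leaf 0x0) (.leaf 0x0))) (.node 14691 (.leaf 0x0) (.node 14692 (.leaf 0x0) (.leaf 0x0))))) (.node 14698 (.node 14695 (.node 14694 (.leaf 0x0) (.leaf 0x0)) (.node 14696 (.leaf 0x0) (.node 14697 (.leaf 0x0) (.leaf 0x0)))) (.node 14701 (.node 14699 (.leaf 0x0) (.node 14700 (.leaf 0x0) (.leaf 0x0))) (.node 14702 (.leaf 0x0) (.node 14703 (.leaf 0x0) (.leaf 0x0))))))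

def sgOS_1353 : Store := (.node 14715 (.node 14709 (.node 14706 (.node 14705 (.leaf 0x0) (.leaf 0x0)) (.node 14707 (.leaf 0x0) (.node 14708 (.leaf 0x0) (.leaf 0x10001)))) (.node 14712 (.node 14710 (.leaf 0x0) (.node 14711 (.leaf 0x100010004) (.leaf 0x0))) (.node 14713 (.leaf 0x0) (.node 14714 (.leaf 0x0) (.leaf 0x0))))) (.node 14720 (.node 14717 (.node 14716 (.leaf 0x0) (.leaf 0x0)) (.node 14718 (.leaf 0x0) (.node 14719 (.leaf 0x0) (.leaf 0x0)))) (.node 14723 (.node 14721 (.leaf 0x0) (.node 14722 (.leaf 0x1) (.leaf 0x0))) (.node 14724 (.leaf 0x1) (.node 14725 (.leaf 0x0) (.leaf 0x0))))))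

def sgOS_1354 : Store := (.node 14704 sgOS_1352 sgOS_1353)

def sgOS_1355 : Store := (.node 14682 sgOS_1351 sgOS_1354)

def sgOS_1356 : Store := (.node 14639 sgOS_1348 sgOS_1355)

def sgOS_1357 : Store := (.node 14736 (.node 14731 (.node 14728 (.node 14727 (.leaf 0x0) (.leaf 0x0)) (.node 14729 (.leaf 0x0) (.node 14730 (.leaf 0x0) (.leaf 0x0)))) (.node 14733 (.node 14732 (.leaf 0x1) (.leaf 0x0)) (.node 14734 (.leaf 0x0) (.node 14735 (.leaf 0x0) (.leaf 0x1))))) (.node 14741 (.node 14738 (.node 14737 (.leaf 0x0) (.leaf 0x1)) (.node 14739 (.leaf 0x1) (.node 14740 (.leaf 0x0) (.leaf 0x0)))) (.node 14744 (.node 14742 (.leaf 0x0) (.node 14743 (.leaf 0x0) (.leaf 0x0))) (.node 14745 (.leaf 0x0) (.node 14746 (.leaf 0x1) (.leaf 0x0))))))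

def sgOS_1358 : Store := (.node 14758 (.node 14752 (.node 14749 (.node 14748 (.leaf 0x0) (.leaf 0x0)) (.node 14750 (.leaf 0x0) (.node 14751 (.leaf 0x0) (.leaf 0x0)))) (.node 14755 (.node 14753 (.leaf 0x0) (.node 14754 (.leaf 0x0) (.leaf 0x0))) (.node 14756 (.leaf 0x0) (.node 14757 (.leaf 0x0) (.leaf 0x0))))) (.node 14763 (.node 14760 (.node 14759 (.leaf 0x0) (.leaf 0x0)) (.node 14761 (.leaf 0x0) (.node 14762 (.leaf 0x0) (.leaf 0x0)))) (.node 14766 (.node 14764 (.leaf 0x0) (.node 14765 (.leaf 0x0) (.leaf 0x0))) (.node 14767 (.leaf 0x0) (.node 14768 (.leaf 0x0) (.leaf 0x0))))))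

def sgOS_1359 : Store := (.node 14747 sgOS_1357 sgOS_1358)

def sgOS_1360 : Store := (.node 14779 (.node 14774 (.node 14771 (.node 14770 (.leaf 0x0) (.leaf 0x0)) (.node 14772 (.leaf 0x101000003) (.node 14773 (.leaf 0x0) (.leaf 0x0)))) (.node 14776 (.node 14775 (.leaf 0x0) (.leaf 0x0)) (.node 14777 (.leaf 0x0) (.node 14778 (.leaf 0x1) (.leaf 0x0))))) (.node 14784 (.node 14781 (.node 14780 (.leaf 0x1) (.leaf 0x0)) (.node 14782 (.leaf 0x0) (.node 14783 (.leaf 0x0) (.leaf 0x0)))) (.node 14787 (.node 14785 (.leaf 0x0) (.node 14786 (.leaf 0x0) (.leaf 0x40001))) (.node 14788 (.leaf 0x0) (.node 14789 (.leaf 0x0) (.leaf 0x0))))))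

def sgOS_1361 : Store := (.node 14801 (.node 14795 (.node 14792 (.node 14791 (.leaf 0x0) (.leaf 0x20001)) (.node 14793 (.leaf 0x0) (.node 14794 (.leaf 0x30001) (.leaf 0x0)))) (.node 14798 (.node 14796 (.leaf 0x0) (.node 14797 (.leaf 0x0) (.leaf 0x0))) (.node 14799 (.leaf 0x30001) (.node 14800 (.leaf 0x0) (.leaf 0x10001))))) (.node 14806 (.node 14803 (.node 14802 (.leaf 0x0) (.leaf 0x0)) (.node 14804 (.leaf 0x0) (.node 14805 (.leaf 0x0) (.leaf 0x0)))) (.node 14809 (.node 14807 (.leaf 0x0) (.node 14808 (.leaf 0x0) (.leaf 0x0))) (.node 14810 (.leaf 0x0) (.node 14811 (.leaf 0x0) (.leaf 0x0))))))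

def sgOS_1362 : Store := (.node 14790 sgOS_1360 sgOS_1361)

def sgOS_1363 : Store := (.node 14769 sgOS_1359 sgOS_1362)

def sgOS_1364 : Store := (.node 14822 (.node 14817 (.node 14814 (.node 14813 (.leaf 0x0) (.leaf 0x0)) (.node 14815 (.leaf 0x201000003) (.node 14816 (.leaf 0x0) (.leaf 0x0)))) (.node 14819 (.node 14818 (.leaf 0x0) (.leaf 0x0)) (.node 14820 (.leaf 0x0) (.node 14821 (.leaf 0x0) (.leaf 0x1))))) (.node 14827 (.node 14824 (.node 14823 (.leaf 0x0) (.leaf 0x0)) (.node 14825 (.leaf 0x0) (.node 14826 (.leaf 0x0) (.leaf 0x20001)))) (.node 14830 (.node 14828 (.leaf 0x0) (.node 14829 (.leaf 0x1) (.leaf 0x0))) (.node 14831 (.leaf 0x0) (.node 14832 (.leaf 0x0) (.leaf 0x0))))))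

def sgOS_1365 : Store := (.node 14844 (.node 14838 (.node 14835 (.node 14834 (.leaf 0x0) (.leaf 0x0)) (.node 14836 (.leaf 0x0) (.node 14837 (.leaf 0x0) (.leaf 0x0)))) (.node 14841 (.node 14839 (.leaf 0x0) (.node 14840 (.leaf 0x0) (.leaf 0x0))) (.node 14842 (.leaf 0x0) (.node 14843 (.leaf 0x0) (.leaf 0x0))))) (.node 14849 (.node 14846 (.node 14845 (.leaf 0x0) (.leaf 0x0)) (.node 14847 (.leaf 0x0) (.node 14848 (.leaf 0x0) (.leaf 0x0)))) (.node 14852 (.node 14850 (.leaf 0x0) (.node 14851 (.leaf 0x0) (.leaf 0x0))) (.node 14853 (.leaf 0x0) (.node 14854 (.leaf 0x0) (.leaf 0x0))))))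

def sgOS_1366 : Store := (.node 14833 sgOS_1364 sgOS_1365)

def sgOS_1367 : Store := (.node 14866 (.node 14860 (.node 14857 (.node 14856 (.leaf 0x0) (.leaf 0x0)) (.node 14858 (.leaf 0x0) (.node 14859 (.leaf 0x0) (.leaf 0x0)))) (.node 14863 (.node 14861 (.leaf 0x0) (.node 14862 (.leaf 0x30002) (.leaf 0x0))) (.node 14864 (.leaf 0x1) (.node 14865 (.leaf 0x0) (.leaf 0x0))))) (.node 14871 (.node 14868 (.node 14867 (.leaf 0x0) (.leaf 0x0)) (.node 14869 (.leaf 0x1) (.node 14870 (.leaf 0x0) (.leaf 0x10001)))) (.node 14874 (.node 14872 (.leaf 0x0) (.node 14873 (.leaf 0x0) (.leaf 0x0))) (.node 14875 (.leaf 0x0) (.node 14876 (.leaf 0x0) (.leaf 0x0))))))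

def sgOS_1368 : Store := (.node 14888 (.node 14882 (.node 14879 (.node 14878 (.leaf 0x1) (.leaf 0x0)) (.node 14880 (.leaf 0x0) (.node 14881 (.leaf 0x0) (.leaf 0x0)))) (.node 14885 (.node 14883 (.leaf 0x1) (.node 14884 (.leaf 0x0) (.leaf 0x1))) (.node 14886 (.leaf 0x0) (.node 14887 (.leaf 0x0) (.leaf 0x0))))) (.node 14893 (.node 14890 (.node 14889 (.leaf 0x0) (.leaf 0x0)) (.node 14891 (.leaf 0x0) (.node 14892 (.leaf 0x0) (.leaf 0x0)))) (.node 14896 (.node 14894 (.leaf 0x0) (.node 14895 (.leaf 0x0) (.leaf 0x0))) (.node 14897 (.leaf 0x201000003) (.node 14898 (.leaf 0x0) (.leaf 0x30001))))))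

def sgOS_1369 : Store := (.node 14877 sgOS_1367 sgOS_1368)

def sgOS_1370 : Store := (.node 14855 sgOS_1366 sgOS_1369)

def sgOS_1371 : Store := (.node 14812 sgOS_1363 sgOS_1370)

def sgOS_1372 : Store := (.node 14726 sgOS_1356 sgOS_1371)

def sgOS_1373 : Store := (.node 14909 (.node 14904 (.node 14901 (.node 14900 (.leaf 0x0) (.leaf 0x0)) (.node 14902 (.leaf 0x0) (.node 14903 (.leaf 0x0) (.leaf 0x0)))) (.node 14906 (.node 14905 (.leaf 0x0) (.leaf 0x100010004)) (.node 14907 (.leaf 0x0) (.node 14908 (.leaf 0x0) (.leaf 0x0))))) (.node 14914 (.node 14911 (.node 14910 (.leaf 0x0) (.leaf 0x0)) (.node 14912 (.leaf 0x1) (.node 14913 (.leaf 0x0) (.leaf 0x0)))) (.node 14917 (.node 14915 (.leaf 0x0) (.node 14916 (.leaf 0x0) (.leaf 0x0))) (.node 14918 (.leaf 0x0) (.node 14919 (.leaf 0x0) (.leaf 0x0))))))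

def sgOS_1374 : Store := (.node 14931 (.node 14925 (.node 14922 (.node 14921 (.leaf 0x0) (.leaf 0x0)) (.node 14923 (.leaf 0x0) (.node 14924 (.leaf 0x0) (.leaf 0x10001)))) (.node 14928 (.node 14926 (.leaf 0x0) (.node 14927 (.leaf 0x0) (.leaf 0x0))) (.node 14929 (.leaf 0x0) (.node 14930 (.leaf 0x0) (.leaf 0x0))))) (.node 14936 (.node 14933 (.node 14932 (.leaf 0x0) (.leaf 0x0)) (.node 14934 (.leaf 0x0) (.node 14935 (.leaf 0x0) (.leaf 0x0)))) (.node 14939 (.node 14937 (.leaf 0x0) (.node 14938 (.leaf 0x0) (.leaf 0x0))) (.node 14940 (.leaf 0x10002) (.node 14941 (.leaf 0x20100000004) (.leaf 0x0))))))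

def sgOS_1375 : Store := (.node 14920 sgOS_1373 sgOS_1374)

def sgOS_1376 : Store := (.node 14952 (.node 14947 (.node 14944 (.node 14943 (.leaf 0x0) (.leaf 0x0)) (.node 14945 (.leaf 0x0) (.node 14946 (.leaf 0x10001) (.leaf 0x0)))) (.node 14949 (.node 14948 (.leaf 0x0) (.leaf 0x0)) (.node 14950 (.leaf 0x0) (.node 14951 (.leaf 0x0) (.leaf 0x0))))) (.node 14957 (.node 14954 (.node 14953 (.leaf 0x0) (.leaf 0x0)) (.node 14955 (.leaf 0x0) (.node 14956 (.leaf 0x0) (.leaf 0x0)))) (.node 14960 (.node 14958 (.leaf 0x0) (.node 14959 (.leaf 0x0) (.leaf 0x0))) (.node 14961 (.leaf 0x0) (.node 14962 (.leaf 0x0) (.leaf 0x0))))))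

def sgOS_1377 : Store := (.node 14974 (.node 14968 (.node 14965 (.node 14964 (.leaf 0x0) (.leaf 0x0)) (.node 14966 (.leaf 0x0) (.node 14967 (.leaf 0x0) (.leaf 0x0)))) (.node 14971 (.node 14969 (.leaf 0x0) (.node 14970 (.leaf 0x0) (.leaf 0x0))) (.node 14972 (.leaf 0x0) (.node 14973 (.leaf 0x0) (.leaf 0x0))))) (.node 14979 (.node 14976 (.node 14975 (.leaf 0x0) (.leaf 0x0)) (.node 14977 (.leaf 0x0) (.node 14978 (.leaf 0x0) (.leaf 0x0)))) (.node 14982 (.node 14980 (.leaf 0x0) (.node 14981 (.leaf 0x0) (.leaf 0x0))) (.node 14983 (.leaf 0x0) (.node 14984 (.leaf 0x0) (.leaf 0x0))))))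

def sgOS_1378 : Store := (.node 14963 sgOS_1376 sgOS_1377)

def sgOS_1379 : Store := (.node 14942 sgOS_1375 sgOS_1378)

def sgOS_1380 : Store := (.node 14995 (.node 14990 (.node 14987 (.node 14986 (.leaf 0x0) (.leaf 0x0)) (.node 14988 (.leaf 0x0) (.node 14989 (.leaf 0x1000002) (.leaf 0x1)))) (.node 14992 (.node 14991 (.leaf 0x0) (.leaf 0x0)) (.node 14993 (.leaf 0x0) (.node 14994 (.leaf 0x0) (.leaf 0x10001000004))))) (.node 15000 (.node 14997 (.node 14996 (.leaf 0x0) (.leaf 0x10001)) (.node 14998 (.leaf 0x0) (.node 14999 (.leaf 0x0) (.leaf 0x0)))) (.node 15003 (.node 15001 (.leaf 0x0) (.node 15002 (.leaf 0x1) (.leaf 0x1000002))) (.node 15004 (.leaf 0x0) (.node 15005 (.leaf 0x0) (.leaf 0x0))))))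

def sgOS_1381 : Store := (.node 15017 (.node 15011 (.node 15008 (.node 15007 (.leaf 0x0) (.leaf 0x0)) (.node 15009 (.leaf 0x0) (.node 15010 (.leaf 0x0) (.leaf 0x0)))) (.node 15014 (.node 15012 (.leaf 0x0) (.node 15013 (.leaf 0x0) (.leaf 0x0))) (.node 15015 (.leaf 0x0) (.node 15016 (.leaf 0x0) (.leaf 0x0))))) (.node 15022 (.node 15019 (.node 15018 (.leaf 0x0) (.leaf 0x0)) (.node 15020 (.leaf 0x0) (.node 15021 (.leaf 0x0) (.leaf 0x0)))) (.node 15025 (.node 15023 (.leaf 0x0) (.node 15024 (.leaf 0x1) (.leaf 0x0))) (.node 15026 (.leaf 0x0) (.node 15027 (.leaf 0x0) (.leaf 0x0))))))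

def sgOS_1382 : Store := (.node 15006 sgOS_1380 sgOS_1381)

def sgOS_1383 : Store := (.node 15039 (.node 15033 (.node 15030 (.node 15029 (.leaf 0x0) (.leaf 0x0)) (.node 15031 (.leaf 0x20001) (.node 15032 (.leaf 0x0) (.leaf 0x0)))) (.node 15036 (.node 15034 (.leaf 0x0) (.node 15035 (.leaf 0x0) (.leaf 0x0))) (.node 15037 (.leaf 0x1) (.node 15038 (.leaf 0x0) (.leaf 0x0))))) (.node 15044 (.node 15041 (.node 15040 (.leaf 0x0) (.leaf 0x0)) (.node 15042 (.leaf 0x0) (.node 15043 (.leaf 0x0) (.leaf 0x0)))) (.node 15047 (.node 15045 (.leaf 0x0) (.node 15046 (.leaf 0x1) (.leaf 0x0))) (.node 15048 (.leaf 0x0) (.node 15049 (.leaf 0x0) (.leaf 0x0))))))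

def sgOS_1384 : Store := (.node 15061 (.node 15055 (.node 15052 (.node 15051 (.leaf 0x1) (.leaf 0x0)) (.node 15053 (.leaf 0x0) (.node 15054 (.leaf 0x0) (.leaf 0x0)))) (.node 15058 (.node 15056 (.leaf 0x0) (.node 15057 (.leaf 0x0) (.leaf 0x0))) (.node 15059 (.leaf 0x1000002) (.node 15060 (.leaf 0x0) (.leaf 0x0))))) (.node 15066 (.node 15063 (.node 15062 (.leaf 0x0) (.leaf 0x0)) (.node 15064 (.leaf 0x0) (.node 15065 (.leaf 0x0) (.leaf 0x0)))) (.node 15069 (.node 15067 (.leaf 0x0) (.node 15068 (.leaf 0x0) (.leaf 0x0))) (.node 15070 (.leaf 0x0) (.node 15071 (.leaf 0x0) (.leaf 0x1))))))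

def sgOS_1385 : Store := (.node 15050 sgOS_1383 sgOS_1384)

def sgOS_1386 : Store := (.node 15028 sgOS_1382 sgOS_1385)

def sgOS_1387 : Store := (.node 14985 sgOS_1379 sgOS_1386)

def sgOS_1388 : Store := (.node 15082 (.node 15077 (.node 15074 (.node 15073 (.leaf 0x0) (.leaf 0x50001)) (.node 15075 (.leaf 0x0) (.node 15076 (.leaf 0x0) (.leaf 0x0)))) (.node 15079 (.node 15078 (.leaf 0x0) (.leaf 0x1)) (.node 15080 (.leaf 0x0) (.node 15081 (.leaf 0x1) (.leaf 0x0))))) (.node 15087 (.node 15084 (.node 15083 (.leaf 0x0) (.leaf 0x0)) (.node 15085 (.leaf 0x0) (.node 15086 (.leaf 0x0) (.leaf 0x1)))) (.node 15090 (.node 15088 (.leaf 0x1) (.node 15089 (.leaf 0x0) (.leaf 0x0))) (.node 15091 (.leaf 0x0) (.node 15092 (.leaf 0x0) (.leaf 0x0))))))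

def sgOS_1389 : Store := (.node 15104 (.node 15098 (.node 15095 (.node 15094 (.leaf 0x0) (.leaf 0x0)) (.node 15096 (.leaf 0x0) (.node 15097 (.leaf 0x0) (.leaf 0x0)))) (.node 15101 (.node 15099 (.leaf 0x0) (.node 15100 (.leaf 0x1000003) (.leaf 0x0))) (.node 15102 (.leaf 0x1000003) (.node 15103 (.leaf 0x0) (.leaf 0x0))))) (.node 15109 (.node 15106 (.node 15105 (.leaf 0x0) (.leaf 0x0)) (.node 15107 (.leaf 0x0) (.node 15108 (.leaf 0x1) (.leaf 0x0)))) (.node 15112 (.node 15110 (.leaf 0x0) (.node 15111 (.leaf 0x0) (.leaf 0x0))) (.node 15113 (.leaf 0x0) (.node 15114 (.leaf 0x0) (.leaf 0x0))))))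

def sgOS_1390 : Store := (.node 15093 sgOS_1388 sgOS_1389)

def sgOS_1391 : Store := (.node 15126 (.node 15120 (.node 15117 (.node 15116 (.leaf 0x0) (.leaf 0x0)) (.node 15118 (.leaf 0x0) (.node 15119 (.leaf 0x0) (.leaf 0x0)))) (.node 15123 (.node 15121 (.leaf 0x10001) (.node 15122 (.leaf 0x1000002) (.leaf 0x0))) (.node 15124 (.leaf 0x0) (.node 15125 (.leaf 0x0) (.leaf 0x0))))) (.node 15131 (.node 15128 (.node 15127 (.leaf 0x0) (.leaf 0x0)) (.node 15129 (.leaf 0x100010003) (.node 15130 (.leaf 0x0) (.leaf 0x0)))) (.node 15134 (.node 15132 (.leaf 0x0) (.node 15133 (.leaf 0x0) (.leaf 0x0))) (.node 15135 (.leaf 0x0) (.node 15136 (.leaf 0x0) (.leaf 0x1))))))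

def sgOS_1392 : Store := (.node 15148 (.node 15142 (.node 15139 (.node 15138 (.leaf 0x0) (.leaf 0x0)) (.node 15140 (.leaf 0x0) (.node 15141 (.leaf 0x0) (.leaf 0x0)))) (.node 15145 (.node 15143 (.leaf 0x0) (.node 15144 (.leaf 0x0) (.leaf 0x0))) (.node 15146 (.leaf 0x0) (.node 15147 (.leaf 0x0) (.leaf 0x0))))) (.node 15153 (.node 15150 (.node 15149 (.leaf 0x0) (.leaf 0x0)) (.node 15151 (.leaf 0x0) (.node 15152 (.leaf 0x0) (.leaf 0x0)))) (.node 15156 (.node 15154 (.leaf 0x0) (.node 15155 (.leaf 0x0) (.leaf 0x10001))) (.node 15157 (.leaf 0x0) (.node 15158 (.leaf 0x0) (.leaf 0x0))))))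

def sgOS_1393 : Store := (.node 15137 sgOS_1391 sgOS_1392)

def sgOS_1394 : Store := (.node 15115 sgOS_1390 sgOS_1393)

def sgOS_1395 : Store := (.node 15169 (.node 15164 (.node 15161 (.node 15160 (.leaf 0x0) (.leaf 0x0)) (.node 15162 (.leaf 0x0) (.node 15163 (.leaf 0x0) (.leaf 0x0)))) (.node 15166 (.node 15165 (.leaf 0x0) (.leaf 0x0)) (.node 15167 (.leaf 0x0) (.node 15168 (.leaf 0x0) (.leaf 0x0))))) (.node 15174 (.node 15171 (.node 15170 (.leaf 0x1000003) (.leaf 0x0)) (.node 15172 (.leaf 0x0) (.node 15173 (.leaf 0x0) (.leaf 0x0)))) (.node 15177 (.node 15175 (.leaf 0x0) (.node 15176 (.leaf 0x0) (.leaf 0x0))) (.node 15178 (.leaf 0x0) (.node 15179 (.leaf 0x1) (.leaf 0x0))))))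

def sgOS_1396 : Store := (.node 15191 (.node 15185 (.node 15182 (.node 15181 (.leaf 0x0) (.leaf 0x0)) (.node 15183 (.leaf 0x0) (.node 15184 (.leaf 0x0) (.leaf 0x0)))) (.node 15188 (.node 15186 (.leaf 0x0) (.node 15187 (.leaf 0x0) (.leaf 0x0))) (.node 15189 (.leaf 0x0) (.node 15190 (.leaf 0x0) (.leaf 0x0))))) (.node 15196 (.node 15193 (.node 15192 (.leaf 0x0) (.leaf 0x0)) (.node 15194 (.leaf 0x0) (.node 15195 (.leaf 0x0) (.leaf 0x0)))) (.node 15199 (.node 15197 (.leaf 0x0) (.node 15198 (.leaf 0x0) (.leaf 0x0))) (.node 15200 (.leaf 0x1) (.node 15201 (.leaf 0x0) (.leaf 0x0))))))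

def sgOS_1397 : Store := (.node 15180 sgOS_1395 sgOS_1396)

def sgOS_1398 : Store := (.node 15213 (.node 15207 (.node 15204 (.node 15203 (.leaf 0x0) (.leaf 0x0)) (.node 15205 (.leaf 0x0) (.node 15206 (.leaf 0x0) (.leaf 0x0)))) (.node 15210 (.node 15208 (.leaf 0x0) (.node 15209 (.leaf 0x0) (.leaf 0x0))) (.node 15211 (.leaf 0x0) (.node 15212 (.leaf 0x0) (.leaf 0x0))))) (.node 15218 (.node 15215 (.node 15214 (.leaf 0x1) (.leaf 0x0)) (.node 15216 (.leaf 0x0) (.node 15217 (.leaf 0x0) (.leaf 0x0)))) (.node 15221 (.node 15219 (.leaf 0x10001) (.node 15220 (.leaf 0x0) (.leaf 0x10001))) (.node 15222 (.leaf 0x0) (.node 15223 (.leaf 0x0) (.leaf 0x0))))))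

def sgOS_1399 : Store := (.node 15235 (.node 15229 (.node 15226 (.node 15225 (.leaf 0x0) (.leaf 0x0)) (.node 15227 (.leaf 0x0) (.node 15228 (.leaf 0x0) (.leaf 0x0)))) (.node 15232 (.node 15230 (.leaf 0x0) (.node 15231 (.leaf 0x0) (.leaf 0x0))) (.node 15233 (.leaf 0x20100000004) (.node 15234 (.leaf 0x1) (.leaf 0x0))))) (.node 15240 (.node 15237 (.node 15236 (.leaf 0x0) (.leaf 0x0)) (.node 15238 (.leaf 0x0) (.node 15239 (.leaf 0x0) (.leaf 0x0)))) (.node 15243 (.node 15241 (.leaf 0x0) (.node 15242 (.leaf 0x0) (.leaf 0x0))) (.node 15244 (.leaf 0x0) (.node 15245 (.leaf 0x0) (.leaf 0x0))))))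

def sgOS_1400 : Store := (.node 15224 sgOS_1398 sgOS_1399)

def sgOS_1401 : Store := (.node 15202 sgOS_1397 sgOS_1400)

def sgOS_1402 : Store := (.node 15159 sgOS_1394 sgOS_1401)

def sgOS_1403 : Store := (.node 15072 sgOS_1387 sgOS_1402)

def sgOS_1404 : Store := (.node 14899 sgOS_1372 sgOS_1403)

def sgOS_1405 : Store := (.node 14553 sgOS_1341 sgOS_1404)

def sgOS_1406 : Store := (.node 15256 (.node 15251 (.node 15248 (.node 15247 (.leaf 0x1) (.leaf 0x0)) (.node 15249 (.leaf 0x0) (.node 15250 (.leaf 0x0) (.leaf 0x0)))) (.node 15253 (.node 15252 (.leaf 0x0) (.leaf 0x0)) (.node 15254 (.leaf 0x1) (.node 15255 (.leaf 0x0) (.leaf 0x0))))) (.node 15261 (.node 15258 (.node 15257 (.leaf 0x0) (.leaf 0x0)) (.node 15259 (.leaf 0x0) (.node 15260 (.leaf 0x0) (.leaf 0x10001)))) (.node 15264 (.node 15262 (.leaf 0x1000002) (.node 15263 (.leaf 0x0) (.leaf 0x0))) (.node 15265 (.leaf 0x0) (.node 15266 (.leaf 0x0) (.leaf 0x0))))))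

def sgOS_1407 : Store := (.node 15278 (.node 15272 (.node 15269 (.node 15268 (.leaf 0x1) (.leaf 0x0)) (.node 15270 (.leaf 0x0) (.node 15271 (.leaf 0x0) (.leaf 0x0)))) (.node 15275 (.node 15273 (.leaf 0x0) (.node 15274 (.leaf 0x0) (.leaf 0x0))) (.node 15276 (.leaf 0x0) (.node 15277 (.leaf 0x0) (.leaf 0x0))))) (.node 15283 (.node 15280 (.node 15279 (.leaf 0x0) (.leaf 0x0)) (.node 15281 (.leaf 0x0) (.node 15282 (.leaf 0x0) (.leaf 0x0)))) (.node 15286 (.node 15284 (.leaf 0x0) (.node 15285 (.leaf 0x0) (.leaf 0x0))) (.node 15287 (.leaf 0x0) (.node 15288 (.leaf 0x0) (.leaf 0x0))))))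

def sgOS_1408 : Store := (.node 15267 sgOS_1406 sgOS_1407)

def sgOS_1409 : Store := (.node 15299 (.node 15294 (.node 15291 (.node 15290 (.leaf 0x1) (.leaf 0x0)) (.node 15292 (.leaf 0x0) (.node 15293 (.leaf 0x0) (.leaf 0x0)))) (.node 15296 (.node 15295 (.leaf 0x0) (.leaf 0x10001)) (.node 15297 (.leaf 0x0) (.node 15298 (.leaf 0x10001) (.leaf 0x0))))) (.node 15304 (.node 15301 (.node 15300 (.leaf 0x0) (.leaf 0x0)) (.node 15302 (.leaf 0x0) (.node 15303 (.leaf 0x0) (.leaf 0x0)))) (.node 15307 (.node 15305 (.leaf 0x0) (.node 15306 (.leaf 0x0) (.leaf 0x0))) (.node 15308 (.leaf 0x0) (.node 15309 (.leaf 0x0) (.leaf 0x0))))))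

def sgOS_1410 : Store := (.node 15321 (.node 15315 (.node 15312 (.node 15311 (.leaf 0x0) (.leaf 0x0)) (.node 15313 (.leaf 0x0) (.node 15314 (.leaf 0x0) (.leaf 0x0)))) (.node 15318 (.node 15316 (.leaf 0x0) (.node 15317 (.leaf 0x0) (.leaf 0x1))) (.node 15319 (.leaf 0x0) (.node 15320 (.leaf 0x0) (.leaf 0x0))))) (.node 15326 (.node 15323 (.node 15322 (.leaf 0x0) (.leaf 0x0)) (.node 15324 (.leaf 0x0) (.node 15325 (.leaf 0x0) (.leaf 0x0)))) (.node 15329 (.node 15327 (.leaf 0x0) (.node 15328 (.leaf 0x0) (.leaf 0x0))) (.node 15330 (.leaf 0x0) (.node 15331 (.leaf 0x0) (.leaf 0x0))))))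

def sgOS_1411 : Store := (.node 15310 sgOS_1409 sgOS_1410)

def sgOS_1412 : Store := (.node 15289 sgOS_1408 sgOS_1411)

def sgOS_1413 : Store := (.node 15342 (.node 15337 (.node 15334 (.node 15333 (.leaf 0x0) (.leaf 0x0)) (.node 15335 (.leaf 0x0) (.node 15336 (.leaf 0x0) (.leaf 0x0)))) (.node 15339 (.node 15338 (.leaf 0x0) (.leaf 0x0)) (.node 15340 (.leaf 0x0) (.node 15341 (.leaf 0x0) (.leaf 0x0))))) (.node 15347 (.node 15344 (.node 15343 (.leaf 0x0) (.leaf 0x0)) (.node 15345 (.leaf 0x0) (.node 15346 (.leaf 0x0) (.leaf 0x1)))) (.node 15350 (.node 15348 (.leaf 0x0) (.node 15349 (.leaf 0x0) (.leaf 0x0))) (.node 15351 (.leaf 0x0) (.node 15352 (.leaf 0x0) (.leaf 0x0))))))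

def sgOS_1414 : Store := (.node 15364 (.node 15358 (.node 15355 (.node 15354 (.leaf 0x1) (.leaf 0x0)) (.node 15356 (.leaf 0x0) (.node 15357 (.leaf 0x0) (.leaf 0x0)))) (.node 15361 (.node 15359 (.leaf 0x0) (.node 15360 (.leaf 0x0) (.leaf 0x0))) (.node 15362 (.leaf 0x0) (.node 15363 (.leaf 0x0) (.leaf 0x0))))) (.node 15369 (.node 15366 (.node 15365 (.leaf 0x0) (.leaf 0x1)) (.node 15367 (.leaf 0x0) (.node 15368 (.leaf 0x10001) (.leaf 0x0)))) (.node 15372 (.node 15370 (.leaf 0x0) (.node 15371 (.leaf 0x0) (.leaf 0x0))) (.node 15373 (.leaf 0x0) (.node 15374 (.leaf 0x0) (.leaf 0x1))))))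

def sgOS_1415 : Store := (.node 15353 sgOS_1413 sgOS_1414)

def sgOS_1416 : Store := (.node 15386 (.node 15380 (.node 15377 (.node 15376 (.leaf 0x0) (.leaf 0x0)) (.node 15378 (.leaf 0x0) (.node 15379 (.leaf 0x0) (.leaf 0x1)))) (.node 15383 (.node 15381 (.leaf 0x0) (.node 15382 (.leaf 0x0) (.leaf 0x0))) (.node 15384 (.leaf 0x0) (.node 15385 (.leaf 0x0) (.leaf 0x0))))) (.node 15391 (.node 15388 (.node 15387 (.leaf 0x10001000005) (.leaf 0x0)) (.node 15389 (.leaf 0x1) (.node 15390 (.leaf 0x0) (.leaf 0x0)))) (.node 15394 (.node 15392 (.leaf 0x0) (.node 15393 (.leaf 0x0) (.leaf 0x0))) (.node 15395 (.leaf 0x0) (.node 15396 (.leaf 0x0) (.leaf 0x0))))))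

def sgOS_1417 : Store := (.node 15408 (.node 15402 (.node 15399 (.node 15398 (.leaf 0x0) (.leaf 0x0)) (.node 15400 (.leaf 0x0) (.node 15401 (.leaf 0x0) (.leaf 0x1)))) (.node 15405 (.node 15403 (.leaf 0x0) (.node 15404 (.leaf 0x0) (.leaf 0x0))) (.node 15406 (.leaf 0x0) (.node 15407 (.leaf 0x0) (.leaf 0x0))))) (.node 15413 (.node 15410 (.node 15409 (.leaf 0x0) (.leaf 0x0)) (.node 15411 (.leaf 0x0) (.node 15412 (.leaf 0x0) (.leaf 0x0)))) (.node 15416 (.node 15414 (.leaf 0x0) (.node 15415 (.leaf 0x0) (.leaf 0x0))) (.node 15417 (.leaf 0x1) (.node 15418 (.leaf 0x0) (.leaf 0x0))))))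

def sgOS_1418 : Store := (.node 15397 sgOS_1416 sgOS_1417)

def sgOS_1419 : Store := (.node 15375 sgOS_1415 sgOS_1418)

def sgOS_1420 : Store := (.node 15332 sgOS_1412 sgOS_1419)

def sgOS_1421 : Store := (.node 15429 (.node 15424 (.node 15421 (.node 15420 (.leaf 0x0) (.leaf 0x0)) (.node 15422 (.leaf 0x0) (.node 15423 (.leaf 0x1) (.leaf 0x0)))) (.node 15426 (.node 15425 (.leaf 0x0) (.leaf 0x0)) (.node 15427 (.leaf 0x0) (.node 15428 (.leaf 0x0) (.leaf 0x0))))) (.node 15434 (.node 15431 (.node 15430 (.leaf 0x0) (.leaf 0x0)) (.node 15432 (.leaf 0x0) (.node 15433 (.leaf 0x0) (.leaf 0x0)))) (.node 15437 (.node 15435 (.leaf 0x0) (.node 15436 (.leaf 0x10001000005) (.leaf 0x0))) (.node 15438 (.leaf 0x10002) (.node 15439 (.leaf 0x0) (.leaf 0x0))))))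

def sgOS_1422 : Store := (.node 15451 (.node 15445 (.node 15442 (.node 15441 (.leaf 0x0) (.leaf 0x0)) (.node 15443 (.leaf 0x1) (.node 15444 (.leaf 0x0) (.leaf 0x0)))) (.node 15448 (.node 15446 (.leaf 0x0) (.node 15447 (.leaf 0x0) (.leaf 0x0))) (.node 15449 (.leaf 0x0) (.node 15450 (.leaf 0x0) (.leaf 0x0))))) (.node 15456 (.node 15453 (.node 15452 (.leaf 0x0) (.leaf 0x0)) (.node 15454 (.leaf 0x0) (.node 15455 (.leaf 0x0) (.leaf 0x0)))) (.node 15459 (.node 15457 (.leaf 0x0) (.node 15458 (.leaf 0x0) (.leaf 0x0))) (.node 15460 (.leaf 0x0) (.node 15461 (.leaf 0x0) (.leaf 0x0))))))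

def sgOS_1423 : Store := (.node 15440 sgOS_1421 sgOS_1422)

def sgOS_1424 : Store := (.node 15472 (.node 15467 (.node 15464 (.node 15463 (.leaf 0x0) (.leaf 0x10001)) (.node 15465 (.leaf 0x1000002) (.node 15466 (.leaf 0x0) (.leaf 0x0)))) (.node 15469 (.node 15468 (.leaf 0x0) (.leaf 0x0)) (.node 15470 (.leaf 0x0) (.node 15471 (.leaf 0x0) (.leaf 0x0))))) (.node 15477 (.node 15474 (.node 15473 (.leaf 0x0) (.leaf 0x0)) (.node 15475 (.leaf 0x0) (.node 15476 (.leaf 0x0) (.leaf 0x0)))) (.node 15480 (.node 15478 (.leaf 0x0) (.node 15479 (.leaf 0x0) (.leaf 0x0))) (.node 15481 (.leaf 0x0) (.node 15482 (.leaf 0x0) (.leaf 0x0))))))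

def sgOS_1425 : Store := (.node 15494 (.node 15488 (.node 15485 (.node 15484 (.leaf 0x0) (.leaf 0x0)) (.node 15486 (.leaf 0x0) (.node 15487 (.leaf 0x0) (.leaf 0x0)))) (.node 15491 (.node 15489 (.leaf 0x0) (.node 15490 (.leaf 0x0) (.leaf 0x0))) (.node 15492 (.leaf 0x0) (.node 15493 (.leaf 0x0) (.leaf 0x0))))) (.node 15499 (.node 15496 (.node 15495 (.leaf 0x0) (.leaf 0x0)) (.node 15497 (.leaf 0x0) (.node 15498 (.leaf 0x0) (.leaf 0x0)))) (.node 15502 (.node 15500 (.leaf 0x0) (.node 15501 (.leaf 0x0) (.leaf 0x0))) (.node 15503 (.leaf 0x0) (.node 15504 (.leaf 0x0) (.leaf 0x0))))))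

def sgOS_1426 : Store := (.node 15483 sgOS_1424 sgOS_1425)

def sgOS_1427 : Store := (.node 15462 sgOS_1423 sgOS_1426)

def sgOS_1428 : Store := (.node 15515 (.node 15510 (.node 15507 (.node 15506 (.leaf 0x0) (.leaf 0x1)) (.node 15508 (.leaf 0x0) (.node 15509 (.leaf 0x0) (.leaf 0x0)))) (.node 15512 (.node 15511 (.leaf 0x0) (.leaf 0x0)) (.node 15513 (.leaf 0x10001) (.node 15514 (.leaf 0x0) (.leaf 0x0))))) (.node 15520 (.node 15517 (.node 15516 (.leaf 0x0) (.leaf 0x0)) (.node 15518 (.leaf 0x0) (.node 15519 (.leaf 0x0) (.leaf 0x0)))) (.node 15523 (.node 15521 (.leaf 0x0) (.node 15522 (.leaf 0x10001) (.leaf 0x0))) (.node 15524 (.leaf 0x0) (.node 15525 (.leaf 0x0) (.leaf 0x0))))))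

def sgOS_1429 : Store := (.node 15537 (.node 15531 (.node 15528 (.node 15527 (.leaf 0x0) (.leaf 0x0)) (.node 15529 (.leaf 0x1000003) (.node 15530 (.leaf 0x0) (.leaf 0x0)))) (.node 15534 (.node 15532 (.leaf 0x0) (.node 15533 (.leaf 0x0) (.leaf 0x1))) (.node 15535 (.leaf 0x0) (.node 15536 (.leaf 0x1) (.leaf 0x0))))) (.node 15542 (.node 15539 (.node 15538 (.leaf 0x0) (.leaf 0x0)) (.node 15540 (.leaf 0x0) (.node 15541 (.leaf 0x1) (.leaf 0x0)))) (.node 15545 (.node 15543 (.leaf 0x1) (.node 15544 (.leaf 0x0) (.leaf 0x0))) (.node 15546 (.leaf 0x0) (.node 15547 (.leaf 0x0) (.leaf 0x0))))))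

def sgOS_1430 : Store := (.node 15526 sgOS_1428 sgOS_1429)

def sgOS_1431 : Store := (.node 15559 (.node 15553 (.node 15550 (.node 15549 (.leaf 0x0) (.leaf 0x0)) (.node 15551 (.leaf 0x0) (.node 15552 (.leaf 0x0) (.leaf 0x0)))) (.node 15556 (.node 15554 (.leaf 0x0) (.node 15555 (.leaf 0x1000002) (.leaf 0x0))) (.node 15557 (.leaf 0x10001000005) (.node 15558 (.leaf 0x0) (.leaf 0x0))))) (.node 15564 (.node 15561 (.node 15560 (.leaf 0x0) (.leaf 0x0)) (.node 15562 (.leaf 0x0) (.node 15563 (.leaf 0x0) (.leaf 0x0)))) (.node 15567 (.node 15565 (.leaf 0x0) (.node 15566 (.leaf 0x0) (.leaf 0x0))) (.node 15568 (.leaf 0x0) (.node 15569 (.leaf 0x1) (.leaf 0x0))))))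

def sgOS_1432 : Store := (.node 15581 (.node 15575 (.node 15572 (.node 15571 (.leaf 0x0) (.leaf 0x0)) (.node 15573 (.leaf 0x0) (.node 15574 (.leaf 0x0) (.leaf 0x0)))) (.node 15578 (.node 15576 (.leaf 0x0) (.node 15577 (.leaf 0x1) (.leaf 0x10001000005))) (.node 15579 (.leaf 0x0) (.node 15580 (.leaf 0x0) (.leaf 0x0))))) (.node 15586 (.node 15583 (.node 15582 (.leaf 0x0) (.leaf 0x0)) (.node 15584 (.leaf 0x1) (.node 15585 (.leaf 0x0) (.leaf 0x0)))) (.node 15589 (.node 15587 (.leaf 0x0) (.node 15588 (.leaf 0x0) (.leaf 0x0))) (.node 15590 (.leaf 0x0) (.node 15591 (.leaf 0x0) (.leaf 0x0))))))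

def sgOS_1433 : Store := (.node 15570 sgOS_1431 sgOS_1432)

def sgOS_1434 : Store := (.node 15548 sgOS_1430 sgOS_1433)

def sgOS_1435 : Store := (.node 15505 sgOS_1427 sgOS_1434)

def sgOS_1436 : Store := (.node 15419 sgOS_1420 sgOS_1435)

def sgOS_1437 : Store := (.node 15602 (.node 15597 (.node 15594 (.node 15593 (.leaf 0x0) (.leaf 0x0)) (.node 15595 (.leaf 0x0) (.node 15596 (.leaf 0x0) (.leaf 0x0)))) (.node 15599 (.node 15598 (.leaf 0x0) (.leaf 0x1)) (.node 15600 (.leaf 0x0) (.node 15601 (.leaf 0x0) (.leaf 0x0))))) (.node 15607 (.node 15604 (.node 15603 (.leaf 0x0) (.leaf 0x10001)) (.node 15605 (.leaf 0x0) (.node 15606 (.leaf 0x0) (.leaf 0x0)))) (.node 15610 (.node 15608 (.leaf 0x0) (.node 15609 (.leaf 0x0) (.leaf 0x0))) (.node 15611 (.leaf 0x1) (.node 15612 (.leaf 0x0) (.leaf 0x0))))))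

def sgOS_1438 : Store := (.node 15624 (.node 15618 (.node 15615 (.node 15614 (.leaf 0x0) (.leaf 0x0)) (.node 15616 (.leaf 0x0) (.node 15617 (.leaf 0x0) (.leaf 0x1)))) (.node 15621 (.node 15619 (.leaf 0x0) (.node 15620 (.leaf 0x0) (.leaf 0x0))) (.node 15622 (.leaf 0x0) (.node 15623 (.leaf 0x0) (.leaf 0x0))))) (.node 15629 (.node 15626 (.node 15625 (.leaf 0x0) (.leaf 0x0)) (.node 15627 (.leaf 0x0) (.node 15628 (.leaf 0x0) (.leaf 0x0)))) (.node 15632 (.node 15630 (.leaf 0x0) (.node 15631 (.leaf 0x0) (.leaf 0x0))) (.node 15633 (.leaf 0x0) (.node 15634 (.leaf 0x0) (.leaf 0x0))))))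

def sgOS_1439 : Store := (.node 15613 sgOS_1437 sgOS_1438)

def sgOS_1440 : Store := (.node 15645 (.node 15640 (.node 15637 (.node 15636 (.leaf 0x0) (.leaf 0x0)) (.node 15638 (.leaf 0x0) (.node 15639 (.leaf 0x0) (.leaf 0x0)))) (.node 15642 (.node 15641 (.leaf 0x0) (.leaf 0x0)) (.node 15643 (.leaf 0x0) (.node 15644 (.leaf 0x0) (.leaf 0x0))))) (.node 15650 (.node 15647 (.node 15646 (.leaf 0x0) (.leaf 0x1)) (.node 15648 (.leaf 0x0) (.node 15649 (.leaf 0x0) (.leaf 0x0)))) (.node 15653 (.node 15651 (.leaf 0x0) (.node 15652 (.leaf 0x0) (.leaf 0x0))) (.node 15654 (.leaf 0x0) (.node 15655 (.leaf 0x0) (.leaf 0x0))))))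

def sgOS_1441 : Store := (.node 15667 (.node 15661 (.node 15658 (.node 15657 (.leaf 0x0) (.leaf 0x0)) (.node 15659 (.leaf 0x0) (.node 15660 (.leaf 0x1) (.leaf 0x0)))) (.node 15664 (.node 15662 (.leaf 0x0) (.node 15663 (.leaf 0x0) (.leaf 0x0))) (.node 15665 (.leaf 0x0) (.node 15666 (.leaf 0x0) (.leaf 0x1))))) (.node 15672 (.node 15669 (.node 15668 (.leaf 0x0) (.leaf 0x0)) (.node 15670 (.leaf 0x0) (.node 15671 (.leaf 0x0) (.leaf 0x0)))) (.node 15675 (.node 15673 (.leaf 0x0) (.node 15674 (.leaf 0x0) (.leaf 0x0))) (.node 15676 (.leaf 0x0) (.node 15677 (.leaf 0x0) (.leaf 0x0))))))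

def sgOS_1442 : Store := (.node 15656 sgOS_1440 sgOS_1441)

def sgOS_1443 : Store := (.node 15635 sgOS_1439 sgOS_1442)

def sgOS_1444 : Store := (.node 15688 (.node 15683 (.node 15680 (.node 15679 (.leaf 0x0) (.leaf 0x0)) (.node 15681 (.leaf 0x0) (.node 15682 (.leaf 0x0) (.leaf 0x0)))) (.node 15685 (.node 15684 (.leaf 0x0) (.leaf 0x0)) (.node 15686 (.leaf 0x0) (.node 15687 (.leaf 0x0) (.leaf 0x0))))) (.node 15693 (.node 15690 (.node 15689 (.leaf 0x0) (.leaf 0x0)) (.node 15691 (.leaf 0x0) (.node 15692 (.leaf 0x0) (.leaf 0x0)))) (.node 15696 (.node 15694 (.leaf 0x0) (.node 15695 (.leaf 0x0) (.leaf 0x0))) (.node 15697 (.leaf 0x1) (.node 15698 (.leaf 0x0) (.leaf 0x0))))))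

def sgOS_1445 : Store := (.node 15710 (.node 15704 (.node 15701 (.node 15700 (.leaf 0x0) (.leaf 0x0)) (.node 15702 (.leaf 0x0) (.node 15703 (.leaf 0x0) (.leaf 0x0)))) (.node 15707 (.node 15705 (.leaf 0x0) (.node 15706 (.leaf 0x0) (.leaf 0x0))) (.node 15708 (.leaf 0x0) (.node 15709 (.leaf 0x1) (.leaf 0x0))))) (.node 15715 (.node 15712 (.node 15711 (.leaf 0x0) (.leaf 0x0)) (.node 15713 (.leaf 0x0) (.node 15714 (.leaf 0x0) (.leaf 0x0)))) (.node 15718 (.node 15716 (.leaf 0x0) (.node 15717 (.leaf 0x0) (.leaf 0x1))) (.node 15719 (.leaf 0x0) (.node 15720 (.leaf 0x0) (.leaf 0x0))))))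

def sgOS_1446 : Store := (.node 15699 sgOS_1444 sgOS_1445)

def sgOS_1447 : Store := (.node 15732 (.node 15726 (.node 15723 (.node 15722 (.leaf 0x0) (.leaf 0x0)) (.node 15724 (.leaf 0x0) (.node 15725 (.leaf 0x0) (.leaf 0x0)))) (.node 15729 (.node 15727 (.leaf 0x0) (.node 15728 (.leaf 0x0) (.leaf 0x0))) (.node 15730 (.leaf 0x0) (.node 15731 (.leaf 0x1) (.leaf 0x0))))) (.node 15737 (.node 15734 (.node 15733 (.leaf 0x0) (.leaf 0x0)) (.node 15735 (.leaf 0x0) (.node 15736 (.leaf 0x0) (.leaf 0x0)))) (.node 15740 (.node 15738 (.leaf 0x0) (.node 15739 (.leaf 0x1) (.leaf 0x0))) (.node 15741 (.leaf 0x0) (.node 15742 (.leaf 0x0) (.leaf 0x0))))))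

def sgOS_1448 : Store := (.node 15754 (.node 15748 (.node 15745 (.node 15744 (.leaf 0x0) (.leaf 0x0)) (.node 15746 (.leaf 0x0) (.node 15747 (.leaf 0x0) (.leaf 0x0)))) (.node 15751 (.node 15749 (.leaf 0x0) (.node 15750 (.leaf 0x0) (.leaf 0x0))) (.node 15752 (.leaf 0x0) (.node 15753 (.leaf 0x0) (.leaf 0x0))))) (.node 15759 (.node 15756 (.node 15755 (.leaf 0x0) (.leaf 0x0)) (.node 15757 (.leaf 0x0) (.node 15758 (.leaf 0x0) (.leaf 0x0)))) (.node 15762 (.node 15760 (.leaf 0x0) (.node 15761 (.leaf 0x0) (.leaf 0x0))) (.node 15763 (.leaf 0x0) (.node 15764 (.leaf 0x0) (.leaf 0x0))))))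

def sgOS_1449 : Store := (.node 15743 sgOS_1447 sgOS_1448)

def sgOS_1450 : Store := (.node 15721 sgOS_1446 sgOS_1449)

def sgOS_1451 : Store := (.node 15678 sgOS_1443 sgOS_1450)

def sgOS_1452 : Store := (.node 15775 (.node 15770 (.node 15767 (.node 15766 (.leaf 0x0) (.leaf 0x0)) (.node 15768 (.leaf 0x0) (.node 15769 (.leaf 0x0) (.leaf 0x0)))) (.node 15772 (.node 15771 (.leaf 0x0) (.leaf 0x0)) (.node 15773 (.leaf 0x0) (.node 15774 (.leaf 0x10001) (.leaf 0x0))))) (.node 15780 (.node 15777 (.node 15776 (.leaf 0x0) (.leaf 0x0)) (.node 15778 (.leaf 0x0) (.node 15779 (.leaf 0x0) (.leaf 0x0)))) (.node 15783 (.node 15781 (.leaf 0x0) (.node 15782 (.leaf 0x0) (.leaf 0x0))) (.node 15784 (.leaf 0x0) (.node 15785 (.leaf 0x0) (.leaf 0x0))))))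

def sgOS_1453 : Store := (.node 15797 (.node 15791 (.node 15788 (.node 15787 (.leaf 0x0) (.leaf 0x0)) (.node 15789 (.leaf 0x0) (.node 15790 (.leaf 0x0) (.leaf 0x0)))) (.node 15794 (.node 15792 (.leaf 0x0) (.node 15793 (.leaf 0x0) (.leaf 0x0))) (.node 15795 (.leaf 0x0) (.node 15796 (.leaf 0x0) (.leaf 0x0))))) (.node 15802 (.node 15799 (.node 15798 (.leaf 0x0) (.leaf 0x0)) (.node 15800 (.leaf 0x0) (.node 15801 (.leaf 0x0) (.leaf 0x0)))) (.node 15805 (.node 15803 (.leaf 0x0) (.node 15804 (.leaf 0x0) (.leaf 0x0))) (.node 15806 (.leaf 0x0) (.node 15807 (.leaf 0x1) (.leaf 0x0))))))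

def sgOS_1454 : Store := (.node 15786 sgOS_1452 sgOS_1453)

def sgOS_1455 : Store := (.node 15819 (.node 15813 (.node 15810 (.node 15809 (.leaf 0x0) (.leaf 0x0)) (.node 15811 (.leaf 0x0) (.node 15812 (.leaf 0x0) (.leaf 0x0)))) (.node 15816 (.node 15814 (.leaf 0x0) (.node 15815 (.leaf 0x0) (.leaf 0x0))) (.node 15817 (.leaf 0x0) (.node 15818 (.leaf 0x0) (.leaf 0x0))))) (.node 15824 (.node 15821 (.node 15820 (.leaf 0x0) (.leaf 0x0)) (.node 15822 (.leaf 0x0) (.node 15823 (.leaf 0x20100000004) (.leaf 0x0)))) (.node 15827 (.node 15825 (.leaf 0x0) (.node 15826 (.leaf 0x0) (.leaf 0x0))) (.node 15828 (.leaf 0x0) (.node 15829 (.leaf 0x0) (.leaf 0x0))))))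

def sgOS_1456 : Store := (.node 15841 (.node 15835 (.node 15832 (.node 15831 (.leaf 0x0) (.leaf 0x0)) (.node 15833 (.leaf 0x0) (.node 15834 (.leaf 0x0) (.leaf 0x0)))) (.node 15838 (.node 15836 (.leaf 0x0) (.node 15837 (.leaf 0x0) (.leaf 0x0))) (.node 15839 (.leaf 0x0) (.node 15840 (.leaf 0x0) (.leaf 0x0))))) (.node 15846 (.node 15843 (.node 15842 (.leaf 0x0) (.leaf 0x0)) (.node 15844 (.leaf 0x0) (.node 15845 (.leaf 0x0) (.leaf 0x0)))) (.node 15849 (.node 15847 (.leaf 0x0) (.node 15848 (.leaf 0x0) (.leaf 0x1))) (.node 15850 (.leaf 0x1000002) (.node 15851 (.leaf 0x0) (.leaf 0x0))))))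

def sgOS_1457 : Store := (.node 15830 sgOS_1455 sgOS_1456)

def sgOS_1458 : Store := (.node 15808 sgOS_1454 sgOS_1457)

def sgOS_1459 : Store := (.node 15862 (.node 15857 (.node 15854 (.node 15853 (.leaf 0x0) (.leaf 0x0)) (.node 15855 (.leaf 0x0) (.node 15856 (.leaf 0x0) (.leaf 0x0)))) (.node 15859 (.node 15858 (.leaf 0x0) (.leaf 0x0)) (.node 15860 (.leaf 0x0) (.node 15861 (.leaf 0x0) (.leaf 0x0))))) (.node 15867 (.node 15864 (.node 15863 (.leaf 0x0) (.leaf 0x0)) (.node 15865 (.leaf 0x0) (.node 15866 (.leaf 0x0) (.leaf 0x0)))) (.node 15870 (.node 15868 (.leaf 0x0) (.node 15869 (.leaf 0x0) (.leaf 0x0))) (.node 15871 (.leaf 0x0) (.node 15872 (.leaf 0x1) (.leaf 0x0))))))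

def sgOS_1460 : Store := (.node 15884 (.node 15878 (.node 15875 (.node 15874 (.leaf 0x0) (.leaf 0x0)) (.node 15876 (.leaf 0x0) (.node 15877 (.leaf 0x1000002) (.leaf 0x0)))) (.node 15881 (.node 15879 (.leaf 0x0) (.node 15880 (.leaf 0x0) (.leaf 0x0))) (.node 15882 (.leaf 0x0) (.node 15883 (.leaf 0x0) (.leaf 0x0))))) (.node 15889 (.node 15886 (.node 15885 (.leaf 0x0) (.leaf 0x0)) (.node 15887 (.leaf 0x0) (.node 15888 (.leaf 0x0) (.leaf 0x0)))) (.node 15892 (.node 15890 (.leaf 0x0) (.node 15891 (.leaf 0x0) (.leaf 0x0))) (.node 15893 (.leaf 0x0) (.node 15894 (.leaf 0x0) (.leaf 0x0))))))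

def sgOS_1461 : Store := (.node 15873 sgOS_1459 sgOS_1460)

def sgOS_1462 : Store := (.node 15906 (.node 15900 (.node 15897 (.node 15896 (.leaf 0x0) (.leaf 0x0)) (.node 15898 (.leaf 0x0) (.node 15899 (.leaf 0x0) (.leaf 0x0)))) (.node 15903 (.node 15901 (.leaf 0x0) (.node 15902 (.leaf 0x0) (.leaf 0x0))) (.node 15904 (.leaf 0x0) (.node 15905 (.leaf 0x0) (.leaf 0x0))))) (.node 15911 (.node 15908 (.node 15907 (.leaf 0x10001) (.leaf 0x0)) (.node 15909 (.leaf 0x0) (.node 15910 (.leaf 0x0) (.leaf 0x0)))) (.node 15914 (.node 15912 (.leaf 0x1) (.node 15913 (.leaf 0x0) (.leaf 0x0))) (.node 15915 (.leaf 0x0) (.node 15916 (.leaf 0x0) (.leaf 0x0))))))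

def sgOS_1463 : Store := (.node 15928 (.node 15922 (.node 15919 (.node 15918 (.leaf 0x0) (.leaf 0x0)) (.node 15920 (.leaf 0x0) (.node 15921 (.leaf 0x0) (.leaf 0x0)))) (.node 15925 (.node 15923 (.leaf 0x0) (.node 15924 (.leaf 0x0) (.leaf 0x0))) (.node 15926 (.leaf 0x0) (.node 15927 (.leaf 0x0) (.leaf 0x0))))) (.node 15933 (.node 15930 (.node 15929 (.leaf 0x0) (.leaf 0x0)) (.node 15931 (.leaf 0x0) (.node 15932 (.leaf 0x0) (.leaf 0x0)))) (.node 15936 (.node 15934 (.leaf 0x1) (.node 15935 (.leaf 0x0) (.leaf 0x0))) (.node 15937 (.leaf 0x0) (.node 15938 (.leaf 0x0) (.leaf 0x0))))))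

def sgOS_1464 : Store := (.node 15917 sgOS_1462 sgOS_1463)

def sgOS_1465 : Store := (.node 15895 sgOS_1461 sgOS_1464)

def sgOS_1466 : Store := (.node 15852 sgOS_1458 sgOS_1465)

def sgOS_1467 : Store := (.node 15765 sgOS_1451 sgOS_1466)

def sgOS_1468 : Store := (.node 15592 sgOS_1436 sgOS_1467)

def sgOS_1469 : Store := (.node 15949 (.node 15944 (.node 15941 (.node 15940 (.leaf 0x0) (.leaf 0x0)) (.node 15942 (.leaf 0x1) (.node 15943 (.leaf 0x0) (.leaf 0x0)))) (.node 15946 (.node 15945 (.leaf 0x0) (.leaf 0x0)) (.node 15947 (.leaf 0x0) (.node 15948 (.leaf 0x1000002) (.leaf 0x100000003))))) (.node 15954 (.node 15951 (.node 15950 (.leaf 0x0) (.leaf 0x0)) (.node 15952 (.leaf 0x0) (.node 15953 (.leaf 0x0) (.leaf 0x0)))) (.node 15957 (.node 15955 (.leaf 0x0) (.node 15956 (.leaf 0x0) (.leaf 0x0))) (.node 15958 (.leaf 0x0) (.node 15959 (.leaf 0x0) (.leaf 0x0))))))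

def sgOS_1470 : Store := (.node 15971 (.node 15965 (.node 15962 (.node 15961 (.leaf 0x1) (.leaf 0x0)) (.node 15963 (.leaf 0x1) (.node 15964 (.leaf 0x0) (.leaf 0x0)))) (.node 15968 (.node 15966 (.leaf 0x0) (.node 15967 (.leaf 0x0) (.leaf 0x0))) (.node 15969 (.leaf 0x0) (.node 15970 (.leaf 0x1) (.leaf 0x0))))) (.node 15976 (.node 15973 (.node 15972 (.leaf 0x0) (.leaf 0x0)) (.node 15974 (.leaf 0x0) (.node 15975 (.leaf 0x0) (.leaf 0x0)))) (.node 15979 (.node 15977 (.leaf 0x0) (.node 15978 (.leaf 0x0) (.leaf 0x0))) (.node 15980 (.leaf 0x0) (.node 15981 (.leaf 0x0) (.leaf 0x0))))))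

def sgOS_1471 : Store := (.node 15960 sgOS_1469 sgOS_1470)

def sgOS_1472 : Store := (.node 15992 (.node 15987 (.node 15984 (.node 15983 (.leaf 0x0) (.leaf 0x0)) (.node 15985 (.leaf 0x0) (.node 15986 (.leaf 0x0) (.leaf 0x0)))) (.node 15989 (.node 15988 (.leaf 0x0) (.leaf 0x0)) (.node 15990 (.leaf 0x0) (.node 15991 (.leaf 0x0) (.leaf 0x0))))) (.node 15997 (.node 15994 (.node 15993 (.leaf 0x0) (.leaf 0x0)) (.node 15995 (.leaf 0x0) (.node 15996 (.leaf 0x0) (.leaf 0x0)))) (.node 16000 (.node 15998 (.leaf 0x0) (.node 15999 (.leaf 0x0) (.leaf 0x0))) (.node 16001 (.leaf 0x0) (.node 16002 (.leaf 0x0) (.leaf 0x0))))))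

def sgOS_1473 : Store := (.node 16014 (.node 16008 (.node 16005 (.node 16004 (.leaf 0x0) (.leaf 0x0)) (.node 16006 (.leaf 0x0) (.node 16007 (.leaf 0x0) (.leaf 0x0)))) (.node 16011 (.node 16009 (.leaf 0x0) (.node 16010 (.leaf 0x0) (.leaf 0x0))) (.node 16012 (.leaf 0x0) (.node 16013 (.leaf 0x0) (.leaf 0x0))))) (.node 16019 (.node 16016 (.node 16015 (.leaf 0x0) (.leaf 0x0)) (.node 16017 (.leaf 0x0) (.node 16018 (.leaf 0x0) (.leaf 0x0)))) (.node 16022 (.node 16020 (.leaf 0x0) (.node 16021 (.leaf 0x0) (.leaf 0x0))) (.node 16023 (.leaf 0x0) (.node 16024 (.leaf 0x0) (.leaf 0x0))))))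

def sgOS_1474 : Store := (.node 16003 sgOS_1472 sgOS_1473)

def sgOS_1475 : Store := (.node 15982 sgOS_1471 sgOS_1474)

def sgOS_1476 : Store := (.node 16035 (.node 16030 (.node 16027 (.node 16026 (.leaf 0x0) (.leaf 0x0)) (.node 16028 (.leaf 0x0) (.node 16029 (.leaf 0x0) (.leaf 0x0)))) (.node 16032 (.node 16031 (.leaf 0x0) (.leaf 0x0)) (.node 16033 (.leaf 0x1) (.node 16034 (.leaf 0x0) (.leaf 0x0))))) (.node 16040 (.node 16037 (.node 16036 (.leaf 0x0) (.leaf 0x0)) (.node 16038 (.leaf 0x0) (.node 16039 (.leaf 0x0) (.leaf 0x0)))) (.node 16043 (.node 16041 (.leaf 0x0) (.node 16042 (.leaf 0x0) (.leaf 0x0))) (.node 16044 (.leaf 0x0) (.node 16045 (.leaf 0x0) (.leaf 0x0))))))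

def sgOS_1477 : Store := (.node 16057 (.node 16051 (.node 16048 (.node 16047 (.leaf 0x1) (.leaf 0x0)) (.node 16049 (.leaf 0x0) (.node 16050 (.leaf 0x0) (.leaf 0x0)))) (.node 16054 (.node 16052 (.leaf 0x0) (.node 16053 (.leaf 0x0) (.leaf 0x0))) (.node 16055 (.leaf 0x0) (.node 16056 (.leaf 0x0) (.leaf 0x0))))) (.node 16062 (.node 16059 (.node 16058 (.leaf 0x0) (.leaf 0x0)) (.node 16060 (.leaf 0x0) (.node 16061 (.leaf 0x0) (.leaf 0x0)))) (.node 16065 (.node 16063 (.leaf 0x0) (.node 16064 (.leaf 0x0) (.leaf 0x0))) (.node 16066 (.leaf 0x10001) (.node 16067 (.leaf 0x0) (.leaf 0x10001))))))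

def sgOS_1478 : Store := (.node 16046 sgOS_1476 sgOS_1477)

def sgOS_1479 : Store := (.node 16079 (.node 16073 (.node 16070 (.node 16069 (.leaf 0x0) (.leaf 0x0)) (.node 16071 (.leaf 0x0) (.node 16072 (.leaf 0x0) (.leaf 0x0)))) (.node 16076 (.node 16074 (.leaf 0x0) (.node 16075 (.leaf 0x0) (.leaf 0x0))) (.node 16077 (.leaf 0x0) (.node 16078 (.leaf 0x0) (.leaf 0x0))))) (.node 16084 (.node 16081 (.node 16080 (.leaf 0x0) (.leaf 0x0)) (.node 16082 (.leaf 0x0) (.node 16083 (.leaf 0x0) (.leaf 0x0)))) (.node 16087 (.node 16085 (.leaf 0x0) (.node 16086 (.leaf 0x0) (.leaf 0x0))) (.node 16088 (.leaf 0x0) (.node 16089 (.leaf 0x0) (.leaf 0x0))))))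

def sgOS_1480 : Store := (.node 16101 (.node 16095 (.node 16092 (.node 16091 (.leaf 0x0) (.leaf 0x0)) (.node 16093 (.leaf 0x0) (.node 16094 (.leaf 0x0) (.leaf 0x0)))) (.node 16098 (.node 16096 (.leaf 0x0) (.node 16097 (.leaf 0x0) (.leaf 0x0))) (.node 16099 (.leaf 0x0) (.node 16100 (.leaf 0x0) (.leaf 0x0))))) (.node 16106 (.node 16103 (.node 16102 (.leaf 0x0) (.leaf 0x0)) (.node 16104 (.leaf 0x0) (.node 16105 (.leaf 0x0) (.leaf 0x0)))) (.node 16109 (.node 16107 (.leaf 0x0) (.node 16108 (.leaf 0x0) (.leaf 0x0))) (.node 16110 (.leaf 0x0) (.node 16111 (.leaf 0x0) (.leaf 0x0))))))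

def sgOS_1481 : Store := (.node 16090 sgOS_1479 sgOS_1480)

def sgOS_1482 : Store := (.node 16068 sgOS_1478 sgOS_1481)

def sgOS_1483 : Store := (.node 16025 sgOS_1475 sgOS_1482)

def sgOS_1484 : Store := (.node 16122 (.node 16117 (.node 16114 (.node 16113 (.leaf 0x0) (.leaf 0x0)) (.node 16115 (.leaf 0x0) (.node 16116 (.leaf 0x0) (.leaf 0x0)))) (.node 16119 (.node 16118 (.leaf 0x0) (.leaf 0x0)) (.node 16120 (.leaf 0x0) (.node 16121 (.leaf 0x0) (.leaf 0x0))))) (.node 16127 (.node 16124 (.node 16123 (.leaf 0x10002) (.leaf 0x0)) (.node 16125 (.leaf 0x0) (.node 16126 (.leaf 0x0) (.leaf 0x0)))) (.node 16130 (.node 16128 (.leaf 0x0) (.node 16129 (.leaf 0x0) (.leaf 0x0))) (.node 16131 (.leaf 0x0) (.node 16132 (.leaf 0x0) (.leaf 0x0))))))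

def sgOS_1485 : Store := (.node 16144 (.node 16138 (.node 16135 (.node 16134 (.leaf 0x0) (.leaf 0x0)) (.node 16136 (.leaf 0x0) (.node 16137 (.leaf 0x0) (.leaf 0x0)))) (.node 16141 (.node 16139 (.leaf 0x0) (.node 16140 (.leaf 0x0) (.leaf 0x0))) (.node 16142 (.leaf 0x0) (.node 16143 (.leaf 0x1) (.leaf 0x0))))) (.node 16149 (.node 16146 (.node 16145 (.leaf 0x0) (.leaf 0x0)) (.node 16147 (.leaf 0x0) (.node 16148 (.leaf 0x0) (.leaf 0x0)))) (.node 16152 (.node 16150 (.leaf 0x0) (.node 16151 (.leaf 0x1) (.leaf 0x0))) (.node 16153 (.leaf 0x0) (.node 16154 (.leaf 0x0) (.leaf 0x0))))))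

def sgOS_1486 : Store := (.node 16133 sgOS_1484 sgOS_1485)

def sgOS_1487 : Store := (.node 16165 (.node 16160 (.node 16157 (.node 16156 (.leaf 0x0) (.leaf 0x0)) (.node 16158 (.leaf 0x1000002) (.node 16159 (.leaf 0x0) (.leaf 0x0)))) (.node 16162 (.node 16161 (.leaf 0x0) (.leaf 0x0)) (.node 16163 (.leaf 0x0) (.node 16164 (.leaf 0x0) (.leaf 0x1))))) (.node 16170 (.node 16167 (.node 16166 (.leaf 0x1000003) (.leaf 0x0)) (.node 16168 (.leaf 0x0) (.node 16169 (.leaf 0x0) (.leaf 0x0)))) (.node 16173 (.node 16171 (.leaf 0x0) (.node 16172 (.leaf 0x0) (.leaf 0x0))) (.node 16174 (.leaf 0x0) (.node 16175 (.leaf 0x0) (.leaf 0x0))))))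

def sgOS_1488 : Store := (.node 16187 (.node 16181 (.node 16178 (.node 16177 (.leaf 0x0) (.leaf 0x0)) (.node 16179 (.leaf 0x0) (.node 16180 (.leaf 0x0) (.leaf 0x0)))) (.node 16184 (.node 16182 (.leaf 0x0) (.node 16183 (.leaf 0x0) (.leaf 0x0))) (.node 16185 (.leaf 0x0) (.node 16186 (.leaf 0x0) (.leaf 0x10001))))) (.node 16192 (.node 16189 (.node 16188 (.leaf 0x0) (.leaf 0x0)) (.node 16190 (.leaf 0x0) (.node 16191 (.leaf 0x0) (.leaf 0x0)))) (.node 16195 (.node 16193 (.leaf 0x0) (.node 16194 (.leaf 0x0) (.leaf 0x0))) (.node 16196 (.leaf 0x0) (.node 16197 (.leaf 0x0) (.leaf 0x0))))))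

def sgOS_1489 : Store := (.node 16176 sgOS_1487 sgOS_1488)

def sgOS_1490 : Store := (.node 16155 sgOS_1486 sgOS_1489)

def sgOS_1491 : Store := (.node 16208 (.node 16203 (.node 16200 (.node 16199 (.leaf 0x0) (.leaf 0x0)) (.node 16201 (.leaf 0x0) (.node 16202 (.leaf 0x0) (.leaf 0x0)))) (.node 16205 (.node 16204 (.leaf 0x0) (.leaf 0x0)) (.node 16206 (.leaf 0x0) (.node 16207 (.leaf 0x0) (.leaf 0x0))))) (.node 16213 (.node 16210 (.node 16209 (.leaf 0x0) (.leaf 0x0)) (.node 16211 (.leaf 0x0) (.node 16212 (.leaf 0x0) (.leaf 0x0)))) (.node 16216 (.node 16214 (.leaf 0x0) (.node 16215 (.leaf 0x0) (.leaf 0x0))) (.node 16217 (.leaf 0x0) (.node 16218 (.leaf 0x0) (.leaf 0x0))))))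

def sgOS_1492 : Store := (.node 16230 (.node 16224 (.node 16221 (.node 16220 (.leaf 0x10001) (.leaf 0x0)) (.node 16222 (.leaf 0x10001) (.node 16223 (.leaf 0x0) (.leaf 0x0)))) (.node 16227 (.node 16225 (.leaf 0x0) (.node 16226 (.leaf 0x0) (.leaf 0x0))) (.node 16228 (.leaf 0x0) (.node 16229 (.leaf 0x0) (.leaf 0x0))))) (.node 16235 (.node 16232 (.node 16231 (.leaf 0x0) (.leaf 0x0)) (.node 16233 (.leaf 0x0) (.node 16234 (.leaf 0x1) (.leaf 0x0)))) (.node 16238 (.node 16236 (.leaf 0x0) (.node 16237 (.leaf 0x0) (.leaf 0x0))) (.node 16239 (.leaf 0x0) (.node 16240 (.leaf 0x0) (.leaf 0x0))))))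

def sgOS_1493 : Store := (.node 16219 sgOS_1491 sgOS_1492)

def sgOS_1494 : Store := (.node 16252 (.node 16246 (.node 16243 (.node 16242 (.leaf 0x0) (.leaf 0x0)) (.node 16244 (.leaf 0x0) (.node 16245 (.leaf 0x0) (.leaf 0x0)))) (.node 16249 (.node 16247 (.leaf 0x0) (.node 16248 (.leaf 0x1) (.leaf 0x0))) (.node 16250 (.leaf 0x0) (.node 16251 (.leaf 0x0) (.leaf 0x0))))) (.node 16257 (.node 16254 (.node 16253 (.leaf 0x0) (.leaf 0x0)) (.node 16255 (.leaf 0x0) (.node 16256 (.leaf 0x0) (.leaf 0x0)))) (.node 16260 (.node 16258 (.leaf 0x0) (.node 16259 (.leaf 0x0) (.leaf 0x0))) (.node 16261 (.leaf 0x0) (.node 16262 (.leaf 0x0) (.leaf 0x0))))))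

def sgOS_1495 : Store := (.node 16274 (.node 16268 (.node 16265 (.node 16264 (.leaf 0x0) (.leaf 0x0)) (.node 16266 (.leaf 0x0) (.node 16267 (.leaf 0x0) (.leaf 0x0)))) (.node 16271 (.node 16269 (.leaf 0x0) (.node 16270 (.leaf 0x0) (.leaf 0x1))) (.node 16272 (.leaf 0x0) (.node 16273 (.leaf 0x0) (.leaf 0x0))))) (.node 16279 (.node 16276 (.node 16275 (.leaf 0x0) (.leaf 0x0)) (.node 16277 (.leaf 0x0) (.node 16278 (.leaf 0x0) (.leaf 0x0)))) (.node 16282 (.node 16280 (.leaf 0x0) (.node 16281 (.leaf 0x0) (.leaf 0x0))) (.node 16283 (.leaf 0x0) (.node 16284 (.leaf 0x0) (.leaf 0x0))))))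

def sgOS_1496 : Store := (.node 16263 sgOS_1494 sgOS_1495)

def sgOS_1497 : Store := (.node 16241 sgOS_1493 sgOS_1496)

def sgOS_1498 : Store := (.node 16198 sgOS_1490 sgOS_1497)

def sgOS_1499 : Store := (.node 16112 sgOS_1483 sgOS_1498)

def sgOS_1500 : Store := (.node 16295 (.node 16290 (.node 16287 (.node 16286 (.leaf 0x0) (.leaf 0x0)) (.node 16288 (.leaf 0x0) (.node 16289 (.leaf 0x0) (.leaf 0x0)))) (.node 16292 (.node 16291 (.leaf 0x0) (.leaf 0x0)) (.node 16293 (.leaf 0x0) (.node 16294 (.leaf 0x0) (.leaf 0x0))))) (.node 16300 (.node 16297 (.node 16296 (.leaf 0x0) (.leaf 0x1)) (.node 16298 (.leaf 0x0) (.node 16299 (.leaf 0x0) (.leaf 0x0)))) (.node 16303 (.node 16301 (.leaf 0x0) (.node 16302 (.leaf 0x0) (.leaf 0x0))) (.node 16304 (.leaf 0x10001) (.node 16305 (.leaf 0x0) (.leaf 0x0))))))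

def sgOS_1501 : Store := (.node 16317 (.node 16311 (.node 16308 (.node 16307 (.leaf 0x0) (.leaf 0x0)) (.node 16309 (.leaf 0x0) (.node 16310 (.leaf 0x0) (.leaf 0x0)))) (.node 16314 (.node 16312 (.leaf 0x0) (.node 16313 (.leaf 0x1) (.leaf 0x0))) (.node 16315 (.leaf 0x0) (.node 16316 (.leaf 0x0) (.leaf 0x0))))) (.node 16322 (.node 16319 (.node 16318 (.leaf 0x0) (.leaf 0x0)) (.node 16320 (.leaf 0x0) (.node 16321 (.leaf 0x0) (.leaf 0x0)))) (.node 16325 (.node 16323 (.leaf 0x0) (.node 16324 (.leaf 0x0) (.leaf 0x0))) (.node 16326 (.leaf 0x0) (.node 16327 (.leaf 0x0) (.leaf 0x0))))))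

def sgOS_1502 : Store := (.node 16306 sgOS_1500 sgOS_1501)

def sgOS_1503 : Store := (.node 16338 (.node 16333 (.node 16330 (.node 16329 (.leaf 0x0) (.leaf 0x0)) (.node 16331 (.leaf 0x0) (.node 16332 (.leaf 0x1) (.leaf 0x0)))) (.node 16335 (.node 16334 (.leaf 0x0) (.leaf 0x0)) (.node 16336 (.leaf 0x0) (.node 16337 (.leaf 0x0) (.leaf 0x0))))) (.node 16343 (.node 16340 (.node 16339 (.leaf 0x0) (.leaf 0x0)) (.node 16341 (.leaf 0x0) (.node 16342 (.leaf 0x0) (.leaf 0x0)))) (.node 16346 (.node 16344 (.leaf 0x0) (.node 16345 (.leaf 0x0) (.leaf 0x0))) (.node 16347 (.leaf 0x0) (.node 16348 (.leaf 0x0) (.leaf 0x0))))))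

def sgOS_1504 : Store := (.node 16360 (.node 16354 (.node 16351 (.node 16350 (.leaf 0x0) (.leaf 0x0)) (.node 16352 (.leaf 0x0) (.node 16353 (.leaf 0x1) (.leaf 0x0)))) (.node 16357 (.node 16355 (.leaf 0x0) (.node 16356 (.leaf 0x0) (.leaf 0x0))) (.node 16358 (.leaf 0x0) (.node 16359 (.leaf 0x0) (.leaf 0x0))))) (.node 16365 (.node 16362 (.node 16361 (.leaf 0x0) (.leaf 0x0)) (.node 16363 (.leaf 0x0) (.node 16364 (.leaf 0x0) (.leaf 0x0)))) (.node 16368 (.node 16366 (.leaf 0x0) (.node 16367 (.leaf 0x0) (.leaf 0x0))) (.node 16369 (.leaf 0x0) (.node 16370 (.leaf 0x0) (.leaf 0x0))))))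

def sgOS_1505 : Store := (.node 16349 sgOS_1503 sgOS_1504)

def sgOS_1506 : Store := (.node 16328 sgOS_1502 sgOS_1505)

def sgOS_1507 : Store := (.node 16381 (.node 16376 (.node 16373 (.node 16372 (.leaf 0x0) (.leaf 0x0)) (.node 16374 (.leaf 0x0) (.node 16375 (.leaf 0x0) (.leaf 0x0)))) (.node 16378 (.node 16377 (.leaf 0x0) (.leaf 0x0)) (.node 16379 (.leaf 0x0) (.node 16380 (.leaf 0x0) (.leaf 0x10001))))) (.node 16386 (.node 16383 (.node 16382 (.leaf 0x0) (.leaf 0x0)) (.node 16384 (.leaf 0x0) (.node 16385 (.leaf 0x0) (.leaf 0x0)))) (.node 16389 (.node 16387 (.leaf 0x0) (.node 16388 (.leaf 0x0) (.leaf 0x1))) (.node 16390 (.leaf 0x0) (.node 16391 (.leaf 0x0) (.leaf 0x0))))))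

def sgOS_1508 : Store := (.node 16403 (.node 16397 (.node 16394 (.node 16393 (.leaf 0x0) (.leaf 0x0)) (.node 16395 (.leaf 0x0) (.node 16396 (.leaf 0x0) (.leaf 0x1)))) (.node 16400 (.node 16398 (.leaf 0x0) (.node 16399 (.leaf 0x0) (.leaf 0x0))) (.node 16401 (.leaf 0x0) (.node 16402 (.leaf 0x0) (.leaf 0x0))))) (.node 16408 (.node 16405 (.node 16404 (.leaf 0x1) (.leaf 0x0)) (.node 16406 (.leaf 0x0) (.node 16407 (.leaf 0x0) (.leaf 0x0)))) (.node 16411 (.node 16409 (.leaf 0x1) (.node 16410 (.leaf 0x0) (.leaf 0x0))) (.node 16412 (.leaf 0x0) (.node 16413 (.leaf 0x0) (.leaf 0x0))))))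

def sgOS_1509 : Store := (.node 16392 sgOS_1507 sgOS_1508)

def sgOS_1510 : Store := (.node 16425 (.node 16419 (.node 16416 (.node 16415 (.leaf 0x0) (.leaf 0x1)) (.node 16417 (.leaf 0x0) (.node 16418 (.leaf 0x0) (.leaf 0x0)))) (.node 16422 (.node 16420 (.leaf 0x0) (.node 16421 (.leaf 0x0) (.leaf 0x0))) (.node 16423 (.leaf 0x0) (.node 16424 (.leaf 0x0) (.leaf 0x0))))) (.node 16430 (.node 16427 (.node 16426 (.leaf 0x0) (.leaf 0x0)) (.node 16428 (.leaf 0x0) (.node 16429 (.leaf 0x0) (.leaf 0x0)))) (.node 16433 (.node 16431 (.leaf 0x0) (.node 16432 (.leaf 0x0) (.leaf 0x0))) (.node 16434 (.leaf 0x0) (.node 16435 (.leaf 0x0) (.leaf 0x0))))))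

def sgOS_1511 : Store := (.node 16447 (.node 16441 (.node 16438 (.node 16437 (.leaf 0x0) (.leaf 0x0)) (.node 16439 (.leaf 0x0) (.node 16440 (.leaf 0x0) (.leaf 0x0)))) (.node 16444 (.node 16442 (.leaf 0x0) (.node 16443 (.leaf 0x0) (.leaf 0x0))) (.node 16445 (.leaf 0x0) (.node 16446 (.leaf 0x0) (.leaf 0x0))))) (.node 16452 (.node 16449 (.node 16448 (.leaf 0x0) (.leaf 0x0)) (.node 16450 (.leaf 0x0) (.node 16451 (.leaf 0x0) (.leaf 0x0)))) (.node 16455 (.node 16453 (.leaf 0x0) (.node 16454 (.leaf 0x0) (.leaf 0x0))) (.node 16456 (.leaf 0x0) (.node 16457 (.leaf 0x0) (.leaf 0x0))))))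

def sgOS_1512 : Store := (.node 16436 sgOS_1510 sgOS_1511)

def sgOS_1513 : Store := (.node 16414 sgOS_1509 sgOS_1512)

def sgOS_1514 : Store := (.node 16371 sgOS_1506 sgOS_1513)

def sgOS_1515 : Store := (.node 16468 (.node 16463 (.node 16460 (.node 16459 (.leaf 0x0) (.leaf 0x1)) (.node 16461 (.leaf 0x0) (.node 16462 (.leaf 0x0) (.leaf 0x0)))) (.node 16465 (.node 16464 (.leaf 0x0) (.leaf 0x0)) (.node 16466 (.leaf 0x0) (.node 16467 (.leaf 0x0) (.leaf 0x0))))) (.node 16473 (.node 16470 (.node 16469 (.leaf 0x0) (.leaf 0x0)) (.node 16471 (.leaf 0x0) (.node 16472 (.leaf 0x1) (.leaf 0x0)))) (.node 16476 (.node 16474 (.leaf 0x0) (.node 16475 (.leaf 0x0) (.leaf 0x0))) (.node 16477 (.leaf 0x0) (.node 16478 (.leaf 0x0) (.leaf 0x0))))))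

def sgOS_1516 : Store := (.node 16490 (.node 16484 (.node 16481 (.node 16480 (.leaf 0x0) (.leaf 0x0)) (.node 16482 (.leaf 0x0) (.node 16483 (.leaf 0x0) (.leaf 0x0)))) (.node 16487 (.node 16485 (.leaf 0x0) (.node 16486 (.leaf 0x0) (.leaf 0x0))) (.node 16488 (.leaf 0x0) (.node 16489 (.leaf 0x0) (.leaf 0x0))))) (.node 16495 (.node 16492 (.node 16491 (.leaf 0x0) (.leaf 0x0)) (.node 16493 (.leaf 0x10001) (.node 16494 (.leaf 0x0) (.leaf 0x0)))) (.node 16498 (.node 16496 (.leaf 0x0) (.node 16497 (.leaf 0x0) (.leaf 0x0))) (.node 16499 (.leaf 0x0) (.node 16500 (.leaf 0x0) (.leaf 0x0))))))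

def sgOS_1517 : Store := (.node 16479 sgOS_1515 sgOS_1516)

def sgOS_1518 : Store := (.node 16512 (.node 16506 (.node 16503 (.node 16502 (.leaf 0x1) (.leaf 0x0)) (.node 16504 (.leaf 0x0) (.node 16505 (.leaf 0x0) (.leaf 0x0)))) (.node 16509 (.node 16507 (.leaf 0x0) (.node 16508 (.leaf 0x0) (.leaf 0x1))) (.node 16510 (.leaf 0x0) (.node 16511 (.leaf 0x0) (.leaf 0x0))))) (.node 16517 (.node 16514 (.node 16513 (.leaf 0x0) (.leaf 0x20100000004)) (.node 16515 (.leaf 0x0) (.node 16516 (.leaf 0x0) (.leaf 0x0)))) (.node 16520 (.node 16518 (.leaf 0x0) (.node 16519 (.leaf 0x0) (.leaf 0x0))) (.node 16521 (.leaf 0x1020002) (.node 16522 (.leaf 0x0) (.leaf 0x30001))))))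

def sgOS_1519 : Store := (.node 16534 (.node 16528 (.node 16525 (.node 16524 (.leaf 0x0) (.leaf 0x0)) (.node 16526 (.leaf 0x0) (.node 16527 (.leaf 0x0) (.leaf 0x0)))) (.node 16531 (.node 16529 (.leaf 0x0) (.node 16530 (.leaf 0x0) (.leaf 0x0))) (.node 16532 (.leaf 0x0) (.node 16533 (.leaf 0x0) (.leaf 0x0))))) (.node 16539 (.node 16536 (.node 16535 (.leaf 0x0) (.leaf 0x0)) (.node 16537 (.leaf 0x0) (.node 16538 (.leaf 0x0) (.leaf 0x0)))) (.node 16542 (.node 16540 (.leaf 0x0) (.node 16541 (.leaf 0x0) (.leaf 0x0))) (.node 16543 (.leaf 0x0) (.node 16544 (.leaf 0x0) (.leaf 0x0))))))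

def sgOS_1520 : Store := (.node 16523 sgOS_1518 sgOS_1519)

def sgOS_1521 : Store := (.node 16501 sgOS_1517 sgOS_1520)

def sgOS_1522 : Store := (.node 16555 (.node 16550 (.node 16547 (.node 16546 (.leaf 0x0) (.leaf 0x0)) (.node 16548 (.leaf 0x0) (.node 16549 (.leaf 0x0) (.leaf 0x0)))) (.node 16552 (.node 16551 (.leaf 0x0) (.leaf 0x0)) (.node 16553 (.leaf 0x0) (.node 16554 (.leaf 0x0) (.leaf 0x0))))) (.node 16560 (.node 16557 (.node 16556 (.leaf 0x0) (.leaf 0x0)) (.node 16558 (.leaf 0x0) (.node 16559 (.leaf 0x0) (.leaf 0x0)))) (.node 16563 (.node 16561 (.leaf 0x0) (.node 16562 (.leaf 0x0) (.leaf 0x0))) (.node 16564 (.leaf 0x0) (.node 16565 (.leaf 0x0) (.leaf 0x0))))))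

def sgOS_1523 : Store := (.node 16577 (.node 16571 (.node 16568 (.node 16567 (.leaf 0x0) (.leaf 0x0)) (.node 16569 (.leaf 0x0) (.node 16570 (.leaf 0x0) (.leaf 0x0)))) (.node 16574 (.node 16572 (.leaf 0x1) (.node 16573 (.leaf 0x0) (.leaf 0x0))) (.node 16575 (.leaf 0x0) (.node 16576 (.leaf 0x0) (.leaf 0x1))))) (.node 16582 (.node 16579 (.node 16578 (.leaf 0x0) (.leaf 0x0)) (.node 16580 (.leaf 0x0) (.node 16581 (.leaf 0x0) (.leaf 0x0)))) (.node 16585 (.node 16583 (.leaf 0x0) (.node 16584 (.leaf 0x0) (.leaf 0x1000002))) (.node 16586 (.leaf 0x10001) (.node 16587 (.leaf 0x0) (.leaf 0x0))))))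

def sgOS_1524 : Store := (.node 16566 sgOS_1522 sgOS_1523)

def sgOS_1525 : Store := (.node 16599 (.node 16593 (.node 16590 (.node 16589 (.leaf 0x0) (.leaf 0x0)) (.node 16591 (.leaf 0x0) (.node 16592 (.leaf 0x1) (.leaf 0x1)))) (.node 16596 (.node 16594 (.leaf 0x0) (.node 16595 (.leaf 0x0) (.leaf 0x0))) (.node 16597 (.leaf 0x0) (.node 16598 (.leaf 0x0) (.leaf 0x0))))) (.node 16604 (.node 16601 (.node 16600 (.leaf 0x0) (.leaf 0x0)) (.node 16602 (.leaf 0x0) (.node 16603 (.leaf 0x0) (.leaf 0x0)))) (.node 16607 (.node 16605 (.leaf 0x0) (.node 16606 (.leaf 0x0) (.leaf 0x0))) (.node 16608 (.leaf 0x0) (.node 16609 (.leaf 0x0) (.leaf 0x0))))))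

def sgOS_1526 : Store := (.node 16621 (.node 16615 (.node 16612 (.node 16611 (.leaf 0x0) (.leaf 0x0)) (.node 16613 (.leaf 0x0) (.node 16614 (.leaf 0x0) (.leaf 0x0)))) (.node 16618 (.node 16616 (.leaf 0x0) (.node 16617 (.leaf 0x0) (.leaf 0x0))) (.node 16619 (.leaf 0x1) (.node 16620 (.leaf 0x0) (.leaf 0x1))))) (.node 16626 (.node 16623 (.node 16622 (.leaf 0x0) (.leaf 0x0)) (.node 16624 (.leaf 0x0) (.node 16625 (.leaf 0x0) (.leaf 0x0)))) (.node 16629 (.node 16627 (.leaf 0x0) (.node 16628 (.leaf 0x0) (.leaf 0x0))) (.node 16630 (.leaf 0x0) (.node 16631 (.leaf 0x0) (.leaf 0x0))))))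

def sgOS_1527 : Store := (.node 16610 sgOS_1525 sgOS_1526)

def sgOS_1528 : Store := (.node 16588 sgOS_1524 sgOS_1527)

def sgOS_1529 : Store := (.node 16545 sgOS_1521 sgOS_1528)

def sgOS_1530 : Store := (.node 16458 sgOS_1514 sgOS_1529)

def sgOS_1531 : Store := (.node 16285 sgOS_1499 sgOS_1530)

def sgOS_1532 : Store := (.node 15939 sgOS_1468 sgOS_1531)

def sgOS_1533 : Store := (.node 15246 sgOS_1405 sgOS_1532)

def sgOS_1534 : Store := (.node 13860 sgOS_1278 sgOS_1533)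

def sgOS_1535 : Store := (.node 16642 (.node 16637 (.node 16634 (.node 16633 (.leaf 0x0) (.leaf 0x0)) (.node 16635 (.leaf 0x0) (.node 16636 (.leaf 0x0) (.leaf 0x0)))) (.node 16639 (.node 16638 (.leaf 0x0) (.leaf 0x0)) (.node 16640 (.leaf 0x0) (.node 16641 (.leaf 0x0) (.leaf 0x1))))) (.node 16647 (.node 16644 (.node 16643 (.leaf 0x0) (.leaf 0x0)) (.node 16645 (.leaf 0x0) (.node 16646 (.leaf 0x0) (.leaf 0x0)))) (.node 16650 (.node 16648 (.leaf 0x0) (.node 16649 (.leaf 0x0) (.leaf 0x0))) (.node 16651 (.leaf 0x0) (.node 16652 (.leaf 0x0) (.leaf 0x0))))))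

def sgOS_1536 : Store := (.node 16664 (.node 16658 (.node 16655 (.node 16654 (.leaf 0x0) (.leaf 0x0)) (.node 16656 (.leaf 0x0) (.node 16657 (.leaf 0x0) (.leaf 0x0)))) (.node 16661 (.node 16659 (.leaf 0x0) (.node 16660 (.leaf 0x0) (.leaf 0x0))) (.node 16662 (.leaf 0x0) (.node 16663 (.leaf 0x0) (.leaf 0x0))))) (.node 16669 (.node 16666 (.node 16665 (.leaf 0x0) (.leaf 0x0)) (.node 16667 (.leaf 0x0) (.node 16668 (.leaf 0x0) (.leaf 0x1)))) (.node 16672 (.node 16670 (.leaf 0x0) (.node 16671 (.leaf 0x0) (.leaf 0x0))) (.node 16673 (.leaf 0x0) (.node 16674 (.leaf 0x0) (.leaf 0x0))))))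

def sgOS_1537 : Store := (.node 16653 sgOS_1535 sgOS_1536)

def sgOS_1538 : Store := (.node 16685 (.node 16680 (.node 16677 (.node 16676 (.leaf 0x0) (.leaf 0x0)) (.node 16678 (.leaf 0x0) (.node 16679 (.leaf 0x0) (.leaf 0x0)))) (.node 16682 (.node 16681 (.leaf 0x0) (.leaf 0x0)) (.node 16683 (.leaf 0x1000002) (.node 16684 (.leaf 0x0) (.leaf 0x0))))) (.node 16690 (.node 16687 (.node 16686 (.leaf 0x0) (.leaf 0x0)) (.node 16688 (.leaf 0x0) (.node 16689 (.leaf 0x0) (.leaf 0x1)))) (.node 16693 (.node 16691 (.leaf 0x0) (.node 16692 (.leaf 0x0) (.leaf 0x0))) (.node 16694 (.leaf 0x0) (.node 16695 (.leaf 0x0) (.leaf 0x0))))))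

def sgOS_1539 : Store := (.node 16707 (.node 16701 (.node 16698 (.node 16697 (.leaf 0x0) (.leaf 0x1)) (.node 16699 (.leaf 0x0) (.node 16700 (.leaf 0x0) (.leaf 0x0)))) (.node 16704 (.node 16702 (.leaf 0x0) (.node 16703 (.leaf 0x0) (.leaf 0x1))) (.node 16705 (.leaf 0x0) (.node 16706 (.leaf 0x0) (.leaf 0x0))))) (.node 16712 (.node 16709 (.node 16708 (.leaf 0x0) (.leaf 0x0)) (.node 16710 (.leaf 0x0) (.node 16711 (.leaf 0x0) (.leaf 0x1)))) (.node 16715 (.node 16713 (.leaf 0x0) (.node 16714 (.leaf 0x0) (.leaf 0x0))) (.node 16716 (.leaf 0x0) (.node 16717 (.leaf 0x0) (.leaf 0x0))))))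

def sgOS_1540 : Store := (.node 16696 sgOS_1538 sgOS_1539)

def sgOS_1541 : Store := (.node 16675 sgOS_1537 sgOS_1540)

def sgOS_1542 : Store := (.node 16728 (.node 16723 (.node 16720 (.node 16719 (.leaf 0x0) (.leaf 0x0)) (.node 16721 (.leaf 0x0) (.node 16722 (.leaf 0x0) (.leaf 0x0)))) (.node 16725 (.node 16724 (.leaf 0x0) (.leaf 0x1)) (.node 16726 (.leaf 0x0) (.node 16727 (.leaf 0x0) (.leaf 0x0))))) (.node 16733 (.node 16730 (.node 16729 (.leaf 0x0) (.leaf 0x0)) (.node 16731 (.leaf 0x0) (.node 16732 (.leaf 0x1) (.leaf 0x1)))) (.node 16736 (.node 16734 (.leaf 0x0) (.node 16735 (.leaf 0x0) (.leaf 0x0))) (.node 16737 (.leaf 0x0) (.node 16738 (.leaf 0x0) (.leaf 0x0))))))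

def sgOS_1543 : Store := (.node 16750 (.node 16744 (.node 16741 (.node 16740 (.leaf 0x0) (.leaf 0x0)) (.node 16742 (.leaf 0x0) (.node 16743 (.leaf 0x0) (.leaf 0x0)))) (.node 16747 (.node 16745 (.leaf 0x0) (.node 16746 (.leaf 0x0) (.leaf 0x0))) (.node 16748 (.leaf 0x0) (.node 16749 (.leaf 0x0) (.leaf 0x0))))) (.node 16755 (.node 16752 (.node 16751 (.leaf 0x0) (.leaf 0x1)) (.node 16753 (.leaf 0x1) (.node 16754 (.leaf 0x0) (.leaf 0x0)))) (.node 16758 (.node 16756 (.leaf 0x0) (.node 16757 (.leaf 0x0) (.leaf 0x0))) (.node 16759 (.leaf 0x0) (.node 16760 (.leaf 0x0) (.leaf 0x10001))))))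

def sgOS_1544 : Store := (.node 16739 sgOS_1542 sgOS_1543)

def sgOS_1545 : Store := (.node 16772 (.node 16766 (.node 16763 (.node 16762 (.leaf 0x0) (.leaf 0x0)) (.node 16764 (.leaf 0x0) (.node 16765 (.leaf 0x0) (.leaf 0x0)))) (.node 16769 (.node 16767 (.leaf 0x0) (.node 16768 (.leaf 0x0) (.leaf 0x0))) (.node 16770 (.leaf 0x0) (.node 16771 (.leaf 0x0) (.leaf 0x0))))) (.node 16777 (.node 16774 (.node 16773 (.leaf 0x1) (.leaf 0x0)) (.node 16775 (.leaf 0x0) (.node 16776 (.leaf 0x0) (.leaf 0x0)))) (.node 16780 (.node 16778 (.leaf 0x0) (.node 16779 (.leaf 0x0) (.leaf 0x0))) (.node 16781 (.leaf 0x0) (.node 16782 (.leaf 0x0) (.leaf 0x0))))))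

def sgOS_1546 : Store := (.node 16794 (.node 16788 (.node 16785 (.node 16784 (.leaf 0x0) (.leaf 0x0)) (.node 16786 (.leaf 0x0) (.node 16787 (.leaf 0x0) (.leaf 0x0)))) (.node 16791 (.node 16789 (.leaf 0x0) (.node 16790 (.leaf 0x0) (.leaf 0x0))) (.node 16792 (.leaf 0x0) (.node 16793 (.leaf 0x0) (.leaf 0x100000003))))) (.node 16799 (.node 16796 (.node 16795 (.leaf 0x0) (.leaf 0x0)) (.node 16797 (.leaf 0x0) (.node 16798 (.leaf 0x0) (.leaf 0x0)))) (.node 16802 (.node 16800 (.leaf 0x0) (.node 16801 (.leaf 0x0) (.leaf 0x0))) (.node 16803 (.leaf 0x30002) (.node 16804 (.leaf 0x0) (.leaf 0x0))))))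

def sgOS_1547 : Store := (.node 16783 sgOS_1545 sgOS_1546)

def sgOS_1548 : Store := (.node 16761 sgOS_1544 sgOS_1547)

def sgOS_1549 : Store := (.node 16718 sgOS_1541 sgOS_1548)

def sgOS_1550 : Store := (.node 16815 (.node 16810 (.node 16807 (.node 16806 (.leaf 0x0) (.leaf 0x0)) (.node 16808 (.leaf 0x1000003) (.node 16809 (.leaf 0x100010003) (.leaf 0x0)))) (.node 16812 (.node 16811 (.leaf 0x0) (.leaf 0x0)) (.node 16813 (.leaf 0x0) (.node 16814 (.leaf 0x0) (.leaf 0x0))))) (.node 16820 (.node 16817 (.node 16816 (.leaf 0x0) (.leaf 0x0)) (.node 16818 (.leaf 0x0) (.node 16819 (.leaf 0x0) (.leaf 0x0)))) (.node 16823 (.node 16821 (.leaf 0x0) (.node 16822 (.leaf 0x0) (.leaf 0x0))) (.node 16824 (.leaf 0x0) (.node 16825 (.leaf 0x0) (.leaf 0x0))))))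

def sgOS_1551 : Store := (.node 16837 (.node 16831 (.node 16828 (.node 16827 (.leaf 0x0) (.leaf 0x0)) (.node 16829 (.leaf 0x0) (.node 16830 (.leaf 0x0) (.leaf 0x0)))) (.node 16834 (.node 16832 (.leaf 0x0) (.node 16833 (.leaf 0x0) (.leaf 0x0))) (.node 16835 (.leaf 0x0) (.node 16836 (.leaf 0x0) (.leaf 0x0))))) (.node 16842 (.node 16839 (.node 16838 (.leaf 0x0) (.leaf 0x0)) (.node 16840 (.leaf 0x0) (.node 16841 (.leaf 0x0) (.leaf 0x0)))) (.node 16845 (.node 16843 (.leaf 0x0) (.node 16844 (.leaf 0x0) (.leaf 0x0))) (.node 16846 (.leaf 0x0) (.node 16847 (.leaf 0x0) (.leaf 0x0))))))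

def sgOS_1552 : Store := (.node 16826 sgOS_1550 sgOS_1551)

def sgOS_1553 : Store := (.node 16858 (.node 16853 (.node 16850 (.node 16849 (.leaf 0x0) (.leaf 0x0)) (.node 16851 (.leaf 0x0) (.node 16852 (.leaf 0x0) (.leaf 0x0)))) (.node 16855 (.node 16854 (.leaf 0x0) (.leaf 0x0)) (.node 16856 (.leaf 0x0) (.node 16857 (.leaf 0x0) (.leaf 0x1))))) (.node 16863 (.node 16860 (.node 16859 (.leaf 0x0) (.leaf 0x0)) (.node 16861 (.leaf 0x0) (.node 16862 (.leaf 0x0) (.leaf 0x0)))) (.node 16866 (.node 16864 (.leaf 0x0) (.node 16865 (.leaf 0x0) (.leaf 0x0))) (.node 16867 (.leaf 0x0) (.node 16868 (.leaf 0x0) (.leaf 0x0))))))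

def sgOS_1554 : Store := (.node 16880 (.node 16874 (.node 16871 (.node 16870 (.leaf 0x0) (.leaf 0x1)) (.node 16872 (.leaf 0x0) (.node 16873 (.leaf 0x1) (.leaf 0x0)))) (.node 16877 (.node 16875 (.leaf 0x0) (.node 16876 (.leaf 0x0) (.leaf 0x0))) (.node 16878 (.leaf 0x0) (.node 16879 (.leaf 0x0) (.leaf 0x1))))) (.node 16885 (.node 16882 (.node 16881 (.leaf 0x0) (.leaf 0x0)) (.node 16883 (.leaf 0x0) (.node 16884 (.leaf 0x0) (.leaf 0x0)))) (.node 16888 (.node 16886 (.leaf 0x0) (.node 16887 (.leaf 0x0) (.leaf 0x0))) (.node 16889 (.leaf 0x0) (.node 16890 (.leaf 0x0) (.leaf 0x0))))))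

def sgOS_1555 : Store := (.node 16869 sgOS_1553 sgOS_1554)

def sgOS_1556 : Store := (.node 16848 sgOS_1552 sgOS_1555)

def sgOS_1557 : Store := (.node 16901 (.node 16896 (.node 16893 (.node 16892 (.leaf 0x0) (.leaf 0x0)) (.node 16894 (.leaf 0x0) (.node 16895 (.leaf 0x0) (.leaf 0x0)))) (.node 16898 (.node 16897 (.leaf 0x0) (.leaf 0x0)) (.node 16899 (.leaf 0x1) (.node 16900 (.leaf 0x0) (.leaf 0x0))))) (.node 16906 (.node 16903 (.node 16902 (.leaf 0x0) (.leaf 0x0)) (.node 16904 (.leaf 0x0) (.node 16905 (.leaf 0x0) (.leaf 0x0)))) (.node 16909 (.node 16907 (.leaf 0x0) (.node 16908 (.leaf 0x0) (.leaf 0x0))) (.node 16910 (.leaf 0x0) (.node 16911 (.leaf 0x0) (.leaf 0x0))))))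

def sgOS_1558 : Store := (.node 16923 (.node 16917 (.node 16914 (.node 16913 (.leaf 0x0) (.leaf 0x0)) (.node 16915 (.leaf 0x0) (.node 16916 (.leaf 0x0) (.leaf 0x0)))) (.node 16920 (.node 16918 (.leaf 0x0) (.node 16919 (.leaf 0x0) (.leaf 0x10001))) (.node 16921 (.leaf 0x0) (.node 16922 (.leaf 0x0) (.leaf 0x0))))) (.node 16928 (.node 16925 (.node 16924 (.leaf 0x0) (.leaf 0x0)) (.node 16926 (.leaf 0x0) (.node 16927 (.leaf 0x0) (.leaf 0x0)))) (.node 16931 (.node 16929 (.leaf 0x0) (.node 16930 (.leaf 0x0) (.leaf 0x0))) (.node 16932 (.leaf 0x0) (.node 16933 (.leaf 0x0) (.leaf 0x0))))))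

def sgOS_1559 : Store := (.node 16912 sgOS_1557 sgOS_1558)

def sgOS_1560 : Store := (.node 16945 (.node 16939 (.node 16936 (.node 16935 (.leaf 0x0) (.leaf 0x0)) (.node 16937 (.leaf 0x0) (.node 16938 (.leaf 0x0) (.leaf 0x0)))) (.node 16942 (.node 16940 (.leaf 0x0) (.node 16941 (.leaf 0x0) (.leaf 0x0))) (.node 16943 (.leaf 0x0) (.node 16944 (.leaf 0x0) (.leaf 0x0))))) (.node 16950 (.node 16947 (.node 16946 (.leaf 0x0) (.leaf 0x0)) (.node 16948 (.leaf 0x0) (.node 16949 (.leaf 0x0) (.leaf 0x0)))) (.node 16953 (.node 16951 (.leaf 0x0) (.node 16952 (.leaf 0x0) (.leaf 0x0))) (.node 16954 (.leaf 0x0) (.node 16955 (.leaf 0x0) (.leaf 0x0))))))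

def sgOS_1561 : Store := (.node 16967 (.node 16961 (.node 16958 (.node 16957 (.leaf 0x0) (.leaf 0x0)) (.node 16959 (.leaf 0x0) (.node 16960 (.leaf 0x0) (.leaf 0x0)))) (.node 16964 (.node 16962 (.leaf 0x1) (.node 16963 (.leaf 0x0) (.leaf 0x1000002))) (.node 16965 (.leaf 0x0) (.node 16966 (.leaf 0x0) (.leaf 0x0))))) (.node 16972 (.node 16969 (.node 16968 (.leaf 0x0) (.leaf 0x0)) (.node 16970 (.leaf 0x0) (.node 16971 (.leaf 0x0) (.leaf 0x0)))) (.node 16975 (.node 16973 (.leaf 0x0) (.node 16974 (.leaf 0x0) (.leaf 0x0))) (.node 16976 (.leaf 0x0) (.node 16977 (.leaf 0x1000002) (.leaf 0x0))))))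

def sgOS_1562 : Store := (.node 16956 sgOS_1560 sgOS_1561)

def sgOS_1563 : Store := (.node 16934 sgOS_1559 sgOS_1562)

def sgOS_1564 : Store := (.node 16891 sgOS_1556 sgOS_1563)

def sgOS_1565 : Store := (.node 16805 sgOS_1549 sgOS_1564)

def sgOS_1566 : Store := (.node 16988 (.node 16983 (.node 16980 (.node 16979 (.leaf 0x0) (.leaf 0x0)) (.node 16981 (.leaf 0x0) (.node 16982 (.leaf 0x0) (.leaf 0x1)))) (.node 16985 (.node 16984 (.leaf 0x0) (.leaf 0x1)) (.node 16986 (.leaf 0x0) (.node 16987 (.leaf 0x0) (.leaf 0x0))))) (.node 16993 (.node 16990 (.node 16989 (.leaf 0x0) (.leaf 0x0)) (.node 16991 (.leaf 0x0) (.node 16992 (.leaf 0x1) (.leaf 0x0)))) (.node 16996 (.node 16994 (.leaf 0x0) (.node 16995 (.leaf 0x0) (.leaf 0x0))) (.node 16997 (.leaf 0x0) (.node 16998 (.leaf 0x0) (.leaf 0x0))))))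

def sgOS_1567 : Store := (.node 17010 (.node 17004 (.node 17001 (.node 17000 (.leaf 0x0) (.leaf 0x0)) (.node 17002 (.leaf 0x0) (.node 17003 (.leaf 0x0) (.leaf 0x0)))) (.node 17007 (.node 17005 (.leaf 0x0) (.node 17006 (.leaf 0x0) (.leaf 0x0))) (.node 17008 (.leaf 0x0) (.node 17009 (.leaf 0x0) (.leaf 0x0))))) (.node 17015 (.node 17012 (.node 17011 (.leaf 0x0) (.leaf 0x0)) (.node 17013 (.leaf 0x0) (.node 17014 (.leaf 0x0) (.leaf 0x0)))) (.node 17018 (.node 17016 (.leaf 0x0) (.node 17017 (.leaf 0x0) (.leaf 0x0))) (.node 17019 (.leaf 0x0) (.node 17020 (.leaf 0x0) (.leaf 0x0))))))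

def sgOS_1568 : Store := (.node 16999 sgOS_1566 sgOS_1567)

def sgOS_1569 : Store := (.node 17031 (.node 17026 (.node 17023 (.node 17022 (.leaf 0x0) (.leaf 0x0)) (.node 17024 (.leaf 0x0) (.node 17025 (.leaf 0x1) (.leaf 0x0)))) (.node 17028 (.node 17027 (.leaf 0x0) (.leaf 0x0)) (.node 17029 (.leaf 0x0) (.node 17030 (.leaf 0x0) (.leaf 0x0))))) (.node 17036 (.node 17033 (.node 17032 (.leaf 0x0) (.leaf 0x0)) (.node 17034 (.leaf 0x0) (.node 17035 (.leaf 0x0) (.leaf 0x0)))) (.node 17039 (.node 17037 (.leaf 0x0) (.node 17038 (.leaf 0x0) (.leaf 0x1))) (.node 17040 (.leaf 0x0) (.node 17041 (.leaf 0x0) (.leaf 0x0))))))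

def sgOS_1570 : Store := (.node 17053 (.node 17047 (.node 17044 (.node 17043 (.leaf 0x0) (.leaf 0x0)) (.node 17045 (.leaf 0x0) (.node 17046 (.leaf 0x1) (.leaf 0x0)))) (.node 17050 (.node 17048 (.leaf 0x1) (.node 17049 (.leaf 0x0) (.leaf 0x0))) (.node 17051 (.leaf 0x0) (.node 17052 (.leaf 0x0) (.leaf 0x0))))) (.node 17058 (.node 17055 (.node 17054 (.leaf 0x0) (.leaf 0x10001)) (.node 17056 (.leaf 0x0) (.node 17057 (.leaf 0x0) (.leaf 0x0)))) (.node 17061 (.node 17059 (.leaf 0x0) (.node 17060 (.leaf 0x0) (.leaf 0x0))) (.node 17062 (.leaf 0x0) (.node 17063 (.leaf 0x0) (.leaf 0x0))))))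

def sgOS_1571 : Store := (.node 17042 sgOS_1569 sgOS_1570)

def sgOS_1572 : Store := (.node 17021 sgOS_1568 sgOS_1571)

def sgOS_1573 : Store := (.node 17074 (.node 17069 (.node 17066 (.node 17065 (.leaf 0x0) (.leaf 0x0)) (.node 17067 (.leaf 0x0) (.node 17068 (.leaf 0x0) (.leaf 0x0)))) (.node 17071 (.node 17070 (.leaf 0x0) (.leaf 0x0)) (.node 17072 (.leaf 0x0) (.node 17073 (.leaf 0x0) (.leaf 0x0))))) (.node 17079 (.node 17076 (.node 17075 (.leaf 0x0) (.leaf 0x0)) (.node 17077 (.leaf 0x0) (.node 17078 (.leaf 0x0) (.leaf 0x0)))) (.node 17082 (.node 17080 (.leaf 0x0) (.node 17081 (.leaf 0x0) (.leaf 0x0))) (.node 17083 (.leaf 0x0) (.node 17084 (.leaf 0x0) (.leaf 0x0))))))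

def sgOS_1574 : Store := (.node 17096 (.node 17090 (.node 17087 (.node 17086 (.leaf 0x0) (.leaf 0x0)) (.node 17088 (.leaf 0x0) (.node 17089 (.leaf 0x0) (.leaf 0x0)))) (.node 17093 (.node 17091 (.leaf 0x0) (.node 17092 (.leaf 0x0) (.leaf 0x0))) (.node 17094 (.leaf 0x0) (.node 17095 (.leaf 0x0) (.leaf 0x0))))) (.node 17101 (.node 17098 (.node 17097 (.leaf 0x0) (.leaf 0x0)) (.node 17099 (.leaf 0x0) (.node 17100 (.leaf 0x0) (.leaf 0x0)))) (.node 17104 (.node 17102 (.leaf 0x10001) (.node 17103 (.leaf 0x0) (.leaf 0x0))) (.node 17105 (.leaf 0x0) (.node 17106 (.leaf 0x0) (.leaf 0x0))))))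

def sgOS_1575 : Store := (.node 17085 sgOS_1573 sgOS_1574)

def sgOS_1576 : Store := (.node 17118 (.node 17112 (.node 17109 (.node 17108 (.leaf 0x0) (.leaf 0x0)) (.node 17110 (.leaf 0x0) (.node 17111 (.leaf 0x0) (.leaf 0x0)))) (.node 17115 (.node 17113 (.leaf 0x0) (.node 17114 (.leaf 0x0) (.leaf 0x0))) (.node 17116 (.leaf 0x0) (.node 17117 (.leaf 0x0) (.leaf 0x0))))) (.node 17123 (.node 17120 (.node 17119 (.leaf 0x0) (.leaf 0x0)) (.node 17121 (.leaf 0x0) (.node 17122 (.leaf 0x0) (.leaf 0x0)))) (.node 17126 (.node 17124 (.leaf 0x0) (.node 17125 (.leaf 0x0) (.leaf 0x0))) (.node 17127 (.leaf 0x0) (.node 17128 (.leaf 0x0) (.leaf 0x0))))))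

def sgOS_1577 : Store := (.node 17140 (.node 17134 (.node 17131 (.node 17130 (.leaf 0x0) (.leaf 0x0)) (.node 17132 (.leaf 0x0) (.node 17133 (.leaf 0x0) (.leaf 0x0)))) (.node 17137 (.node 17135 (.leaf 0x0) (.node 17136 (.leaf 0x0) (.leaf 0x0))) (.node 17138 (.leaf 0x0) (.node 17139 (.leaf 0x0) (.leaf 0x0))))) (.node 17145 (.node 17142 (.node 17141 (.leaf 0x0) (.leaf 0x0)) (.node 17143 (.leaf 0x0) (.node 17144 (.leaf 0x1) (.leaf 0x0)))) (.node 17148 (.node 17146 (.leaf 0x0) (.node 17147 (.leaf 0x0) (.leaf 0x0))) (.node 17149 (.leaf 0x0) (.node 17150 (.leaf 0x0) (.leaf 0x1))))))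

def sgOS_1578 : Store := (.node 17129 sgOS_1576 sgOS_1577)

def sgOS_1579 : Store := (.node 17107 sgOS_1575 sgOS_1578)

def sgOS_1580 : Store := (.node 17064 sgOS_1572 sgOS_1579)

def sgOS_1581 : Store := (.node 17161 (.node 17156 (.node 17153 (.node 17152 (.leaf 0x0) (.leaf 0x0)) (.node 17154 (.leaf 0x0) (.node 17155 (.leaf 0x0) (.leaf 0x0)))) (.node 17158 (.node 17157 (.leaf 0x0) (.leaf 0x0)) (.node 17159 (.leaf 0x1) (.node 17160 (.leaf 0x0) (.leaf 0x0))))) (.node 17166 (.node 17163 (.node 17162 (.leaf 0x0) (.leaf 0x0)) (.node 17164 (.leaf 0x0) (.node 17165 (.leaf 0x0) (.leaf 0x0)))) (.node 17169 (.node 17167 (.leaf 0x0) (.node 17168 (.leaf 0x0) (.leaf 0x0))) (.node 17170 (.leaf 0x0) (.node 17171 (.leaf 0x0) (.leaf 0x0))))))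

def sgOS_1582 : Store := (.node 17183 (.node 17177 (.node 17174 (.node 17173 (.leaf 0x1) (.leaf 0x0)) (.node 17175 (.leaf 0x0) (.node 17176 (.leaf 0x0) (.leaf 0x0)))) (.node 17180 (.node 17178 (.leaf 0x0) (.node 17179 (.leaf 0x0) (.leaf 0x0))) (.node 17181 (.leaf 0x0) (.node 17182 (.leaf 0x0) (.leaf 0x0))))) (.node 17188 (.node 17185 (.node 17184 (.leaf 0x0) (.leaf 0x0)) (.node 17186 (.leaf 0x20001) (.node 17187 (.leaf 0x0) (.leaf 0x1020002)))) (.node 17191 (.node 17189 (.leaf 0x0) (.node 17190 (.leaf 0x0) (.leaf 0x0))) (.node 17192 (.leaf 0x0) (.node 17193 (.leaf 0x0) (.leaf 0x0))))))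

def sgOS_1583 : Store := (.node 17172 sgOS_1581 sgOS_1582)

def sgOS_1584 : Store := (.node 17205 (.node 17199 (.node 17196 (.node 17195 (.leaf 0x0) (.leaf 0x0)) (.node 17197 (.leaf 0x0) (.node 17198 (.leaf 0x0) (.leaf 0x0)))) (.node 17202 (.node 17200 (.leaf 0x0) (.node 17201 (.leaf 0x0) (.leaf 0x0))) (.node 17203 (.leaf 0x0) (.node 17204 (.leaf 0x0) (.leaf 0x0))))) (.node 17210 (.node 17207 (.node 17206 (.leaf 0x0) (.leaf 0x1)) (.node 17208 (.leaf 0x0) (.node 17209 (.leaf 0x0) (.leaf 0x0)))) (.node 17213 (.node 17211 (.leaf 0x0) (.node 17212 (.leaf 0x0) (.leaf 0x0))) (.node 17214 (.leaf 0x0) (.node 17215 (.leaf 0x1) (.leaf 0x0))))))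

def sgOS_1585 : Store := (.node 17227 (.node 17221 (.node 17218 (.node 17217 (.leaf 0x0) (.leaf 0x0)) (.node 17219 (.leaf 0x0) (.node 17220 (.leaf 0x0) (.leaf 0x10001)))) (.node 17224 (.node 17222 (.leaf 0x0) (.node 17223 (.leaf 0x10001) (.leaf 0x0))) (.node 17225 (.leaf 0x0) (.node 17226 (.leaf 0x0) (.leaf 0x0))))) (.node 17232 (.node 17229 (.node 17228 (.leaf 0x1) (.leaf 0x0)) (.node 17230 (.leaf 0x1) (.node 17231 (.leaf 0x0) (.leaf 0x0)))) (.node 17235 (.node 17233 (.leaf 0x0) (.node 17234 (.leaf 0x0) (.leaf 0x0))) (.node 17236 (.leaf 0x0) (.node 17237 (.leaf 0x0) (.leaf 0x0))))))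

def sgOS_1586 : Store := (.node 17216 sgOS_1584 sgOS_1585)

def sgOS_1587 : Store := (.node 17194 sgOS_1583 sgOS_1586)

def sgOS_1588 : Store := (.node 17248 (.node 17243 (.node 17240 (.node 17239 (.leaf 0x0) (.leaf 0x0)) (.node 17241 (.leaf 0x0) (.node 17242 (.leaf 0x0) (.leaf 0x0)))) (.node 17245 (.node 17244 (.leaf 0x0) (.leaf 0x0)) (.node 17246 (.leaf 0x0) (.node 17247 (.leaf 0x0) (.leaf 0x0))))) (.node 17253 (.node 17250 (.node 17249 (.leaf 0x1) (.leaf 0x0)) (.node 17251 (.leaf 0x0) (.node 17252 (.leaf 0x0) (.leaf 0x0)))) (.node 17256 (.node 17254 (.leaf 0x0) (.node 17255 (.leaf 0x0) (.leaf 0x0))) (.node 17257 (.leaf 0x0) (.node 17258 (.leaf 0x0) (.leaf 0x0))))))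

def sgOS_1589 : Store := (.node 17270 (.node 17264 (.node 17261 (.node 17260 (.leaf 0x0) (.leaf 0x0)) (.node 17262 (.leaf 0x0) (.node 17263 (.leaf 0x1) (.leaf 0x1000002)))) (.node 17267 (.node 17265 (.leaf 0x0) (.node 17266 (.leaf 0x0) (.leaf 0x0))) (.node 17268 (.leaf 0x0) (.node 17269 (.leaf 0x0) (.leaf 0x0))))) (.node 17275 (.node 17272 (.node 17271 (.leaf 0x0) (.leaf 0x0)) (.node 17273 (.leaf 0x0) (.node 17274 (.leaf 0x0) (.leaf 0x0)))) (.node 17278 (.node 17276 (.leaf 0x0) (.node 17277 (.leaf 0x1) (.leaf 0x0))) (.node 17279 (.leaf 0x0) (.node 17280 (.leaf 0x0) (.leaf 0x0))))))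

def sgOS_1590 : Store := (.node 17259 sgOS_1588 sgOS_1589)

def sgOS_1591 : Store := (.node 17292 (.node 17286 (.node 17283 (.node 17282 (.leaf 0x0) (.leaf 0x0)) (.node 17284 (.leaf 0x0) (.node 17285 (.leaf 0x1) (.leaf 0x0)))) (.node 17289 (.node 17287 (.leaf 0x0) (.node 17288 (.leaf 0x0) (.leaf 0x0))) (.node 17290 (.leaf 0x0) (.node 17291 (.leaf 0x0) (.leaf 0x0))))) (.node 17297 (.node 17294 (.node 17293 (.leaf 0x0) (.leaf 0x0)) (.node 17295 (.leaf 0x0) (.node 17296 (.leaf 0x0) (.leaf 0x0)))) (.node 17300 (.node 17298 (.leaf 0x0) (.node 17299 (.leaf 0x1) (.leaf 0x0))) (.node 17301 (.leaf 0x0) (.node 17302 (.leaf 0x0) (.leaf 0x0))))))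

def sgOS_1592 : Store := (.node 17314 (.node 17308 (.node 17305 (.node 17304 (.leaf 0x0) (.leaf 0x1000002)) (.node 17306 (.leaf 0x0) (.node 17307 (.leaf 0x0) (.leaf 0x0)))) (.node 17311 (.node 17309 (.leaf 0x0) (.node 17310 (.leaf 0x0) (.leaf 0x0))) (.node 17312 (.leaf 0x0) (.node 17313 (.leaf 0x0) (.leaf 0x10001))))) (.node 17319 (.node 17316 (.node 17315 (.leaf 0x0) (.leaf 0x0)) (.node 17317 (.leaf 0x0) (.node 17318 (.leaf 0x0) (.leaf 0x1)))) (.node 17322 (.node 17320 (.leaf 0x0) (.node 17321 (.leaf 0x0) (.leaf 0x0))) (.node 17323 (.leaf 0x0) (.node 17324 (.leaf 0x0) (.leaf 0x0))))))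

def sgOS_1593 : Store := (.node 17303 sgOS_1591 sgOS_1592)

def sgOS_1594 : Store := (.node 17281 sgOS_1590 sgOS_1593)

def sgOS_1595 : Store := (.node 17238 sgOS_1587 sgOS_1594)

def sgOS_1596 : Store := (.node 17151 sgOS_1580 sgOS_1595)

def sgOS_1597 : Store := (.node 16978 sgOS_1565 sgOS_1596)

def sgOS_1598 : Store := (.node 17335 (.node 17330 (.node 17327 (.node 17326 (.leaf 0x0) (.leaf 0x1)) (.node 17328 (.leaf 0x0) (.node 17329 (.leaf 0x0) (.leaf 0x0)))) (.node 17332 (.node 17331 (.leaf 0x0) (.leaf 0x0)) (.node 17333 (.leaf 0x1) (.node 17334 (.leaf 0x0) (.leaf 0x0))))) (.node 17340 (.node 17337 (.node 17336 (.leaf 0x0) (.leaf 0x0)) (.node 17338 (.leaf 0x0) (.node 17339 (.leaf 0x0) (.leaf 0x1000002)))) (.node 17343 (.node 17341 (.leaf 0x0) (.node 17342 (.leaf 0x0) (.leaf 0x0))) (.node 17344 (.leaf 0x0) (.node 17345 (.leaf 0x0) (.leaf 0x0))))))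

def sgOS_1599 : Store := (.node 17357 (.node 17351 (.node 17348 (.node 17347 (.leaf 0x0) (.leaf 0x0)) (.node 17349 (.leaf 0x0) (.node 17350 (.leaf 0x0) (.leaf 0x0)))) (.node 17354 (.node 17352 (.leaf 0x0) (.node 17353 (.leaf 0x0) (.leaf 0x0))) (.node 17355 (.leaf 0x10001) (.node 17356 (.leaf 0x0) (.leaf 0x0))))) (.node 17362 (.node 17359 (.node 17358 (.leaf 0x0) (.leaf 0x0)) (.node 17360 (.leaf 0x0) (.node 17361 (.leaf 0x0) (.leaf 0x0)))) (.node 17365 (.node 17363 (.leaf 0x1000002) (.node 17364 (.leaf 0x0) (.leaf 0x0))) (.node 17366 (.leaf 0x0) (.node 17367 (.leaf 0x0) (.leaf 0x0))))))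

def sgOS_1600 : Store := (.node 17346 sgOS_1598 sgOS_1599)

def sgOS_1601 : Store := (.node 17378 (.node 17373 (.node 17370 (.node 17369 (.leaf 0x0) (.leaf 0x0)) (.node 17371 (.leaf 0x0) (.node 17372 (.leaf 0x0) (.leaf 0x0)))) (.node 17375 (.node 17374 (.leaf 0x0) (.leaf 0x0)) (.node 17376 (.leaf 0x0) (.node 17377 (.leaf 0x1) (.leaf 0x0))))) (.node 17383 (.node 17380 (.node 17379 (.leaf 0x0) (.leaf 0x0)) (.node 17381 (.leaf 0x0) (.node 17382 (.leaf 0x1000002) (.leaf 0x0)))) (.node 17386 (.node 17384 (.leaf 0x0) (.node 17385 (.leaf 0x0) (.leaf 0x0))) (.node 17387 (.leaf 0x0) (.node 17388 (.leaf 0x0) (.leaf 0x0))))))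

def sgOS_1602 : Store := (.node 17400 (.node 17394 (.node 17391 (.node 17390 (.leaf 0x0) (.leaf 0x0)) (.node 17392 (.leaf 0x0) (.node 17393 (.leaf 0x0) (.leaf 0x0)))) (.node 17397 (.node 17395 (.leaf 0x0) (.node 17396 (.leaf 0x0) (.leaf 0x0))) (.node 17398 (.leaf 0x0) (.node 17399 (.leaf 0x0) (.leaf 0x0))))) (.node 17405 (.node 17402 (.node 17401 (.leaf 0x0) (.leaf 0x0)) (.node 17403 (.leaf 0x0) (.node 17404 (.leaf 0x0) (.leaf 0x0)))) (.node 17408 (.node 17406 (.leaf 0x0) (.node 17407 (.leaf 0x0) (.leaf 0x0))) (.node 17409 (.leaf 0x0) (.node 17410 (.leaf 0x0) (.leaf 0x0))))))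

def sgOS_1603 : Store := (.node 17389 sgOS_1601 sgOS_1602)

def sgOS_1604 : Store := (.node 17368 sgOS_1600 sgOS_1603)

def sgOS_1605 : Store := (.node 17421 (.node 17416 (.node 17413 (.node 17412 (.leaf 0x0) (.leaf 0x0)) (.node 17414 (.leaf 0x0) (.node 17415 (.leaf 0x0) (.leaf 0x0)))) (.node 17418 (.node 17417 (.leaf 0x0) (.leaf 0x0)) (.node 17419 (.leaf 0x0) (.node 17420 (.leaf 0x0) (.leaf 0x0))))) (.node 17426 (.node 17423 (.node 17422 (.leaf 0x0) (.leaf 0x0)) (.node 17424 (.leaf 0x10001) (.node 17425 (.leaf 0x1000002) (.leaf 0x0)))) (.node 17429 (.node 17427 (.leaf 0x0) (.node 17428 (.leaf 0x0) (.leaf 0x0))) (.node 17430 (.leaf 0x0) (.node 17431 (.leaf 0x1) (.leaf 0x0))))))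

def sgOS_1606 : Store := (.node 17443 (.node 17437 (.node 17434 (.node 17433 (.leaf 0x0) (.leaf 0x0)) (.node 17435 (.leaf 0x0) (.node 17436 (.leaf 0x0) (.leaf 0x0)))) (.node 17440 (.node 17438 (.leaf 0x0) (.node 17439 (.leaf 0x0) (.leaf 0x0))) (.node 17441 (.leaf 0x0) (.node 17442 (.leaf 0x0) (.leaf 0x0))))) (.node 17448 (.node 17445 (.node 17444 (.leaf 0x0) (.leaf 0x1000002)) (.node 17446 (.leaf 0x1) (.node 17447 (.leaf 0x0) (.leaf 0x0)))) (.node 17451 (.node 17449 (.leaf 0x0) (.node 17450 (.leaf 0x0) (.leaf 0x0))) (.node 17452 (.leaf 0x1) (.node 17453 (.leaf 0x0) (.leaf 0x0))))))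

def sgOS_1607 : Store := (.node 17432 sgOS_1605 sgOS_1606)

def sgOS_1608 : Store := (.node 17465 (.node 17459 (.node 17456 (.node 17455 (.leaf 0x0) (.leaf 0x0)) (.node 17457 (.leaf 0x0) (.node 17458 (.leaf 0x0) (.leaf 0x0)))) (.node 17462 (.node 17460 (.leaf 0x0) (.node 17461 (.leaf 0x10001) (.leaf 0x0))) (.node 17463 (.leaf 0x0) (.node 17464 (.leaf 0x0) (.leaf 0x0))))) (.node 17470 (.node 17467 (.node 17466 (.leaf 0x1) (.leaf 0x0)) (.node 17468 (.leaf 0x10001) (.node 17469 (.leaf 0x0) (.leaf 0x0)))) (.node 17473 (.node 17471 (.leaf 0x0) (.node 17472 (.leaf 0x0) (.leaf 0x0))) (.node 17474 (.leaf 0x1000002) (.node 17475 (.leaf 0x0) (.leaf 0x0))))))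

def sgOS_1609 : Store := (.node 17487 (.node 17481 (.node 17478 (.node 17477 (.leaf 0x0) (.leaf 0x0)) (.node 17479 (.leaf 0x0) (.node 17480 (.leaf 0x0) (.leaf 0x10001)))) (.node 17484 (.node 17482 (.leaf 0x0) (.node 17483 (.leaf 0x0) (.leaf 0x0))) (.node 17485 (.leaf 0x0) (.node 17486 (.leaf 0x0) (.leaf 0x1))))) (.node 17492 (.node 17489 (.node 17488 (.leaf 0x0) (.leaf 0x1)) (.node 17490 (.leaf 0x0) (.node 17491 (.leaf 0x0) (.leaf 0x0)))) (.node 17495 (.node 17493 (.leaf 0x0) (.node 17494 (.leaf 0x0) (.leaf 0x0))) (.node 17496 (.leaf 0x0) (.node 17497 (.leaf 0x0) (.leaf 0x0))))))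

def sgOS_1610 : Store := (.node 17476 sgOS_1608 sgOS_1609)

def sgOS_1611 : Store := (.node 17454 sgOS_1607 sgOS_1610)

def sgOS_1612 : Store := (.node 17411 sgOS_1604 sgOS_1611)

def sgOS_1613 : Store := (.node 17508 (.node 17503 (.node 17500 (.node 17499 (.leaf 0x0) (.leaf 0x0)) (.node 17501 (.leaf 0x0) (.node 17502 (.leaf 0x0) (.leaf 0x0)))) (.node 17505 (.node 17504 (.leaf 0x0) (.leaf 0x0)) (.node 17506 (.leaf 0x0) (.node 17507 (.leaf 0x0) (.leaf 0x0))))) (.node 17513 (.node 17510 (.node 17509 (.leaf 0x0) (.leaf 0x0)) (.node 17511 (.leaf 0x0) (.node 17512 (.leaf 0x0) (.leaf 0x0)))) (.node 17516 (.node 17514 (.leaf 0x0) (.node 17515 (.leaf 0x0) (.leaf 0x10001))) (.node 17517 (.leaf 0x0) (.node 17518 (.leaf 0x0) (.leaf 0x0))))))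

def sgOS_1614 : Store := (.node 17530 (.node 17524 (.node 17521 (.node 17520 (.leaf 0x0) (.leaf 0x0)) (.node 17522 (.leaf 0x1) (.node 17523 (.leaf 0x0) (.leaf 0x1)))) (.node 17527 (.node 17525 (.leaf 0x0) (.node 17526 (.leaf 0x0) (.leaf 0x0))) (.node 17528 (.leaf 0x0) (.node 17529 (.leaf 0x0) (.leaf 0x1))))) (.node 17535 (.node 17532 (.node 17531 (.leaf 0x0) (.leaf 0x0)) (.node 17533 (.leaf 0x0) (.node 17534 (.leaf 0x0) (.leaf 0x0)))) (.node 17538 (.node 17536 (.leaf 0x0) (.node 17537 (.leaf 0x0) (.leaf 0x0))) (.node 17539 (.leaf 0x0) (.node 17540 (.leaf 0x0) (.leaf 0x0))))))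

def sgOS_1615 : Store := (.node 17519 sgOS_1613 sgOS_1614)

def sgOS_1616 : Store := (.node 17551 (.node 17546 (.node 17543 (.node 17542 (.leaf 0x0) (.leaf 0x0)) (.node 17544 (.leaf 0x1000002) (.node 17545 (.leaf 0x0) (.leaf 0x0)))) (.node 17548 (.node 17547 (.leaf 0x0) (.leaf 0x0)) (.node 17549 (.leaf 0x0) (.node 17550 (.leaf 0x1) (.leaf 0x0))))) (.node 17556 (.node 17553 (.node 17552 (.leaf 0x0) (.leaf 0x0)) (.node 17554 (.leaf 0x0) (.node 17555 (.leaf 0x0) (.leaf 0x0)))) (.node 17559 (.node 17557 (.leaf 0x0) (.node 17558 (.leaf 0x0) (.leaf 0x0))) (.node 17560 (.leaf 0x0) (.node 17561 (.leaf 0x0) (.leaf 0x0))))))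

def sgOS_1617 : Store := (.node 17573 (.node 17567 (.node 17564 (.node 17563 (.leaf 0x0) (.leaf 0x0)) (.node 17565 (.leaf 0x10001) (.node 17566 (.leaf 0x0) (.leaf 0x0)))) (.node 17570 (.node 17568 (.leaf 0x0) (.node 17569 (.leaf 0x0) (.leaf 0x0))) (.node 17571 (.leaf 0x0) (.node 17572 (.leaf 0x10001) (.leaf 0x0))))) (.node 17578 (.node 17575 (.node 17574 (.leaf 0x0) (.leaf 0x0)) (.node 17576 (.leaf 0x0) (.node 17577 (.leaf 0x0) (.leaf 0x1)))) (.node 17581 (.node 17579 (.leaf 0x0) (.node 17580 (.leaf 0x0) (.leaf 0x0))) (.node 17582 (.leaf 0x0) (.node 17583 (.leaf 0x0) (.leaf 0x0))))))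

def sgOS_1618 : Store := (.node 17562 sgOS_1616 sgOS_1617)

def sgOS_1619 : Store := (.node 17541 sgOS_1615 sgOS_1618)

def sgOS_1620 : Store := (.node 17594 (.node 17589 (.node 17586 (.node 17585 (.leaf 0x1000002) (.leaf 0x0)) (.node 17587 (.leaf 0x0) (.node 17588 (.leaf 0x0) (.leaf 0x0)))) (.node 17591 (.node 17590 (.leaf 0x0) (.leaf 0x0)) (.node 17592 (.leaf 0x0) (.node 17593 (.leaf 0x0) (.leaf 0x0))))) (.node 17599 (.node 17596 (.node 17595 (.leaf 0x0) (.leaf 0x0)) (.node 17597 (.leaf 0x0) (.node 17598 (.leaf 0x0) (.leaf 0x0)))) (.node 17602 (.node 17600 (.leaf 0x0) (.node 17601 (.leaf 0x0) (.leaf 0x0))) (.node 17603 (.leaf 0x0) (.node 17604 (.leaf 0x0) (.leaf 0x0))))))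

def sgOS_1621 : Store := (.node 17616 (.node 17610 (.node 17607 (.node 17606 (.leaf 0x0) (.leaf 0x0)) (.node 17608 (.leaf 0x0) (.node 17609 (.leaf 0x0) (.leaf 0x0)))) (.node 17613 (.node 17611 (.leaf 0x0) (.node 17612 (.leaf 0x0) (.leaf 0x0))) (.node 17614 (.leaf 0x10101010101010007) (.node 17615 (.leaf 0x1) (.leaf 0x0))))) (.node 17621 (.node 17618 (.node 17617 (.leaf 0x0) (.leaf 0x0)) (.node 17619 (.leaf 0x0) (.node 17620 (.leaf 0x1000002) (.leaf 0x0)))) (.node 17624 (.node 17622 (.leaf 0x1) (.node 17623 (.leaf 0x0) (.leaf 0x0))) (.node 17625 (.leaf 0x0) (.node 17626 (.leaf 0x0) (.leaf 0x0))))))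

def sgOS_1622 : Store := (.node 17605 sgOS_1620 sgOS_1621)

def sgOS_1623 : Store := (.node 17638 (.node 17632 (.node 17629 (.node 17628 (.leaf 0x0) (.leaf 0x1000002)) (.node 17630 (.leaf 0x0) (.node 17631 (.leaf 0x0) (.leaf 0x0)))) (.node 17635 (.node 17633 (.leaf 0x0) (.node 17634 (.leaf 0x1) (.leaf 0x0))) (.node 17636 (.leaf 0x10001) (.node 17637 (.leaf 0x0) (.leaf 0x0))))) (.node 17643 (.node 17640 (.node 17639 (.leaf 0x0) (.leaf 0x0)) (.node 17641 (.leaf 0x0) (.node 17642 (.leaf 0x10101010101010007) (.leaf 0x0)))) (.node 17646 (.node 17644 (.leaf 0x0) (.node 17645 (.leaf 0x0) (.leaf 0x0))) (.node 17647 (.leaf 0x0) (.node 17648 (.leaf 0x1000002) (.leaf 0x1))))))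

def sgOS_1624 : Store := (.node 17660 (.node 17654 (.node 17651 (.node 17650 (.leaf 0x0) (.leaf 0x0)) (.node 17652 (.leaf 0x0) (.node 17653 (.leaf 0x0) (.leaf 0x0)))) (.node 17657 (.node 17655 (.leaf 0x0) (.node 17656 (.leaf 0x0) (.leaf 0x0))) (.node 17658 (.leaf 0x0) (.node 17659 (.leaf 0x0) (.leaf 0x0))))) (.node 17665 (.node 17662 (.node 17661 (.leaf 0x0) (.leaf 0x6)) (.node 17663 (.leaf 0x9) (.node 17664 (.leaf 0x0) (.leaf 0x0)))) (.node 17668 (.node 17666 (.leaf 0x0) (.node 17667 (.leaf 0x0) (.leaf 0x0))) (.node 17669 (.leaf 0x0) (.node 17670 (.leaf 0x0) (.leaf 0x0))))))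

def sgOS_1625 : Store := (.node 17649 sgOS_1623 sgOS_1624)

def sgOS_1626 : Store := (.node 17627 sgOS_1622 sgOS_1625)

def sgOS_1627 : Store := (.node 17584 sgOS_1619 sgOS_1626)

def sgOS_1628 : Store := (.node 17498 sgOS_1612 sgOS_1627)

def sgOS_1629 : Store := (.node 17681 (.node 17676 (.node 17673 (.node 17672 (.leaf 0x0) (.leaf 0x0)) (.node 17674 (.leaf 0x0) (.node 17675 (.leaf 0x0) (.leaf 0x1)))) (.node 17678 (.node 17677 (.leaf 0x0) (.leaf 0x0)) (.node 17679 (.leaf 0x0) (.node 17680 (.leaf 0x0) (.leaf 0x0))))) (.node 17686 (.node 17683 (.node 17682 (.leaf 0x0) (.leaf 0xa)) (.node 17684 (.leaf 0x101010101010006) (.node 17685 (.leaf 0x0) (.leaf 0x0)))) (.node 17689 (.node 17687 (.leaf 0x0) (.node 17688 (.leaf 0x0) (.leaf 0x0))) (.node 17690 (.leaf 0x0) (.node 17691 (.leaf 0x1000002) (.leaf 0x0))))))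

def sgOS_1630 : Store := (.node 17703 (.node 17697 (.node 17694 (.node 17693 (.leaf 0x0) (.leaf 0x0)) (.node 17695 (.leaf 0x0) (.node 17696 (.leaf 0x0) (.leaf 0x0)))) (.node 17700 (.node 17698 (.leaf 0x0) (.node 17699 (.leaf 0x0) (.leaf 0x0))) (.node 17701 (.leaf 0x0) (.node 17702 (.leaf 0x0) (.leaf 0x0))))) (.node 17708 (.node 17705 (.node 17704 (.leaf 0x1000002) (.leaf 0x0)) (.node 17706 (.leaf 0x1000002) (.node 17707 (.leaf 0x0) (.leaf 0x0)))) (.node 17711 (.node 17709 (.leaf 0x0) (.node 17710 (.leaf 0x0) (.leaf 0x0))) (.node 17712 (.leaf 0x0) (.node 17713 (.leaf 0x0) (.leaf 0x0))))))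

def sgOS_1631 : Store := (.node 17692 sgOS_1629 sgOS_1630)

def sgOS_1632 : Store := (.node 17724 (.node 17719 (.node 17716 (.node 17715 (.leaf 0x0) (.leaf 0x0)) (.node 17717 (.leaf 0x0) (.node 17718 (.leaf 0x0) (.leaf 0x0)))) (.node 17721 (.node 17720 (.leaf 0x0) (.leaf 0x0)) (.node 17722 (.leaf 0x0) (.node 17723 (.leaf 0x0) (.leaf 0x0))))) (.node 17729 (.node 17726 (.node 17725 (.leaf 0x0) (.leaf 0x1)) (.node 17727 (.leaf 0x0) (.node 17728 (.leaf 0x0) (.leaf 0x0)))) (.node 17732 (.node 17730 (.leaf 0x0) (.node 17731 (.leaf 0x0) (.leaf 0x0))) (.node 17733 (.leaf 0x0) (.node 17734 (.leaf 0x0) (.leaf 0x0))))))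

def sgOS_1633 : Store := (.node 17746 (.node 17740 (.node 17737 (.node 17736 (.leaf 0x0) (.leaf 0x0)) (.node 17738 (.leaf 0x0) (.node 17739 (.leaf 0x0) (.leaf 0x1000002)))) (.node 17743 (.node 17741 (.leaf 0x10001) (.node 17742 (.leaf 0x0) (.leaf 0x0))) (.node 17744 (.leaf 0x0) (.node 17745 (.leaf 0x0) (.leaf 0x1000002))))) (.node 17751 (.node 17748 (.node 17747 (.leaf 0x10001) (.leaf 0x0)) (.node 17749 (.leaf 0x0) (.node 17750 (.leaf 0x0) (.leaf 0x0)))) (.node 17754 (.node 17752 (.leaf 0x0) (.node 17753 (.leaf 0x0) (.leaf 0x0))) (.node 17755 (.leaf 0x0) (.node 17756 (.leaf 0x0) (.leaf 0x0))))))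

def sgOS_1634 : Store := (.node 17735 sgOS_1632 sgOS_1633)

def sgOS_1635 : Store := (.node 17714 sgOS_1631 sgOS_1634)

def sgOS_1636 : Store := (.node 17767 (.node 17762 (.node 17759 (.node 17758 (.leaf 0x0) (.leaf 0x0)) (.node 17760 (.leaf 0x0) (.node 17761 (.leaf 0x0) (.leaf 0x10001)))) (.node 17764 (.node 17763 (.leaf 0x0) (.leaf 0x0)) (.node 17765 (.leaf 0x0) (.node 17766 (.leaf 0x0) (.leaf 0x0))))) (.node 17772 (.node 17769 (.node 17768 (.leaf 0x0) (.leaf 0x1000002)) (.node 17770 (.leaf 0x0) (.node 17771 (.leaf 0x0) (.leaf 0x0)))) (.node 17775 (.node 17773 (.leaf 0x0) (.node 17774 (.leaf 0x0) (.leaf 0x1000002))) (.node 17776 (.leaf 0x0) (.node 17777 (.leaf 0x0) (.leaf 0x0))))))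

def sgOS_1637 : Store := (.node 17789 (.node 17783 (.node 17780 (.node 17779 (.leaf 0x0) (.leaf 0x0)) (.node 17781 (.leaf 0x0) (.node 17782 (.leaf 0x0) (.leaf 0x0)))) (.node 17786 (.node 17784 (.leaf 0x0) (.node 17785 (.leaf 0x0) (.leaf 0x0))) (.node 17787 (.leaf 0x0) (.node 17788 (.leaf 0x1000002) (.leaf 0x0))))) (.node 17794 (.node 17791 (.node 17790 (.leaf 0x0) (.leaf 0x0)) (.node 17792 (.leaf 0x0) (.node 17793 (.leaf 0x0) (.leaf 0x0)))) (.node 17797 (.node 17795 (.leaf 0x1000002) (.node 17796 (.leaf 0x0) (.leaf 0x0))) (.node 17798 (.leaf 0x0) (.node 17799 (.leaf 0x0) (.leaf 0x0))))))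

def sgOS_1638 : Store := (.node 17778 sgOS_1636 sgOS_1637)

def sgOS_1639 : Store := (.node 17811 (.node 17805 (.node 17802 (.node 17801 (.leaf 0x0) (.leaf 0x0)) (.node 17803 (.leaf 0x0) (.node 17804 (.leaf 0x0) (.leaf 0x0)))) (.node 17808 (.node 17806 (.leaf 0x0) (.node 17807 (.leaf 0x0) (.leaf 0x0))) (.node 17809 (.leaf 0x0) (.node 17810 (.leaf 0x0) (.leaf 0x0))))) (.node 17816 (.node 17813 (.node 17812 (.leaf 0x0) (.leaf 0x0)) (.node 17814 (.leaf 0x0) (.node 17815 (.leaf 0x0) (.leaf 0x0)))) (.node 17819 (.node 17817 (.leaf 0x0) (.node 17818 (.leaf 0x1000002) (.leaf 0x0))) (.node 17820 (.leaf 0x0) (.node 17821 (.leaf 0x0) (.leaf 0x0))))))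

def sgOS_1640 : Store := (.node 17833 (.node 17827 (.node 17824 (.node 17823 (.leaf 0x10001) (.leaf 0x0)) (.node 17825 (.leaf 0x10001) (.node 17826 (.leaf 0x0) (.leaf 0x0)))) (.node 17830 (.node 17828 (.leaf 0x0) (.node 17829 (.leaf 0x0) (.leaf 0x10001))) (.node 17831 (.leaf 0x0) (.node 17832 (.leaf 0x1) (.leaf 0x0))))) (.node 17838 (.node 17835 (.node 17834 (.leaf 0x0) (.leaf 0x0)) (.node 17836 (.leaf 0x0) (.node 17837 (.leaf 0x1) (.leaf 0x0)))) (.node 17841 (.node 17839 (.leaf 0x0) (.node 17840 (.leaf 0x0) (.leaf 0x0))) (.node 17842 (.leaf 0x0) (.node 17843 (.leaf 0x0) (.leaf 0x0))))))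

def sgOS_1641 : Store := (.node 17822 sgOS_1639 sgOS_1640)

def sgOS_1642 : Store := (.node 17800 sgOS_1638 sgOS_1641)

def sgOS_1643 : Store := (.node 17757 sgOS_1635 sgOS_1642)

def sgOS_1644 : Store := (.node 17854 (.node 17849 (.node 17846 (.node 17845 (.leaf 0x0) (.leaf 0x0)) (.node 17847 (.leaf 0x0) (.node 17848 (.leaf 0x0) (.leaf 0x0)))) (.node 17851 (.node 17850 (.leaf 0x0) (.leaf 0x0)) (.node 17852 (.leaf 0x10001) (.node 17853 (.leaf 0x0) (.leaf 0x0))))) (.node 17859 (.node 17856 (.node 17855 (.leaf 0x0) (.leaf 0x0)) (.node 17857 (.leaf 0x0) (.node 17858 (.leaf 0x0) (.leaf 0x0)))) (.node 17862 (.node 17860 (.leaf 0x0) (.node 17861 (.leaf 0x0) (.leaf 0x0))) (.node 17863 (.leaf 0x0) (.node 17864 (.leaf 0x0) (.leaf 0x0))))))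

def sgOS_1645 : Store := (.node 17876 (.node 17870 (.node 17867 (.node 17866 (.leaf 0x0) (.leaf 0x0)) (.node 17868 (.leaf 0x0) (.node 17869 (.leaf 0x0) (.leaf 0x0)))) (.node 17873 (.node 17871 (.leaf 0x0) (.node 17872 (.leaf 0x0) (.leaf 0x1000002))) (.node 17874 (.leaf 0x1000002) (.node 17875 (.leaf 0x0) (.leaf 0x0))))) (.node 17881 (.node 17878 (.node 17877 (.leaf 0x0) (.leaf 0x0)) (.node 17879 (.leaf 0x0) (.node 17880 (.leaf 0x10001) (.leaf 0x10001)))) (.node 17884 (.node 17882 (.leaf 0x0) (.node 17883 (.leaf 0x0) (.leaf 0x0))) (.node 17885 (.leaf 0x0) (.node 17886 (.leaf 0x0) (.leaf 0x1))))))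

def sgOS_1646 : Store := (.node 17865 sgOS_1644 sgOS_1645)

def sgOS_1647 : Store := (.node 17898 (.node 17892 (.node 17889 (.node 17888 (.leaf 0x0) (.leaf 0x0)) (.node 17890 (.leaf 0x0) (.node 17891 (.leaf 0x0) (.leaf 0x0)))) (.node 17895 (.node 17893 (.leaf 0x1) (.node 17894 (.leaf 0x10001) (.leaf 0x0))) (.node 17896 (.leaf 0x0) (.node 17897 (.leaf 0x0) (.leaf 0x0))))) (.node 17903 (.node 17900 (.node 17899 (.leaf 0x0) (.leaf 0x0)) (.node 17901 (.leaf 0x0) (.node 17902 (.leaf 0x0) (.leaf 0x0)))) (.node 17906 (.node 17904 (.leaf 0x0) (.node 17905 (.leaf 0x0) (.leaf 0x0))) (.node 17907 (.leaf 0x0) (.node 17908 (.leaf 0x0) (.leaf 0x0))))))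

def sgOS_1648 : Store := (.node 17920 (.node 17914 (.node 17911 (.node 17910 (.leaf 0x0) (.leaf 0x0)) (.node 17912 (.leaf 0x0) (.node 17913 (.leaf 0x0) (.leaf 0x1)))) (.node 17917 (.node 17915 (.leaf 0x0) (.node 17916 (.leaf 0x0) (.leaf 0x0))) (.node 17918 (.leaf 0x0) (.node 17919 (.leaf 0x0) (.leaf 0x0))))) (.node 17925 (.node 17922 (.node 17921 (.leaf 0x0) (.leaf 0x0)) (.node 17923 (.leaf 0x1) (.node 17924 (.leaf 0x0) (.leaf 0x0)))) (.node 17928 (.node 17926 (.leaf 0x0) (.node 17927 (.leaf 0x0) (.leaf 0x1000002))) (.node 17929 (.leaf 0x0) (.node 17930 (.leaf 0x0) (.leaf 0x0))))))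

def sgOS_1649 : Store := (.node 17909 sgOS_1647 sgOS_1648)

def sgOS_1650 : Store := (.node 17887 sgOS_1646 sgOS_1649)

def sgOS_1651 : Store := (.node 17941 (.node 17936 (.node 17933 (.node 17932 (.leaf 0x0) (.leaf 0x0)) (.node 17934 (.leaf 0x0) (.node 17935 (.leaf 0x0) (.leaf 0x0)))) (.node 17938 (.node 17937 (.leaf 0x0) (.leaf 0x0)) (.node 17939 (.leaf 0x0) (.node 17940 (.leaf 0x0) (.leaf 0x0))))) (.node 17946 (.node 17943 (.node 17942 (.leaf 0x0) (.leaf 0x0)) (.node 17944 (.leaf 0x0) (.node 17945 (.leaf 0x0) (.leaf 0x0)))) (.node 17949 (.node 17947 (.leaf 0x0) (.node 17948 (.leaf 0x0) (.leaf 0x1))) (.node 17950 (.leaf 0x0) (.node 17951 (.leaf 0x1000002) (.leaf 0x0))))))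

def sgOS_1652 : Store := (.node 17963 (.node 17957 (.node 17954 (.node 17953 (.leaf 0x0) (.leaf 0x0)) (.node 17955 (.leaf 0x0) (.node 17956 (.leaf 0x0) (.leaf 0x0)))) (.node 17960 (.node 17958 (.leaf 0x0) (.node 17959 (.leaf 0x0) (.leaf 0x0))) (.node 17961 (.leaf 0x0) (.node 17962 (.leaf 0x0) (.leaf 0x0))))) (.node 17968 (.node 17965 (.node 17964 (.leaf 0x10001) (.leaf 0x1000002)) (.node 17966 (.leaf 0x0) (.node 17967 (.leaf 0x0) (.leaf 0x0)))) (.node 17971 (.node 17969 (.leaf 0x0) (.node 17970 (.leaf 0x0) (.leaf 0x0))) (.node 17972 (.leaf 0x1) (.node 17973 (.leaf 0x0) (.leaf 0x0))))))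

def sgOS_1653 : Store := (.node 17952 sgOS_1651 sgOS_1652)

def sgOS_1654 : Store := (.node 17985 (.node 17979 (.node 17976 (.node 17975 (.leaf 0x0) (.leaf 0x0)) (.node 17977 (.leaf 0x101010101010006) (.node 17978 (.leaf 0x4) (.leaf 0x0)))) (.node 17982 (.node 17980 (.leaf 0x0) (.node 17981 (.leaf 0x0) (.leaf 0x0))) (.node 17983 (.leaf 0x0) (.node 17984 (.leaf 0x0) (.leaf 0x0))))) (.node 17990 (.node 17987 (.node 17986 (.leaf 0x0) (.leaf 0x0)) (.node 17988 (.leaf 0x0) (.node 17989 (.leaf 0x0) (.leaf 0x0)))) (.node 17993 (.node 17991 (.leaf 0x1) (.node 17992 (.leaf 0x0) (.leaf 0x0))) (.node 17994 (.leaf 0x0) (.node 17995 (.leaf 0x0) (.leaf 0x0))))))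

def sgOS_1655 : Store := (.node 18007 (.node 18001 (.node 17998 (.node 17997 (.leaf 0x0) (.leaf 0x10001)) (.node 17999 (.leaf 0x0) (.node 18000 (.leaf 0x1000002) (.leaf 0x0)))) (.node 18004 (.node 18002 (.leaf 0x0) (.node 18003 (.leaf 0x0) (.leaf 0x0))) (.node 18005 (.leaf 0x0) (.node 18006 (.leaf 0x1) (.leaf 0x1))))) (.node 18012 (.node 18009 (.node 18008 (.leaf 0x0) (.leaf 0x0)) (.node 18010 (.leaf 0x0) (.node 18011 (.leaf 0x0) (.leaf 0x1000002)))) (.node 18015 (.node 18013 (.leaf 0x0) (.node 18014 (.leaf 0x10001) (.leaf 0x0))) (.node 18016 (.leaf 0x0) (.node 18017 (.leaf 0x0) (.leaf 0x0))))))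

def sgOS_1656 : Store := (.node 17996 sgOS_1654 sgOS_1655)

def sgOS_1657 : Store := (.node 17974 sgOS_1653 sgOS_1656)

def sgOS_1658 : Store := (.node 17931 sgOS_1650 sgOS_1657)

def sgOS_1659 : Store := (.node 17844 sgOS_1643 sgOS_1658)

def sgOS_1660 : Store := (.node 17671 sgOS_1628 sgOS_1659)

def sgOS_1661 : Store := (.node 17325 sgOS_1597 sgOS_1660)

def sgOS_1662 : Store := (.node 18028 (.node 18023 (.node 18020 (.node 18019 (.leaf 0x0) (.leaf 0x0)) (.node 18021 (.leaf 0x0) (.node 18022 (.leaf 0x0) (.leaf 0x0)))) (.node 18025 (.node 18024 (.leaf 0x0) (.leaf 0x0)) (.node 18026 (.leaf 0x10001) (.node 18027 (.leaf 0x0) (.leaf 0x1000002))))) (.node 18033 (.node 18030 (.node 18029 (.leaf 0x0) (.leaf 0x0)) (.node 18031 (.leaf 0x0) (.node 18032 (.leaf 0x0) (.leaf 0x0)))) (.node 18036 (.node 18034 (.leaf 0x0) (.node 18035 (.leaf 0x0) (.leaf 0x0))) (.node 18037 (.leaf 0x0) (.node 18038 (.leaf 0x0) (.leaf 0x0))))))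

def sgOS_1663 : Store := (.node 18050 (.node 18044 (.node 18041 (.node 18040 (.leaf 0x0) (.leaf 0x0)) (.node 18042 (.leaf 0x0) (.node 18043 (.leaf 0x0) (.leaf 0x0)))) (.node 18047 (.node 18045 (.leaf 0x0) (.node 18046 (.leaf 0x0) (.leaf 0x0))) (.node 18048 (.leaf 0x0) (.node 18049 (.leaf 0x1000002) (.leaf 0x0))))) (.node 18055 (.node 18052 (.node 18051 (.leaf 0x0) (.leaf 0x0)) (.node 18053 (.leaf 0x0) (.node 18054 (.leaf 0x0) (.leaf 0x0)))) (.node 18058 (.node 18056 (.leaf 0x0) (.node 18057 (.leaf 0x0) (.leaf 0x0))) (.node 18059 (.leaf 0x0) (.node 18060 (.leaf 0x0) (.leaf 0x1000002))))))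

def sgOS_1664 : Store := (.node 18039 sgOS_1662 sgOS_1663)

def sgOS_1665 : Store := (.node 18071 (.node 18066 (.node 18063 (.node 18062 (.leaf 0x0) (.leaf 0x1000002)) (.node 18064 (.leaf 0x0) (.node 18065 (.leaf 0x0) (.leaf 0x0)))) (.node 18068 (.node 18067 (.leaf 0x0) (.leaf 0x0)) (.node 18069 (.leaf 0x0) (.node 18070 (.leaf 0x0) (.leaf 0x0))))) (.node 18076 (.node 18073 (.node 18072 (.leaf 0x0) (.leaf 0x0)) (.node 18074 (.leaf 0x0) (.node 18075 (.leaf 0x0) (.leaf 0x0)))) (.node 18079 (.node 18077 (.leaf 0x0) (.node 18078 (.leaf 0x0) (.leaf 0x0))) (.node 18080 (.leaf 0x0) (.node 18081 (.leaf 0x0) (.leaf 0x7))))))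

def sgOS_1666 : Store := (.node 18093 (.node 18087 (.node 18084 (.node 18083 (.leaf 0x0) (.leaf 0x0)) (.node 18085 (.leaf 0x0) (.node 18086 (.leaf 0x0) (.leaf 0x0)))) (.node 18090 (.node 18088 (.leaf 0x0) (.node 18089 (.leaf 0x1) (.leaf 0x0))) (.node 18091 (.leaf 0x0) (.node 18092 (.leaf 0x0) (.leaf 0x0))))) (.node 18098 (.node 18095 (.node 18094 (.leaf 0x0) (.leaf 0x0)) (.node 18096 (.leaf 0x1000002) (.node 18097 (.leaf 0x0) (.leaf 0x0)))) (.node 18101 (.node 18099 (.leaf 0x0) (.node 18100 (.leaf 0x0) (.leaf 0x0))) (.node 18102 (.leaf 0x0) (.node 18103 (.leaf 0x10101010004) (.leaf 0x10101010101010007))))))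

def sgOS_1667 : Store := (.node 18082 sgOS_1665 sgOS_1666)

def sgOS_1668 : Store := (.node 18061 sgOS_1664 sgOS_1667)

def sgOS_1669 : Store := (.node 18114 (.node 18109 (.node 18106 (.node 18105 (.leaf 0x0) (.leaf 0x0)) (.node 18107 (.leaf 0x0) (.node 18108 (.leaf 0x0) (.leaf 0x0)))) (.node 18111 (.node 18110 (.leaf 0x10001) (.leaf 0x10001)) (.node 18112 (.leaf 0x0) (.node 18113 (.leaf 0x0) (.leaf 0x0))))) (.node 18119 (.node 18116 (.node 18115 (.leaf 0x0) (.leaf 0x0)) (.node 18117 (.leaf 0x1) (.node 18118 (.leaf 0x0) (.leaf 0x0)))) (.node 18122 (.node 18120 (.leaf 0x0) (.node 18121 (.leaf 0x0) (.leaf 0x0))) (.node 18123 (.leaf 0x0) (.node 18124 (.leaf 0x1) (.leaf 0x0))))))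

def sgOS_1670 : Store := (.node 18136 (.node 18130 (.node 18127 (.node 18126 (.leaf 0x0) (.leaf 0x0)) (.node 18128 (.leaf 0x0) (.node 18129 (.leaf 0x0) (.leaf 0x0)))) (.node 18133 (.node 18131 (.leaf 0x0) (.node 18132 (.leaf 0x0) (.leaf 0x0))) (.node 18134 (.leaf 0x0) (.node 18135 (.leaf 0x0) (.leaf 0x0))))) (.node 18141 (.node 18138 (.node 18137 (.leaf 0x0) (.leaf 0x0)) (.node 18139 (.leaf 0x0) (.node 18140 (.leaf 0x0) (.leaf 0x0)))) (.node 18144 (.node 18142 (.leaf 0x0) (.node 18143 (.leaf 0x0) (.leaf 0x0))) (.node 18145 (.leaf 0x1) (.node 18146 (.leaf 0x0) (.leaf 0x1))))))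

def sgOS_1671 : Store := (.node 18125 sgOS_1669 sgOS_1670)

def sgOS_1672 : Store := (.node 18158 (.node 18152 (.node 18149 (.node 18148 (.leaf 0x0) (.leaf 0x0)) (.node 18150 (.leaf 0x0) (.node 18151 (.leaf 0x0) (.leaf 0x0)))) (.node 18155 (.node 18153 (.leaf 0x0) (.node 18154 (.leaf 0x0) (.leaf 0x0))) (.node 18156 (.leaf 0x0) (.node 18157 (.leaf 0x0) (.leaf 0x0))))) (.node 18163 (.node 18160 (.node 18159 (.leaf 0x0) (.leaf 0x0)) (.node 18161 (.leaf 0x0) (.node 18162 (.leaf 0x0) (.leaf 0x0)))) (.node 18166 (.node 18164 (.leaf 0x0) (.node 18165 (.leaf 0x0) (.leaf 0x0))) (.node 18167 (.leaf 0x0) (.node 18168 (.leaf 0x0) (.leaf 0x0))))))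

def sgOS_1673 : Store := (.node 18180 (.node 18174 (.node 18171 (.node 18170 (.leaf 0x0) (.leaf 0x0)) (.node 18172 (.leaf 0x0) (.node 18173 (.leaf 0x0) (.leaf 0x0)))) (.node 18177 (.node 18175 (.leaf 0x0) (.node 18176 (.leaf 0x0) (.leaf 0x0))) (.node 18178 (.leaf 0x0) (.node 18179 (.leaf 0x0) (.leaf 0x0))))) (.node 18185 (.node 18182 (.node 18181 (.leaf 0x0) (.leaf 0x0)) (.node 18183 (.leaf 0x0) (.node 18184 (.leaf 0x0) (.leaf 0x0)))) (.node 18188 (.node 18186 (.leaf 0x0) (.node 18187 (.leaf 0x101010101010006) (.leaf 0x2))) (.node 18189 (.leaf 0x0) (.node 18190 (.leaf 0x0) (.leaf 0x0))))))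

def sgOS_1674 : Store := (.node 18169 sgOS_1672 sgOS_1673)

def sgOS_1675 : Store := (.node 18147 sgOS_1671 sgOS_1674)

def sgOS_1676 : Store := (.node 18104 sgOS_1668 sgOS_1675)

def sgOS_1677 : Store := (.node 18201 (.node 18196 (.node 18193 (.node 18192 (.leaf 0x0) (.leaf 0x0)) (.node 18194 (.leaf 0x0) (.node 18195 (.leaf 0x0) (.leaf 0x0)))) (.node 18198 (.node 18197 (.leaf 0x0) (.leaf 0x0)) (.node 18199 (.leaf 0x0) (.node 18200 (.leaf 0x0) (.leaf 0x0))))) (.node 18206 (.node 18203 (.node 18202 (.leaf 0x0) (.leaf 0x0)) (.node 18204 (.leaf 0x0) (.node 18205 (.leaf 0x0) (.leaf 0x0)))) (.node 18209 (.node 18207 (.leaf 0x0) (.node 18208 (.leaf 0x0) (.leaf 0x0))) (.node 18210 (.leaf 0x1) (.node 18211 (.leaf 0x0) (.leaf 0x0))))))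

def sgOS_1678 : Store := (.node 18223 (.node 18217 (.node 18214 (.node 18213 (.leaf 0x0) (.leaf 0x0)) (.node 18215 (.leaf 0x0) (.node 18216 (.leaf 0x0) (.leaf 0x1)))) (.node 18220 (.node 18218 (.leaf 0x0) (.node 18219 (.leaf 0x0) (.leaf 0x0))) (.node 18221 (.leaf 0x0) (.node 18222 (.leaf 0x0) (.leaf 0x0))))) (.node 18228 (.node 18225 (.node 18224 (.leaf 0x0) (.leaf 0x0)) (.node 18226 (.leaf 0x0) (.node 18227 (.leaf 0x0) (.leaf 0x0)))) (.node 18231 (.node 18229 (.leaf 0x0) (.node 18230 (.leaf 0x0) (.leaf 0x0))) (.node 18232 (.leaf 0x0) (.node 18233 (.leaf 0x0) (.leaf 0x0))))))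

def sgOS_1679 : Store := (.node 18212 sgOS_1677 sgOS_1678)

def sgOS_1680 : Store := (.node 18244 (.node 18239 (.node 18236 (.node 18235 (.leaf 0x0) (.leaf 0x0)) (.node 18237 (.leaf 0x0) (.node 18238 (.leaf 0x10101010004) (.leaf 0x0)))) (.node 18241 (.node 18240 (.leaf 0x0) (.leaf 0x0)) (.node 18242 (.leaf 0x0) (.node 18243 (.leaf 0x1000002) (.leaf 0x0))))) (.node 18249 (.node 18246 (.node 18245 (.leaf 0x0) (.leaf 0x0)) (.node 18247 (.leaf 0x0) (.node 18248 (.leaf 0x0) (.leaf 0x0)))) (.node 18252 (.node 18250 (.leaf 0x1000002) (.node 18251 (.leaf 0x0) (.leaf 0x0))) (.node 18253 (.leaf 0x0) (.node 18254 (.leaf 0x0) (.leaf 0x0))))))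

def sgOS_1681 : Store := (.node 18266 (.node 18260 (.node 18257 (.node 18256 (.leaf 0x0) (.leaf 0x1000002)) (.node 18258 (.leaf 0x1) (.node 18259 (.leaf 0x0) (.leaf 0x0)))) (.node 18263 (.node 18261 (.leaf 0x0) (.node 18262 (.leaf 0x0) (.leaf 0x0))) (.node 18264 (.leaf 0x1000002) (.node 18265 (.leaf 0x0) (.leaf 0x0))))) (.node 18271 (.node 18268 (.node 18267 (.leaf 0x0) (.leaf 0x0)) (.node 18269 (.leaf 0x0) (.node 18270 (.leaf 0x0) (.leaf 0x0)))) (.node 18274 (.node 18272 (.leaf 0x0) (.node 18273 (.leaf 0x0) (.leaf 0x0))) (.node 18275 (.leaf 0x0) (.node 18276 (.leaf 0x0) (.leaf 0x0))))))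

def sgOS_1682 : Store := (.node 18255 sgOS_1680 sgOS_1681)

def sgOS_1683 : Store := (.node 18234 sgOS_1679 sgOS_1682)

def sgOS_1684 : Store := (.node 18287 (.node 18282 (.node 18279 (.node 18278 (.leaf 0x0) (.leaf 0x0)) (.node 18280 (.leaf 0x0) (.node 18281 (.leaf 0x0) (.leaf 0x0)))) (.node 18284 (.node 18283 (.leaf 0x0) (.leaf 0x0)) (.node 18285 (.leaf 0x0) (.node 18286 (.leaf 0x0) (.leaf 0x0))))) (.node 18292 (.node 18289 (.node 18288 (.leaf 0x0) (.leaf 0x0)) (.node 18290 (.leaf 0x0) (.node 18291 (.leaf 0x0) (.leaf 0x1000002)))) (.node 18295 (.node 18293 (.leaf 0x0) (.node 18294 (.leaf 0x0) (.leaf 0x0))) (.node 18296 (.leaf 0x0) (.node 18297 (.leaf 0x0) (.leaf 0x0))))))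

def sgOS_1685 : Store := (.node 18309 (.node 18303 (.node 18300 (.node 18299 (.leaf 0x1) (.leaf 0x0)) (.node 18301 (.leaf 0x0) (.node 18302 (.leaf 0x0) (.leaf 0x0)))) (.node 18306 (.node 18304 (.leaf 0x0) (.node 18305 (.leaf 0x0) (.leaf 0x0))) (.node 18307 (.leaf 0x0) (.node 18308 (.leaf 0x1) (.leaf 0x0))))) (.node 18314 (.node 18311 (.node 18310 (.leaf 0x0) (.leaf 0x0)) (.node 18312 (.leaf 0x0) (.node 18313 (.leaf 0x0) (.leaf 0x0)))) (.node 18317 (.node 18315 (.leaf 0x0) (.node 18316 (.leaf 0x0) (.leaf 0x0))) (.node 18318 (.leaf 0x0) (.node 18319 (.leaf 0x0) (.leaf 0x1))))))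

def sgOS_1686 : Store := (.node 18298 sgOS_1684 sgOS_1685)

def sgOS_1687 : Store := (.node 18331 (.node 18325 (.node 18322 (.node 18321 (.leaf 0x0) (.leaf 0x1000002)) (.node 18323 (.leaf 0x0) (.node 18324 (.leaf 0x0) (.leaf 0x0)))) (.node 18328 (.node 18326 (.leaf 0x0) (.node 18327 (.leaf 0xa) (.leaf 0x0))) (.node 18329 (.leaf 0x0) (.node 18330 (.leaf 0x0) (.leaf 0x0))))) (.node 18336 (.node 18333 (.node 18332 (.leaf 0x0) (.leaf 0x0)) (.node 18334 (.leaf 0x0) (.node 18335 (.leaf 0x0) (.leaf 0x0)))) (.node 18339 (.node 18337 (.leaf 0x0) (.node 18338 (.leaf 0x0) (.leaf 0x0))) (.node 18340 (.leaf 0x0) (.node 18341 (.leaf 0x0) (.leaf 0x0))))))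

def sgOS_1688 : Store := (.node 18353 (.node 18347 (.node 18344 (.node 18343 (.leaf 0x0) (.leaf 0x0)) (.node 18345 (.leaf 0x0) (.node 18346 (.leaf 0x0) (.leaf 0x0)))) (.node 18350 (.node 18348 (.leaf 0x1) (.node 18349 (.leaf 0x1) (.leaf 0x0))) (.node 18351 (.leaf 0x0) (.node 18352 (.leaf 0x0) (.leaf 0x0))))) (.node 18358 (.node 18355 (.node 18354 (.leaf 0x0) (.leaf 0x0)) (.node 18356 (.leaf 0x0) (.node 18357 (.leaf 0x0) (.leaf 0x0)))) (.node 18361 (.node 18359 (.leaf 0x0) (.node 18360 (.leaf 0x0) (.leaf 0x0))) (.node 18362 (.leaf 0x0) (.node 18363 (.leaf 0x0) (.leaf 0x0))))))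

def sgOS_1689 : Store := (.node 18342 sgOS_1687 sgOS_1688)

def sgOS_1690 : Store := (.node 18320 sgOS_1686 sgOS_1689)

def sgOS_1691 : Store := (.node 18277 sgOS_1683 sgOS_1690)

def sgOS_1692 : Store := (.node 18191 sgOS_1676 sgOS_1691)

def sgOS_1693 : Store := (.node 18374 (.node 18369 (.node 18366 (.node 18365 (.leaf 0x0) (.leaf 0x0)) (.node 18367 (.leaf 0x0) (.node 18368 (.leaf 0x0) (.leaf 0x0)))) (.node 18371 (.node 18370 (.leaf 0x0) (.leaf 0x0)) (.node 18372 (.leaf 0x0) (.node 18373 (.leaf 0x0) (.leaf 0x0))))) (.node 18379 (.node 18376 (.node 18375 (.leaf 0x0) (.leaf 0x1)) (.node 18377 (.leaf 0x0) (.node 18378 (.leaf 0x0) (.leaf 0x0)))) (.node 18382 (.node 18380 (.leaf 0x0) (.node 18381 (.leaf 0x0) (.leaf 0x0))) (.node 18383 (.leaf 0x1000002) (.node 18384 (.leaf 0x0) (.leaf 0x0))))))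

def sgOS_1694 : Store := (.node 18396 (.node 18390 (.node 18387 (.node 18386 (.leaf 0x0) (.leaf 0x0)) (.node 18388 (.leaf 0x0) (.node 18389 (.leaf 0x0) (.leaf 0x0)))) (.node 18393 (.node 18391 (.leaf 0x8) (.node 18392 (.leaf 0x0) (.leaf 0x0))) (.node 18394 (.leaf 0x0) (.node 18395 (.leaf 0x0) (.leaf 0x0))))) (.node 18401 (.node 18398 (.node 18397 (.leaf 0x1) (.leaf 0x1)) (.node 18399 (.leaf 0x0) (.node 18400 (.leaf 0x0) (.leaf 0x0)))) (.node 18404 (.node 18402 (.leaf 0x0) (.node 18403 (.leaf 0x0) (.leaf 0x0))) (.node 18405 (.leaf 0x0) (.node 18406 (.leaf 0x0) (.leaf 0x0))))))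

def sgOS_1695 : Store := (.node 18385 sgOS_1693 sgOS_1694)

def sgOS_1696 : Store := (.node 18417 (.node 18412 (.node 18409 (.node 18408 (.leaf 0x0) (.leaf 0x0)) (.node 18410 (.leaf 0x0) (.node 18411 (.leaf 0x10001) (.leaf 0x1000002)))) (.node 18414 (.node 18413 (.leaf 0x0) (.leaf 0x0)) (.node 18415 (.leaf 0x0) (.node 18416 (.leaf 0x0) (.leaf 0x0))))) (.node 18422 (.node 18419 (.node 18418 (.leaf 0x10001) (.leaf 0x0)) (.node 18420 (.leaf 0x0) (.node 18421 (.leaf 0x0) (.leaf 0x0)))) (.node 18425 (.node 18423 (.leaf 0x0) (.node 18424 (.leaf 0x0) (.leaf 0x0))) (.node 18426 (.leaf 0x1000002) (.node 18427 (.leaf 0x0) (.leaf 0x0))))))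

def sgOS_1697 : Store := (.node 18439 (.node 18433 (.node 18430 (.node 18429 (.leaf 0x0) (.leaf 0x0)) (.node 18431 (.leaf 0x0) (.node 18432 (.leaf 0x0) (.leaf 0x0)))) (.node 18436 (.node 18434 (.leaf 0x0) (.node 18435 (.leaf 0x0) (.leaf 0x0))) (.node 18437 (.leaf 0x0) (.node 18438 (.leaf 0x0) (.leaf 0x1000002))))) (.node 18444 (.node 18441 (.node 18440 (.leaf 0x0) (.leaf 0x0)) (.node 18442 (.leaf 0x0) (.node 18443 (.leaf 0x0) (.leaf 0x0)))) (.node 18447 (.node 18445 (.leaf 0x0) (.node 18446 (.leaf 0x0) (.leaf 0x0))) (.node 18448 (.leaf 0x0) (.node 18449 (.leaf 0x0) (.leaf 0x0))))))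

def sgOS_1698 : Store := (.node 18428 sgOS_1696 sgOS_1697)

def sgOS_1699 : Store := (.node 18407 sgOS_1695 sgOS_1698)

def sgOS_1700 : Store := (.node 18460 (.node 18455 (.node 18452 (.node 18451 (.leaf 0x0) (.leaf 0x0)) (.node 18453 (.leaf 0x0) (.node 18454 (.leaf 0x0) (.leaf 0x0)))) (.node 18457 (.node 18456 (.leaf 0x0) (.leaf 0x0)) (.node 18458 (.leaf 0x0) (.node 18459 (.leaf 0x0) (.leaf 0x0))))) (.node 18465 (.node 18462 (.node 18461 (.leaf 0x0) (.leaf 0x0)) (.node 18463 (.leaf 0x0) (.node 18464 (.leaf 0x0) (.leaf 0x0)))) (.node 18468 (.node 18466 (.leaf 0x0) (.node 18467 (.leaf 0x0) (.leaf 0x0))) (.node 18469 (.leaf 0x0) (.node 18470 (.leaf 0x0) (.leaf 0x0))))))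

def sgOS_1701 : Store := (.node 18482 (.node 18476 (.node 18473 (.node 18472 (.leaf 0x0) (.leaf 0x0)) (.node 18474 (.leaf 0x0) (.node 18475 (.leaf 0x0) (.leaf 0x0)))) (.node 18479 (.node 18477 (.leaf 0x0) (.node 18478 (.leaf 0x0) (.leaf 0x0))) (.node 18480 (.leaf 0x0) (.node 18481 (.leaf 0x1) (.leaf 0x0))))) (.node 18487 (.node 18484 (.node 18483 (.leaf 0x0) (.leaf 0x0)) (.node 18485 (.leaf 0x0) (.node 18486 (.leaf 0x0) (.leaf 0x0)))) (.node 18490 (.node 18488 (.leaf 0x0) (.node 18489 (.leaf 0x0) (.leaf 0x0))) (.node 18491 (.leaf 0x0) (.node 18492 (.leaf 0x0) (.leaf 0x0))))))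

def sgOS_1702 : Store := (.node 18471 sgOS_1700 sgOS_1701)

def sgOS_1703 : Store := (.node 18504 (.node 18498 (.node 18495 (.node 18494 (.leaf 0x0) (.leaf 0x1)) (.node 18496 (.leaf 0x0) (.node 18497 (.leaf 0x0) (.leaf 0x0)))) (.node 18501 (.node 18499 (.leaf 0x0) (.node 18500 (.leaf 0x0) (.leaf 0x0))) (.node 18502 (.leaf 0x0) (.node 18503 (.leaf 0x0) (.leaf 0x0))))) (.node 18509 (.node 18506 (.node 18505 (.leaf 0x0) (.leaf 0x0)) (.node 18507 (.leaf 0x0) (.node 18508 (.leaf 0x0) (.leaf 0x0)))) (.node 18512 (.node 18510 (.leaf 0x0) (.node 18511 (.leaf 0x0) (.leaf 0x0))) (.node 18513 (.leaf 0x0) (.node 18514 (.leaf 0x0) (.leaf 0x0))))))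

def sgOS_1704 : Store := (.node 18526 (.node 18520 (.node 18517 (.node 18516 (.leaf 0x0) (.leaf 0x10001)) (.node 18518 (.leaf 0x0) (.node 18519 (.leaf 0x0) (.leaf 0x0)))) (.node 18523 (.node 18521 (.leaf 0x0) (.node 18522 (.leaf 0x0) (.leaf 0x10001))) (.node 18524 (.leaf 0x0) (.node 18525 (.leaf 0x1) (.leaf 0x0))))) (.node 18531 (.node 18528 (.node 18527 (.leaf 0x0) (.leaf 0x0)) (.node 18529 (.leaf 0x0) (.node 18530 (.leaf 0x1) (.leaf 0x1000002)))) (.node 18534 (.node 18532 (.leaf 0x0) (.node 18533 (.leaf 0x0) (.leaf 0x0))) (.node 18535 (.leaf 0x0) (.node 18536 (.leaf 0x0) (.leaf 0x0))))))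

def sgOS_1705 : Store := (.node 18515 sgOS_1703 sgOS_1704)

def sgOS_1706 : Store := (.node 18493 sgOS_1702 sgOS_1705)

def sgOS_1707 : Store := (.node 18450 sgOS_1699 sgOS_1706)

def sgOS_1708 : Store := (.node 18547 (.node 18542 (.node 18539 (.node 18538 (.leaf 0x0) (.leaf 0x0)) (.node 18540 (.leaf 0x0) (.node 18541 (.leaf 0x0) (.leaf 0x0)))) (.node 18544 (.node 18543 (.leaf 0x0) (.leaf 0x0)) (.node 18545 (.leaf 0x0) (.node 18546 (.leaf 0x0) (.leaf 0x0))))) (.node 18552 (.node 18549 (.node 18548 (.leaf 0x0) (.leaf 0x0)) (.node 18550 (.leaf 0x0) (.node 18551 (.leaf 0x0) (.leaf 0x0)))) (.node 18555 (.node 18553 (.leaf 0x0) (.node 18554 (.leaf 0x0) (.leaf 0x0))) (.node 18556 (.leaf 0x0) (.node 18557 (.leaf 0x0) (.leaf 0x1000002))))))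

def sgOS_1709 : Store := (.node 18569 (.node 18563 (.node 18560 (.node 18559 (.leaf 0x0) (.leaf 0x0)) (.node 18561 (.leaf 0x0) (.node 18562 (.leaf 0x0) (.leaf 0x0)))) (.node 18566 (.node 18564 (.leaf 0x0) (.node 18565 (.leaf 0x0) (.leaf 0x1000002))) (.node 18567 (.leaf 0x0) (.node 18568 (.leaf 0x0) (.leaf 0x0))))) (.node 18574 (.node 18571 (.node 18570 (.leaf 0x0) (.leaf 0x0)) (.node 18572 (.leaf 0x101010101010101010009) (.node 18573 (.leaf 0x0) (.leaf 0x0)))) (.node 18577 (.node 18575 (.leaf 0x0) (.node 18576 (.leaf 0x0) (.leaf 0x0))) (.node 18578 (.leaf 0x0) (.node 18579 (.leaf 0x0) (.leaf 0x0))))))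

def sgOS_1710 : Store := (.node 18558 sgOS_1708 sgOS_1709)

def sgOS_1711 : Store := (.node 18591 (.node 18585 (.node 18582 (.node 18581 (.leaf 0x1000002) (.leaf 0x0)) (.node 18583 (.leaf 0x0) (.node 18584 (.leaf 0x0) (.leaf 0x0)))) (.node 18588 (.node 18586 (.leaf 0x0) (.node 18587 (.leaf 0x0) (.leaf 0x0))) (.node 18589 (.leaf 0x0) (.node 18590 (.leaf 0x0) (.leaf 0x0))))) (.node 18596 (.node 18593 (.node 18592 (.leaf 0x0) (.leaf 0x0)) (.node 18594 (.leaf 0x0) (.node 18595 (.leaf 0x0) (.leaf 0x0)))) (.node 18599 (.node 18597 (.leaf 0x0) (.node 18598 (.leaf 0x0) (.leaf 0x0))) (.node 18600 (.leaf 0x10001) (.node 18601 (.leaf 0x0) (.leaf 0x0))))))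

def sgOS_1712 : Store := (.node 18613 (.node 18607 (.node 18604 (.node 18603 (.leaf 0x0) (.leaf 0x0)) (.node 18605 (.leaf 0x0) (.node 18606 (.leaf 0x0) (.leaf 0x0)))) (.node 18610 (.node 18608 (.leaf 0x0) (.node 18609 (.leaf 0x0) (.leaf 0x0))) (.node 18611 (.leaf 0x0) (.node 18612 (.leaf 0x0) (.leaf 0x0))))) (.node 18618 (.node 18615 (.node 18614 (.leaf 0x0) (.leaf 0x0)) (.node 18616 (.leaf 0x0) (.node 18617 (.leaf 0x0) (.leaf 0x0)))) (.node 18621 (.node 18619 (.leaf 0x0) (.node 18620 (.leaf 0x0) (.leaf 0x0))) (.node 18622 (.leaf 0x1000002) (.node 18623 (.leaf 0x0) (.leaf 0x0))))))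

def sgOS_1713 : Store := (.node 18602 sgOS_1711 sgOS_1712)

def sgOS_1714 : Store := (.node 18580 sgOS_1710 sgOS_1713)

def sgOS_1715 : Store := (.node 18634 (.node 18629 (.node 18626 (.node 18625 (.leaf 0x0) (.leaf 0x0)) (.node 18627 (.leaf 0x0) (.node 18628 (.leaf 0x0) (.leaf 0x0)))) (.node 18631 (.node 18630 (.leaf 0x0) (.leaf 0x0)) (.node 18632 (.leaf 0x0) (.node 18633 (.leaf 0x0) (.leaf 0x0))))) (.node 18639 (.node 18636 (.node 18635 (.leaf 0x0) (.leaf 0x1000002)) (.node 18637 (.leaf 0x0) (.node 18638 (.leaf 0x0) (.leaf 0x0)))) (.node 18642 (.node 18640 (.leaf 0x0) (.node 18641 (.leaf 0x0) (.leaf 0x0))) (.node 18643 (.leaf 0x0) (.node 18644 (.leaf 0x0) (.leaf 0x0))))))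

def sgOS_1716 : Store := (.node 18656 (.node 18650 (.node 18647 (.node 18646 (.leaf 0x0) (.leaf 0x0)) (.node 18648 (.leaf 0x0) (.node 18649 (.leaf 0x10001) (.leaf 0x1000002)))) (.node 18653 (.node 18651 (.leaf 0x0) (.node 18652 (.leaf 0x0) (.leaf 0x0))) (.node 18654 (.leaf 0x0) (.node 18655 (.leaf 0x0) (.leaf 0x0))))) (.node 18661 (.node 18658 (.node 18657 (.leaf 0x0) (.leaf 0x0)) (.node 18659 (.leaf 0x0) (.node 18660 (.leaf 0x0) (.leaf 0x0)))) (.node 18664 (.node 18662 (.leaf 0x0) (.node 18663 (.leaf 0x10001) (.leaf 0x0))) (.node 18665 (.leaf 0x0) (.node 18666 (.leaf 0x0) (.leaf 0x0))))))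

def sgOS_1717 : Store := (.node 18645 sgOS_1715 sgOS_1716)

def sgOS_1718 : Store := (.node 18678 (.node 18672 (.node 18669 (.node 18668 (.leaf 0x0) (.leaf 0x0)) (.node 18670 (.leaf 0x0) (.node 18671 (.leaf 0x0) (.leaf 0x0)))) (.node 18675 (.node 18673 (.leaf 0x0) (.node 18674 (.leaf 0x0) (.leaf 0x0))) (.node 18676 (.leaf 0x0) (.node 18677 (.leaf 0x0) (.leaf 0x0))))) (.node 18683 (.node 18680 (.node 18679 (.leaf 0x0) (.leaf 0x0)) (.node 18681 (.leaf 0x0) (.node 18682 (.leaf 0x0) (.leaf 0x0)))) (.node 18686 (.node 18684 (.leaf 0x1000002) (.node 18685 (.leaf 0x0) (.leaf 0x0))) (.node 18687 (.leaf 0x0) (.node 18688 (.leaf 0x0) (.leaf 0x0))))))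

def sgOS_1719 : Store := (.node 18700 (.node 18694 (.node 18691 (.node 18690 (.leaf 0x0) (.leaf 0x0)) (.node 18692 (.leaf 0x0) (.node 18693 (.leaf 0x0) (.leaf 0x0)))) (.node 18697 (.node 18695 (.leaf 0x0) (.node 18696 (.leaf 0x0) (.leaf 0x0))) (.node 18698 (.leaf 0x0) (.node 18699 (.leaf 0x0) (.leaf 0x0))))) (.node 18705 (.node 18702 (.node 18701 (.leaf 0x0) (.leaf 0x0)) (.node 18703 (.leaf 0x0) (.node 18704 (.leaf 0x0) (.leaf 0x1)))) (.node 18708 (.node 18706 (.leaf 0x0) (.node 18707 (.leaf 0x0) (.leaf 0x0))) (.node 18709 (.leaf 0x0) (.node 18710 (.leaf 0x0) (.leaf 0x0))))))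

def sgOS_1720 : Store := (.node 18689 sgOS_1718 sgOS_1719)

def sgOS_1721 : Store := (.node 18667 sgOS_1717 sgOS_1720)

def sgOS_1722 : Store := (.node 18624 sgOS_1714 sgOS_1721)

def sgOS_1723 : Store := (.node 18537 sgOS_1707 sgOS_1722)

def sgOS_1724 : Store := (.node 18364 sgOS_1692 sgOS_1723)

def sgOS_1725 : Store := (.node 18721 (.node 18716 (.node 18713 (.node 18712 (.leaf 0x1000002) (.leaf 0x0)) (.node 18714 (.leaf 0x0) (.node 18715 (.leaf 0x0) (.leaf 0x0)))) (.node 18718 (.node 18717 (.leaf 0x0) (.leaf 0x0)) (.node 18719 (.leaf 0x1) (.node 18720 (.leaf 0x0) (.leaf 0x0))))) (.node 18726 (.node 18723 (.node 18722 (.leaf 0x0) (.leaf 0x0)) (.node 18724 (.leaf 0x0) (.node 18725 (.leaf 0x0) (.leaf 0x0)))) (.node 18729 (.node 18727 (.leaf 0x0) (.node 18728 (.leaf 0x0) (.leaf 0x0))) (.node 18730 (.leaf 0x0) (.node 18731 (.leaf 0x0) (.leaf 0x0))))))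

def sgOS_1726 : Store := (.node 18743 (.node 18737 (.node 18734 (.node 18733 (.leaf 0x1000002) (.leaf 0x10001)) (.node 18735 (.leaf 0x0) (.node 18736 (.leaf 0x0) (.leaf 0x0)))) (.node 18740 (.node 18738 (.leaf 0x0) (.node 18739 (.leaf 0x0) (.leaf 0x0))) (.node 18741 (.leaf 0x0) (.node 18742 (.leaf 0x0) (.leaf 0x0))))) (.node 18748 (.node 18745 (.node 18744 (.leaf 0x0) (.leaf 0x0)) (.node 18746 (.leaf 0x0) (.node 18747 (.leaf 0x1) (.leaf 0x0)))) (.node 18751 (.node 18749 (.leaf 0x1000002) (.node 18750 (.leaf 0x0) (.leaf 0x0))) (.node 18752 (.leaf 0x0) (.node 18753 (.leaf 0x0) (.leaf 0x1000002))))))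

def sgOS_1727 : Store := (.node 18732 sgOS_1725 sgOS_1726)

def sgOS_1728 : Store := (.node 18764 (.node 18759 (.node 18756 (.node 18755 (.leaf 0x0) (.leaf 0x0)) (.node 18757 (.leaf 0x0) (.node 18758 (.leaf 0x0) (.leaf 0x0)))) (.node 18761 (.node 18760 (.leaf 0x0) (.leaf 0x0)) (.node 18762 (.leaf 0x0) (.node 18763 (.leaf 0x0) (.leaf 0x0))))) (.node 18769 (.node 18766 (.node 18765 (.leaf 0x0) (.leaf 0x0)) (.node 18767 (.leaf 0x0) (.node 18768 (.leaf 0x6) (.leaf 0x0)))) (.node 18772 (.node 18770 (.leaf 0x7) (.node 18771 (.leaf 0x0) (.leaf 0x0))) (.node 18773 (.leaf 0x0) (.node 18774 (.leaf 0x0) (.leaf 0x0))))))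

def sgOS_1729 : Store := (.node 18786 (.node 18780 (.node 18777 (.node 18776 (.leaf 0x0) (.leaf 0x0)) (.node 18778 (.leaf 0x0) (.node 18779 (.leaf 0x0) (.leaf 0x0)))) (.node 18783 (.node 18781 (.leaf 0x0) (.node 18782 (.leaf 0x0) (.leaf 0x0))) (.node 18784 (.leaf 0x0) (.node 18785 (.leaf 0x0) (.leaf 0x0))))) (.node 18791 (.node 18788 (.node 18787 (.leaf 0x0) (.leaf 0x0)) (.node 18789 (.leaf 0x0) (.node 18790 (.leaf 0x0) (.leaf 0x0)))) (.node 18794 (.node 18792 (.leaf 0x0) (.node 18793 (.leaf 0x0) (.leaf 0x0))) (.node 18795 (.leaf 0x0) (.node 18796 (.leaf 0x0) (.leaf 0x0))))))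

def sgOS_1730 : Store := (.node 18775 sgOS_1728 sgOS_1729)

def sgOS_1731 : Store := (.node 18754 sgOS_1727 sgOS_1730)

def sgOS_1732 : Store := (.node 18807 (.node 18802 (.node 18799 (.node 18798 (.leaf 0x0) (.leaf 0x0)) (.node 18800 (.leaf 0x0) (.node 18801 (.leaf 0x0) (.leaf 0x0)))) (.node 18804 (.node 18803 (.leaf 0x0) (.leaf 0x0)) (.node 18805 (.leaf 0x0) (.node 18806 (.leaf 0x0) (.leaf 0x0))))) (.node 18812 (.node 18809 (.node 18808 (.leaf 0x0) (.leaf 0x0)) (.node 18810 (.leaf 0x0) (.node 18811 (.leaf 0x10001) (.leaf 0x0)))) (.node 18815 (.node 18813 (.leaf 0x0) (.node 18814 (.leaf 0x0) (.leaf 0x0))) (.node 18816 (.leaf 0x0) (.node 18817 (.leaf 0x0) (.leaf 0x10001))))))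

def sgOS_1733 : Store := (.node 18829 (.node 18823 (.node 18820 (.node 18819 (.leaf 0x10001) (.leaf 0x0)) (.node 18821 (.leaf 0x0) (.node 18822 (.leaf 0x0) (.leaf 0x0)))) (.node 18826 (.node 18824 (.leaf 0x101010101010006) (.node 18825 (.leaf 0x0) (.leaf 0x7))) (.node 18827 (.leaf 0x0) (.node 18828 (.leaf 0x0) (.leaf 0x0))))) (.node 18834 (.node 18831 (.node 18830 (.leaf 0x0) (.leaf 0x0)) (.node 18832 (.leaf 0x0) (.node 18833 (.leaf 0x0) (.leaf 0x0)))) (.node 18837 (.node 18835 (.leaf 0x0) (.node 18836 (.leaf 0x0) (.leaf 0x0))) (.node 18838 (.leaf 0x0) (.node 18839 (.leaf 0x0) (.leaf 0x0))))))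

def sgOS_1734 : Store := (.node 18818 sgOS_1732 sgOS_1733)

def sgOS_1735 : Store := (.node 18851 (.node 18845 (.node 18842 (.node 18841 (.leaf 0x0) (.leaf 0x0)) (.node 18843 (.leaf 0x0) (.node 18844 (.leaf 0x0) (.leaf 0x0)))) (.node 18848 (.node 18846 (.leaf 0x0) (.node 18847 (.leaf 0x0) (.leaf 0x0))) (.node 18849 (.leaf 0x0) (.node 18850 (.leaf 0x0) (.leaf 0x0))))) (.node 18856 (.node 18853 (.node 18852 (.leaf 0x0) (.leaf 0x0)) (.node 18854 (.leaf 0x0) (.node 18855 (.leaf 0x0) (.leaf 0x0)))) (.node 18859 (.node 18857 (.leaf 0x0) (.node 18858 (.leaf 0x0) (.leaf 0x10101010101010007))) (.node 18860 (.leaf 0x0) (.node 18861 (.leaf 0x101010101010101010009) (.leaf 0x0))))))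

def sgOS_1736 : Store := (.node 18873 (.node 18867 (.node 18864 (.node 18863 (.leaf 0x0) (.leaf 0x0)) (.node 18865 (.leaf 0x0) (.node 18866 (.leaf 0x1000002) (.leaf 0x0)))) (.node 18870 (.node 18868 (.leaf 0x1000002) (.node 18869 (.leaf 0x0) (.leaf 0x0))) (.node 18871 (.leaf 0x0) (.node 18872 (.leaf 0x0) (.leaf 0x0))))) (.node 18878 (.node 18875 (.node 18874 (.leaf 0x1000002) (.leaf 0x0)) (.node 18876 (.leaf 0x0) (.node 18877 (.leaf 0x0) (.leaf 0x0)))) (.node 18881 (.node 18879 (.leaf 0x0) (.node 18880 (.leaf 0x4) (.leaf 0x0))) (.node 18882 (.leaf 0x1010002) (.node 18883 (.leaf 0x0) (.leaf 0x0))))))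

def sgOS_1737 : Store := (.node 18862 sgOS_1735 sgOS_1736)

def sgOS_1738 : Store := (.node 18840 sgOS_1734 sgOS_1737)

def sgOS_1739 : Store := (.node 18797 sgOS_1731 sgOS_1738)

def sgOS_1740 : Store := (.node 18894 (.node 18889 (.node 18886 (.node 18885 (.leaf 0x0) (.leaf 0x0)) (.node 18887 (.leaf 0x1000002) (.node 18888 (.leaf 0x1000002) (.leaf 0x0)))) (.node 18891 (.node 18890 (.leaf 0x0) (.leaf 0x0)) (.node 18892 (.leaf 0x0) (.node 18893 (.leaf 0x0) (.leaf 0x0))))) (.node 18899 (.node 18896 (.node 18895 (.leaf 0x1000002) (.leaf 0x1000002)) (.node 18897 (.leaf 0x0) (.node 18898 (.leaf 0x0) (.leaf 0x0)))) (.node 18902 (.node 18900 (.leaf 0x0) (.node 18901 (.leaf 0x0) (.leaf 0x0))) (.node 18903 (.leaf 0x0) (.node 18904 (.leaf 0x0) (.leaf 0x0))))))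

def sgOS_1741 : Store := (.node 18916 (.node 18910 (.node 18907 (.node 18906 (.leaf 0x0) (.leaf 0x0)) (.node 18908 (.leaf 0x1) (.node 18909 (.leaf 0x1000002) (.leaf 0x0)))) (.node 18913 (.node 18911 (.leaf 0x0) (.node 18912 (.leaf 0x0) (.leaf 0x0))) (.node 18914 (.leaf 0x0) (.node 18915 (.leaf 0x0) (.leaf 0x0))))) (.node 18921 (.node 18918 (.node 18917 (.leaf 0x0) (.leaf 0x0)) (.node 18919 (.leaf 0x0) (.node 18920 (.leaf 0x0) (.leaf 0x0)))) (.node 18924 (.node 18922 (.leaf 0x0) (.node 18923 (.leaf 0x0) (.leaf 0x0))) (.node 18925 (.leaf 0x0) (.node 18926 (.leaf 0x0) (.leaf 0x0))))))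

def sgOS_1742 : Store := (.node 18905 sgOS_1740 sgOS_1741)

def sgOS_1743 : Store := (.node 18937 (.node 18932 (.node 18929 (.node 18928 (.leaf 0x0) (.leaf 0x1000002)) (.node 18930 (.leaf 0x0) (.node 18931 (.leaf 0x0) (.leaf 0x0)))) (.node 18934 (.node 18933 (.leaf 0x0) (.leaf 0x0)) (.node 18935 (.leaf 0x0) (.node 18936 (.leaf 0x0) (.leaf 0x0))))) (.node 18942 (.node 18939 (.node 18938 (.leaf 0x10001) (.leaf 0x0)) (.node 18940 (.leaf 0x0) (.node 18941 (.leaf 0x0) (.leaf 0x0)))) (.node 18945 (.node 18943 (.leaf 0x0) (.node 18944 (.leaf 0x0) (.leaf 0x0))) (.node 18946 (.leaf 0x0) (.node 18947 (.leaf 0x0) (.leaf 0x0))))))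

def sgOS_1744 : Store := (.node 18959 (.node 18953 (.node 18950 (.node 18949 (.leaf 0x0) (.leaf 0x1)) (.node 18951 (.leaf 0x0) (.node 18952 (.leaf 0x0) (.leaf 0x0)))) (.node 18956 (.node 18954 (.leaf 0x0) (.node 18955 (.leaf 0x0) (.leaf 0x0))) (.node 18957 (.leaf 0x1000002) (.node 18958 (.leaf 0x1) (.leaf 0x0))))) (.node 18964 (.node 18961 (.node 18960 (.leaf 0x0) (.leaf 0x0)) (.node 18962 (.leaf 0x0) (.node 18963 (.leaf 0x0) (.leaf 0x0)))) (.node 18967 (.node 18965 (.leaf 0x0) (.node 18966 (.leaf 0x0) (.leaf 0x0))) (.node 18968 (.leaf 0x0) (.node 18969 (.leaf 0x0) (.leaf 0x0))))))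

def sgOS_1745 : Store := (.node 18948 sgOS_1743 sgOS_1744)

def sgOS_1746 : Store := (.node 18927 sgOS_1742 sgOS_1745)

def sgOS_1747 : Store := (.node 18980 (.node 18975 (.node 18972 (.node 18971 (.leaf 0x0) (.leaf 0x0)) (.node 18973 (.leaf 0x0) (.node 18974 (.leaf 0x0) (.leaf 0x0)))) (.node 18977 (.node 18976 (.leaf 0x0) (.leaf 0x0)) (.node 18978 (.leaf 0x0) (.node 18979 (.leaf 0x0) (.leaf 0x0))))) (.node 18985 (.node 18982 (.node 18981 (.leaf 0x0) (.leaf 0x0)) (.node 18983 (.leaf 0x0) (.node 18984 (.leaf 0x0) (.leaf 0x0)))) (.node 18988 (.node 18986 (.leaf 0x0) (.node 18987 (.leaf 0x0) (.leaf 0x0))) (.node 18989 (.leaf 0x0) (.node 18990 (.leaf 0x0) (.leaf 0x0))))))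

def sgOS_1748 : Store := (.node 19002 (.node 18996 (.node 18993 (.node 18992 (.leaf 0x0) (.leaf 0x0)) (.node 18994 (.leaf 0x0) (.node 18995 (.leaf 0x0) (.leaf 0x0)))) (.node 18999 (.node 18997 (.leaf 0x0) (.node 18998 (.leaf 0x0) (.leaf 0x0))) (.node 19000 (.leaf 0x0) (.node 19001 (.leaf 0x0) (.leaf 0x0))))) (.node 19007 (.node 19004 (.node 19003 (.leaf 0x0) (.leaf 0x0)) (.node 19005 (.leaf 0x0) (.node 19006 (.leaf 0x0) (.leaf 0x0)))) (.node 19010 (.node 19008 (.leaf 0x0) (.node 19009 (.leaf 0x0) (.leaf 0x0))) (.node 19011 (.leaf 0x0) (.node 19012 (.leaf 0x0) (.leaf 0x0))))))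

def sgOS_1749 : Store := (.node 18991 sgOS_1747 sgOS_1748)

def sgOS_1750 : Store := (.node 19024 (.node 19018 (.node 19015 (.node 19014 (.leaf 0x1000002) (.leaf 0x1000002)) (.node 19016 (.leaf 0x0) (.node 19017 (.leaf 0x0) (.leaf 0x0)))) (.node 19021 (.node 19019 (.leaf 0x0) (.node 19020 (.leaf 0x0) (.leaf 0x10001))) (.node 19022 (.leaf 0x10001) (.node 19023 (.leaf 0x0) (.leaf 0x0))))) (.node 19029 (.node 19026 (.node 19025 (.leaf 0x0) (.leaf 0x0)) (.node 19027 (.leaf 0x0) (.node 19028 (.leaf 0x0) (.leaf 0x0)))) (.node 19032 (.node 19030 (.leaf 0x0) (.node 19031 (.leaf 0x0) (.leaf 0x0))) (.node 19033 (.leaf 0x0) (.node 19034 (.leaf 0x0) (.leaf 0x0))))))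

def sgOS_1751 : Store := (.node 19046 (.node 19040 (.node 19037 (.node 19036 (.leaf 0x0) (.leaf 0x0)) (.node 19038 (.leaf 0x0) (.node 19039 (.leaf 0x0) (.leaf 0x0)))) (.node 19043 (.node 19041 (.leaf 0x0) (.node 19042 (.leaf 0x0) (.leaf 0x1000002))) (.node 19044 (.leaf 0x0) (.node 19045 (.leaf 0x0) (.leaf 0x0))))) (.node 19051 (.node 19048 (.node 19047 (.leaf 0x0) (.leaf 0x0)) (.node 19049 (.leaf 0x0) (.node 19050 (.leaf 0x0) (.leaf 0x0)))) (.node 19054 (.node 19052 (.leaf 0x0) (.node 19053 (.leaf 0x0) (.leaf 0x0))) (.node 19055 (.leaf 0x0) (.node 19056 (.leaf 0x0) (.leaf 0x1000002))))))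

def sgOS_1752 : Store := (.node 19035 sgOS_1750 sgOS_1751)

def sgOS_1753 : Store := (.node 19013 sgOS_1749 sgOS_1752)

def sgOS_1754 : Store := (.node 18970 sgOS_1746 sgOS_1753)

def sgOS_1755 : Store := (.node 18884 sgOS_1739 sgOS_1754)

def sgOS_1756 : Store := (.node 19067 (.node 19062 (.node 19059 (.node 19058 (.leaf 0x0) (.leaf 0x0)) (.node 19060 (.leaf 0x0) (.node 19061 (.leaf 0x0) (.leaf 0x1000002)))) (.node 19064 (.node 19063 (.leaf 0x1000002) (.leaf 0x0)) (.node 19065 (.leaf 0x0) (.node 19066 (.leaf 0x0) (.leaf 0x0))))) (.node 19072 (.node 19069 (.node 19068 (.leaf 0x0) (.leaf 0x0)) (.node 19070 (.leaf 0x10001) (.node 19071 (.leaf 0x0) (.leaf 0x0)))) (.node 19075 (.node 19073 (.leaf 0x0) (.node 19074 (.leaf 0x0) (.leaf 0x0))) (.node 19076 (.leaf 0x1000002) (.node 19077 (.leaf 0x0) (.leaf 0x0))))))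

def sgOS_1757 : Store := (.node 19089 (.node 19083 (.node 19080 (.node 19079 (.leaf 0x0) (.leaf 0x0)) (.node 19081 (.leaf 0x0) (.node 19082 (.leaf 0x0) (.leaf 0x0)))) (.node 19086 (.node 19084 (.leaf 0x0) (.node 19085 (.leaf 0x0) (.leaf 0x0))) (.node 19087 (.leaf 0x0) (.node 19088 (.leaf 0x0) (.leaf 0x0))))) (.node 19094 (.node 19091 (.node 19090 (.leaf 0x0) (.leaf 0x1000002)) (.node 19092 (.leaf 0x10001) (.node 19093 (.leaf 0x0) (.leaf 0x0)))) (.node 19097 (.node 19095 (.leaf 0x0) (.node 19096 (.leaf 0x0) (.leaf 0x0))) (.node 19098 (.leaf 0x0) (.node 19099 (.leaf 0x1000002) (.leaf 0x0))))))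

def sgOS_1758 : Store := (.node 19078 sgOS_1756 sgOS_1757)

def sgOS_1759 : Store := (.node 19110 (.node 19105 (.node 19102 (.node 19101 (.leaf 0x0) (.leaf 0x0)) (.node 19103 (.leaf 0x0) (.node 19104 (.leaf 0x0) (.leaf 0x1000002)))) (.node 19107 (.node 19106 (.leaf 0x0) (.leaf 0x0)) (.node 19108 (.leaf 0x0) (.node 19109 (.leaf 0x0) (.leaf 0x0))))) (.node 19115 (.node 19112 (.node 19111 (.leaf 0x1000002) (.leaf 0x0)) (.node 19113 (.leaf 0x0) (.node 19114 (.leaf 0x0) (.leaf 0x0)))) (.node 19118 (.node 19116 (.leaf 0x0) (.node 19117 (.leaf 0x0) (.leaf 0x1000002))) (.node 19119 (.leaf 0x1) (.node 19120 (.leaf 0x0) (.leaf 0x0))))))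

def sgOS_1760 : Store := (.node 19132 (.node 19126 (.node 19123 (.node 19122 (.leaf 0x0) (.leaf 0x0)) (.node 19124 (.leaf 0x0) (.node 19125 (.leaf 0x0) (.leaf 0x1000002)))) (.node 19129 (.node 19127 (.leaf 0x1000002) (.node 19128 (.leaf 0x0) (.leaf 0x0))) (.node 19130 (.leaf 0x0) (.node 19131 (.leaf 0x0) (.leaf 0x0))))) (.node 19137 (.node 19134 (.node 19133 (.leaf 0x0) (.leaf 0x0)) (.node 19135 (.leaf 0x0) (.node 19136 (.leaf 0x0) (.leaf 0x0)))) (.node 19140 (.node 19138 (.leaf 0x0) (.node 19139 (.leaf 0x0) (.leaf 0x0))) (.node 19141 (.leaf 0x1000002) (.node 19142 (.leaf 0x0) (.leaf 0x0))))))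

def sgOS_1761 : Store := (.node 19121 sgOS_1759 sgOS_1760)

def sgOS_1762 : Store := (.node 19100 sgOS_1758 sgOS_1761)

def sgOS_1763 : Store := (.node 19153 (.node 19148 (.node 19145 (.node 19144 (.leaf 0x0) (.leaf 0x0)) (.node 19146 (.leaf 0x0) (.node 19147 (.leaf 0x0) (.leaf 0x10001)))) (.node 19150 (.node 19149 (.leaf 0x0) (.leaf 0x0)) (.node 19151 (.leaf 0x0) (.node 19152 (.leaf 0x0) (.leaf 0x1000002))))) (.node 19158 (.node 19155 (.node 19154 (.leaf 0x0) (.leaf 0x0)) (.node 19156 (.leaf 0x0) (.node 19157 (.leaf 0x0) (.leaf 0x0)))) (.node 19161 (.node 19159 (.leaf 0x0) (.node 19160 (.leaf 0x1) (.leaf 0x0))) (.node 19162 (.leaf 0x0) (.node 19163 (.leaf 0x0) (.leaf 0x0))))))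

def sgOS_1764 : Store := (.node 19175 (.node 19169 (.node 19166 (.node 19165 (.leaf 0x0) (.leaf 0x0)) (.node 19167 (.leaf 0x0) (.node 19168 (.leaf 0x1000002) (.leaf 0x0)))) (.node 19172 (.node 19170 (.leaf 0x0) (.node 19171 (.leaf 0x0) (.leaf 0x0))) (.node 19173 (.leaf 0x0) (.node 19174 (.leaf 0x1000002) (.leaf 0x0))))) (.node 19180 (.node 19177 (.node 19176 (.leaf 0x10001) (.leaf 0x0)) (.node 19178 (.leaf 0x0) (.node 19179 (.leaf 0x0) (.leaf 0x0)))) (.node 19183 (.node 19181 (.leaf 0x0) (.node 19182 (.leaf 0x1) (.leaf 0x0))) (.node 19184 (.leaf 0x0) (.node 19185 (.leaf 0x0) (.leaf 0x0))))))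

def sgOS_1765 : Store := (.node 19164 sgOS_1763 sgOS_1764)

def sgOS_1766 : Store := (.node 19197 (.node 19191 (.node 19188 (.node 19187 (.leaf 0x0) (.leaf 0x0)) (.node 19189 (.leaf 0x0) (.node 19190 (.leaf 0x0) (.leaf 0x0)))) (.node 19194 (.node 19192 (.leaf 0x0) (.node 19193 (.leaf 0x0) (.leaf 0x0))) (.node 19195 (.leaf 0x0) (.node 19196 (.leaf 0x0) (.leaf 0x0))))) (.node 19202 (.node 19199 (.node 19198 (.leaf 0x0) (.leaf 0x0)) (.node 19200 (.leaf 0x0) (.node 19201 (.leaf 0x0) (.leaf 0x1000002)))) (.node 19205 (.node 19203 (.leaf 0x0) (.node 19204 (.leaf 0x0) (.leaf 0x0))) (.node 19206 (.leaf 0x0) (.node 19207 (.leaf 0x0) (.leaf 0x0))))))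

def sgOS_1767 : Store := (.node 19219 (.node 19213 (.node 19210 (.node 19209 (.leaf 0x1) (.leaf 0x0)) (.node 19211 (.leaf 0x1000002) (.node 19212 (.leaf 0x0) (.leaf 0x0)))) (.node 19216 (.node 19214 (.leaf 0x0) (.node 19215 (.leaf 0x0) (.leaf 0x1))) (.node 19217 (.leaf 0x10001) (.node 19218 (.leaf 0x0) (.leaf 0x0))))) (.node 19224 (.node 19221 (.node 19220 (.leaf 0x0) (.leaf 0x0)) (.node 19222 (.leaf 0x0) (.node 19223 (.leaf 0x10001) (.leaf 0x1000002)))) (.node 19227 (.node 19225 (.leaf 0x0) (.node 19226 (.leaf 0x0) (.leaf 0x0))) (.node 19228 (.leaf 0x0) (.node 19229 (.leaf 0x0) (.leaf 0x0))))))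

def sgOS_1768 : Store := (.node 19208 sgOS_1766 sgOS_1767)

def sgOS_1769 : Store := (.node 19186 sgOS_1765 sgOS_1768)

def sgOS_1770 : Store := (.node 19143 sgOS_1762 sgOS_1769)

def sgOS_1771 : Store := (.node 19240 (.node 19235 (.node 19232 (.node 19231 (.leaf 0x0) (.leaf 0x0)) (.node 19233 (.leaf 0x0) (.node 19234 (.leaf 0x0) (.leaf 0x0)))) (.node 19237 (.node 19236 (.leaf 0x0) (.leaf 0x0)) (.node 19238 (.leaf 0x0) (.node 19239 (.leaf 0x0) (.leaf 0x0))))) (.node 19245 (.node 19242 (.node 19241 (.leaf 0x0) (.leaf 0x0)) (.node 19243 (.leaf 0x0) (.node 19244 (.leaf 0x1000002) (.leaf 0x10001)))) (.node 19248 (.node 19246 (.leaf 0x0) (.node 19247 (.leaf 0x0) (.leaf 0x0))) (.node 19249 (.leaf 0x0) (.node 19250 (.leaf 0x0) (.leaf 0x0))))))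

def sgOS_1772 : Store := (.node 19262 (.node 19256 (.node 19253 (.node 19252 (.leaf 0x0) (.leaf 0x10001)) (.node 19254 (.leaf 0x0) (.node 19255 (.leaf 0x0) (.leaf 0x0)))) (.node 19259 (.node 19257 (.leaf 0x0) (.node 19258 (.leaf 0x0) (.leaf 0x0))) (.node 19260 (.leaf 0x0) (.node 19261 (.leaf 0x0) (.leaf 0x0))))) (.node 19267 (.node 19264 (.node 19263 (.leaf 0x0) (.leaf 0x0)) (.node 19265 (.leaf 0x0) (.node 19266 (.leaf 0x0) (.leaf 0x0)))) (.node 19270 (.node 19268 (.leaf 0x0) (.node 19269 (.leaf 0x0) (.leaf 0x0))) (.node 19271 (.leaf 0x0) (.node 19272 (.leaf 0x10001) (.leaf 0x1))))))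

def sgOS_1773 : Store := (.node 19251 sgOS_1771 sgOS_1772)

def sgOS_1774 : Store := (.node 19284 (.node 19278 (.node 19275 (.node 19274 (.leaf 0x0) (.leaf 0x0)) (.node 19276 (.leaf 0x0) (.node 19277 (.leaf 0x0) (.leaf 0x0)))) (.node 19281 (.node 19279 (.leaf 0x6) (.node 19280 (.leaf 0x0) (.leaf 0x0))) (.node 19282 (.leaf 0x0) (.node 19283 (.leaf 0x0) (.leaf 0x0))))) (.node 19289 (.node 19286 (.node 19285 (.leaf 0x0) (.leaf 0x0)) (.node 19287 (.leaf 0x0) (.node 19288 (.leaf 0x0) (.leaf 0x0)))) (.node 19292 (.node 19290 (.leaf 0x0) (.node 19291 (.leaf 0x0) (.leaf 0x0))) (.node 19293 (.leaf 0x0) (.node 19294 (.leaf 0x0) (.leaf 0x6))))))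

def sgOS_1775 : Store := (.node 19306 (.node 19300 (.node 19297 (.node 19296 (.leaf 0x0) (.leaf 0x0)) (.node 19298 (.leaf 0x0) (.node 19299 (.leaf 0x0) (.leaf 0x0)))) (.node 19303 (.node 19301 (.leaf 0x0) (.node 19302 (.leaf 0x0) (.leaf 0x0))) (.node 19304 (.leaf 0x0) (.node 19305 (.leaf 0x0) (.leaf 0x0))))) (.node 19311 (.node 19308 (.node 19307 (.leaf 0x0) (.leaf 0x0)) (.node 19309 (.leaf 0x0) (.node 19310 (.leaf 0x0) (.leaf 0x0)))) (.node 19314 (.node 19312 (.leaf 0x0) (.node 19313 (.leaf 0x0) (.leaf 0x0))) (.node 19315 (.leaf 0x0) (.node 19316 (.leaf 0x1) (.leaf 0x0))))))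

def sgOS_1776 : Store := (.node 19295 sgOS_1774 sgOS_1775)

def sgOS_1777 : Store := (.node 19273 sgOS_1773 sgOS_1776)

def sgOS_1778 : Store := (.node 19327 (.node 19322 (.node 19319 (.node 19318 (.leaf 0x0) (.leaf 0x0)) (.node 19320 (.leaf 0x0) (.node 19321 (.leaf 0x0) (.leaf 0x0)))) (.node 19324 (.node 19323 (.leaf 0x0) (.leaf 0x0)) (.node 19325 (.leaf 0x0) (.node 19326 (.leaf 0x0) (.leaf 0x0))))) (.node 19332 (.node 19329 (.node 19328 (.leaf 0x1000002) (.leaf 0x0)) (.node 19330 (.leaf 0x10001) (.node 19331 (.leaf 0x0) (.leaf 0x0)))) (.node 19335 (.node 19333 (.leaf 0x0) (.node 19334 (.leaf 0x0) (.leaf 0x0))) (.node 19336 (.leaf 0x0) (.node 19337 (.leaf 0x0) (.leaf 0x0))))))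

def sgOS_1779 : Store := (.node 19349 (.node 19343 (.node 19340 (.node 19339 (.leaf 0x0) (.leaf 0x0)) (.node 19341 (.leaf 0x0) (.node 19342 (.leaf 0x0) (.leaf 0x0)))) (.node 19346 (.node 19344 (.leaf 0x0) (.node 19345 (.leaf 0x0) (.leaf 0x0))) (.node 19347 (.leaf 0x0) (.node 19348 (.leaf 0x0) (.leaf 0x0))))) (.node 19354 (.node 19351 (.node 19350 (.leaf 0x0) (.leaf 0x10001)) (.node 19352 (.leaf 0x0) (.node 19353 (.leaf 0x0) (.leaf 0x0)))) (.node 19357 (.node 19355 (.leaf 0x0) (.node 19356 (.leaf 0x0) (.leaf 0x0))) (.node 19358 (.leaf 0x1) (.node 19359 (.leaf 0x0) (.leaf 0x0))))))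

def sgOS_1780 : Store := (.node 19338 sgOS_1778 sgOS_1779)

def sgOS_1781 : Store := (.node 19371 (.node 19365 (.node 19362 (.node 19361 (.leaf 0x0) (.leaf 0x0)) (.node 19363 (.leaf 0x0) (.node 19364 (.leaf 0x0) (.leaf 0x0)))) (.node 19368 (.node 19366 (.leaf 0x0) (.node 19367 (.leaf 0x0) (.leaf 0x0))) (.node 19369 (.leaf 0x0) (.node 19370 (.leaf 0x0) (.leaf 0x0))))) (.node 19376 (.node 19373 (.node 19372 (.leaf 0x0) (.leaf 0x0)) (.node 19374 (.leaf 0x0) (.node 19375 (.leaf 0x0) (.leaf 0x0)))) (.node 19379 (.node 19377 (.leaf 0x0) (.node 19378 (.leaf 0x0) (.leaf 0x1010101010101010008))) (.node 19380 (.leaf 0x0) (.node 19381 (.leaf 0x0) (.leaf 0x0))))))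

def sgOS_1782 : Store := (.node 19393 (.node 19387 (.node 19384 (.node 19383 (.leaf 0x0) (.leaf 0x0)) (.node 19385 (.leaf 0x0) (.node 19386 (.leaf 0x0) (.leaf 0x0)))) (.node 19390 (.node 19388 (.leaf 0x0) (.node 19389 (.leaf 0x0) (.leaf 0x0))) (.node 19391 (.leaf 0x0) (.node 19392 (.leaf 0x9) (.leaf 0x101010101010101010009))))) (.node 19398 (.node 19395 (.node 19394 (.leaf 0x0) (.leaf 0x0)) (.node 19396 (.leaf 0x0) (.node 19397 (.leaf 0x0) (.leaf 0x0)))) (.node 19401 (.node 19399 (.leaf 0x0) (.node 19400 (.leaf 0x7) (.leaf 0x0))) (.node 19402 (.leaf 0x0) (.node 19403 (.leaf 0x0) (.leaf 0x0))))))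

def sgOS_1783 : Store := (.node 19382 sgOS_1781 sgOS_1782)

def sgOS_1784 : Store := (.node 19360 sgOS_1780 sgOS_1783)

def sgOS_1785 : Store := (.node 19317 sgOS_1777 sgOS_1784)

def sgOS_1786 : Store := (.node 19230 sgOS_1770 sgOS_1785)

def sgOS_1787 : Store := (.node 19057 sgOS_1755 sgOS_1786)

def sgOS_1788 : Store := (.node 18711 sgOS_1724 sgOS_1787)

def sgOS_1789 : Store := (.node 18018 sgOS_1661 sgOS_1788)

def sgOS_1790 : Store := (.node 19414 (.node 19409 (.node 19406 (.node 19405 (.leaf 0x1) (.leaf 0x0)) (.node 19407 (.leaf 0x0) (.node 19408 (.leaf 0x0) (.leaf 0x0)))) (.node 19411 (.node 19410 (.leaf 0x0) (.leaf 0x0)) (.node 19412 (.leaf 0x9) (.node 19413 (.leaf 0x10001) (.leaf 0x0))))) (.node 19419 (.node 19416 (.node 19415 (.leaf 0x0) (.leaf 0x0)) (.node 19417 (.leaf 0x0) (.node 19418 (.leaf 0x0) (.leaf 0x0)))) (.node 19422 (.node 19420 (.leaf 0x0) (.node 19421 (.leaf 0x0) (.leaf 0x0))) (.node 19423 (.leaf 0x0)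 (.node 19424 (.leaf 0x0) (.leaf 0x0))))))

def sgOS_1791 : Store := (.node 19436 (.node 19430 (.node 19427 (.node 19426 (.leaf 0x0) (.leaf 0x0)) (.node 19428 (.leaf 0x1) (.node 19429 (.leaf 0x0) (.leaf 0x0)))) (.node 19433 (.node 19431 (.leaf 0x0) (.node 19432 (.leaf 0x0) (.leaf 0x0))) (.node 19434 (.leaf 0x1000002) (.node 19435 (.leaf 0x0) (.leaf 0x0))))) (.node 19441 (.node 19438 (.node 19437 (.leaf 0x0) (.leaf 0x0)) (.node 19439 (.leaf 0x0) (.node 19440 (.leaf 0x0) (.leaf 0x0)))) (.node 19444 (.node 19442 (.leaf 0x0) (.node 19443 (.leaf 0x0) (.leaf 0x0))) (.node 19445 (.leaf 0x0) (.node 19446 (.leaf 0x0) (.leaf 0x0))))))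

def sgOS_1792 : Store := (.node 19425 sgOS_1790 sgOS_1791)

def sgOS_1793 : Store := (.node 19457 (.node 19452 (.node 19449 (.node 19448 (.leaf 0x0) (.leaf 0x1000002)) (.node 19450 (.leaf 0x0) (.node 19451 (.leaf 0x0) (.leaf 0x0)))) (.node 19454 (.node 19453 (.leaf 0x0) (.leaf 0x1000002)) (.node 19455 (.leaf 0x0) (.node 19456 (.leaf 0x1000002) (.leaf 0x0))))) (.node 19462 (.node 19459 (.node 19458 (.leaf 0x0) (.leaf 0x0)) (.node 19460 (.leaf 0x0) (.node 19461 (.leaf 0x1) (.leaf 0x0)))) (.node 19465 (.node 19463 (.leaf 0x0) (.node 19464 (.leaf 0x0) (.leaf 0x0))) (.node 19466 (.leaf 0x0) (.node 19467 (.leaf 0x0) (.leaf 0x1))))))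

def sgOS_1794 : Store := (.node 19479 (.node 19473 (.node 19470 (.node 19469 (.leaf 0x0) (.leaf 0x0)) (.node 19471 (.leaf 0x0) (.node 19472 (.leaf 0x0) (.leaf 0x0)))) (.node 19476 (.node 19474 (.leaf 0x0) (.node 19475 (.leaf 0x1) (.leaf 0x0))) (.node 19477 (.leaf 0x0) (.node 19478 (.leaf 0x0) (.leaf 0x0))))) (.node 19484 (.node 19481 (.node 19480 (.leaf 0x0) (.leaf 0x0)) (.node 19482 (.leaf 0x1) (.node 19483 (.leaf 0x0) (.leaf 0x0)))) (.node 19487 (.node 19485 (.leaf 0x0) (.node 19486 (.leaf 0x0) (.leaf 0x0))) (.node 19488 (.leaf 0x0) (.node 19489 (.leaf 0x0) (.leaf 0x1))))))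

def sgOS_1795 : Store := (.node 19468 sgOS_1793 sgOS_1794)

def sgOS_1796 : Store := (.node 19447 sgOS_1792 sgOS_1795)

def sgOS_1797 : Store := (.node 19500 (.node 19495 (.node 19492 (.node 19491 (.leaf 0x0) (.leaf 0x0)) (.node 19493 (.leaf 0x0) (.node 19494 (.leaf 0x0) (.leaf 0x0)))) (.node 19497 (.node 19496 (.leaf 0x0) (.leaf 0x0)) (.node 19498 (.leaf 0x0) (.node 19499 (.leaf 0x0) (.leaf 0x0))))) (.node 19505 (.node 19502 (.node 19501 (.leaf 0x0) (.leaf 0x0)) (.node 19503 (.leaf 0x0) (.node 19504 (.leaf 0x0) (.leaf 0x0)))) (.node 19508 (.node 19506 (.leaf 0x0) (.node 19507 (.leaf 0x0) (.leaf 0x0))) (.node 19509 (.leaf 0x0) (.node 19510 (.leaf 0x0) (.leaf 0x0))))))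

def sgOS_1798 : Store := (.node 19522 (.node 19516 (.node 19513 (.node 19512 (.leaf 0x0) (.leaf 0x0)) (.node 19514 (.leaf 0x0) (.node 19515 (.leaf 0x0) (.leaf 0x0)))) (.node 19519 (.node 19517 (.leaf 0x1) (.node 19518 (.leaf 0x0) (.leaf 0x0))) (.node 19520 (.leaf 0x0) (.node 19521 (.leaf 0x0) (.leaf 0x0))))) (.node 19527 (.node 19524 (.node 19523 (.leaf 0x0) (.leaf 0x0)) (.node 19525 (.leaf 0x0) (.node 19526 (.leaf 0x0) (.leaf 0x0)))) (.node 19530 (.node 19528 (.leaf 0x0) (.node 19529 (.leaf 0x0) (.leaf 0x0))) (.node 19531 (.leaf 0x0) (.node 19532 (.leaf 0x0) (.leaf 0x0))))))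

def sgOS_1799 : Store := (.node 19511 sgOS_1797 sgOS_1798)

def sgOS_1800 : Store := (.node 19544 (.node 19538 (.node 19535 (.node 19534 (.leaf 0x0) (.leaf 0x0)) (.node 19536 (.leaf 0x0) (.node 19537 (.leaf 0x0) (.leaf 0x0)))) (.node 19541 (.node 19539 (.leaf 0x0) (.node 19540 (.leaf 0x0) (.leaf 0x0))) (.node 19542 (.leaf 0x0) (.node 19543 (.leaf 0x0) (.leaf 0x0))))) (.node 19549 (.node 19546 (.node 19545 (.leaf 0x0) (.leaf 0x0)) (.node 19547 (.leaf 0x0) (.node 19548 (.leaf 0x0) (.leaf 0x0)))) (.node 19552 (.node 19550 (.leaf 0x0) (.node 19551 (.leaf 0x0) (.leaf 0x0))) (.node 19553 (.leaf 0x0) (.node 19554 (.leaf 0x0) (.leaf 0x0))))))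

def sgOS_1801 : Store := (.node 19566 (.node 19560 (.node 19557 (.node 19556 (.leaf 0x0) (.leaf 0x0)) (.node 19558 (.leaf 0x0) (.node 19559 (.leaf 0x1000002) (.leaf 0x0)))) (.node 19563 (.node 19561 (.leaf 0x0) (.node 19562 (.leaf 0x0) (.leaf 0x0))) (.node 19564 (.leaf 0x0) (.node 19565 (.leaf 0x0) (.leaf 0x0))))) (.node 19571 (.node 19568 (.node 19567 (.leaf 0x0) (.leaf 0x0)) (.node 19569 (.leaf 0x0) (.node 19570 (.leaf 0x0) (.leaf 0x0)))) (.node 19574 (.node 19572 (.leaf 0x0) (.node 19573 (.leaf 0x1000002) (.leaf 0x0))) (.node 19575 (.leaf 0x1000002) (.node 19576 (.leaf 0x0) (.leaf 0x0))))))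

def sgOS_1802 : Store := (.node 19555 sgOS_1800 sgOS_1801)

def sgOS_1803 : Store := (.node 19533 sgOS_1799 sgOS_1802)

def sgOS_1804 : Store := (.node 19490 sgOS_1796 sgOS_1803)

def sgOS_1805 : Store := (.node 19587 (.node 19582 (.node 19579 (.node 19578 (.leaf 0x0) (.leaf 0x0)) (.node 19580 (.leaf 0x0) (.node 19581 (.leaf 0x0) (.leaf 0x0)))) (.node 19584 (.node 19583 (.leaf 0x0) (.leaf 0x0)) (.node 19585 (.leaf 0x0) (.node 19586 (.leaf 0x0) (.leaf 0x0))))) (.node 19592 (.node 19589 (.node 19588 (.leaf 0x0) (.leaf 0x0)) (.node 19590 (.leaf 0x0) (.node 19591 (.leaf 0x0) (.leaf 0x0)))) (.node 19595 (.node 19593 (.leaf 0x0) (.node 19594 (.leaf 0x0) (.leaf 0x0))) (.node 19596 (.leaf 0x0) (.node 19597 (.leaf 0x0) (.leaf 0x0))))))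

def sgOS_1806 : Store := (.node 19609 (.node 19603 (.node 19600 (.node 19599 (.leaf 0x0) (.leaf 0x0)) (.node 19601 (.leaf 0x0) (.node 19602 (.leaf 0x0) (.leaf 0x0)))) (.node 19606 (.node 19604 (.leaf 0x0) (.node 19605 (.leaf 0x0) (.leaf 0x0))) (.node 19607 (.leaf 0x0) (.node 19608 (.leaf 0x0) (.leaf 0x0))))) (.node 19614 (.node 19611 (.node 19610 (.leaf 0x0) (.leaf 0x0)) (.node 19612 (.leaf 0x0) (.node 19613 (.leaf 0x0) (.leaf 0x0)))) (.node 19617 (.node 19615 (.leaf 0x0) (.node 19616 (.leaf 0x1000002) (.leaf 0x1000002))) (.node 19618 (.leaf 0x0) (.node 19619 (.leaf 0x0) (.leaf 0x0))))))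

def sgOS_1807 : Store := (.node 19598 sgOS_1805 sgOS_1806)

def sgOS_1808 : Store := (.node 19630 (.node 19625 (.node 19622 (.node 19621 (.leaf 0x0) (.leaf 0x0)) (.node 19623 (.leaf 0x0) (.node 19624 (.leaf 0x0) (.leaf 0x0)))) (.node 19627 (.node 19626 (.leaf 0x0) (.leaf 0x0)) (.node 19628 (.leaf 0x0) (.node 19629 (.leaf 0x1000002) (.leaf 0x0))))) (.node 19635 (.node 19632 (.node 19631 (.leaf 0x1000002) (.leaf 0x0)) (.node 19633 (.leaf 0x0) (.node 19634 (.leaf 0x0) (.leaf 0x0)))) (.node 19638 (.node 19636 (.leaf 0x1) (.node 19637 (.leaf 0x0) (.leaf 0x10001))) (.node 19639 (.leaf 0x0) (.node 19640 (.leaf 0x0) (.leaf 0x0))))))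

def sgOS_1809 : Store := (.node 19652 (.node 19646 (.node 19643 (.node 19642 (.leaf 0x0) (.leaf 0x0)) (.node 19644 (.leaf 0x0) (.node 19645 (.leaf 0x0) (.leaf 0x0)))) (.node 19649 (.node 19647 (.leaf 0x0) (.node 19648 (.leaf 0x0) (.leaf 0x0))) (.node 19650 (.leaf 0x0) (.node 19651 (.leaf 0x1000002) (.leaf 0x0))))) (.node 19657 (.node 19654 (.node 19653 (.leaf 0x0) (.leaf 0x0)) (.node 19655 (.leaf 0x0) (.node 19656 (.leaf 0x0) (.leaf 0x1000002)))) (.node 19660 (.node 19658 (.leaf 0x0) (.node 19659 (.leaf 0x0) (.leaf 0x0))) (.node 19661 (.leaf 0x0) (.node 19662 (.leaf 0x0) (.leaf 0x0))))))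

def sgOS_1810 : Store := (.node 19641 sgOS_1808 sgOS_1809)

def sgOS_1811 : Store := (.node 19620 sgOS_1807 sgOS_1810)

def sgOS_1812 : Store := (.node 19673 (.node 19668 (.node 19665 (.node 19664 (.leaf 0x1000002) (.leaf 0x0)) (.node 19666 (.leaf 0x0) (.node 19667 (.leaf 0x0) (.leaf 0x0)))) (.node 19670 (.node 19669 (.leaf 0x0) (.leaf 0x0)) (.node 19671 (.leaf 0x0) (.node 19672 (.leaf 0x0) (.leaf 0x0))))) (.node 19678 (.node 19675 (.node 19674 (.leaf 0x0) (.leaf 0x0)) (.node 19676 (.leaf 0x0) (.node 19677 (.leaf 0x0) (.leaf 0x0)))) (.node 19681 (.node 19679 (.leaf 0x0) (.node 19680 (.leaf 0x1) (.leaf 0x0))) (.node 19682 (.leaf 0x0) (.node 19683 (.leaf 0x0) (.leaf 0x0))))))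

def sgOS_1813 : Store := (.node 19695 (.node 19689 (.node 19686 (.node 19685 (.leaf 0x0) (.leaf 0x0)) (.node 19687 (.leaf 0x0) (.node 19688 (.leaf 0x0) (.leaf 0x0)))) (.node 19692 (.node 19690 (.leaf 0x0) (.node 19691 (.leaf 0x0) (.leaf 0x0))) (.node 19693 (.leaf 0x0) (.node 19694 (.leaf 0x0) (.leaf 0x0))))) (.node 19700 (.node 19697 (.node 19696 (.leaf 0x0) (.leaf 0x0)) (.node 19698 (.leaf 0x0) (.node 19699 (.leaf 0x0) (.leaf 0x0)))) (.node 19703 (.node 19701 (.leaf 0x0) (.node 19702 (.leaf 0x0) (.leaf 0x0))) (.node 19704 (.leaf 0x0) (.node 19705 (.leaf 0x0) (.leaf 0x0))))))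

def sgOS_1814 : Store := (.node 19684 sgOS_1812 sgOS_1813)

def sgOS_1815 : Store := (.node 19717 (.node 19711 (.node 19708 (.node 19707 (.leaf 0x0) (.leaf 0x0)) (.node 19709 (.leaf 0x0) (.node 19710 (.leaf 0x0) (.leaf 0x0)))) (.node 19714 (.node 19712 (.leaf 0x0) (.node 19713 (.leaf 0x1030102000005) (.leaf 0x400010003))) (.node 19715 (.leaf 0x4000002) (.node 19716 (.leaf 0x0) (.leaf 0x1020102000005))))) (.node 19722 (.node 19719 (.node 19718 (.leaf 0x104000003) (.leaf 0x0)) (.node 19720 (.leaf 0x1020102000005) (.node 19721 (.leaf 0x1020102010005) (.leaf 0x1020001000006)))) (.node 19725 (.node 19723 (.leaf 0x10200010004) (.node 19724 (.leaf 0x1030102000005) (.leaf 0x1000100010005))) (.node 19726 (.leaf 0x0) (.node 19727 (.leaf 0x1000102000005) (.leaf 0x1020102010005))))))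

def sgOS_1816 : Store := (.node 19739 (.node 19733 (.node 19730 (.node 19729 (.leaf 0x1020001000006) (.leaf 0x0)) (.node 19731 (.leaf 0x1000102000005) (.node 19732 (.leaf 0x1000102010005) (.leaf 0x2)))) (.node 19736 (.node 19734 (.leaf 0x1020102000005) (.node 19735 (.leaf 0x1000100010005) (.leaf 0x1020001000006))) (.node 19737 (.leaf 0x10200010004) (.node 19738 (.leaf 0x1030102000005) (.leaf 0x1020102010005))))) (.node 19744 (.node 19741 (.node 19740 (.leaf 0x0) (.leaf 0x0)) (.node 19742 (.leaf 0x10400010004) (.node 19743 (.leaf 0x1020001000006) (.leaf 0x100010201000006)))) (.node 19747 (.node 19745 (.leaf 0x4000002) (.node 19746 (.leaf 0x2) (.leaf 0x10200010004))) (.node 19748 (.leaf 0x0) (.node 19749 (.leaf 0x2000102000005) (.leaf 0x0))))))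

def sgOS_1817 : Store := (.node 19728 sgOS_1815 sgOS_1816)

def sgOS_1818 : Store := (.node 19706 sgOS_1814 sgOS_1817)

def sgOS_1819 : Store := (.node 19663 sgOS_1811 sgOS_1818)

def sgOS_1820 : Store := (.node 19577 sgOS_1804 sgOS_1819)

def sgOS_1821 : Store := (.node 19760 (.node 19755 (.node 19752 (.node 19751 (.leaf 0x4000002) (.leaf 0x0)) (.node 19753 (.leaf 0x4000102000005) (.node 19754 (.leaf 0x0) (.leaf 0x0)))) (.node 19757 (.node 19756 (.leaf 0x2000002) (.leaf 0x4000002)) (.node 19758 (.leaf 0x0) (.node 19759 (.leaf 0x0) (.leaf 0x2000002))))) (.node 19765 (.node 19762 (.node 19761 (.leaf 0x0) (.leaf 0x1000102000005)) (.node 19763 (.leaf 0x1040100010005) (.node 19764 (.leaf 0x1020001000006) (.leaf 0x10200010004)))) (.node 19768 (.node 19766 (.leaf 0x1040102000005) (.node 19767 (.leaf 0x1030102010005) (.leaf 0x0))) (.node 19769 (.leaf 0x1000102000005) (.node 19770 (.leaf 0x1030102010005) (.leaf 0x4000002))))))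

def sgOS_1822 : Store := (.node 19782 (.node 19776 (.node 19773 (.node 19772 (.leaf 0x10200010004) (.leaf 0x1040102000005)) (.node 19774 (.leaf 0x1020102010005) (.node 19775 (.leaf 0x0) (.leaf 0x1040102000005)))) (.node 19779 (.node 19777 (.leaf 0x102000003) (.node 19778 (.leaf 0x4000002) (.leaf 0x10200010004))) (.node 19780 (.leaf 0x1000102000005) (.node 19781 (.leaf 0x200010003) (.leaf 0x0))))) (.node 19787 (.node 19784 (.node 19783 (.leaf 0x2010201000005) (.leaf 0x2000002)) (.node 19785 (.leaf 0x2000002) (.node 19786 (.leaf 0x0) (.leaf 0x4010001000005)))) (.node 19790 (.node 19788 (.leaf 0x10400010004) (.node 19789 (.leaf 0x301020001000006) (.leaf 0x10200010004))) (.node 19791 (.leaf 0x1020001000006) (.node 19792 (.leaf 0x4000002) (.leaf 0x0))))))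

def sgOS_1823 : Store := (.node 19771 sgOS_1821 sgOS_1822)

def sgOS_1824 : Store := (.node 19803 (.node 19798 (.node 19795 (.node 19794 (.leaf 0x10200010004) (.leaf 0x10001)) (.node 19796 (.leaf 0x0) (.node 19797 (.leaf 0x0) (.leaf 0x0)))) (.node 19800 (.node 19799 (.leaf 0x2) (.leaf 0x10200010004)) (.node 19801 (.leaf 0x0) (.node 19802 (.leaf 0x2) (.leaf 0x0))))) (.node 19808 (.node 19805 (.node 19804 (.leaf 0x0) (.leaf 0x2000102000005)) (.node 19806 (.leaf 0x0) (.node 19807 (.leaf 0x0) (.leaf 0x0)))) (.node 19811 (.node 19809 (.leaf 0x4000102000005) (.node 19810 (.leaf 0x0) (.leaf 0x2))) (.node 19812 (.leaf 0x2) (.node 19813 (.leaf 0x0) (.leaf 0x10200010004))))))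

def sgOS_1825 : Store := (.node 19825 (.node 19819 (.node 19816 (.node 19815 (.leaf 0x0) (.leaf 0x2)) (.node 19817 (.leaf 0x2) (.node 19818 (.leaf 0x30001) (.leaf 0x0)))) (.node 19822 (.node 19820 (.leaf 0x0) (.node 19821 (.leaf 0x4000002) (.leaf 0x30001))) (.node 19823 (.leaf 0x0) (.node 19824 (.leaf 0x4000002) (.leaf 0x1040102000005))))) (.node 19830 (.node 19827 (.node 19826 (.leaf 0x102000003) (.leaf 0x4000002)) (.node 19828 (.leaf 0x10200010004) (.node 19829 (.leaf 0x1000102000005) (.leaf 0x200010003)))) (.node 19833 (.node 19831 (.leaf 0x0) (.node 19832 (.leaf 0x1030102000005) (.leaf 0x400010003))) (.node 19834 (.leaf 0x4000002) (.node 19835 (.leaf 0x0) (.leaf 0x1020102000005))))))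

def sgOS_1826 : Store := (.node 19814 sgOS_1824 sgOS_1825)

def sgOS_1827 : Store := (.node 19793 sgOS_1823 sgOS_1826)

def sgOS_1828 : Store := (.node 19846 (.node 19841 (.node 19838 (.node 19837 (.leaf 0x104000003) (.leaf 0x0)) (.node 19839 (.leaf 0x2010201000005) (.node 19840 (.leaf 0x301020001000006) (.leaf 0x1020001000006)))) (.node 19843 (.node 19842 (.leaf 0x100010201000006) (.leaf 0x4010001000005)) (.node 19844 (.leaf 0x0) (.node 19845 (.leaf 0x103010001000006) (.leaf 0x1040001000005))))) (.node 19851 (.node 19848 (.node 19847 (.leaf 0x0) (.leaf 0x4000002)) (.node 19849 (.leaf 0x0) (.node 19850 (.leaf 0x10200010005) (.leaf 0x1020001000006)))) (.node 19854 (.node 19852 (.leaf 0x10200010004) (.node 19853 (.leaf 0x0) (.leaf 0x0))) (.node 19855 (.leaf 0x4000002) (.node 19856 (.leaf 0x0) (.leaf 0x0))))))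

def sgOS_1829 : Store := (.node 19868 (.node 19862 (.node 19859 (.node 19858 (.leaf 0x0) (.leaf 0x0)) (.node 19860 (.leaf 0x3010200010005) (.node 19861 (.leaf 0x0) (.leaf 0x4000002)))) (.node 19865 (.node 19863 (.leaf 0x0) (.node 19864 (.leaf 0x1020001000005) (.leaf 0x2000002))) (.node 19866 (.leaf 0x0) (.node 19867 (.leaf 0x3010200010005) (.leaf 0x0))))) (.node 19873 (.node 19870 (.node 19869 (.leaf 0x4000002) (.leaf 0x2000002)) (.node 19871 (.leaf 0x1020001000005) (.node 19872 (.leaf 0x1020001000006) (.leaf 0x0)))) (.node 19876 (.node 19874 (.leaf 0x0) (.node 19875 (.leaf 0x1040100010005) (.leaf 0x0))) (.node 19877 (.leaf 0x0) (.node 19878 (.leaf 0x0) (.leaf 0x0))))))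

def sgOS_1830 : Store := (.node 19857 sgOS_1828 sgOS_1829)

def sgOS_1831 : Store := (.node 19890 (.node 19884 (.node 19881 (.node 19880 (.leaf 0x0) (.leaf 0x0)) (.node 19882 (.leaf 0x2) (.node 19883 (.leaf 0x0) (.leaf 0x0)))) (.node 19887 (.node 19885 (.leaf 0x0) (.node 19886 (.leaf 0x2) (.leaf 0x10400010004))) (.node 19888 (.leaf 0x0) (.node 19889 (.leaf 0x0) (.leaf 0x1020001000006))))) (.node 19895 (.node 19892 (.node 19891 (.leaf 0x0) (.leaf 0x0)) (.node 19893 (.leaf 0x0) (.node 19894 (.leaf 0x0) (.leaf 0x2)))) (.node 19898 (.node 19896 (.leaf 0x1020100010005) (.node 19897 (.leaf 0x0) (.leaf 0x1020001000006))) (.node 19899 (.leaf 0x2) (.node 19900 (.leaf 0x2) (.leaf 0x4000002))))))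

def sgOS_1832 : Store := (.node 19912 (.node 19906 (.node 19903 (.node 19902 (.leaf 0x0) (.leaf 0x2)) (.node 19904 (.leaf 0x2) (.node 19905 (.leaf 0x0) (.leaf 0x0)))) (.node 19909 (.node 19907 (.leaf 0x0) (.node 19908 (.leaf 0x0) (.leaf 0x0))) (.node 19910 (.leaf 0x0) (.node 19911 (.leaf 0x0) (.leaf 0x0))))) (.node 19917 (.node 19914 (.node 19913 (.leaf 0x0) (.leaf 0x0)) (.node 19915 (.leaf 0x0) (.node 19916 (.leaf 0x0) (.leaf 0x2)))) (.node 19920 (.node 19918 (.leaf 0x2) (.node 19919 (.leaf 0x0) (.leaf 0x0))) (.node 19921 (.leaf 0x0) (.node 19922 (.leaf 0x0) (.leaf 0x100010201000006))))))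

def sgOS_1833 : Store := (.node 19901 sgOS_1831 sgOS_1832)

def sgOS_1834 : Store := (.node 19879 sgOS_1830 sgOS_1833)

def sgOS_1835 : Store := (.node 19836 sgOS_1827 sgOS_1834)

def sgOS_1836 : Store := (.node 19933 (.node 19928 (.node 19925 (.node 19924 (.leaf 0x1020001000006) (.leaf 0x4000002)) (.node 19926 (.leaf 0x10200010004) (.node 19927 (.leaf 0x102010001000006) (.leaf 0x1020001000006)))) (.node 19930 (.node 19929 (.leaf 0x0) (.leaf 0x0)) (.node 19931 (.leaf 0x0) (.node 19932 (.leaf 0x0) (.leaf 0x0))))) (.node 19938 (.node 19935 (.node 19934 (.leaf 0x1) (.leaf 0x0)) (.node 19936 (.leaf 0x0) (.node 19937 (.leaf 0x4010002) (.leaf 0x2000102000005)))) (.node 19941 (.node 19939 (.leaf 0x1020001000006) (.node 19940 (.leaf 0x4000002) (.leaf 0x4010002))) (.node 19942 (.leaf 0x100000003) (.node 19943 (.leaf 0x0) (.leaf 0x10201000005))))))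

def sgOS_1837 : Store := (.node 19955 (.node 19949 (.node 19946 (.node 19945 (.leaf 0x0) (.leaf 0x2)) (.node 19947 (.leaf 0x103010201000006) (.node 19948 (.leaf 0x10201000005) (.leaf 0x0)))) (.node 19952 (.node 19950 (.leaf 0x104010001000006) (.node 19951 (.leaf 0x3010200010005) (.leaf 0x2000002))) (.node 19953 (.leaf 0x4000002) (.node 19954 (.leaf 0x0) (.leaf 0x1020001000005))))) (.node 19960 (.node 19957 (.node 19956 (.leaf 0x0) (.leaf 0x0)) (.node 19958 (.leaf 0x1020102000005) (.node 19959 (.leaf 0x1030102010005) (.leaf 0x1020001000006)))) (.node 19963 (.node 19961 (.leaf 0x0) (.node 19962 (.leaf 0x1030102000005) (.leaf 0x1040100010005))) (.node 19964 (.leaf 0x10200010004) (.node 19965 (.leaf 0x3010200010005) (.leaf 0x0))))))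

def sgOS_1838 : Store := (.node 19944 sgOS_1836 sgOS_1837)

def sgOS_1839 : Store := (.node 19977 (.node 19971 (.node 19968 (.node 19967 (.leaf 0x104000003) (.leaf 0x0)) (.node 19969 (.leaf 0x1020001000005) (.node 19970 (.leaf 0x1020001000006) (.leaf 0x10001)))) (.node 19974 (.node 19972 (.leaf 0x0) (.node 19973 (.leaf 0x0) (.leaf 0x0))) (.node 19975 (.leaf 0x0) (.node 19976 (.leaf 0x0) (.leaf 0x0))))) (.node 19982 (.node 19979 (.node 19978 (.leaf 0x0) (.leaf 0x1030102000005)) (.node 19980 (.leaf 0x10001) (.node 19981 (.leaf 0x400010003) (.leaf 0x0)))) (.node 19985 (.node 19983 (.leaf 0x1020102000005) (.node 19984 (.leaf 0x2000102000005) (.leaf 0x10001))) (.node 19986 (.leaf 0x100010001000006) (.node 19987 (.leaf 0x0) (.leaf 0x4000002))))))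

def sgOS_1840 : Store := (.node 19999 (.node 19993 (.node 19990 (.node 19989 (.leaf 0x0) (.leaf 0x102010201000006)) (.node 19991 (.leaf 0x0) (.node 19992 (.leaf 0x10200010004) (.leaf 0x1020002)))) (.node 19996 (.node 19994 (.leaf 0x10200010004) (.node 19995 (.leaf 0x2) (.leaf 0x0))) (.node 19997 (.leaf 0x1020002) (.node 19998 (.leaf 0x10200010004) (.leaf 0x2000002))))) (.node 20004 (.node 20001 (.node 20000 (.leaf 0x0) (.leaf 0x301020001000006)) (.node 20002 (.leaf 0x1020001000006) (.node 20003 (.leaf 0x0) (.leaf 0x0)))) (.node 20007 (.node 20005 (.leaf 0x301020001000006) (.node 20006 (.leaf 0x0) (.leaf 0x1040001000005))) (.node 20008 (.leaf 0x2000002) (.node 20009 (.leaf 0x4000002) (.leaf 0x0))))))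

def sgOS_1841 : Store := (.node 19988 sgOS_1839 sgOS_1840)

def sgOS_1842 : Store := (.node 19966 sgOS_1838 sgOS_1841)

def sgOS_1843 : Store := (.node 20020 (.node 20015 (.node 20012 (.node 20011 (.leaf 0x10200010005) (.leaf 0x0)) (.node 20013 (.leaf 0x2000002) (.node 20014 (.leaf 0x2) (.leaf 0x1)))) (.node 20017 (.node 20016 (.leaf 0x0) (.leaf 0x0)) (.node 20018 (.leaf 0x2) (.node 20019 (.leaf 0x0) (.leaf 0x0))))) (.node 20025 (.node 20022 (.node 20021 (.leaf 0x2010001000005) (.leaf 0x0)) (.node 20023 (.leaf 0x1020001000006) (.node 20024 (.leaf 0x100010001000006) (.leaf 0x4010201000005)))) (.node 20028 (.node 20026 (.leaf 0x301020001000006) (.node 20027 (.leaf 0x103010201000006) (.leaf 0x102000003))) (.node 20029 (.leaf 0x0) (.node 20030 (.leaf 0x1020001000006) (.leaf 0x104010003))))))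

def sgOS_1844 : Store := (.node 20042 (.node 20036 (.node 20033 (.node 20032 (.leaf 0x0) (.leaf 0x0)) (.node 20034 (.leaf 0x100010003) (.node 20035 (.leaf 0x103010201000006) (.leaf 0x1020001000006)))) (.node 20039 (.node 20037 (.leaf 0x4000002) (.node 20038 (.leaf 0x0) (.leaf 0x104010001000006))) (.node 20040 (.leaf 0x1020001000006) (.node 20041 (.leaf 0x10200010004) (.leaf 0x0))))) (.node 20047 (.node 20044 (.node 20043 (.leaf 0x0) (.leaf 0x0)) (.node 20045 (.leaf 0x0) (.node 20046 (.leaf 0x0) (.leaf 0x0)))) (.node 20050 (.node 20048 (.leaf 0x0) (.node 20049 (.leaf 0x0) (.leaf 0x10400010004))) (.node 20051 (.leaf 0x400010003) (.node 20052 (.leaf 0x0) (.leaf 0x0))))))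

def sgOS_1845 : Store := (.node 20031 sgOS_1843 sgOS_1844)

def sgOS_1846 : Store := (.node 20064 (.node 20058 (.node 20055 (.node 20054 (.leaf 0x4000002) (.leaf 0x0)) (.node 20056 (.leaf 0x0) (.node 20057 (.leaf 0x0) (.leaf 0x2)))) (.node 20061 (.node 20059 (.leaf 0x0) (.node 20060 (.leaf 0x0) (.leaf 0x2))) (.node 20062 (.leaf 0x0) (.node 20063 (.leaf 0x102000003) (.leaf 0x0))))) (.node 20069 (.node 20066 (.node 20065 (.leaf 0x2) (.leaf 0x0)) (.node 20067 (.leaf 0x0) (.node 20068 (.leaf 0x0) (.leaf 0x0)))) (.node 20072 (.node 20070 (.leaf 0x0) (.node 20071 (.leaf 0x2) (.leaf 0x2))) (.node 20073 (.leaf 0x0) (.node 20074 (.leaf 0x0) (.leaf 0x0))))))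

def sgOS_1847 : Store := (.node 20086 (.node 20080 (.node 20077 (.node 20076 (.leaf 0x0) (.leaf 0x0)) (.node 20078 (.leaf 0x104010001000006) (.node 20079 (.leaf 0x2000002) (.leaf 0x2000002)))) (.node 20083 (.node 20081 (.leaf 0x0) (.node 20082 (.leaf 0x102010001000006) (.leaf 0x0))) (.node 20084 (.leaf 0x0) (.node 20085 (.leaf 0x2000002) (.leaf 0x4000002))))) (.node 20091 (.node 20088 (.node 20087 (.leaf 0x0) (.leaf 0x0)) (.node 20089 (.leaf 0x2000002) (.node 20090 (.leaf 0x0) (.leaf 0x1040100010005)))) (.node 20094 (.node 20092 (.leaf 0x2) (.node 20093 (.leaf 0x1020100010005) (.leaf 0x1000102010005))) (.node 20095 (.leaf 0x1040100010005) (.node 20096 (.leaf 0x0) (.leaf 0x1000100010005))))))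

def sgOS_1848 : Store := (.node 20075 sgOS_1846 sgOS_1847)

def sgOS_1849 : Store := (.node 20053 sgOS_1845 sgOS_1848)

def sgOS_1850 : Store := (.node 20010 sgOS_1842 sgOS_1849)

def sgOS_1851 : Store := (.node 19923 sgOS_1835 sgOS_1850)

def sgOS_1852 : Store := (.node 19750 sgOS_1820 sgOS_1851)

def sgOS_1853 : Store := (.node 20107 (.node 20102 (.node 20099 (.node 20098 (.leaf 0x0) (.leaf 0x2000102000005)) (.node 20100 (.leaf 0x4000002) (.node 20101 (.leaf 0x0) (.leaf 0x0)))) (.node 20104 (.node 20103 (.leaf 0x0) (.leaf 0x0)) (.node 20105 (.leaf 0x1040102000005) (.node 20106 (.leaf 0x1000100010005) (.leaf 0x2000002))))) (.node 20112 (.node 20109 (.node 20108 (.leaf 0x0) (.leaf 0x1040102000005)) (.node 20110 (.leaf 0x1020102010005) (.node 20111 (.leaf 0x104010001000006) (.leaf 0x0)))) (.node 20115 (.node 20113 (.leaf 0x2) (.node 20114 (.leaf 0x0) (.leaf 0x10400010004))) (.node 20116 (.leaf 0x0) (.node 20117 (.leaf 0x2)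 (.leaf 0x0))))))

def sgOS_1854 : Store := (.node 20129 (.node 20123 (.node 20120 (.node 20119 (.leaf 0x0) (.leaf 0x0)) (.node 20121 (.leaf 0x2) (.node 20122 (.leaf 0x0) (.leaf 0x0)))) (.node 20126 (.node 20124 (.leaf 0x1040100010005) (.node 20125 (.leaf 0x0) (.leaf 0x4010001000005))) (.node 20127 (.leaf 0x301020001000006) (.node 20128 (.leaf 0x1020001000006) (.leaf 0x1040100010005))))) (.node 20134 (.node 20131 (.node 20130 (.leaf 0x2010201000005) (.leaf 0x0)) (.node 20132 (.leaf 0x1020102010005) (.node 20133 (.leaf 0x0) (.leaf 0x0)))) (.node 20137 (.node 20135 (.leaf 0x2) (.node 20136 (.leaf 0x10200010004) (.leaf 0x0))) (.node 20138 (.leaf 0x2) (.node 20139 (.leaf 0x0) (.leaf 0x1020002))))))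

def sgOS_1855 : Store := (.node 20118 sgOS_1853 sgOS_1854)

def sgOS_1856 : Store := (.node 20150 (.node 20145 (.node 20142 (.node 20141 (.leaf 0x10200010004) (.leaf 0x2)) (.node 20143 (.leaf 0x2000002) (.node 20144 (.leaf 0x1020002) (.leaf 0x0)))) (.node 20147 (.node 20146 (.leaf 0x0) (.leaf 0x102000004)) (.node 20148 (.leaf 0x2) (.node 20149 (.leaf 0x10400010004) (.leaf 0x10400010004))))) (.node 20155 (.node 20152 (.node 20151 (.leaf 0x102000004) (.leaf 0x0)) (.node 20153 (.leaf 0x0) (.node 20154 (.leaf 0x103010001000006) (.leaf 0x0)))) (.node 20158 (.node 20156 (.leaf 0x4000002) (.node 20157 (.leaf 0x10200010004) (.leaf 0x104010201000006))) (.node 20159 (.leaf 0x0) (.node 20160 (.leaf 0x0) (.leaf 0x1040001000005))))))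

def sgOS_1857 : Store := (.node 20172 (.node 20166 (.node 20163 (.node 20162 (.leaf 0x1020001000006) (.leaf 0x4000002)) (.node 20164 (.leaf 0x10200010004) (.node 20165 (.leaf 0x10200010005) (.leaf 0x0)))) (.node 20169 (.node 20167 (.leaf 0x0) (.node 20168 (.leaf 0x4000002) (.leaf 0x0))) (.node 20170 (.leaf 0x1020001000006) (.node 20171 (.leaf 0x103010201000006) (.leaf 0x0))))) (.node 20177 (.node 20174 (.node 20173 (.leaf 0x0) (.leaf 0x0)) (.node 20175 (.leaf 0x104010001000006) (.node 20176 (.leaf 0x10200010004) (.leaf 0x2)))) (.node 20180 (.node 20178 (.leaf 0x10200010004) (.node 20179 (.leaf 0x104010001000006) (.leaf 0x10200010004))) (.node 20181 (.leaf 0x0) (.node 20182 (.leaf 0x0) (.leaf 0x0))))))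

def sgOS_1858 : Store := (.node 20161 sgOS_1856 sgOS_1857)

def sgOS_1859 : Store := (.node 20140 sgOS_1855 sgOS_1858)

def sgOS_1860 : Store := (.node 20193 (.node 20188 (.node 20185 (.node 20184 (.leaf 0x4000002) (.leaf 0x0)) (.node 20186 (.leaf 0x0) (.node 20187 (.leaf 0x0) (.leaf 0x0)))) (.node 20190 (.node 20189 (.leaf 0x3010201000005) (.leaf 0x0)) (.node 20191 (.leaf 0x2) (.node 20192 (.leaf 0x102010201000006) (.leaf 0x3010201000005))))) (.node 20198 (.node 20195 (.node 20194 (.leaf 0x0) (.leaf 0x10400010004)) (.node 20196 (.leaf 0x0) (.node 20197 (.leaf 0x104010001000006) (.leaf 0x0)))) (.node 20201 (.node 20199 (.leaf 0x0) (.node 20200 (.leaf 0x0) (.leaf 0x103010201000006))) (.node 20202 (.leaf 0x100010201000006) (.node 20203 (.leaf 0x103010001000006) (.leaf 0x0))))))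

def sgOS_1861 : Store := (.node 20215 (.node 20209 (.node 20206 (.node 20205 (.leaf 0x10400010004) (.leaf 0x0)) (.node 20207 (.leaf 0x103010001000006) (.node 20208 (.leaf 0x0) (.leaf 0x10200010004)))) (.node 20212 (.node 20210 (.leaf 0x1020001000006) (.node 20211 (.leaf 0x0) (.leaf 0x301020001000006))) (.node 20213 (.leaf 0x10200010004) (.node 20214 (.leaf 0x1020001000006) (.leaf 0x0))))) (.node 20220 (.node 20217 (.node 20216 (.leaf 0x1020001000006) (.leaf 0x2000002)) (.node 20218 (.leaf 0x0) (.node 20219 (.leaf 0x0) (.leaf 0x2)))) (.node 20223 (.node 20221 (.leaf 0x0) (.node 20222 (.leaf 0x0) (.leaf 0x2))) (.node 20224 (.leaf 0x0) (.node 20225 (.leaf 0x301020001000006) (.leaf 0x1020001000006))))))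

def sgOS_1862 : Store := (.node 20204 sgOS_1860 sgOS_1861)

def sgOS_1863 : Store := (.node 20237 (.node 20231 (.node 20228 (.node 20227 (.leaf 0x10400010004) (.leaf 0x0)) (.node 20229 (.leaf 0x301020001000006) (.node 20230 (.leaf 0x0) (.leaf 0x4010201000005)))) (.node 20234 (.node 20232 (.leaf 0x0) (.node 20233 (.leaf 0x1020001000006) (.leaf 0x1000100010005))) (.node 20235 (.leaf 0x2010001000005) (.node 20236 (.leaf 0x301020001000006) (.leaf 0x1030102010005))))) (.node 20242 (.node 20239 (.node 20238 (.leaf 0x1020102000005) (.leaf 0x20001)) (.node 20240 (.leaf 0x102010201000006) (.node 20241 (.leaf 0x0) (.leaf 0x1030102000005)))) (.node 20245 (.node 20243 (.leaf 0x10200010005) (.node 20244 (.leaf 0x10200010004) (.leaf 0x2010001000005))) (.node 20246 (.leaf 0x0) (.node 20247 (.leaf 0x1020001000006) (.leaf 0x10200010004))))))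

def sgOS_1864 : Store := (.node 20259 (.node 20253 (.node 20250 (.node 20249 (.leaf 0x4010201000005) (.leaf 0x301020001000006)) (.node 20251 (.leaf 0x4000002) (.node 20252 (.leaf 0x3010200010005) (.leaf 0x1020001000006)))) (.node 20256 (.node 20254 (.leaf 0x4000002) (.node 20255 (.leaf 0x0) (.leaf 0x1020001000005))) (.node 20257 (.leaf 0x0) (.node 20258 (.leaf 0x2000002) (.leaf 0x0))))) (.node 20264 (.node 20261 (.node 20260 (.leaf 0x1030102010005) (.leaf 0x1000102010005)) (.node 20262 (.leaf 0x0) (.node 20263 (.leaf 0x0) (.leaf 0x1000102010005)))) (.node 20267 (.node 20265 (.leaf 0x0) (.node 20266 (.leaf 0x0) (.leaf 0x0))) (.node 20268 (.leaf 0x2) (.node 20269 (.leaf 0x0) (.leaf 0x10200010004))))))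

def sgOS_1865 : Store := (.node 20248 sgOS_1863 sgOS_1864)

def sgOS_1866 : Store := (.node 20226 sgOS_1862 sgOS_1865)

def sgOS_1867 : Store := (.node 20183 sgOS_1859 sgOS_1866)

def sgOS_1868 : Store := (.node 20280 (.node 20275 (.node 20272 (.node 20271 (.leaf 0x0) (.leaf 0x0)) (.node 20273 (.leaf 0x0) (.node 20274 (.leaf 0x103010201000006) (.leaf 0x2000002)))) (.node 20277 (.node 20276 (.leaf 0x100010201000006) (.leaf 0x0)) (.node 20278 (.leaf 0x100010201000006) (.node 20279 (.leaf 0x0) (.leaf 0x0))))) (.node 20285 (.node 20282 (.node 20281 (.leaf 0x1030102010005) (.leaf 0x1000102010005)) (.node 20283 (.leaf 0x0) (.node 20284 (.leaf 0x0) (.leaf 0x1030102010005)))) (.node 20288 (.node 20286 (.leaf 0x0) (.node 20287 (.leaf 0x0) (.leaf 0x301020001000006))) (.node 20289 (.leaf 0x1020001000006) (.node 20290 (.leaf 0x100010003) (.leaf 0x102000003))))))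

def sgOS_1869 : Store := (.node 20302 (.node 20296 (.node 20293 (.node 20292 (.leaf 0x301020001000006) (.leaf 0x104010003)) (.node 20294 (.leaf 0x1030102000005) (.node 20295 (.leaf 0x1000102010005) (.leaf 0x1020001000006)))) (.node 20299 (.node 20297 (.leaf 0x103010201000006) (.node 20298 (.leaf 0x1030102000005) (.leaf 0x40001))) (.node 20300 (.leaf 0x0) (.node 20301 (.leaf 0x0) (.leaf 0x0))))) (.node 20307 (.node 20304 (.node 20303 (.leaf 0x2) (.leaf 0x0)) (.node 20305 (.leaf 0x0) (.node 20306 (.leaf 0x2) (.leaf 0x0)))) (.node 20310 (.node 20308 (.leaf 0x20102000004) (.node 20309 (.leaf 0x2000102000005) (.leaf 0x1020001000006))) (.node 20311 (.leaf 0x3010002) (.node 20312 (.leaf 0x20102000004) (.leaf 0x100000003))))))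

def sgOS_1870 : Store := (.node 20291 sgOS_1868 sgOS_1869)

def sgOS_1871 : Store := (.node 20323 (.node 20318 (.node 20315 (.node 20314 (.leaf 0x0) (.leaf 0x0)) (.node 20316 (.leaf 0x1020001000006) (.node 20317 (.leaf 0x301020001000006) (.leaf 0x2000002)))) (.node 20320 (.node 20319 (.leaf 0x1020001000006) (.leaf 0x1020001000006)) (.node 20321 (.leaf 0x301020001000006) (.node 20322 (.leaf 0x0) (.leaf 0x2))))) (.node 20328 (.node 20325 (.node 20324 (.leaf 0x0) (.leaf 0x0)) (.node 20326 (.leaf 0x0) (.node 20327 (.leaf 0x0) (.leaf 0x0)))) (.node 20331 (.node 20329 (.leaf 0x2010201000005) (.node 20330 (.leaf 0x301020001000006) (.leaf 0x1020001000006))) (.node 20332 (.leaf 0x1020001000006) (.node 20333 (.leaf 0x4010001000005) (.leaf 0x0))))))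

def sgOS_1872 : Store := (.node 20345 (.node 20339 (.node 20336 (.node 20335 (.leaf 0x2) (.leaf 0x0)) (.node 20337 (.leaf 0x0) (.node 20338 (.leaf 0x0) (.leaf 0x0)))) (.node 20342 (.node 20340 (.leaf 0x0) (.node 20341 (.leaf 0x0) (.leaf 0x0))) (.node 20343 (.leaf 0x101010102020007) (.node 20344 (.leaf 0x30201000300010007) (.leaf 0x0))))) (.node 20350 (.node 20347 (.node 20346 (.leaf 0x0) (.leaf 0x10203030201000008)) (.node 20348 (.leaf 0x102010201000006) (.node 20349 (.leaf 0x30201000300010007) (.leaf 0x0)))) (.node 20353 (.node 20351 (.leaf 0x301020001000006) (.node 20352 (.leaf 0x1020001000006) (.leaf 0x0))) (.node 20354 (.leaf 0x4000002) (.node 20355 (.leaf 0x301020001000006) (.leaf 0x103010201000006))))))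

def sgOS_1873 : Store := (.node 20334 sgOS_1871 sgOS_1872)

def sgOS_1874 : Store := (.node 20313 sgOS_1870 sgOS_1873)

def sgOS_1875 : Store := (.node 20366 (.node 20361 (.node 20358 (.node 20357 (.leaf 0x0) (.leaf 0x0)) (.node 20359 (.leaf 0x2) (.node 20360 (.leaf 0x10400010004) (.leaf 0x0)))) (.node 20363 (.node 20362 (.leaf 0x0) (.leaf 0x0)) (.node 20364 (.leaf 0x0) (.node 20365 (.leaf 0x0) (.leaf 0x1020001000006))))) (.node 20371 (.node 20368 (.node 20367 (.leaf 0x0) (.leaf 0x0)) (.node 20369 (.leaf 0x0) (.node 20370 (.leaf 0x10400010004) (.leaf 0x1030102000005)))) (.node 20374 (.node 20372 (.leaf 0x1040001000005) (.node 20373 (.leaf 0x1020001000006) (.leaf 0x0))) (.node 20375 (.leaf 0x1030102000005) (.node 20376 (.leaf 0x1030100010005) (.leaf 0x103010201000006))))))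

def sgOS_1876 : Store := (.node 20388 (.node 20382 (.node 20379 (.node 20378 (.leaf 0x0) (.leaf 0x4000102000005)) (.node 20380 (.leaf 0x0) (.node 20381 (.leaf 0x0) (.leaf 0x0)))) (.node 20385 (.node 20383 (.leaf 0x2000102000005) (.node 20384 (.leaf 0x0) (.leaf 0x104010201000006))) (.node 20386 (.leaf 0x4000002) (.node 20387 (.leaf 0x2) (.leaf 0x0))))) (.node 20393 (.node 20390 (.node 20389 (.leaf 0x100010201000006) (.leaf 0x0)) (.node 20391 (.leaf 0x102010001000006) (.node 20392 (.leaf 0x0) (.leaf 0x1020001000006)))) (.node 20396 (.node 20394 (.leaf 0x301020001000006) (.node 20395 (.leaf 0x0) (.leaf 0x0))) (.node 20397 (.leaf 0x0) (.node 20398 (.leaf 0x301020001000006) (.leaf 0x1040102000005))))))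

def sgOS_1877 : Store := (.node 20377 sgOS_1875 sgOS_1876)

def sgOS_1878 : Store := (.node 20410 (.node 20404 (.node 20401 (.node 20400 (.leaf 0x1020102010005) (.leaf 0x2000002)) (.node 20402 (.leaf 0x104010001000006) (.node 20403 (.leaf 0x1040102000005) (.leaf 0x1000100010005)))) (.node 20407 (.node 20405 (.leaf 0x0) (.node 20406 (.leaf 0x30001) (.leaf 0x30302030202010007))) (.node 20408 (.leaf 0x2030302030001000008) (.node 20409 (.leaf 0x0) (.leaf 0x30001))))) (.node 20415 (.node 20412 (.node 20411 (.leaf 0x3030001010005) (.leaf 0x3020102010001000000000a)) (.node 20413 (.leaf 0x0) (.node 20414 (.leaf 0x0) (.leaf 0x2)))) (.node 20418 (.node 20416 (.leaf 0x0) (.node 20417 (.leaf 0x0) (.leaf 0x0))) (.node 20419 (.leaf 0x0) (.node 20420 (.leaf 0x0) (.leaf 0x0))))))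

def sgOS_1879 : Store := (.node 20432 (.node 20426 (.node 20423 (.node 20422 (.leaf 0x0) (.leaf 0x0)) (.node 20424 (.leaf 0x0) (.node 20425 (.leaf 0x2) (.leaf 0x0)))) (.node 20429 (.node 20427 (.leaf 0x0) (.node 20428 (.leaf 0x4000102000005) (.leaf 0x0))) (.node 20430 (.leaf 0x0) (.node 20431 (.leaf 0x0) (.leaf 0x2000102000005))))) (.node 20437 (.node 20434 (.node 20433 (.leaf 0x4000002) (.leaf 0x0)) (.node 20435 (.leaf 0x0) (.node 20436 (.leaf 0x2) (.leaf 0x2000002)))) (.node 20440 (.node 20438 (.leaf 0x0) (.node 20439 (.leaf 0x1040100010005) (.leaf 0x301020001000006))) (.node 20441 (.leaf 0x0) (.node 20442 (.leaf 0x0) (.leaf 0x0))))))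

def sgOS_1880 : Store := (.node 20421 sgOS_1878 sgOS_1879)

def sgOS_1881 : Store := (.node 20399 sgOS_1877 sgOS_1880)

def sgOS_1882 : Store := (.node 20356 sgOS_1874 sgOS_1881)

def sgOS_1883 : Store := (.node 20270 sgOS_1867 sgOS_1882)

def sgOS_1884 : Store := (.node 20453 (.node 20448 (.node 20445 (.node 20444 (.leaf 0x0) (.leaf 0x100010201020100000009)) (.node 20446 (.leaf 0x0) (.node 20447 (.leaf 0x0) (.leaf 0x0)))) (.node 20450 (.node 20449 (.leaf 0x100010201000006) (.leaf 0x0)) (.node 20451 (.leaf 0x102010001000006) (.node 20452 (.leaf 0x0) (.leaf 0x102010001000006))))) (.node 20458 (.node 20455 (.node 20454 (.leaf 0x103010001000006) (.leaf 0x40001020004)) (.node 20456 (.leaf 0x0) (.node 20457 (.leaf 0x2) (.leaf 0x10400010004)))) (.node 20461 (.node 20459 (.leaf 0x40001020004) (.node 20460 (.leaf 0x10200010004) (.leaf 0x0))) (.node 20462 (.leaf 0x1040001000005) (.node 20463 (.leaf 0x0) (.leaf 0x4000002))))))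

def sgOS_1885 : Store := (.node 20475 (.node 20469 (.node 20466 (.node 20465 (.leaf 0x2000002) (.leaf 0x10200010005)) (.node 20467 (.leaf 0x2000002) (.node 20468 (.leaf 0x0) (.leaf 0x0)))) (.node 20472 (.node 20470 (.leaf 0x4000002) (.node 20471 (.leaf 0x2000002) (.leaf 0x0))) (.node 20473 (.leaf 0x0) (.node 20474 (.leaf 0x4000002) (.leaf 0x10400010004))))) (.node 20480 (.node 20477 (.node 20476 (.leaf 0x0) (.leaf 0x0)) (.node 20478 (.leaf 0x0) (.node 20479 (.leaf 0x0) (.leaf 0x0)))) (.node 20483 (.node 20481 (.leaf 0x0) (.node 20482 (.leaf 0x0) (.leaf 0x4000002))) (.node 20484 (.leaf 0x1020001000006) (.node 20485 (.leaf 0x1020001000006) (.leaf 0x10200010004))))))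

def sgOS_1886 : Store := (.node 20464 sgOS_1884 sgOS_1885)

def sgOS_1887 : Store := (.node 20496 (.node 20491 (.node 20488 (.node 20487 (.leaf 0x0) (.leaf 0x2000002)) (.node 20489 (.leaf 0x100010201000006) (.node 20490 (.leaf 0x4000002) (.leaf 0x10400010004)))) (.node 20493 (.node 20492 (.leaf 0x10200010004) (.leaf 0x0)) (.node 20494 (.leaf 0x4000002) (.node 20495 (.leaf 0x4000002) (.leaf 0x104010001000006))))) (.node 20501 (.node 20498 (.node 20497 (.leaf 0x0) (.leaf 0x0)) (.node 20499 (.leaf 0x2000002) (.node 20500 (.leaf 0x0) (.leaf 0x0)))) (.node 20504 (.node 20502 (.leaf 0x4000002) (.node 20503 (.leaf 0x0) (.leaf 0x2))) (.node 20505 (.leaf 0x2) (.node 20506 (.leaf 0x0) (.leaf 0x0))))))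

def sgOS_1888 : Store := (.node 20518 (.node 20512 (.node 20509 (.node 20508 (.leaf 0x104000003) (.leaf 0x2)) (.node 20510 (.leaf 0x0) (.node 20511 (.leaf 0x0) (.leaf 0x102010001000006)))) (.node 20515 (.node 20513 (.leaf 0x2000002) (.node 20514 (.leaf 0x0) (.leaf 0x0))) (.node 20516 (.leaf 0x104010001000006) (.node 20517 (.leaf 0x2000002) (.leaf 0x200010003))))) (.node 20523 (.node 20520 (.node 20519 (.leaf 0x4000002) (.leaf 0x104000003)) (.node 20521 (.leaf 0x0) (.node 20522 (.leaf 0x200010003) (.leaf 0x10400010004)))) (.node 20526 (.node 20524 (.leaf 0x0) (.node 20525 (.leaf 0x1040100010005) (.leaf 0x0))) (.node 20527 (.leaf 0x1020100010005) (.node 20528 (.leaf 0x1000100010005) (.leaf 0x1040100010005))))))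

def sgOS_1889 : Store := (.node 20507 sgOS_1887 sgOS_1888)

def sgOS_1890 : Store := (.node 20486 sgOS_1886 sgOS_1889)

def sgOS_1891 : Store := (.node 20539 (.node 20534 (.node 20531 (.node 20530 (.leaf 0x0) (.leaf 0x1000102010005)) (.node 20532 (.leaf 0x2010001000005) (.node 20533 (.leaf 0x0) (.leaf 0x1020001000006)))) (.node 20536 (.node 20535 (.leaf 0x301020001000006) (.leaf 0x4010201000005)) (.node 20537 (.leaf 0x301020001000006) (.node 20538 (.leaf 0x0) (.leaf 0x102000004))))) (.node 20544 (.node 20541 (.node 20540 (.leaf 0x0) (.leaf 0x2)) (.node 20542 (.leaf 0x0) (.node 20543 (.leaf 0x102000004) (.leaf 0x2)))) (.node 20547 (.node 20545 (.leaf 0x0) (.node 20546 (.leaf 0x4010002) (.leaf 0x100000003))) (.node 20548 (.leaf 0x1020001000006) (.node 20549 (.leaf 0x0) (.leaf 0x4010002))))))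

def sgOS_1892 : Store := (.node 20561 (.node 20555 (.node 20552 (.node 20551 (.leaf 0x2000102000005) (.leaf 0x4000002)) (.node 20553 (.leaf 0x104010001000006) (.node 20554 (.leaf 0x10200010004) (.leaf 0x10400010004)))) (.node 20558 (.node 20556 (.leaf 0x0) (.node 20557 (.leaf 0x104010001000006) (.leaf 0x10200010004))) (.node 20559 (.leaf 0x10200010004) (.node 20560 (.leaf 0x1020001000006) (.leaf 0x1020001000006))))) (.node 20566 (.node 20563 (.node 20562 (.leaf 0x301020001000006) (.leaf 0x301020001000006)) (.node 20564 (.leaf 0x0) (.node 20565 (.leaf 0x1020001000006) (.leaf 0x2000002)))) (.node 20569 (.node 20567 (.leaf 0x40001020004) (.node 20568 (.leaf 0x1000102010005) (.leaf 0x0))) (.node 20570 (.leaf 0x0) (.node 20571 (.leaf 0x40001020004) (.leaf 0x1030102010005))))))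

def sgOS_1893 : Store := (.node 20550 sgOS_1891 sgOS_1892)

def sgOS_1894 : Store := (.node 20583 (.node 20577 (.node 20574 (.node 20573 (.leaf 0x2000002) (.leaf 0x0)) (.node 20575 (.leaf 0x2) (.node 20576 (.leaf 0x0) (.leaf 0x10200010004)))) (.node 20580 (.node 20578 (.leaf 0x2000002) (.node 20579 (.leaf 0x10400010004) (.leaf 0x2))) (.node 20581 (.leaf 0x2010201000005) (.node 20582 (.leaf 0x2) (.leaf 0x2000002))))) (.node 20588 (.node 20585 (.node 20584 (.leaf 0x301020001000006) (.leaf 0x4010001000005)) (.node 20586 (.leaf 0x1020001000006) (.node 20587 (.leaf 0x0) (.leaf 0x102000004)))) (.node 20591 (.node 20589 (.leaf 0x0) (.node 20590 (.leaf 0x2) (.leaf 0x0))) (.node 20592 (.leaf 0x102000004) (.node 20593 (.leaf 0x2) (.leaf 0x10400010004))))))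

def sgOS_1895 : Store := (.node 20605 (.node 20599 (.node 20596 (.node 20595 (.leaf 0x1020102000005) (.leaf 0x1030100010005)) (.node 20597 (.leaf 0x104010201000006) (.node 20598 (.leaf 0x10200010004) (.leaf 0x1030102000005)))) (.node 20602 (.node 20600 (.leaf 0x1020100010005) (.node 20601 (.leaf 0x0) (.leaf 0x0))) (.node 20603 (.leaf 0x1040100010005) (.node 20604 (.leaf 0x4000002) (.leaf 0x0))))) (.node 20610 (.node 20607 (.node 20606 (.leaf 0x0) (.leaf 0x1000102010005)) (.node 20608 (.leaf 0x0) (.node 20609 (.leaf 0x40001020004) (.leaf 0x10200010004)))) (.node 20613 (.node 20611 (.leaf 0x2) (.node 20612 (.leaf 0x0) (.leaf 0x40001020004))) (.node 20614 (.leaf 0x10200010004) (.node 20615 (.leaf 0x10400010004) (.leaf 0x0))))))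

def sgOS_1896 : Store := (.node 20594 sgOS_1894 sgOS_1895)

def sgOS_1897 : Store := (.node 20572 sgOS_1893 sgOS_1896)

def sgOS_1898 : Store := (.node 20529 sgOS_1890 sgOS_1897)

def sgOS_1899 : Store := (.node 20626 (.node 20621 (.node 20618 (.node 20617 (.leaf 0x4000002) (.leaf 0x0)) (.node 20619 (.leaf 0x10001) (.node 20620 (.leaf 0x0) (.leaf 0x10001)))) (.node 20623 (.node 20622 (.leaf 0x0) (.leaf 0x1000102000005)) (.node 20624 (.leaf 0x1030100010005) (.node 20625 (.leaf 0x1020001000006) (.leaf 0x2))))) (.node 20631 (.node 20628 (.node 20627 (.leaf 0x1000102000005) (.leaf 0x1040100010005)) (.node 20629 (.leaf 0x0) (.node 20630 (.leaf 0x40001000004) (.leaf 0x1040100010005)))) (.node 20634 (.node 20632 (.leaf 0x0) (.node 20633 (.leaf 0x1020100010005) (.leaf 0x1040002))) (.node 20635 (.leaf 0x1020100010005) (.node 20636 (.leaf 0x0) (.leaf 0x20300010201020007))))))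

def sgOS_1900 : Store := (.node 20648 (.node 20642 (.node 20639 (.node 20638 (.leaf 0x100000100000006) (.leaf 0x0)) (.node 20640 (.leaf 0x3030001010005) (.node 20641 (.leaf 0x102010201000007) (.leaf 0x0)))) (.node 20645 (.node 20643 (.leaf 0x1000001000005) (.node 20644 (.leaf 0x40001000004) (.leaf 0x1020100010005))) (.node 20646 (.leaf 0x0) (.node 20647 (.leaf 0x1000100010005) (.leaf 0x40001000004))))) (.node 20653 (.node 20650 (.node 20649 (.leaf 0x1040100010005) (.leaf 0x0)) (.node 20651 (.leaf 0x0) (.node 20652 (.leaf 0x1040100010005) (.leaf 0x4000002)))) (.node 20656 (.node 20654 (.leaf 0x0) (.node 20655 (.leaf 0x0) (.leaf 0x1000102010005))) (.node 20657 (.leaf 0x10200010004) (.node 20658 (.leaf 0x10200010004) (.leaf 0x104000003))))))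

def sgOS_1901 : Store := (.node 20637 sgOS_1899 sgOS_1900)

def sgOS_1902 : Store := (.node 20670 (.node 20664 (.node 20661 (.node 20660 (.leaf 0x10001) (.leaf 0x0)) (.node 20662 (.leaf 0x10200010004) (.node 20663 (.leaf 0x1020001000006) (.leaf 0x0)))) (.node 20667 (.node 20665 (.leaf 0x0) (.node 20666 (.leaf 0x103010201000006) (.leaf 0x0))) (.node 20668 (.leaf 0x102010001000006) (.node 20669 (.leaf 0x0) (.leaf 0x100010201000006))))) (.node 20675 (.node 20672 (.node 20671 (.leaf 0x0) (.leaf 0x0)) (.node 20673 (.leaf 0x20001) (.node 20674 (.leaf 0x102030303030000000009) (.leaf 0x102010005)))) (.node 20678 (.node 20676 (.leaf 0x303030303000006) (.node 20677 (.leaf 0x30001020303020007) (.leaf 0x0))) (.node 20679 (.leaf 0x0) (.node 20680 (.leaf 0x10001) (.leaf 0x0))))))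

def sgOS_1903 : Store := (.node 20692 (.node 20686 (.node 20683 (.node 20682 (.leaf 0x0) (.leaf 0x0)) (.node 20684 (.leaf 0x400010003) (.node 20685 (.leaf 0x0) (.leaf 0x3010201000005)))) (.node 20689 (.node 20687 (.leaf 0x0) (.node 20688 (.leaf 0x2) (.leaf 0x103010201000006))) (.node 20690 (.leaf 0x3010201000005) (.node 20691 (.leaf 0x0) (.leaf 0x102010001000006))))) (.node 20697 (.node 20694 (.node 20693 (.leaf 0x0) (.leaf 0x1000102010005)) (.node 20695 (.leaf 0x4000002) (.node 20696 (.leaf 0x0) (.leaf 0x0)))) (.node 20700 (.node 20698 (.leaf 0x1040100010005) (.node 20699 (.leaf 0x0) (.leaf 0x2010201000005))) (.node 20701 (.leaf 0x301020001000006) (.node 20702 (.leaf 0x1020001000006) (.leaf 0x0))))))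

def sgOS_1904 : Store := (.node 20681 sgOS_1902 sgOS_1903)

def sgOS_1905 : Store := (.node 20659 sgOS_1901 sgOS_1904)

def sgOS_1906 : Store := (.node 20713 (.node 20708 (.node 20705 (.node 20704 (.leaf 0x4010001000005) (.leaf 0x0)) (.node 20706 (.leaf 0x301020001000006) (.node 20707 (.leaf 0x30102000004) (.leaf 0x1020001000006)))) (.node 20710 (.node 20709 (.leaf 0x2) (.leaf 0x0)) (.node 20711 (.leaf 0x30102000004) (.node 20712 (.leaf 0x0) (.leaf 0x2))))) (.node 20718 (.node 20715 (.node 20714 (.leaf 0x1000102000005) (.leaf 0x1020100010005)) (.node 20716 (.leaf 0x4000002) (.node 20717 (.leaf 0x10200010004) (.leaf 0x1040102000005)))) (.node 20721 (.node 20719 (.leaf 0x1030100010005) (.node 20720 (.leaf 0x0) (.leaf 0x0))) (.node 20722 (.leaf 0x0) (.node 20723 (.leaf 0x0) (.leaf 0x0))))))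

def sgOS_1907 : Store := (.node 20735 (.node 20729 (.node 20726 (.node 20725 (.leaf 0x0) (.leaf 0x0)) (.node 20727 (.leaf 0x0) (.node 20728 (.leaf 0x0) (.leaf 0x0)))) (.node 20732 (.node 20730 (.leaf 0x2000002) (.node 20731 (.leaf 0x10400010004) (.leaf 0x0))) (.node 20733 (.leaf 0x0) (.node 20734 (.leaf 0x0) (.leaf 0x103010003))))) (.node 20740 (.node 20737 (.node 20736 (.leaf 0x0) (.leaf 0x2)) (.node 20738 (.leaf 0x0) (.node 20739 (.leaf 0x103010003) (.leaf 0x0)))) (.node 20743 (.node 20741 (.leaf 0x4000002) (.node 20742 (.leaf 0x0) (.leaf 0x104000003))) (.node 20744 (.leaf 0x0) (.node 20745 (.leaf 0x0) (.leaf 0x0))))))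

def sgOS_1908 : Store := (.node 20724 sgOS_1906 sgOS_1907)

def sgOS_1909 : Store := (.node 20757 (.node 20751 (.node 20748 (.node 20747 (.leaf 0x2000102000005) (.leaf 0x0)) (.node 20749 (.leaf 0x0) (.node 20750 (.leaf 0x2) (.leaf 0x2)))) (.node 20754 (.node 20752 (.leaf 0x2000002) (.node 20753 (.leaf 0x0) (.leaf 0x0))) (.node 20755 (.leaf 0x0) (.node 20756 (.leaf 0x0) (.leaf 0x2))))) (.node 20762 (.node 20759 (.node 20758 (.leaf 0x0) (.leaf 0x2)) (.node 20760 (.leaf 0x0) (.node 20761 (.leaf 0x0) (.leaf 0x10400010004)))) (.node 20765 (.node 20763 (.leaf 0x0) (.node 20764 (.leaf 0x102010001000006) (.leaf 0x0))) (.node 20766 (.leaf 0x100010201000006) (.node 20767 (.leaf 0x0) (.leaf 0x100010201000006))))))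

def sgOS_1910 : Store := (.node 20779 (.node 20773 (.node 20770 (.node 20769 (.leaf 0x102010001000006) (.leaf 0x0)) (.node 20771 (.leaf 0x0) (.node 20772 (.leaf 0x2000002) (.leaf 0x0)))) (.node 20776 (.node 20774 (.leaf 0x0) (.node 20775 (.leaf 0x0) (.leaf 0x10400010004))) (.node 20777 (.leaf 0x100010003) (.node 20778 (.leaf 0x4000002) (.leaf 0x0))))) (.node 20784 (.node 20781 (.node 20780 (.leaf 0x4000002) (.leaf 0x100010003)) (.node 20782 (.leaf 0x2) (.node 20783 (.leaf 0x0) (.leaf 0x301020001000006)))) (.node 20787 (.node 20785 (.leaf 0x0) (.node 20786 (.leaf 0x301020001000006) (.leaf 0x0))) (.node 20788 (.leaf 0x2) (.node 20789 (.leaf 0x0) (.leaf 0x0))))))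

def sgOS_1911 : Store := (.node 20768 sgOS_1909 sgOS_1910)

def sgOS_1912 : Store := (.node 20746 sgOS_1908 sgOS_1911)

def sgOS_1913 : Store := (.node 20703 sgOS_1905 sgOS_1912)

def sgOS_1914 : Store := (.node 20616 sgOS_1898 sgOS_1913)

def sgOS_1915 : Store := (.node 20443 sgOS_1883 sgOS_1914)

def sgOS_1916 : Store := (.node 20097 sgOS_1852 sgOS_1915)

def sgOS_1917 : Store := (.node 20800 (.node 20795 (.node 20792 (.node 20791 (.leaf 0x2) (.leaf 0x0)) (.node 20793 (.leaf 0x301020001000006) (.node 20794 (.leaf 0x1020001000006) (.leaf 0x2)))) (.node 20797 (.node 20796 (.leaf 0x0) (.leaf 0x10200010004)) (.node 20798 (.leaf 0x10201000005) (.node 20799 (.leaf 0x0) (.leaf 0x2))))) (.node 20805 (.node 20802 (.node 20801 (.leaf 0x0) (.leaf 0x10201000005)) (.node 20803 (.leaf 0x0) (.node 20804 (.leaf 0x103010201000006) (.leaf 0x0)))) (.node 20808 (.node 20806 (.leaf 0x100000100000006) (.node 20807 (.leaf 0x100000100000006) (.leaf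 0x0))) (.node 20809 (.leaf 0x0) (.node 20810 (.leaf 0x100000100000006) (.leaf 0x300000001000007))))))

def sgOS_1918 : Store := (.node 20822 (.node 20816 (.node 20813 (.node 20812 (.leaf 0x0) (.leaf 0x201020100000006)) (.node 20814 (.leaf 0x201020100000006) (.node 20815 (.leaf 0x3020203020005) (.leaf 0x300000001000007)))) (.node 20819 (.node 20817 (.leaf 0x1) (.node 20818 (.leaf 0x10102030300000008) (.leaf 0x0))) (.node 20820 (.leaf 0x0) (.node 20821 (.leaf 0x2) (.leaf 0x0))))) (.node 20827 (.node 20824 (.node 20823 (.leaf 0x0) (.leaf 0x0)) (.node 20825 (.leaf 0x10400010004) (.node 20826 (.leaf 0x0) (.leaf 0x1030100010005)))) (.node 20830 (.node 20828 (.leaf 0x4000002) (.node 20829 (.leaf 0x0) (.leaf 0x0))) (.node 20831 (.leaf 0x1020102010005) (.node 20832 (.leaf 0x0) (.leaf 0x0))))))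

def sgOS_1919 : Store := (.node 20811 sgOS_1917 sgOS_1918)

def sgOS_1920 : Store := (.node 20843 (.node 20838 (.node 20835 (.node 20834 (.leaf 0x0) (.leaf 0x2)) (.node 20836 (.leaf 0x2000002) (.node 20837 (.leaf 0x0) (.leaf 0x0)))) (.node 20840 (.node 20839 (.leaf 0x104010201000006) (.leaf 0x0)) (.node 20841 (.leaf 0x20102000004) (.node 20842 (.leaf 0x103010003) (.leaf 0x0))))) (.node 20848 (.node 20845 (.node 20844 (.leaf 0x0) (.leaf 0x2000102000005)) (.node 20846 (.leaf 0x103010003) (.node 20847 (.leaf 0x102000003) (.leaf 0x1020001000006)))) (.node 20851 (.node 20849 (.leaf 0x2) (.node 20850 (.leaf 0x1020001000006) (.leaf 0x0))) (.node 20852 (.leaf 0x1020001000006) (.node 20853 (.leaf 0x1020001000006) (.leaf 0x30201000101000007))))))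

def sgOS_1921 : Store := (.node 20865 (.node 20859 (.node 20856 (.node 20855 (.leaf 0x303030303020006) (.leaf 0x102010000000006)) (.node 20857 (.leaf 0x0) (.node 20858 (.leaf 0x3020203020005) (.leaf 0x3000000010005)))) (.node 20862 (.node 20860 (.leaf 0x0) (.node 20861 (.leaf 0x20102000004) (.leaf 0x0))) (.node 20863 (.leaf 0x2) (.node 20864 (.leaf 0x0) (.leaf 0x20102000004))))) (.node 20870 (.node 20867 (.node 20866 (.leaf 0x2) (.leaf 0x0)) (.node 20868 (.leaf 0x30201020303000007) (.node 20869 (.leaf 0x0) (.leaf 0x100000100000006)))) (.node 20873 (.node 20871 (.leaf 0x3000101000300000008) (.node 20872 (.leaf 0x100000100000006) (.leaf 0x0))) (.node 20874 (.leaf 0x3000101000300000008) (.node 20875 (.leaf 0x0) (.leaf 0x0))))))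

def sgOS_1922 : Store := (.node 20854 sgOS_1920 sgOS_1921)

def sgOS_1923 : Store := (.node 20833 sgOS_1919 sgOS_1922)

def sgOS_1924 : Store := (.node 20886 (.node 20881 (.node 20878 (.node 20877 (.leaf 0x2000002) (.leaf 0x0)) (.node 20879 (.leaf 0x0) (.node 20880 (.leaf 0x4000002) (.leaf 0x0)))) (.node 20883 (.node 20882 (.leaf 0x104010001000006) (.leaf 0x0)) (.node 20884 (.leaf 0x2) (.node 20885 (.leaf 0x4000002) (.leaf 0x100010001000006))))) (.node 20891 (.node 20888 (.node 20887 (.leaf 0x4000002) (.leaf 0x0)) (.node 20889 (.leaf 0x1020102000005) (.node 20890 (.leaf 0x1020100010005) (.leaf 0x2000002)))) (.node 20894 (.node 20892 (.leaf 0x2) (.node 20893 (.leaf 0x1020102000005) (.leaf 0x1000102010005))) (.node 20895 (.leaf 0x0) (.node 20896 (.leaf 0x0) (.leaf 0x103010201000006))))))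

def sgOS_1925 : Store := (.node 20908 (.node 20902 (.node 20899 (.node 20898 (.leaf 0x0) (.leaf 0x0)) (.node 20900 (.leaf 0x0) (.node 20901 (.leaf 0x100010201000006) (.leaf 0x103010201000006)))) (.node 20905 (.node 20903 (.leaf 0x0) (.node 20904 (.leaf 0x2) (.leaf 0x2))) (.node 20906 (.leaf 0x2000002) (.node 20907 (.leaf 0x0) (.leaf 0x0))))) (.node 20913 (.node 20910 (.node 20909 (.leaf 0x1) (.leaf 0x0)) (.node 20911 (.leaf 0x0) (.node 20912 (.leaf 0x10200010004) (.leaf 0x103010201000006)))) (.node 20916 (.node 20914 (.leaf 0x0) (.node 20915 (.leaf 0x1020001000006) (.leaf 0x0))) (.node 20917 (.leaf 0x0) (.node 20918 (.leaf 0x0) (.leaf 0x2000002))))))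

def sgOS_1926 : Store := (.node 20897 sgOS_1924 sgOS_1925)

def sgOS_1927 : Store := (.node 20930 (.node 20924 (.node 20921 (.node 20920 (.leaf 0x0) (.leaf 0x0)) (.node 20922 (.leaf 0x4000002) (.node 20923 (.leaf 0x0) (.leaf 0x10001)))) (.node 20927 (.node 20925 (.leaf 0x100010201020100000009) (.node 20926 (.leaf 0x0) (.leaf 0x30001010100000007))) (.node 20928 (.leaf 0x30000000300010007) (.node 20929 (.leaf 0x30201020303000007) (.leaf 0x0))))) (.node 20935 (.node 20932 (.node 20931 (.leaf 0x10201020100000007) (.leaf 0x0)) (.node 20933 (.leaf 0x0) (.node 20934 (.leaf 0x3020102010001000000000a) (.leaf 0x0)))) (.node 20938 (.node 20936 (.leaf 0x10201020005) (.node 20937 (.leaf 0x0) (.leaf 0x0))) (.node 20939 (.leaf 0x2000102000005) (.node 20940 (.leaf 0x0) (.leaf 0x0))))))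

def sgOS_1928 : Store := (.node 20952 (.node 20946 (.node 20943 (.node 20942 (.leaf 0x2) (.leaf 0x10400010004)) (.node 20944 (.leaf 0x0) (.node 20945 (.leaf 0x0) (.leaf 0x1020100010005)))) (.node 20949 (.node 20947 (.leaf 0x4000002) (.node 20948 (.leaf 0x2) (.leaf 0x0))) (.node 20950 (.leaf 0x1030102010005) (.node 20951 (.leaf 0x10200010004) (.leaf 0x20001000004))))) (.node 20957 (.node 20954 (.node 20953 (.leaf 0x2) (.leaf 0x0)) (.node 20955 (.leaf 0x2) (.node 20956 (.leaf 0x20001000004) (.leaf 0x2)))) (.node 20960 (.node 20958 (.leaf 0x10200010004) (.node 20959 (.leaf 0x1030102010005) (.leaf 0x2))) (.node 20961 (.leaf 0x0) (.node 20962 (.leaf 0x2) (.leaf 0x1030102010005))))))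

def sgOS_1929 : Store := (.node 20941 sgOS_1927 sgOS_1928)

def sgOS_1930 : Store := (.node 20919 sgOS_1926 sgOS_1929)

def sgOS_1931 : Store := (.node 20876 sgOS_1923 sgOS_1930)

def sgOS_1932 : Store := (.node 20973 (.node 20968 (.node 20965 (.node 20964 (.leaf 0x0) (.leaf 0x10200010004)) (.node 20966 (.leaf 0x0) (.node 20967 (.leaf 0x2) (.leaf 0x0)))) (.node 20970 (.node 20969 (.leaf 0x2) (.leaf 0x2)) (.node 20971 (.leaf 0x2) (.node 20972 (.leaf 0x10200010004) (.leaf 0x0))))) (.node 20978 (.node 20975 (.node 20974 (.leaf 0x0) (.leaf 0x0)) (.node 20976 (.leaf 0x301020001000006) (.node 20977 (.leaf 0x2) (.leaf 0x2)))) (.node 20981 (.node 20979 (.leaf 0x4000002) (.node 20980 (.leaf 0x0) (.leaf 0x2))) (.node 20982 (.leaf 0x0) (.node 20983 (.leaf 0x301020001000006) (.leaf 0x10200010004))))))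

def sgOS_1933 : Store := (.node 20995 (.node 20989 (.node 20986 (.node 20985 (.leaf 0x2) (.leaf 0x104010201000006)) (.node 20987 (.leaf 0x0) (.node 20988 (.leaf 0x1030102010005) (.leaf 0x4000002)))) (.node 20992 (.node 20990 (.leaf 0x2) (.node 20991 (.leaf 0x0) (.leaf 0x1020100010005))) (.node 20993 (.leaf 0x10200010004) (.node 20994 (.leaf 0x1040002) (.leaf 0x1020100010005))))) (.node 21000 (.node 20997 (.node 20996 (.leaf 0x0) (.leaf 0x0)) (.node 20998 (.leaf 0x40001000004) (.node 20999 (.leaf 0x1040100010005) (.leaf 0x1020100010005)))) (.node 21003 (.node 21001 (.leaf 0x0) (.node 21002 (.leaf 0x0) (.leaf 0x0))) (.node 21004 (.leaf 0x4000002) (.node 21005 (.leaf 0x2) (.leaf 0x1))))))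

def sgOS_1934 : Store := (.node 20984 sgOS_1932 sgOS_1933)

def sgOS_1935 : Store := (.node 21016 (.node 21011 (.node 21008 (.node 21007 (.leaf 0x1020001000006) (.leaf 0x102010001000006)) (.node 21009 (.leaf 0x10200010004) (.node 21010 (.leaf 0x2) (.leaf 0x0)))) (.node 21013 (.node 21012 (.leaf 0x102010001000006) (.leaf 0x10200010004)) (.node 21014 (.leaf 0x0) (.node 21015 (.leaf 0x0) (.leaf 0x1020102010005))))) (.node 21021 (.node 21018 (.node 21017 (.leaf 0x0) (.leaf 0x100010201000006)) (.node 21019 (.leaf 0x0) (.node 21020 (.leaf 0x1040102010005) (.leaf 0x0)))) (.node 21024 (.node 21022 (.leaf 0x102010001000006) (.node 21023 (.leaf 0x0) (.leaf 0x2))) (.node 21025 (.leaf 0x2) (.node 21026 (.leaf 0x102010001000006) (.leaf 0x4000002))))))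

def sgOS_1936 : Store := (.node 21038 (.node 21032 (.node 21029 (.node 21028 (.leaf 0x10400010004) (.leaf 0x20001020004)) (.node 21030 (.leaf 0x1020102010005) (.node 21031 (.leaf 0x10400010004) (.leaf 0x1020002)))) (.node 21035 (.node 21033 (.leaf 0x20001020004) (.node 21034 (.leaf 0x1040100010005) (.leaf 0x0))) (.node 21036 (.leaf 0x0) (.node 21037 (.leaf 0x2000102000005) (.leaf 0x103010003))))) (.node 21043 (.node 21040 (.node 21039 (.leaf 0x103010003) (.leaf 0x0)) (.node 21041 (.leaf 0x20102000004) (.node 21042 (.leaf 0x10200010004) (.leaf 0x0)))) (.node 21046 (.node 21044 (.leaf 0x0) (.node 21045 (.leaf 0x2) (.leaf 0x0))) (.node 21047 (.leaf 0x0) (.node 21048 (.leaf 0x0) (.leaf 0x1))))))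

def sgOS_1937 : Store := (.node 21027 sgOS_1935 sgOS_1936)

def sgOS_1938 : Store := (.node 21006 sgOS_1934 sgOS_1937)

def sgOS_1939 : Store := (.node 21059 (.node 21054 (.node 21051 (.node 21050 (.leaf 0x0) (.leaf 0x4000002)) (.node 21052 (.leaf 0x301020001000006) (.node 21053 (.leaf 0x301020001000006) (.leaf 0x0)))) (.node 21056 (.node 21055 (.leaf 0x10400010004) (.leaf 0x0)) (.node 21057 (.leaf 0x0) (.node 21058 (.leaf 0x0) (.leaf 0x2))))) (.node 21064 (.node 21061 (.node 21060 (.leaf 0x0) (.leaf 0x0)) (.node 21062 (.leaf 0x0) (.node 21063 (.leaf 0x0) (.leaf 0x10200010004)))) (.node 21067 (.node 21065 (.leaf 0x1020100010005) (.node 21066 (.leaf 0x2000002) (.leaf 0x0))) (.node 21068 (.leaf 0x0) (.node 21069 (.leaf 0x1000102010005) (.leaf 0x0))))))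

def sgOS_1940 : Store := (.node 21081 (.node 21075 (.node 21072 (.node 21071 (.leaf 0x2) (.leaf 0x103010201000006)) (.node 21073 (.leaf 0x2) (.node 21074 (.leaf 0x10200010004) (.leaf 0x0)))) (.node 21078 (.node 21076 (.leaf 0x100010201000006) (.node 21077 (.leaf 0x100010201000006) (.leaf 0x30000000300010007))) (.node 21079 (.leaf 0x3030303000005) (.node 21080 (.leaf 0x3030302010000000008) (.leaf 0x0))))) (.node 21086 (.node 21083 (.node 21082 (.leaf 0x10001) (.leaf 0x100010201020100000009)) (.node 21084 (.leaf 0x3030303000005) (.node 21085 (.leaf 0x0) (.leaf 0x1020001000006)))) (.node 21089 (.node 21087 (.leaf 0x301020001000006) (.node 21088 (.leaf 0x0) (.leaf 0x0))) (.node 21090 (.leaf 0x0) (.node 21091 (.leaf 0x301020001000006) (.leaf 0x0))))))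

def sgOS_1941 : Store := (.node 21070 sgOS_1939 sgOS_1940)

def sgOS_1942 : Store := (.node 21103 (.node 21097 (.node 21094 (.node 21093 (.leaf 0x2) (.leaf 0x0)) (.node 21095 (.leaf 0x0) (.node 21096 (.leaf 0x0) (.leaf 0x0)))) (.node 21100 (.node 21098 (.leaf 0x0) (.node 21099 (.leaf 0x102010201000006) (.leaf 0x4000002))) (.node 21101 (.leaf 0x2) (.node 21102 (.leaf 0x0) (.leaf 0x103010201000006))))) (.node 21108 (.node 21105 (.node 21104 (.leaf 0x0) (.leaf 0x104010001000006)) (.node 21106 (.leaf 0x102010001000006) (.node 21107 (.leaf 0x4000002) (.leaf 0x2)))) (.node 21111 (.node 21109 (.leaf 0x100010201000006) (.node 21110 (.leaf 0x103010001000006) (.leaf 0x0))) (.node 21112 (.leaf 0x0) (.node 21113 (.leaf 0x0) (.leaf 0x4000002))))))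

def sgOS_1943 : Store := (.node 21125 (.node 21119 (.node 21116 (.node 21115 (.leaf 0x301020001000006) (.leaf 0x301020001000006)) (.node 21117 (.leaf 0x0) (.node 21118 (.leaf 0x10400010004) (.leaf 0x0)))) (.node 21122 (.node 21120 (.leaf 0x0) (.node 21121 (.leaf 0x4000002) (.leaf 0x2000002))) (.node 21123 (.leaf 0x10400010004) (.node 21124 (.leaf 0x0) (.leaf 0x4000002))))) (.node 21130 (.node 21127 (.node 21126 (.leaf 0x0) (.leaf 0x0)) (.node 21128 (.leaf 0x0) (.node 21129 (.leaf 0x2) (.leaf 0x0)))) (.node 21133 (.node 21131 (.leaf 0x0) (.node 21132 (.leaf 0x2000002) (.leaf 0x10200010004))) (.node 21134 (.leaf 0x0) (.node 21135 (.leaf 0x10200010004) (.leaf 0x0))))))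

def sgOS_1944 : Store := (.node 21114 sgOS_1942 sgOS_1943)

def sgOS_1945 : Store := (.node 21092 sgOS_1941 sgOS_1944)

def sgOS_1946 : Store := (.node 21049 sgOS_1938 sgOS_1945)

def sgOS_1947 : Store := (.node 20963 sgOS_1931 sgOS_1946)

def sgOS_1948 : Store := (.node 21146 (.node 21141 (.node 21138 (.node 21137 (.leaf 0x10200010004) (.leaf 0x0)) (.node 21139 (.leaf 0x0) (.node 21140 (.leaf 0x0) (.leaf 0x0)))) (.node 21143 (.node 21142 (.leaf 0x0) (.leaf 0x2)) (.node 21144 (.leaf 0x0) (.node 21145 (.leaf 0x0) (.leaf 0x0))))) (.node 21151 (.node 21148 (.node 21147 (.leaf 0x0) (.leaf 0x0)) (.node 21149 (.leaf 0x103010201000006) (.node 21150 (.leaf 0x0) (.leaf 0x100010201000006)))) (.node 21154 (.node 21152 (.leaf 0x0) (.node 21153 (.leaf 0x104010001000006) (.leaf 0x301020001000006))) (.node 21155 (.leaf 0x0) (.node 21156 (.leaf 0x1020001000006) (.leaf 0x301020001000006))))))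

def sgOS_1949 : Store := (.node 21168 (.node 21162 (.node 21159 (.node 21158 (.leaf 0x0) (.leaf 0x0)) (.node 21160 (.leaf 0x1020001000006) (.node 21161 (.leaf 0x0) (.leaf 0x0)))) (.node 21165 (.node 21163 (.leaf 0x1000102010005) (.node 21164 (.leaf 0x4000002) (.leaf 0x0))) (.node 21166 (.leaf 0x0) (.node 21167 (.leaf 0x1040100010005) (.leaf 0x10200010004))))) (.node 21173 (.node 21170 (.node 21169 (.leaf 0x200010003) (.leaf 0x1020001000006)) (.node 21171 (.leaf 0x10001) (.node 21172 (.leaf 0x0) (.leaf 0x200010003)))) (.node 21176 (.node 21174 (.leaf 0x4000002) (.node 21175 (.leaf 0x0) (.leaf 0x3010201000005))) (.node 21177 (.leaf 0x0) (.node 21178 (.leaf 0x2) (.leaf 0x102010001000006))))))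

def sgOS_1950 : Store := (.node 21157 sgOS_1948 sgOS_1949)

def sgOS_1951 : Store := (.node 21189 (.node 21184 (.node 21181 (.node 21180 (.leaf 0x3010201000005) (.leaf 0x0)) (.node 21182 (.leaf 0x103010201000006) (.node 21183 (.leaf 0x40102000004) (.leaf 0x1020001000006)))) (.node 21186 (.node 21185 (.leaf 0x2) (.leaf 0x10200010004)) (.node 21187 (.leaf 0x40102000004) (.node 21188 (.leaf 0x0) (.leaf 0x0))))) (.node 21194 (.node 21191 (.node 21190 (.leaf 0x0) (.leaf 0x0)) (.node 21192 (.leaf 0x2) (.node 21193 (.leaf 0x0) (.leaf 0x0)))) (.node 21197 (.node 21195 (.leaf 0x2) (.node 21196 (.leaf 0x10200010004) (.leaf 0x30102000004))) (.node 21198 (.leaf 0x103010003) (.node 21199 (.leaf 0x102000004) (.leaf 0x0))))))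

def sgOS_1952 : Store := (.node 21211 (.node 21205 (.node 21202 (.node 21201 (.leaf 0x30102000004) (.leaf 0x4000102000005)) (.node 21203 (.leaf 0x4010002) (.node 21204 (.leaf 0x40001020004) (.leaf 0x1030102010005)))) (.node 21208 (.node 21206 (.leaf 0x0) (.node 21207 (.leaf 0x0) (.leaf 0x40001020004))) (.node 21209 (.leaf 0x1000102010005) (.node 21210 (.leaf 0x1020001000006) (.leaf 0x30102000004))))) (.node 21216 (.node 21213 (.node 21212 (.leaf 0x0) (.leaf 0x2)) (.node 21214 (.leaf 0x2) (.node 21215 (.leaf 0x30102000004) (.leaf 0x1020001000006)))) (.node 21219 (.node 21217 (.leaf 0x0) (.node 21218 (.leaf 0x20300010201020007) (.leaf 0x0))) (.node 21220 (.leaf 0x0) (.node 21221 (.leaf 0x0) (.leaf 0x102010201000007))))))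

def sgOS_1953 : Store := (.node 21200 sgOS_1951 sgOS_1952)

def sgOS_1954 : Store := (.node 21179 sgOS_1950 sgOS_1953)

def sgOS_1955 : Store := (.node 21232 (.node 21227 (.node 21224 (.node 21223 (.leaf 0x0) (.leaf 0x0)) (.node 21225 (.leaf 0x0) (.node 21226 (.leaf 0x2) (.leaf 0x0)))) (.node 21229 (.node 21228 (.leaf 0x10200010004) (.leaf 0x0)) (.node 21230 (.leaf 0x2) (.node 21231 (.leaf 0x10400010004) (.leaf 0x0))))) (.node 21237 (.node 21234 (.node 21233 (.leaf 0x2) (.leaf 0x2)) (.node 21235 (.leaf 0x0) (.node 21236 (.leaf 0x0) (.leaf 0x0)))) (.node 21240 (.node 21238 (.leaf 0x10200010004) (.node 21239 (.leaf 0x2) (.leaf 0x0))) (.node 21241 (.leaf 0x301020001000006) (.node 21242 (.leaf 0x0) (.leaf 0x301020001000006))))))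

def sgOS_1956 : Store := (.node 21254 (.node 21248 (.node 21245 (.node 21244 (.leaf 0x0) (.leaf 0x0)) (.node 21246 (.leaf 0x0) (.node 21247 (.leaf 0x203000102010006) (.leaf 0x101010100030000000009)))) (.node 21251 (.node 21249 (.leaf 0x1010101010006) (.node 21250 (.leaf 0x0) (.leaf 0x1010101010006))) (.node 21252 (.leaf 0x203000102010006) (.node 21253 (.leaf 0x301020001000006) (.leaf 0x1020001000006))))) (.node 21259 (.node 21256 (.node 21255 (.leaf 0x301020001000006) (.leaf 0x0)) (.node 21257 (.leaf 0x301020001000006) (.node 21258 (.leaf 0x1020001000006) (.leaf 0x0)))) (.node 21262 (.node 21260 (.leaf 0x0) (.node 21261 (.leaf 0x0) (.leaf 0x2))) (.node 21263 (.leaf 0x2000002) (.node 21264 (.leaf 0x0) (.leaf 0x0))))))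

def sgOS_1957 : Store := (.node 21243 sgOS_1955 sgOS_1956)

def sgOS_1958 : Store := (.node 21276 (.node 21270 (.node 21267 (.node 21266 (.leaf 0x103010201000006) (.leaf 0x0)) (.node 21268 (.leaf 0x2) (.node 21269 (.leaf 0x20001) (.leaf 0x1020001000006)))) (.node 21273 (.node 21271 (.leaf 0x0) (.node 21272 (.leaf 0x2) (.leaf 0x0))) (.node 21274 (.leaf 0x0) (.node 21275 (.leaf 0x1030100010005) (.leaf 0x4000002))))) (.node 21281 (.node 21278 (.node 21277 (.leaf 0x0) (.leaf 0x0)) (.node 21279 (.leaf 0x1020102010005) (.node 21280 (.leaf 0x10200010004) (.leaf 0x3010201000005)))) (.node 21284 (.node 21282 (.leaf 0x0) (.node 21283 (.leaf 0x2) (.leaf 0x10400010004))) (.node 21285 (.leaf 0x3010201000005) (.node 21286 (.leaf 0x0) (.leaf 0x102010201000006))))))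

def sgOS_1959 : Store := (.node 21298 (.node 21292 (.node 21289 (.node 21288 (.leaf 0x0) (.leaf 0x103010201000006)) (.node 21290 (.leaf 0x2) (.node 21291 (.leaf 0x100010201000006) (.leaf 0x0)))) (.node 21295 (.node 21293 (.leaf 0x104010001000006) (.node 21294 (.leaf 0x301020001000006) (.leaf 0x0))) (.node 21296 (.leaf 0x0) (.node 21297 (.leaf 0x0) (.leaf 0x2))))) (.node 21303 (.node 21300 (.node 21299 (.leaf 0x2000002) (.leaf 0x0)) (.node 21301 (.leaf 0x2) (.node 21302 (.leaf 0x10200010004) (.leaf 0x1020001000006)))) (.node 21306 (.node 21304 (.leaf 0x2) (.node 21305 (.leaf 0x0) (.leaf 0x0))) (.node 21307 (.leaf 0x1020001000006) (.node 21308 (.leaf 0x0) (.leaf 0x300000001000007))))))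

def sgOS_1960 : Store := (.node 21287 sgOS_1958 sgOS_1959)

def sgOS_1961 : Store := (.node 21265 sgOS_1957 sgOS_1960)

def sgOS_1962 : Store := (.node 21222 sgOS_1954 sgOS_1961)

def sgOS_1963 : Store := (.node 21319 (.node 21314 (.node 21311 (.node 21310 (.leaf 0x0) (.leaf 0x3030302010000000008)) (.node 21312 (.leaf 0x300000001000007) (.node 21313 (.leaf 0x101020303020007) (.leaf 0x10102030300000007)))) (.node 21316 (.node 21315 (.leaf 0x0) (.leaf 0x0)) (.node 21317 (.leaf 0x103010201000006) (.node 21318 (.leaf 0x0) (.leaf 0x10400010004))))) (.node 21324 (.node 21321 (.node 21320 (.leaf 0x0) (.leaf 0x100010201000006)) (.node 21322 (.leaf 0x0) (.node 21323 (.leaf 0x0) (.leaf 0x100010201020100000009)))) (.node 21327 (.node 21325 (.leaf 0x100000100000006) (.node 21326 (.leaf 0x10203030201000008) (.leaf 0x0))) (.node 21328 (.leaf 0x100010201020100000009) (.node 21329 (.leaf 0x0) (.leaf 0x104010003))))))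

def sgOS_1964 : Store := (.node 21341 (.node 21335 (.node 21332 (.node 21331 (.leaf 0x40001020004) (.leaf 0x104010003)) (.node 21333 (.leaf 0x0) (.node 21334 (.leaf 0x102010003) (.leaf 0x1000102010005)))) (.node 21338 (.node 21336 (.leaf 0x1030102010005) (.node 21337 (.leaf 0x303000101010006) (.leaf 0x3000101000300000008))) (.node 21339 (.leaf 0x3000000010005) (.node 21340 (.leaf 0x30302030202010007) (.leaf 0x303000101010006))))) (.node 21346 (.node 21343 (.node 21342 (.leaf 0x102010000000006) (.leaf 0x0)) (.node 21344 (.leaf 0x303030303000006) (.node 21345 (.leaf 0x3000000010005) (.leaf 0x3000000010005)))) (.node 21349 (.node 21347 (.leaf 0x0) (.node 21348 (.leaf 0x0) (.leaf 0x10102030300000007))) (.node 21350 (.leaf 0x3020102010001000000000a) (.node 21351 (.leaf 0x20300010201020007) (.leaf 0x0))))))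

def sgOS_1965 : Store := (.node 21330 sgOS_1963 sgOS_1964)

def sgOS_1966 : Store := (.node 21363 (.node 21357 (.node 21354 (.node 21353 (.leaf 0x0) (.leaf 0x10102030300000007)) (.node 21355 (.leaf 0x102010201000007) (.node 21356 (.leaf 0x0) (.leaf 0x30302030202010007)))) (.node 21360 (.node 21358 (.leaf 0x0) (.node 21359 (.leaf 0x103010201000006) (.leaf 0x2))) (.node 21361 (.leaf 0x104010001000006) (.node 21362 (.leaf 0x0) (.leaf 0x104010001000006))))) (.node 21368 (.node 21365 (.node 21364 (.leaf 0x103010201000006) (.leaf 0x20300010201020007)) (.node 21366 (.leaf 0x0) (.node 21367 (.leaf 0x0) (.leaf 0x3030302010000000008)))) (.node 21371 (.node 21369 (.leaf 0x102010201000007) (.node 21370 (.leaf 0x100000100000006) (.leaf 0x303030303020006))) (.node 21372 (.leaf 0x0) (.node 21373 (.leaf 0x0) (.leaf 0x0))))))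

def sgOS_1967 : Store := (.node 21385 (.node 21379 (.node 21376 (.node 21375 (.leaf 0x0) (.leaf 0x0)) (.node 21377 (.leaf 0x0) (.node 21378 (.leaf 0x10200010004) (.leaf 0x103010003)))) (.node 21382 (.node 21380 (.leaf 0x1020100010005) (.node 21381 (.leaf 0x100010003) (.leaf 0x1040100010005))) (.node 21383 (.leaf 0x100010003) (.node 21384 (.leaf 0x20001000004) (.leaf 0x0))))) (.node 21390 (.node 21387 (.node 21386 (.leaf 0x0) (.leaf 0x1020102010005)) (.node 21388 (.leaf 0x4000002) (.node 21389 (.leaf 0x0) (.leaf 0x0)))) (.node 21393 (.node 21391 (.leaf 0x1030100010005) (.node 21392 (.leaf 0x0) (.leaf 0x10200010004))) (.node 21394 (.leaf 0x0) (.node 21395 (.leaf 0x0) (.leaf 0x0))))))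

def sgOS_1968 : Store := (.node 21374 sgOS_1966 sgOS_1967)

def sgOS_1969 : Store := (.node 21352 sgOS_1965 sgOS_1968)

def sgOS_1970 : Store := (.node 21406 (.node 21401 (.node 21398 (.node 21397 (.leaf 0x0) (.leaf 0x0)) (.node 21399 (.leaf 0x0) (.node 21400 (.leaf 0x0) (.leaf 0x100010201000006)))) (.node 21403 (.node 21402 (.leaf 0x2000002) (.leaf 0x0)) (.node 21404 (.leaf 0x0) (.node 21405 (.leaf 0x103010201000006) (.leaf 0x100010201000006))))) (.node 21411 (.node 21408 (.node 21407 (.leaf 0x100000100000006) (.leaf 0x100010201020100000009)) (.node 21409 (.leaf 0x100000100000006) (.node 21410 (.leaf 0x30201000300010007) (.leaf 0x0)))) (.node 21414 (.node 21412 (.leaf 0x0) (.node 21413 (.leaf 0x30001010100000007) (.leaf 0x0))) (.node 21415 (.leaf 0x0) (.node 21416 (.leaf 0x2000002) (.leaf 0x0))))))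

def sgOS_1971 : Store := (.node 21428 (.node 21422 (.node 21419 (.node 21418 (.leaf 0x0) (.leaf 0x4000002)) (.node 21420 (.leaf 0x0) (.node 21421 (.leaf 0x20001000004) (.leaf 0x1000100010005)))) (.node 21425 (.node 21423 (.leaf 0x10400010004) (.node 21424 (.leaf 0x0) (.leaf 0x20001000004))) (.node 21426 (.leaf 0x1030102010005) (.node 21427 (.leaf 0x1000002) (.leaf 0x4000002))))) (.node 21433 (.node 21430 (.node 21429 (.leaf 0x10400010004) (.leaf 0x10200010004)) (.node 21431 (.leaf 0x0) (.node 21432 (.leaf 0x4000002) (.leaf 0x4000002)))) (.node 21436 (.node 21434 (.leaf 0x104010001000006) (.node 21435 (.leaf 0x0) (.leaf 0x0))) (.node 21437 (.leaf 0x2) (.node 21438 (.leaf 0x0) (.leaf 0x0))))))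

def sgOS_1972 : Store := (.node 21417 sgOS_1970 sgOS_1971)

def sgOS_1973 : Store := (.node 21450 (.node 21444 (.node 21441 (.node 21440 (.leaf 0x2) (.leaf 0x2000002)) (.node 21442 (.leaf 0x400010003) (.node 21443 (.leaf 0x10400010004) (.leaf 0x10001)))) (.node 21447 (.node 21445 (.leaf 0x10001) (.node 21446 (.leaf 0x200010003) (.leaf 0x0))) (.node 21448 (.leaf 0x0) (.node 21449 (.leaf 0x0) (.leaf 0x1030102010005))))) (.node 21455 (.node 21452 (.node 21451 (.leaf 0x4000002) (.leaf 0x0)) (.node 21453 (.leaf 0x0) (.node 21454 (.leaf 0x1020100010005) (.leaf 0x2)))) (.node 21458 (.node 21456 (.leaf 0x1030102010005) (.node 21457 (.leaf 0x0) (.leaf 0x0))) (.node 21459 (.leaf 0x10200010004) (.node 21460 (.leaf 0x1030102010005) (.leaf 0x2))))))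

def sgOS_1974 : Store := (.node 21472 (.node 21466 (.node 21463 (.node 21462 (.leaf 0x2) (.leaf 0x20102000004)) (.node 21464 (.leaf 0x100000003) (.node 21465 (.leaf 0x1020001000006) (.leaf 0x0)))) (.node 21469 (.node 21467 (.leaf 0x20102000004) (.node 21468 (.leaf 0x2000102000005) (.leaf 0x3010002))) (.node 21470 (.leaf 0x102010001000006) (.node 21471 (.leaf 0x4000002) (.leaf 0x2))))) (.node 21477 (.node 21474 (.node 21473 (.leaf 0x10400010004) (.leaf 0x102010001000006)) (.node 21475 (.leaf 0x0) (.node 21476 (.leaf 0x1020001000006) (.leaf 0x20001000004)))) (.node 21480 (.node 21478 (.leaf 0x1030102010005) (.node 21479 (.leaf 0x10400010004) (.leaf 0x1000002))) (.node 21481 (.leaf 0x20001000004) (.node 21482 (.leaf 0x1000100010005) (.leaf 0x0))))))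

def sgOS_1975 : Store := (.node 21461 sgOS_1973 sgOS_1974)

def sgOS_1976 : Store := (.node 21439 sgOS_1972 sgOS_1975)

def sgOS_1977 : Store := (.node 21396 sgOS_1969 sgOS_1976)

def sgOS_1978 : Store := (.node 21309 sgOS_1962 sgOS_1977)

def sgOS_1979 : Store := (.node 21136 sgOS_1947 sgOS_1978)

def sgOS_1980 : Store := (.node 21493 (.node 21488 (.node 21485 (.node 21484 (.leaf 0x2000002) (.leaf 0x2000002)) (.node 21486 (.leaf 0x4000002) (.node 21487 (.leaf 0x4000002) (.leaf 0x2000002)))) (.node 21490 (.node 21489 (.leaf 0x4000002) (.leaf 0x0)) (.node 21491 (.leaf 0x20102000004) (.node 21492 (.leaf 0x2) (.leaf 0x2))))) (.node 21498 (.node 21495 (.node 21494 (.leaf 0x0) (.leaf 0x20102000004)) (.node 21496 (.leaf 0x0) (.node 21497 (.leaf 0x10200010004) (.leaf 0x104010003)))) (.node 21501 (.node 21499 (.leaf 0x2) (.node 21500 (.leaf 0x0) (.leaf 0x0))) (.node 21502 (.leaf 0x104010003) (.node 21503 (.leaf 0x4000002) (.leaf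 0x4000002))))))

def sgOS_1981 : Store := (.node 21515 (.node 21509 (.node 21506 (.node 21505 (.leaf 0x40001020004) (.leaf 0x1030102010005)) (.node 21507 (.leaf 0x0) (.node 21508 (.leaf 0x4000002) (.leaf 0x40001020004)))) (.node 21512 (.node 21510 (.leaf 0x1000102010005) (.node 21511 (.leaf 0x0) (.leaf 0x0))) (.node 21513 (.leaf 0x0) (.node 21514 (.leaf 0x2) (.leaf 0x104010201000006))))) (.node 21520 (.node 21517 (.node 21516 (.leaf 0x0) (.leaf 0x0)) (.node 21518 (.leaf 0x2000002) (.node 21519 (.leaf 0x101010102020007) (.leaf 0x10101010101000007)))) (.node 21523 (.node 21521 (.leaf 0x0) (.node 21522 (.leaf 0x10101010000000008) (.leaf 0x30001020005))) (.node 21524 (.leaf 0x10101010000000008) (.node 21525 (.leaf 0x20303030303000007) (.leaf 0x0))))))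

def sgOS_1982 : Store := (.node 21504 sgOS_1980 sgOS_1981)

def sgOS_1983 : Store := (.node 21536 (.node 21531 (.node 21528 (.node 21527 (.leaf 0x0) (.leaf 0x0)) (.node 21529 (.leaf 0x100010201000006) (.node 21530 (.leaf 0x0) (.leaf 0x0)))) (.node 21533 (.node 21532 (.leaf 0x0) (.leaf 0x0)) (.node 21534 (.leaf 0x0) (.node 21535 (.leaf 0x2) (.leaf 0x40001))))) (.node 21541 (.node 21538 (.node 21537 (.leaf 0x0) (.leaf 0x0)) (.node 21539 (.leaf 0x0) (.node 21540 (.leaf 0x0) (.leaf 0x0)))) (.node 21544 (.node 21542 (.leaf 0x4000002) (.node 21543 (.leaf 0x0) (.leaf 0x0))) (.node 21545 (.leaf 0x0) (.node 21546 (.leaf 0x4000002) (.leaf 0x0))))))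

def sgOS_1984 : Store := (.node 21558 (.node 21552 (.node 21549 (.node 21548 (.leaf 0x100010201000006) (.leaf 0x0)) (.node 21550 (.leaf 0x104010001000006) (.node 21551 (.leaf 0x0) (.leaf 0x103010201000006)))) (.node 21555 (.node 21553 (.leaf 0x0) (.node 21554 (.leaf 0x0) (.leaf 0x0))) (.node 21556 (.leaf 0x0) (.node 21557 (.leaf 0x301020001000006) (.leaf 0x0))))) (.node 21563 (.node 21560 (.node 21559 (.leaf 0x0) (.leaf 0x100010201000006)) (.node 21561 (.leaf 0x0) (.node 21562 (.leaf 0x100010201000006) (.leaf 0x2000002)))) (.node 21566 (.node 21564 (.leaf 0x103010201000006) (.node 21565 (.leaf 0x0) (.leaf 0x100010201000006))) (.node 21567 (.leaf 0x0) (.node 21568 (.leaf 0x0) (.leaf 0x0))))))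

def sgOS_1985 : Store := (.node 21547 sgOS_1983 sgOS_1984)

def sgOS_1986 : Store := (.node 21526 sgOS_1982 sgOS_1985)

def sgOS_1987 : Store := (.node 21579 (.node 21574 (.node 21571 (.node 21570 (.leaf 0x30201020303000007) (.leaf 0x0)) (.node 21572 (.leaf 0x0) (.node 21573 (.leaf 0x100010201020100000009) (.leaf 0x0)))) (.node 21576 (.node 21575 (.leaf 0x0) (.leaf 0x0)) (.node 21577 (.leaf 0x2) (.node 21578 (.leaf 0x10200010004) (.leaf 0x10200010004))))) (.node 21584 (.node 21581 (.node 21580 (.leaf 0x0) (.leaf 0x10200010004)) (.node 21582 (.leaf 0x20001020004) (.node 21583 (.leaf 0x1040100010005) (.leaf 0x10400010004)))) (.node 21587 (.node 21585 (.leaf 0x0) (.node 21586 (.leaf 0x20001020004) (.leaf 0x1020102010005))) (.node 21588 (.leaf 0x1020002) (.node 21589 (.leaf 0x20102000004) (.leaf 0x0))))))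

def sgOS_1988 : Store := (.node 21601 (.node 21595 (.node 21592 (.node 21591 (.leaf 0x2) (.leaf 0x10200010004)) (.node 21593 (.leaf 0x20102000004) (.node 21594 (.leaf 0x2) (.leaf 0x0)))) (.node 21598 (.node 21596 (.leaf 0x0) (.node 21597 (.leaf 0x0) (.leaf 0x0))) (.node 21599 (.leaf 0x10400010004) (.node 21600 (.leaf 0x0) (.leaf 0x0))))) (.node 21606 (.node 21603 (.node 21602 (.leaf 0x0) (.leaf 0x0)) (.node 21604 (.leaf 0x1000102010005) (.node 21605 (.leaf 0x2000002) (.leaf 0x0)))) (.node 21609 (.node 21607 (.leaf 0x10200010004) (.node 21608 (.leaf 0x1020100010005) (.leaf 0x0))) (.node 21610 (.leaf 0x0) (.node 21611 (.leaf 0x103010201000006) (.leaf 0x2))))))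

def sgOS_1989 : Store := (.node 21590 sgOS_1987 sgOS_1988)

def sgOS_1990 : Store := (.node 21623 (.node 21617 (.node 21614 (.node 21613 (.leaf 0x301020001000006) (.leaf 0x2)) (.node 21615 (.leaf 0x103010201000006) (.node 21616 (.leaf 0x0) (.leaf 0x0)))) (.node 21620 (.node 21618 (.leaf 0x3020303020100010008) (.node 21619 (.leaf 0x3020303020100010008) (.leaf 0x30300010101000007))) (.node 21621 (.leaf 0x300000001000007) (.node 21622 (.leaf 0x10003000000010007) (.leaf 0x20303030303000007))))) (.node 21628 (.node 21625 (.node 21624 (.leaf 0x101000300000007) (.leaf 0x30201020303000007)) (.node 21626 (.leaf 0x0) (.node 21627 (.leaf 0x30300010101000007) (.leaf 0x101000300000007)))) (.node 21631 (.node 21629 (.leaf 0x30001010100000007) (.node 21630 (.leaf 0x10101010000000008) (.leaf 0x10200010004))) (.node 21632 (.leaf 0x2) (.node 21633 (.leaf 0x0) (.leaf 0x104010201000006))))))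

def sgOS_1991 : Store := (.node 21645 (.node 21639 (.node 21636 (.node 21635 (.leaf 0x0) (.leaf 0x2)) (.node 21637 (.leaf 0x0) (.node 21638 (.leaf 0x2) (.leaf 0x2)))) (.node 21642 (.node 21640 (.leaf 0x0) (.node 21641 (.leaf 0x4000002) (.leaf 0x2))) (.node 21643 (.leaf 0x20001) (.node 21644 (.leaf 0x301020001000006) (.leaf 0x2))))) (.node 21650 (.node 21647 (.node 21646 (.leaf 0x0) (.leaf 0x0)) (.node 21648 (.leaf 0x0) (.node 21649 (.leaf 0x2) (.leaf 0x40001)))) (.node 21653 (.node 21651 (.leaf 0x0) (.node 21652 (.leaf 0x0) (.leaf 0x30001))) (.node 21654 (.leaf 0x1) (.node 21655 (.leaf 0x30001) (.leaf 0x0))))))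

def sgOS_1992 : Store := (.node 21634 sgOS_1990 sgOS_1991)

def sgOS_1993 : Store := (.node 21612 sgOS_1989 sgOS_1992)

def sgOS_1994 : Store := (.node 21569 sgOS_1986 sgOS_1993)

def sgOS_1995 : Store := (.node 21666 (.node 21661 (.node 21658 (.node 21657 (.leaf 0x30001) (.leaf 0x20001)) (.node 21659 (.leaf 0x20001000004) (.node 21660 (.leaf 0x2) (.leaf 0x0)))) (.node 21663 (.node 21662 (.leaf 0x10200010004) (.leaf 0x20001000004)) (.node 21664 (.leaf 0x10400010004) (.node 21665 (.leaf 0x2) (.leaf 0x0))))) (.node 21671 (.node 21668 (.node 21667 (.leaf 0x100010201000006) (.leaf 0x2000002)) (.node 21669 (.leaf 0x0) (.node 21670 (.leaf 0x0) (.leaf 0x100010201000006)))) (.node 21674 (.node 21672 (.leaf 0x103010201000006) (.node 21673 (.leaf 0x0) (.leaf 0x0))) (.node 21675 (.leaf 0x2) (.node 21676 (.leaf 0x0) (.leaf 0x0))))))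

def sgOS_1996 : Store := (.node 21688 (.node 21682 (.node 21679 (.node 21678 (.leaf 0x0) (.leaf 0x0)) (.node 21680 (.leaf 0x1) (.node 21681 (.leaf 0x2) (.leaf 0x30001)))) (.node 21685 (.node 21683 (.leaf 0x0) (.node 21684 (.leaf 0x0) (.leaf 0x2))) (.node 21686 (.leaf 0x1020001000006) (.node 21687 (.leaf 0x0) (.leaf 0x2))))) (.node 21693 (.node 21690 (.node 21689 (.leaf 0x2) (.leaf 0x0)) (.node 21691 (.leaf 0x0) (.node 21692 (.leaf 0x0) (.leaf 0x10200010004)))) (.node 21696 (.node 21694 (.leaf 0x0) (.node 21695 (.leaf 0x0) (.leaf 0x0))) (.node 21697 (.leaf 0x0) (.node 21698 (.leaf 0x0) (.leaf 0x0))))))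

def sgOS_1997 : Store := (.node 21677 sgOS_1995 sgOS_1996)

def sgOS_1998 : Store := (.node 21709 (.node 21704 (.node 21701 (.node 21700 (.leaf 0x0) (.leaf 0x0)) (.node 21702 (.leaf 0x102010001000006) (.node 21703 (.leaf 0x2000002) (.leaf 0x2000002)))) (.node 21706 (.node 21705 (.leaf 0x0) (.leaf 0x102010001000006)) (.node 21707 (.leaf 0x0) (.node 21708 (.leaf 0x40102000004) (.leaf 0x0))))) (.node 21714 (.node 21711 (.node 21710 (.leaf 0x2) (.leaf 0x10200010004)) (.node 21712 (.leaf 0x40102000004) (.node 21713 (.leaf 0x1020001000006) (.leaf 0x10200010004)))) (.node 21717 (.node 21715 (.leaf 0x0) (.node 21716 (.leaf 0x0) (.leaf 0x2))) (.node 21718 (.leaf 0x40001) (.node 21719 (.leaf 0x0) (.leaf 0x2))))))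

def sgOS_1999 : Store := (.node 21731 (.node 21725 (.node 21722 (.node 21721 (.leaf 0x2000002) (.leaf 0x10200010004)) (.node 21723 (.leaf 0x0) (.node 21724 (.leaf 0x10001) (.leaf 0x0)))) (.node 21728 (.node 21726 (.leaf 0x10200010004) (.node 21727 (.leaf 0x400010003) (.leaf 0x0))) (.node 21729 (.leaf 0x0) (.node 21730 (.leaf 0x1020100010005) (.leaf 0x4000002))))) (.node 21736 (.node 21733 (.node 21732 (.leaf 0x0) (.leaf 0x0)) (.node 21734 (.leaf 0x1030102010005) (.node 21735 (.leaf 0x2) (.leaf 0x0)))) (.node 21739 (.node 21737 (.leaf 0x0) (.node 21738 (.leaf 0x0) (.leaf 0x10400010004))) (.node 21740 (.leaf 0x0) (.node 21741 (.leaf 0x2) (.leaf 0x2))))))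

def sgOS_2000 : Store := (.node 21720 sgOS_1998 sgOS_1999)

def sgOS_2001 : Store := (.node 21699 sgOS_1997 sgOS_2000)

def sgOS_2002 : Store := (.node 21752 (.node 21747 (.node 21744 (.node 21743 (.leaf 0x0) (.leaf 0x2)) (.node 21745 (.leaf 0x0) (.node 21746 (.leaf 0x301020001000006) (.leaf 0x0)))) (.node 21749 (.node 21748 (.leaf 0x0) (.leaf 0x0)) (.node 21750 (.leaf 0x0) (.node 21751 (.leaf 0x0) (.leaf 0x2))))) (.node 21757 (.node 21754 (.node 21753 (.leaf 0x10200010004) (.leaf 0x0)) (.node 21755 (.leaf 0x2) (.node 21756 (.leaf 0x0) (.leaf 0x3020102010006)))) (.node 21760 (.node 21758 (.leaf 0x10201020005) (.node 21759 (.leaf 0x0) (.leaf 0x3020102010001000000000a))) (.node 21761 (.leaf 0x10003000000010007) (.node 21762 (.leaf 0x1020102030000000008) (.leaf 0x0))))))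

def sgOS_2003 : Store := (.node 21774 (.node 21768 (.node 21765 (.node 21764 (.leaf 0x0) (.leaf 0x10200010004)) (.node 21766 (.leaf 0x0) (.node 21767 (.leaf 0x0) (.leaf 0x0)))) (.node 21771 (.node 21769 (.leaf 0x0) (.node 21770 (.leaf 0x10400010004) (.leaf 0x2))) (.node 21772 (.leaf 0x100010201000006) (.node 21773 (.leaf 0x0) (.leaf 0x0))))) (.node 21779 (.node 21776 (.node 21775 (.leaf 0x0) (.leaf 0x100010201000006)) (.node 21777 (.leaf 0x301020001000006) (.node 21778 (.leaf 0x100010001000006) (.leaf 0x4000002)))) (.node 21782 (.node 21780 (.leaf 0x2) (.node 21781 (.leaf 0x0) (.leaf 0x104010001000006))) (.node 21783 (.leaf 0x0) (.node 21784 (.leaf 0x10200010004) (.leaf 0x1020102000005))))))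

def sgOS_2004 : Store := (.node 21763 sgOS_2002 sgOS_2003)

def sgOS_2005 : Store := (.node 21796 (.node 21790 (.node 21787 (.node 21786 (.leaf 0x1000102010005) (.leaf 0x2000002)) (.node 21788 (.leaf 0x0) (.node 21789 (.leaf 0x1020102000005) (.leaf 0x1020100010005)))) (.node 21793 (.node 21791 (.leaf 0x2) (.node 21792 (.leaf 0x0) (.leaf 0x100010201000006))) (.node 21794 (.leaf 0x0) (.node 21795 (.leaf 0x0) (.leaf 0x0))))) (.node 21801 (.node 21798 (.node 21797 (.leaf 0x103010201000006) (.leaf 0x10200010004)) (.node 21799 (.leaf 0x0) (.node 21800 (.leaf 0x0) (.leaf 0x4000002)))) (.node 21804 (.node 21802 (.leaf 0x1) (.node 21803 (.leaf 0x0) (.leaf 0x0))) (.node 21805 (.leaf 0x0) (.node 21806 (.leaf 0x0) (.leaf 0x1040102010005))))))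

def sgOS_2006 : Store := (.node 21818 (.node 21812 (.node 21809 (.node 21808 (.leaf 0x0) (.leaf 0x102010001000006)) (.node 21810 (.leaf 0x0) (.node 21811 (.leaf 0x1020102010005) (.leaf 0x0)))) (.node 21815 (.node 21813 (.leaf 0x100010003) (.node 21814 (.leaf 0x20001000004) (.leaf 0x100010003))) (.node 21816 (.leaf 0x0) (.node 21817 (.leaf 0x103010003) (.leaf 0x1020100010005))))) (.node 21823 (.node 21820 (.node 21819 (.leaf 0x1000100010005) (.leaf 0x0)) (.node 21821 (.leaf 0x0) (.node 21822 (.leaf 0x10200010004) (.leaf 0x100010201000006)))) (.node 21826 (.node 21824 (.leaf 0x0) (.node 21825 (.leaf 0x1020001000006) (.leaf 0x0))) (.node 21827 (.leaf 0x40001020004) (.node 21828 (.leaf 0x1000102010005) (.leaf 0x0))))))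

def sgOS_2007 : Store := (.node 21807 sgOS_2005 sgOS_2006)

def sgOS_2008 : Store := (.node 21785 sgOS_2004 sgOS_2007)

def sgOS_2009 : Store := (.node 21742 sgOS_2001 sgOS_2008)

def sgOS_2010 : Store := (.node 21656 sgOS_1994 sgOS_2009)

def sgOS_2011 : Store := (.node 21839 (.node 21834 (.node 21831 (.node 21830 (.leaf 0x301020001000006) (.leaf 0x40001020004)) (.node 21832 (.leaf 0x1030102010005) (.node 21833 (.leaf 0x0) (.leaf 0x0)))) (.node 21836 (.node 21835 (.leaf 0x100010003) (.leaf 0x40001000004)) (.node 21837 (.leaf 0x0) (.node 21838 (.leaf 0x0) (.leaf 0x1020102010005))))) (.node 21844 (.node 21841 (.node 21840 (.leaf 0x0) (.leaf 0x0)) (.node 21842 (.leaf 0x20001) (.node 21843 (.leaf 0x0) (.leaf 0x0)))) (.node 21847 (.node 21845 (.leaf 0x0) (.node 21846 (.leaf 0x2) (.leaf 0x0))) (.node 21848 (.leaf 0x40001000004) (.node 21849 (.leaf 0x1040100010005) (.leaf 0x0))))))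

def sgOS_2012 : Store := (.node 21861 (.node 21855 (.node 21852 (.node 21851 (.leaf 0x0) (.leaf 0x40001000004)) (.node 21853 (.leaf 0x1020100010005) (.node 21854 (.leaf 0x1000100010005) (.leaf 0x0)))) (.node 21858 (.node 21856 (.leaf 0x100010201000006) (.node 21857 (.leaf 0x0) (.leaf 0x10200010004))) (.node 21859 (.leaf 0x0) (.node 21860 (.leaf 0x103010201000006) (.leaf 0x0))))) (.node 21866 (.node 21863 (.node 21862 (.leaf 0x0) (.leaf 0x2)) (.node 21864 (.leaf 0x0) (.node 21865 (.leaf 0x10400010004) (.leaf 0x0)))) (.node 21869 (.node 21867 (.leaf 0x2) (.node 21868 (.leaf 0x10200010004) (.leaf 0x2000002))) (.node 21870 (.leaf 0x2) (.node 21871 (.leaf 0x0) (.leaf 0x2))))))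

def sgOS_2013 : Store := (.node 21850 sgOS_2011 sgOS_2012)

def sgOS_2014 : Store := (.node 21882 (.node 21877 (.node 21874 (.node 21873 (.leaf 0x0) (.leaf 0x2)) (.node 21875 (.leaf 0x10200010004) (.node 21876 (.leaf 0x0) (.leaf 0x0)))) (.node 21879 (.node 21878 (.leaf 0x2) (.leaf 0x103010201000006)) (.node 21880 (.leaf 0x0) (.node 21881 (.leaf 0x0) (.leaf 0x2000002))))) (.node 21887 (.node 21884 (.node 21883 (.leaf 0x0) (.leaf 0x0)) (.node 21885 (.leaf 0x2) (.node 21886 (.leaf 0x0) (.leaf 0x0)))) (.node 21890 (.node 21888 (.leaf 0x2) (.node 21889 (.leaf 0x0) (.leaf 0x0))) (.node 21891 (.leaf 0x20001) (.node 21892 (.leaf 0x40001) (.leaf 0x30001))))))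

def sgOS_2015 : Store := (.node 21904 (.node 21898 (.node 21895 (.node 21894 (.leaf 0x0) (.leaf 0x20001)) (.node 21896 (.leaf 0x20001) (.node 21897 (.leaf 0x10201000005) (.leaf 0x0)))) (.node 21901 (.node 21899 (.leaf 0x2) (.node 21900 (.leaf 0x104010001000006) (.leaf 0x10201000005))) (.node 21902 (.leaf 0x0) (.node 21903 (.leaf 0x103010201000006) (.leaf 0x2010002))))) (.node 21909 (.node 21906 (.node 21905 (.leaf 0x10400010004) (.leaf 0x10400010004)) (.node 21907 (.leaf 0x0) (.node 21908 (.leaf 0x2010002) (.leaf 0x10200010004)))) (.node 21912 (.node 21910 (.leaf 0x0) (.node 21911 (.leaf 0x20102000004) (.leaf 0x2))) (.node 21913 (.leaf 0x2) (.node 21914 (.leaf 0x0) (.leaf 0x20102000004))))))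

def sgOS_2016 : Store := (.node 21893 sgOS_2014 sgOS_2015)

def sgOS_2017 : Store := (.node 21872 sgOS_2013 sgOS_2016)

def sgOS_2018 : Store := (.node 21925 (.node 21920 (.node 21917 (.node 21916 (.leaf 0x0) (.leaf 0x0)) (.node 21918 (.leaf 0x102010003) (.node 21919 (.leaf 0x1000102010005) (.leaf 0x104010003)))) (.node 21922 (.node 21921 (.leaf 0x1020102010005) (.leaf 0x104010003)) (.node 21923 (.leaf 0x40001020004) (.node 21924 (.leaf 0x0) (.leaf 0x0))))) (.node 21930 (.node 21927 (.node 21926 (.leaf 0x2) (.leaf 0x10400010004)) (.node 21928 (.leaf 0x0) (.node 21929 (.leaf 0x0) (.leaf 0x0)))) (.node 21933 (.node 21931 (.leaf 0x0) (.node 21932 (.leaf 0x0) (.leaf 0x2))) (.node 21934 (.leaf 0x2) (.node 21935 (.leaf 0x100010201000006) (.leaf 0x0))))))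

def sgOS_2019 : Store := (.node 21947 (.node 21941 (.node 21938 (.node 21937 (.leaf 0x0) (.leaf 0x102010201000006)) (.node 21939 (.leaf 0x10201000005) (.node 21940 (.leaf 0x0) (.leaf 0x2)))) (.node 21944 (.node 21942 (.leaf 0x103010201000006) (.node 21943 (.leaf 0x10201000005) (.leaf 0x0))) (.node 21945 (.leaf 0x0) (.node 21946 (.leaf 0x0) (.leaf 0x100010201000006))))) (.node 21952 (.node 21949 (.node 21948 (.leaf 0x2) (.leaf 0x301020001000006)) (.node 21950 (.leaf 0x2) (.node 21951 (.leaf 0x100010201000006) (.leaf 0x0)))) (.node 21955 (.node 21953 (.leaf 0x0) (.node 21954 (.leaf 0x2000002) (.leaf 0x2))) (.node 21956 (.leaf 0x10200010004) (.node 21957 (.leaf 0x0) (.leaf 0x0))))))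

def sgOS_2020 : Store := (.node 21936 sgOS_2018 sgOS_2019)

def sgOS_2021 : Store := (.node 21969 (.node 21963 (.node 21960 (.node 21959 (.leaf 0x0) (.leaf 0x2)) (.node 21961 (.leaf 0x100010201000006) (.node 21962 (.leaf 0x2) (.leaf 0x0)))) (.node 21966 (.node 21964 (.leaf 0x0) (.node 21965 (.leaf 0x103010201000006) (.leaf 0x301020001000006))) (.node 21967 (.leaf 0x0) (.node 21968 (.leaf 0x40001) (.leaf 0x40001))))) (.node 21974 (.node 21971 (.node 21970 (.leaf 0x30001) (.leaf 0x0)) (.node 21972 (.leaf 0x40001) (.node 21973 (.leaf 0x30001) (.leaf 0x0)))) (.node 21977 (.node 21975 (.leaf 0x0) (.node 21976 (.leaf 0x20001) (.leaf 0x0))) (.node 21978 (.leaf 0x0) (.node 21979 (.leaf 0x0) (.leaf 0x0))))))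

def sgOS_2022 : Store := (.node 21991 (.node 21985 (.node 21982 (.node 21981 (.leaf 0x2) (.leaf 0x100010201000006)) (.node 21983 (.leaf 0x2) (.node 21984 (.leaf 0x10200010004) (.leaf 0x0)))) (.node 21988 (.node 21986 (.leaf 0x100010201000006) (.node 21987 (.leaf 0x103010201000006) (.leaf 0x0))) (.node 21989 (.leaf 0x0) (.node 21990 (.leaf 0x2) (.leaf 0x102010201000006))))) (.node 21996 (.node 21993 (.node 21992 (.leaf 0x0) (.leaf 0x2)) (.node 21994 (.leaf 0x100010201000006) (.node 21995 (.leaf 0x0) (.leaf 0x1020102010005)))) (.node 21999 (.node 21997 (.leaf 0x40001000004) (.node 21998 (.leaf 0x0) (.leaf 0x0))) (.node 22000 (.leaf 0x100010003) (.node 22001 (.leaf 0x0) (.leaf 0x1000001000005))))))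

def sgOS_2023 : Store := (.node 21980 sgOS_2021 sgOS_2022)

def sgOS_2024 : Store := (.node 21958 sgOS_2020 sgOS_2023)

def sgOS_2025 : Store := (.node 21915 sgOS_2017 sgOS_2024)

def sgOS_2026 : Store := (.node 22012 (.node 22007 (.node 22004 (.node 22003 (.leaf 0x10102030300000007) (.leaf 0x10201020005)) (.node 22005 (.leaf 0x0) (.node 22006 (.leaf 0x101020303020007) (.leaf 0x0)))) (.node 22009 (.node 22008 (.leaf 0x10102030300000007) (.leaf 0x0)) (.node 22010 (.leaf 0x0) (.node 22011 (.leaf 0x0) (.leaf 0x0))))) (.node 22017 (.node 22014 (.node 22013 (.leaf 0x0) (.leaf 0x2)) (.node 22015 (.leaf 0x301020001000006) (.node 22016 (.leaf 0x104010001000006) (.leaf 0x4000002)))) (.node 22020 (.node 22018 (.leaf 0x2) (.node 22019 (.leaf 0x103010201000006) (.leaf 0x100010001000006))) (.node 22021 (.leaf 0x0) (.node 22022 (.leaf 0x0) (.leaf 0x0))))))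

def sgOS_2027 : Store := (.node 22034 (.node 22028 (.node 22025 (.node 22024 (.leaf 0x1040102010005) (.leaf 0x0)) (.node 22026 (.leaf 0x10200010004) (.node 22027 (.leaf 0x0) (.leaf 0x1020102010005)))) (.node 22031 (.node 22029 (.leaf 0x100010201000006) (.node 22030 (.leaf 0x0) (.leaf 0x104010001000006))) (.node 22032 (.leaf 0x2) (.node 22033 (.leaf 0x0) (.leaf 0x0))))) (.node 22039 (.node 22036 (.node 22035 (.leaf 0x103010201000006) (.leaf 0x100010201000006)) (.node 22037 (.leaf 0x0) (.node 22038 (.leaf 0x1020102010005) (.leaf 0x4000002)))) (.node 22042 (.node 22040 (.leaf 0x0) (.node 22041 (.leaf 0x0) (.leaf 0x1030100010005))) (.node 22043 (.leaf 0x10200010004) (.node 22044 (.leaf 0x10200010004) (.leaf 0x10400010004))))))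

def sgOS_2028 : Store := (.node 22023 sgOS_2026 sgOS_2027)

def sgOS_2029 : Store := (.node 22056 (.node 22050 (.node 22047 (.node 22046 (.leaf 0x10400010004) (.leaf 0x0)) (.node 22048 (.leaf 0x10200010004) (.node 22049 (.leaf 0x10200010004) (.leaf 0x0)))) (.node 22053 (.node 22051 (.leaf 0x0) (.node 22052 (.leaf 0x102010001000006) (.leaf 0x2000002))) (.node 22054 (.leaf 0x0) (.node 22055 (.leaf 0x0) (.leaf 0x102010001000006))))) (.node 22061 (.node 22058 (.node 22057 (.leaf 0x2000002) (.leaf 0x0)) (.node 22059 (.leaf 0x0) (.node 22060 (.leaf 0x2) (.leaf 0x301020001000006)))) (.node 22064 (.node 22062 (.leaf 0x102000003) (.node 22063 (.leaf 0x0) (.leaf 0x301020001000006))) (.node 22065 (.leaf 0x0) (.node 22066 (.leaf 0x2000102000005) (.leaf 0x102010003))))))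

def sgOS_2030 : Store := (.node 22078 (.node 22072 (.node 22069 (.node 22068 (.leaf 0x102010003) (.leaf 0x0)) (.node 22070 (.leaf 0x30102000004) (.node 22071 (.leaf 0x10200010004) (.leaf 0x0)))) (.node 22075 (.node 22073 (.leaf 0x100010201000006) (.node 22074 (.leaf 0x0) (.leaf 0x0))) (.node 22076 (.leaf 0x0) (.node 22077 (.leaf 0x103010201000006) (.leaf 0x100010201000006))))) (.node 22083 (.node 22080 (.node 22079 (.leaf 0x0) (.leaf 0x103010201000006)) (.node 22081 (.leaf 0x2) (.node 22082 (.leaf 0x102010001000006) (.leaf 0x2)))) (.node 22086 (.node 22084 (.leaf 0x103010201000006) (.node 22085 (.leaf 0x10200010004) (.leaf 0x2))) (.node 22087 (.leaf 0x103010201000006) (.node 22088 (.leaf 0x0) (.leaf 0x102010001000006))))))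

def sgOS_2031 : Store := (.node 22067 sgOS_2029 sgOS_2030)

def sgOS_2032 : Store := (.node 22045 sgOS_2028 sgOS_2031)

def sgOS_2033 : Store := (.node 22099 (.node 22094 (.node 22091 (.node 22090 (.leaf 0x0) (.leaf 0x103010201000006)) (.node 22092 (.leaf 0x10400010004) (.node 22093 (.leaf 0x2000002) (.leaf 0x4000002)))) (.node 22096 (.node 22095 (.leaf 0x4000002) (.leaf 0x0)) (.node 22097 (.leaf 0x2000002) (.node 22098 (.leaf 0x2000002) (.leaf 0x1))))) (.node 22104 (.node 22101 (.node 22100 (.leaf 0x0) (.leaf 0x40001)) (.node 22102 (.leaf 0x0) (.node 22103 (.leaf 0x1020001000006) (.leaf 0x0)))) (.node 22107 (.node 22105 (.leaf 0x0) (.node 22106 (.leaf 0x4000002) (.leaf 0x300000001000007))) (.node 22108 (.leaf 0x10201020100000007) (.node 22109 (.leaf 0x1020102030000000008) (.leaf 0x0))))))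

def sgOS_2034 : Store := (.node 22121 (.node 22115 (.node 22112 (.node 22111 (.leaf 0x102010001020006) (.leaf 0x0)) (.node 22113 (.leaf 0x102010005) (.node 22114 (.leaf 0x0) (.leaf 0x104010001000006)))) (.node 22118 (.node 22116 (.leaf 0x2) (.node 22117 (.leaf 0x100010001000006) (.leaf 0x0))) (.node 22119 (.leaf 0x103010201000006) (.node 22120 (.leaf 0x104010001000006) (.leaf 0x0))))) (.node 22126 (.node 22123 (.node 22122 (.leaf 0x30102000004) (.leaf 0x102010003)) (.node 22124 (.leaf 0x0) (.node 22125 (.leaf 0x0) (.leaf 0x2000102000005)))) (.node 22129 (.node 22127 (.leaf 0x102010003) (.node 22128 (.leaf 0x10102030300000008) (.leaf 0x0))) (.node 22130 (.leaf 0x10201020005) (.node 22131 (.leaf 0x0) (.leaf 0x0))))))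

def sgOS_2035 : Store := (.node 22110 sgOS_2033 sgOS_2034)

def sgOS_2036 : Store := (.node 22143 (.node 22137 (.node 22134 (.node 22133 (.leaf 0x0) (.leaf 0x0)) (.node 22135 (.leaf 0x102010003) (.node 22136 (.leaf 0x0) (.leaf 0x2)))) (.node 22140 (.node 22138 (.leaf 0x4000002) (.node 22139 (.leaf 0x102010003) (.leaf 0x0))) (.node 22141 (.leaf 0x0) (.node 22142 (.leaf 0x0) (.leaf 0x103010201000006))))) (.node 22148 (.node 22145 (.node 22144 (.leaf 0x0) (.leaf 0x0)) (.node 22146 (.leaf 0x0) (.node 22147 (.leaf 0x100010201000006) (.leaf 0x10200010004)))) (.node 22151 (.node 22149 (.leaf 0x30201020005) (.node 22150 (.leaf 0x30201000300010007) (.leaf 0x2030302030001000008))) (.node 22152 (.leaf 0x0) (.node 22153 (.leaf 0x20303020300010007) (.leaf 0x30201000300010007))))))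

def sgOS_2037 : Store := (.node 22165 (.node 22159 (.node 22156 (.node 22155 (.leaf 0x2030302030001000008) (.leaf 0x30102000004)) (.node 22157 (.leaf 0x4000102000005) (.node 22158 (.leaf 0x102000004) (.leaf 0x4010002)))) (.node 22162 (.node 22160 (.leaf 0x30102000004) (.node 22161 (.leaf 0x103010003) (.leaf 0x0))) (.node 22163 (.leaf 0x0) (.node 22164 (.leaf 0x1020102010005) (.leaf 0x0))))) (.node 22170 (.node 22167 (.node 22166 (.leaf 0x10200010004) (.leaf 0x0)) (.node 22168 (.leaf 0x1040102010005) (.node 22169 (.leaf 0x102010001000006) (.leaf 0x100010201020100000009)))) (.node 22173 (.node 22171 (.leaf 0x0) (.node 22172 (.leaf 0x30201020303000007) (.leaf 0x102010201000006))) (.node 22174 (.leaf 0x30201020303000007) (.node 22175 (.leaf 0x0) (.leaf 0x0))))))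

def sgOS_2038 : Store := (.node 22154 sgOS_2036 sgOS_2037)

def sgOS_2039 : Store := (.node 22132 sgOS_2035 sgOS_2038)

def sgOS_2040 : Store := (.node 22089 sgOS_2032 sgOS_2039)

def sgOS_2041 : Store := (.node 22002 sgOS_2025 sgOS_2040)

def sgOS_2042 : Store := (.node 21829 sgOS_2010 sgOS_2041)

def sgOS_2043 : Store := (.node 21483 sgOS_1979 sgOS_2042)

def sgOS_2044 : Store := (.node 20790 sgOS_1916 sgOS_2043)

def sgOS_2045 : Store := (.node 19404 sgOS_1789 sgOS_2044)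

def sgOS_2046 : Store := (.node 16632 sgOS_1534 sgOS_2045)

def sgOS : Store := (.node 11088 sgOS_1023 sgOS_2046)


end Cfsg.Agent.DCoset.HNLow
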