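import Cfsg.Agent.DCoset.HN.Table

/-! Generated by tools/dcoset/emit.py: representatives for the relator. -/

set_option Elab.async false

namespace Cfsg.Agent.DCoset.HNLow

open Cfsg.Agent.DCoset Cfsg.Agent.CosetCert

def cWS : Store := (.node 2 (.node 1 (.leaf 0x300030002020002000300030002020200020200020015) (.leaf 0x30300020200030300000a)) (.node 3 (.leaf 0x300030300020202000200020003000303000200020015) (.leaf 0x20200030300020200000a)))

def dWS_1 : Store := (.node 12 (.node 6 (.node 3 (.node 1 (.leaf 0x0) (.node 2 (.leaf 0x1) (.leaf 0x10001))) (.node 4 (.leaf 0x20001) (.node 5 (.leaf 0x30001) (.leaf 0x2)))) (.node 9 (.node 7 (.leaf 0x20002) (.node 8 (.leaf 0x30002) (.leaf 0x1020002))) (.node 10 (.leaf 0x1030002) (.node 11 (.leaf 0x2000002) (.leaf 0x2010002))))) (.node 18 (.node 15 (.node 13 (.leaf 0x2020002) (.node 14 (.leaf 0x3000002) (.leaf 0x3010002))) (.node 16 (.leaf 0x3030002) (.node 17 (.leaf 0x200000003) (.leaf 0x300000003)))) (.node 21 (.node 19 (.leaf 0x2000003) (.node 20 (.leaf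 0x102000003) (.leaf 0x2020003))) (.node 23 (.node 22 (.leaf 0x3000003) (.leaf 0x103000003)) (.node 24 (.leaf 0x3030003) (.leaf 0x102020003))))))

def dWS_2 : Store := (.node 37 (.node 31 (.node 28 (.node 26 (.leaf 0x103030003) (.node 27 (.leaf 0x200020003) (.leaf 0x201020003))) (.node 29 (.leaf 0x202000003) (.node 30 (.leaf 0x202010003) (.leaf 0x202020003)))) (.node 34 (.node 32 (.leaf 0x303000003) (.node 33 (.leaf 0x303010003) (.leaf 0x20200000004))) (.node 35 (.leaf 0x30300000004) (.node 36 (.leaf 0x200020004) (.leaf 0x10200020004))))) (.node 43 (.node 40 (.node 38 (.leaf 0x202000004) (.node 39 (.leaf 0x10202000004) (.leaf 0x202020004))) (.node 41 (.leaf 0x303000004) (.node 42 (.leaf 0x10303000004) (.leaf 0x10202020004)))) (.node 46 (.node 44 (.leaf 0x20200020004) (.node 45 (.leaf 0x20200030004) (.leaf 0x20201020004))) (.node 48 (.node 47 (.leaf 0x20201030004) (.leaf 0x20202000004)) (.node 49 (.leaf 0x20202010004) (.leaf 0x30300030004))))))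

def dWS_3 : Store := (.node 25 dWS_1 dWS_2)

def dWS_4 : Store := (.node 62 (.node 56 (.node 53 (.node 51 (.leaf 0x30301030004) (.node 52 (.leaf 0x2020200000005) (.leaf 0x20200020005))) (.node 54 (.leaf 0x20200030005) (.node 55 (.leaf 0x1020200020005) (.leaf 0x1020200030005)))) (.node 59 (.node 57 (.leaf 0x20202000005) (.node 58 (.leaf 0x1020202000005) (.leaf 0x30300030005))) (.node 60 (.leaf 0x1030300030005) (.node 61 (.leaf 0x2020002000005) (.leaf 0x2020102000005))))) (.node 68 (.node 65 (.node 63 (.leaf 0x2020002020005) (.node 64 (.leaf 0x2020102020005) (.leaf 0x2020200020005))) (.node 66 (.leaf 0x2020200030005) (.node 67 (.leaf 0x2020201020005) (.leaf 0x2020201030005)))) (.node 71 (.node 69 (.leaf 0x3030003000005) (.node 70 (.leaf 0x3030103000005) (.leaf 0x2020002000006))) (.node 73 (.node 72 (.leaf 0x102020002000006) (.leaf 0x2020002020006)) (.node 74 (.leaf 0x102020002020006) (.leaf 0x2020200020006))))))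

def dWS_5 : Store := (.node 87 (.node 81 (.node 78 (.node 76 (.leaf 0x2020200030006) (.node 77 (.leaf 0x102020200020006) (.leaf 0x102020200030006))) (.node 79 (.leaf 0x3030003000006) (.node 80 (.leaf 0x103030003000006) (.leaf 0x202000200020006)))) (.node 84 (.node 82 (.leaf 0x202000200030006) (.node 83 (.leaf 0x202010200020006) (.leaf 0x202010200030006))) (.node 85 (.leaf 0x202000202000006) (.node 86 (.leaf 0x202010202000006) (.leaf 0x202020002000006))))) (.node 93 (.node 90 (.node 88 (.leaf 0x202020102000006) (.node 89 (.leaf 0x202020003000006) (.leaf 0x202020103000006))) (.node 91 (.leaf 0x303000300020006) (.node 92 (.leaf 0x303000300030006) (.leaf 0x303010300020006)))) (.node 96 (.node 94 (.leaf 0x303010300030006) (.node 95 (.leaf 0x202000200020007) (.leaf 0x202000200030007))) (.node 98 (.node 97 (.leaf 0x10202000200020007) (.leaf 0x10202000200030007)) (.node 99 (.leaf 0x202000202000007) (.leaf 0x10202000202000007))))))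

def dWS_6 : Store := (.node 75 dWS_4 dWS_5)

def dWS_7 : Store := (.node 50 dWS_3 dWS_6)

def dWS_8 : Store := (.node 112 (.node 106 (.node 103 (.node 101 (.leaf 0x202020002000007) (.node 102 (.leaf 0x10202020002000007) (.leaf 0x202020003000007))) (.node 104 (.leaf 0x10202020003000007) (.node 105 (.leaf 0x303000300020007) (.leaf 0x303000300030007)))) (.node 109 (.node 107 (.leaf 0x10303000300020007) (.node 108 (.leaf 0x10303000300030007) (.leaf 0x20200020002000007))) (.node 110 (.leaf 0x20201020002000007) (.node 111 (.leaf 0x20200020003000007) (.leaf 0x20201020003000007))))) (.node 118 (.node 115 (.node 113 (.leaf 0x20202000200020007) (.node 114 (.leaf 0x20202000200030007) (.leaf 0x20202010200020007))) (.node 116 (.leaf 0x20202010200030007) (.node 117 (.leaf 0x20202000300020007) (.leaf 0x20202000300030007)))) (.node 121 (.node 119 (.leaf 0x20202010300020007) (.node 120 (.leaf 0x20202010300030007) (.leaf 0x30300030002000007))) (.node 123 (.node 122 (.leaf 0x30301030002000007) (.leaf 0x30300030003000007))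 (.node 124 (.leaf 0x30301030003000007) (.leaf 0x20200020002000008))))))

def dWS_9 : Store := (.node 137 (.node 131 (.node 128 (.node 126 (.leaf 0x1020200020002000008) (.node 127 (.leaf 0x20200020003000008) (.leaf 0x1020200020003000008))) (.node 129 (.leaf 0x20202000200020008) (.node 130 (.leaf 0x20202000200030008) (.leaf 0x1020202000200020008)))) (.node 134 (.node 132 (.leaf 0x1020202000200030008) (.node 133 (.leaf 0x20202000300020008) (.leaf 0x20202000300030008))) (.node 135 (.leaf 0x1020202000300020008) (.node 136 (.leaf 0x1020202000300030008) (.leaf 0x30300030002000008))))) (.node 143 (.node 140 (.node 138 (.leaf 0x1030300030002000008) (.node 139 (.leaf 0x30300030003000008) (.leaf 0x1030300030003000008))) (.node 141 (.leaf 0x2020200030002000008) (.node 142 (.leaf 0x2020002000300030008) (.leaf 0x2020201030002000008)))) (.node 146 (.node 144 (.leaf 0x2020102000300030008) (.node 145 (.leaf 0x2020200020002020008) (.leaf 0x2020200020003000008))) (.node 148 (.node 147 (.leaf 0x2020201020003000008)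 (.leaf 0x2020200020003030008)) (.node 149 (.leaf 0x2020201020002020008) (.leaf 0x2020201020003030008))))))

def dWS_10 : Store := (.node 125 dWS_8 dWS_9)

def dWS_11 : Store := (.node 162 (.node 156 (.node 153 (.node 151 (.leaf 0x2020200030002020008) (.node 152 (.leaf 0x2020200030003030008) (.leaf 0x2020201030002020008))) (.node 154 (.leaf 0x2020201030003030008) (.node 155 (.leaf 0x3030003000200020008) (.leaf 0x3030103000200020008)))) (.node 159 (.node 157 (.leaf 0x202000200030003000009) (.node 158 (.leaf 0x202010200030003000009) (.leaf 0x202020002000202000009))) (.node 160 (.leaf 0x202020102000202000009) (.node 161 (.leaf 0x202020003000303000009) (.leaf 0x202020103000303000009))))) (.node 168 (.node 165 (.node 163 (.leaf 0x303000300020002000009) (.node 164 (.leaf 0x303010300020002000009) (.leaf 0x2020002000300030002000a))) (.node 166 (.leaf 0x2020102000300030002000a) (.node 167 (.leaf 0x2020200020002020002000a) (.leaf 0x2020201020002020002000a)))) (.node 171 (.node 169 (.leaf 0x2020200030003030003000a)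 (.node 170 (.leaf 0x2020201030003030003000a) (.leaf 0x3030003000200020003000a))) (.node 173 (.node 172 (.leaf 0x3030103000200020003000a) (.leaf 0x202000200030003000200000b)) (.node 174 (.leaf 0x202010200030003000200000b) (.leaf 0x202000200030003000202000b))))))

def dWS_12 : Store := (.node 187 (.node 181 (.node 178 (.node 176 (.leaf 0x202010200030003000202000b) (.node 177 (.leaf 0x202020002000202000200000b) (.leaf 0x202020102000202000200000b))) (.node 179 (.leaf 0x202020002000202000202000b) (.node 180 (.leaf 0x202020102000202000202000b) (.leaf 0x202020003000303000300000b)))) (.node 184 (.node 182 (.leaf 0x202020103000303000300000b) (.node 183 (.leaf 0x202020003000303000303000b) (.leaf 0x202020103000303000303000b))) (.node 185 (.leaf 0x303000300020002000300000b) (.node 186 (.leaf 0x303010300020002000300000b) (.leaf 0x303000300020002000303000b))))) (.node 193 (.node 190 (.node 188 (.leaf 0x303010300020002000303000b) (.node 189 (.leaf 0x20200020003000300020002000c) (.leaf 0x20201020003000300020002000c)))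 (.node 191 (.leaf 0x20202000200020200020002000c) (.node 192 (.leaf 0x20202010200020200020002000c) (.leaf 0x2020002000300030002000200000d)))) (.node 196 (.node 194 (.leaf 0x2020102000300030002000200000d) (.node 195 (.leaf 0x2020200020002020002000200000d) (.leaf 0x2020201020002020002000200000d))) (.node 198 (.node 197 (.leaf 0x202000200030003000200020002000e) (.leaf 0x202010200030003000200020002000e)) (.node 199 (.leaf 0x202020002000202000200020002000e) (.leaf 0x202020102000202000200020002000e))))))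

def dWS_13 : Store := (.node 175 dWS_11 dWS_12)

def dWS_14 : Store := (.node 150 dWS_10 dWS_13)

def dWS : Store := (.node 100 dWS_7 dWS_14)

def dDS : Store := (.node 3 (.node 1 (.leaf 0x5f0061005e0060005b005d005a005c0082008e0080008c00920087009100850051005300500052008b0089008a0088004b004d004a004c00480049007f007d007e007c007b0079007a00780041004300400042003e003f006f006d006e006c003a003b0067006500660064006300620034003600310032005900570058005600550054002b002d004f004e0027002a002c0047002e0046003000450044001e00330037003d0035003c003900170019003800140018001a001b0020001d000f0022002f000c00210024002300290026002800070009002500060008000e000b001f00040011001c0003001000160013001500120002000d000a000000050001) (.node 2 (.leaf 0x2e0046002c0047002f004400450033001e0035003c0037003d003800190017003900180014001b001a001f001c0022000f00300021000c0023002400280025002900090007002600080006000d000a002000110004001d0010000300150012001600130001000e000b00050000000200c500c400c600c700be00bf00bc00bd00c300c200c100c000b600b700aa00ab00bb00ba00a800a900af00ae00a600a700b200b300a400a500b900b800b500b400b100b000ad00ac009a009b0097009900900094008d008f00a300a200a1008300a000810086009f008400710073009e009d0074009c00760069006b0068006a00700093007200950096007500980077)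 (.leaf 0xba00bb00a900a800ae00af00a700a600b300b200a500a400b800b900b400b500b000b100ac00ad009b009a0099009700940090008f008d00a200a300a0008100a100830084009e008600730071009f009c0076009d0074006b0069006a0068007200950070009300980077009600750061005f0060005e005d005b005c005a0080008c0082008e00910085009200870053005100520050008a0088008b0089004d004b004c004a00490048007e007c007f007d007a0078007b00790043004100420040003f003e006e006c006f006d003b003a0066006400670065006200630036003400320031005800560059005700540055002d002b004e004f002a0027))) (.node 5 (.node 4 (.leaf 0x8e008c007b007a004f0061004e005f0086008400820080006300620047006b004600690045005300440051007600740072007000550054003d005d003c005b006a00680039004d0038004b003b003a0060005e005c005a00300043002f0041003200310052005000290028004c004a002600490025004800220020001f00420040001d003f001c003e0019003700350017003600340016001500110033002e002c000f002d002b000e000d0009002a000700130012002700240023000500210004000b000a001e001b001a000200180001001400100000000c00080006000300c400c500c700c600bf00be00bd00bc00c200c300c000c100b700b600ab00aa)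 (.leaf 0x1400370035001300120033001000320031000c002e002c000b000a002a000800270024002300060016001500220005001e001b001a0003000e000d00190002001700010011000f000000090007000400c300c200c100c000c700c600c500c400b500b400b900b800ab00aa00ad00ac00a900a800b100b000b700b600bf00be00bb00ba00bd00bc00a300a200a100a000b300b200af00ae009d009c009f009e00a700a600a500a40087008500770088007500890073007e007100790078007f006f0083006e0081007d007c0097009900670092006600910065008f0064008d00930095008b008a006d006c009b009a00590098005800960057009400560090)) (.node 6 (.leaf 0x9f009e009d009c00ab00aa00a900a800a100a000a300a2007900780088007600890074007e0072007f0086008400700082006f0080006e007d007c00960098009b0067009a0066008e0065008c006400900094008b008a006d006c0092009100990059009700580095005700930056008f008d007b007a0060004f005e004e008700850083008100630062006a0047006800460052004500500044007700750073007100550054005c003d005a003c006b0069004c0039004a0038003600340061005f005d005b004200300040002f002d002b0053005100490048004d004b00290026002800250021003f003e004300410020001d001f001c0018003b003a)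 (.leaf 0xc300c200c100c000c700c600c500c400b100b000ad00ac00af00ae00bd00bc00b300b200bf00be00a700a600b500b400a500a400b900b800bb00ba00b700b6))))

noncomputable def dD : Nat → Nat := get16 dDS

def dCS_1 : Store := (.node 12 (.node 6 (.node 3 (.node 1 (.leaf 0x0) (.node 2 (.leaf 0x0) (.leaf 0x0))) (.node 4 (.leaf 0x0) (.node 5 (.leaf 0x0) (.leaf 0x0)))) (.node 9 (.node 7 (.leaf 0x0) (.node 8 (.leaf 0x0) (.leaf 0x0))) (.node 10 (.leaf 0x0) (.node 11 (.leaf 0x0) (.leaf 0x0))))) (.node 18 (.node 15 (.node 13 (.leaf 0x0) (.node 14 (.leaf 0x0) (.leaf 0x0))) (.node 16 (.leaf 0x0) (.node 17 (.leaf 0x0) (.leaf 0x0)))) (.node 21 (.node 19 (.leaf 0x0) (.node 20 (.leaf 0x0) (.leaf 0x0))) (.node 23 (.node 22 (.leaf 0x0) (.leaf 0x0)) (.node 24 (.leaf 0x0) (.leaf 0x0))))))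

def dCS_2 : Store := (.node 37 (.node 31 (.node 28 (.node 26 (.leaf 0x0) (.node 27 (.leaf 0x30003000100000007) (.leaf 0x30003000100000007))) (.node 29 (.leaf 0x0) (.node 30 (.leaf 0x0) (.leaf 0x0)))) (.node 34 (.node 32 (.leaf 0x0) (.node 33 (.leaf 0x0) (.leaf 0x0))) (.node 35 (.leaf 0x0) (.node 36 (.leaf 0x10003020201000007) (.leaf 0x10003020201000007))))) (.node 43 (.node 40 (.node 38 (.leaf 0x0) (.node 39 (.leaf 0x0) (.leaf 0x0))) (.node 41 (.leaf 0x0) (.node 42 (.leaf 0x0) (.leaf 0x0)))) (.node 46 (.node 44 (.leaf 0x0) (.node 45 (.leaf 0x30003000100000007) (.leaf 0x0))) (.node 48 (.node 47 (.leaf 0x30003000100000007) (.leaf 0x0)) (.node 49 (.leaf 0x0) (.leaf 0x0))))))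

def dCS_3 : Store := (.node 25 dCS_1 dCS_2)

def dCS_4 : Store := (.node 62 (.node 56 (.node 53 (.node 51 (.leaf 0x0) (.node 52 (.leaf 0x0) (.leaf 0x0))) (.node 54 (.leaf 0x10003020201000007) (.node 55 (.leaf 0x0) (.leaf 0x10003020201000007)))) (.node 59 (.node 57 (.leaf 0x0) (.node 58 (.leaf 0x0) (.leaf 0x0))) (.node 60 (.leaf 0x0) (.node 61 (.leaf 0x0) (.leaf 0x0))))) (.node 68 (.node 65 (.node 63 (.leaf 0x0) (.node 64 (.leaf 0x0) (.leaf 0x0))) (.node 66 (.leaf 0x0) (.node 67 (.leaf 0x0) (.leaf 0x0)))) (.node 71 (.node 69 (.leaf 0x0) (.node 70 (.leaf 0x0) (.leaf 0x0))) (.node 73 (.node 72 (.leaf 0x0) (.leaf 0x0)) (.node 74 (.leaf 0x0) (.leaf 0x0))))))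

def dCS_5 : Store := (.node 87 (.node 81 (.node 78 (.node 76 (.leaf 0x0) (.node 77 (.leaf 0x0) (.leaf 0x0))) (.node 79 (.leaf 0x0) (.node 80 (.leaf 0x0) (.leaf 0x0)))) (.node 84 (.node 82 (.leaf 0x0) (.node 83 (.leaf 0x0) (.leaf 0x0))) (.node 85 (.leaf 0x0) (.node 86 (.leaf 0x0) (.leaf 0x0))))) (.node 93 (.node 90 (.node 88 (.leaf 0x0) (.node 89 (.leaf 0x0) (.leaf 0x0))) (.node 91 (.leaf 0x0) (.node 92 (.leaf 0x0) (.leaf 0x0)))) (.node 96 (.node 94 (.leaf 0x0) (.node 95 (.leaf 0x0) (.leaf 0x0))) (.node 98 (.node 97 (.leaf 0x0) (.leaf 0x0)) (.node 99 (.leaf 0x0) (.leaf 0x0))))))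

def dCS_6 : Store := (.node 75 dCS_4 dCS_5)

def dCS_7 : Store := (.node 50 dCS_3 dCS_6)

def dCS_8 : Store := (.node 112 (.node 106 (.node 103 (.node 101 (.leaf 0x0) (.node 102 (.leaf 0x0) (.leaf 0x0))) (.node 104 (.leaf 0x0) (.node 105 (.leaf 0x0) (.leaf 0x0)))) (.node 109 (.node 107 (.leaf 0x0) (.node 108 (.leaf 0x0) (.leaf 0x0))) (.node 110 (.leaf 0x0) (.node 111 (.leaf 0x0) (.leaf 0x0))))) (.node 118 (.node 115 (.node 113 (.leaf 0x102020300010006) (.node 114 (.leaf 0x0) (.leaf 0x102020300010006))) (.node 116 (.leaf 0x0) (.node 117 (.leaf 0x0) (.leaf 0x302010000030006)))) (.node 121 (.node 119 (.leaf 0x0) (.node 120 (.leaf 0x302010000030006) (.leaf 0x0))) (.node 123 (.node 122 (.leaf 0x0) (.leaf 0x0)) (.node 124 (.leaf 0x0) (.leaf 0x0))))))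

def dCS_9 : Store := (.node 137 (.node 131 (.node 128 (.node 126 (.leaf 0x0) (.node 127 (.leaf 0x0) (.leaf 0x0))) (.node 129 (.leaf 0x102020300010006) (.node 130 (.leaf 0x20101000102030007) (.leaf 0x102020300010006)))) (.node 134 (.node 132 (.leaf 0x20101000102030007) (.node 133 (.leaf 0x101000100030300000009) (.leaf 0x302010000030006))) (.node 135 (.leaf 0x101000100030300000009) (.node 136 (.leaf 0x302010000030006) (.leaf 0x0))))) (.node 143 (.node 140 (.node 138 (.leaf 0x0) (.node 139 (.leaf 0x0) (.leaf 0x0))) (.node 141 (.leaf 0x0) (.node 142 (.leaf 0x0) (.leaf 0x0)))) (.node 146 (.node 144 (.leaf 0x0) (.node 145 (.leaf 0x0) (.leaf 0x0))) (.node 148 (.node 147 (.leaf 0x0) (.leaf 0x203020101020203000009)) (.node 149 (.leaf 0x0) (.leaf 0x203020101020203000009))))))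

def dCS_10 : Store := (.node 125 dCS_8 dCS_9)

def dCS_11 : Store := (.node 162 (.node 156 (.node 153 (.node 151 (.leaf 0x10003020303000007) (.node 152 (.leaf 0x0) (.leaf 0x10003020303000007))) (.node 154 (.leaf 0x0) (.node 155 (.leaf 0x0) (.leaf 0x0)))) (.node 159 (.node 157 (.leaf 0x0) (.node 158 (.leaf 0x0) (.leaf 0x0))) (.node 160 (.leaf 0x0) (.node 161 (.leaf 0x0) (.leaf 0x0))))) (.node 168 (.node 165 (.node 163 (.leaf 0x0) (.node 164 (.leaf 0x0) (.leaf 0x0))) (.node 166 (.leaf 0x0) (.node 167 (.leaf 0x0) (.leaf 0x0)))) (.node 171 (.node 169 (.leaf 0x0) (.node 170 (.leaf 0x0) (.leaf 0x0))) (.node 173 (.node 172 (.leaf 0x0) (.leaf 0x0)) (.node 174 (.leaf 0x0) (.leaf 0x30202010100010008))))))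

def dCS_12 : Store := (.node 187 (.node 181 (.node 178 (.node 176 (.leaf 0x30202010100010008) (.node 177 (.leaf 0x0) (.leaf 0x0))) (.node 179 (.leaf 0x1000101020300000008) (.node 180 (.leaf 0x1000101020300000008) (.leaf 0x0)))) (.node 184 (.node 182 (.leaf 0x0) (.node 183 (.leaf 0x1000001020300030008) (.leaf 0x1000001020300030008))) (.node 185 (.leaf 0x0) (.node 186 (.leaf 0x0) (.leaf 0x1020100030202030008))))) (.node 193 (.node 190 (.node 188 (.leaf 0x1020100030202030008) (.node 189 (.leaf 0x0) (.leaf 0x0))) (.node 191 (.leaf 0x0) (.node 192 (.leaf 0x0) (.leaf 0x0)))) (.node 196 (.node 194 (.leaf 0x0) (.node 195 (.leaf 0x0) (.leaf 0x0))) (.node 198 (.node 197 (.leaf 0x1) (.leaf 0x1)) (.node 199 (.leaf 0x20001) (.leaf 0x20001))))))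

def dCS_13 : Store := (.node 175 dCS_11 dCS_12)

def dCS_14 : Store := (.node 150 dCS_10 dCS_13)

def dCS_15 : Store := (.node 100 dCS_7 dCS_14)

def dCS_16 : Store := (.node 212 (.node 206 (.node 203 (.node 201 (.leaf 0x0) (.node 202 (.leaf 0x0) (.leaf 0x0))) (.node 204 (.leaf 0x0) (.node 205 (.leaf 0x0) (.leaf 0x0)))) (.node 209 (.node 207 (.leaf 0x0) (.node 208 (.leaf 0x0) (.leaf 0x0))) (.node 210 (.leaf 0x0) (.node 211 (.leaf 0x0) (.leaf 0x0))))) (.node 218 (.node 215 (.node 213 (.leaf 0x0) (.node 214 (.leaf 0x0) (.leaf 0x0))) (.node 216 (.leaf 0x0) (.node 217 (.leaf 0x0) (.leaf 0x0)))) (.node 221 (.node 219 (.leaf 0x0) (.node 220 (.leaf 0x0) (.leaf 0x0))) (.node 223 (.node 222 (.leaf 0x0) (.leaf 0x0)) (.node 224 (.leaf 0x0) (.leaf 0x0))))))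

def dCS_17 : Store := (.node 237 (.node 231 (.node 228 (.node 226 (.leaf 0x0) (.node 227 (.leaf 0x30003000100000007) (.leaf 0x30003000100000007))) (.node 229 (.leaf 0x0) (.node 230 (.leaf 0x0) (.leaf 0x0)))) (.node 234 (.node 232 (.leaf 0x0) (.node 233 (.leaf 0x0) (.leaf 0x0))) (.node 235 (.leaf 0x0) (.node 236 (.leaf 0x10003020201000007) (.leaf 0x10003020201000007))))) (.node 243 (.node 240 (.node 238 (.leaf 0x0) (.node 239 (.leaf 0x0) (.leaf 0x0))) (.node 241 (.leaf 0x0) (.node 242 (.leaf 0x0) (.leaf 0x0)))) (.node 246 (.node 244 (.leaf 0x0) (.node 245 (.leaf 0x30003000100000007) (.leaf 0x0))) (.node 248 (.node 247 (.leaf 0x30003000100000007) (.leaf 0x0)) (.node 249 (.leaf 0x0) (.leaf 0x0))))))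

def dCS_18 : Store := (.node 225 dCS_16 dCS_17)

def dCS_19 : Store := (.node 262 (.node 256 (.node 253 (.node 251 (.leaf 0x0) (.node 252 (.leaf 0x0) (.leaf 0x0))) (.node 254 (.leaf 0x10003020201000007) (.node 255 (.leaf 0x0) (.leaf 0x10003020201000007)))) (.node 259 (.node 257 (.leaf 0x0) (.node 258 (.leaf 0x0) (.leaf 0x0))) (.node 260 (.leaf 0x0) (.node 261 (.leaf 0x0) (.leaf 0x0))))) (.node 268 (.node 265 (.node 263 (.leaf 0x0) (.node 264 (.leaf 0x0) (.leaf 0x0))) (.node 266 (.leaf 0x0) (.node 267 (.leaf 0x0) (.leaf 0x0)))) (.node 271 (.node 269 (.leaf 0x0) (.node 270 (.leaf 0x0) (.leaf 0x0))) (.node 273 (.node 272 (.leaf 0x0) (.leaf 0x0)) (.node 274 (.leaf 0x0) (.leaf 0x0))))))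

def dCS_20 : Store := (.node 287 (.node 281 (.node 278 (.node 276 (.leaf 0x0) (.node 277 (.leaf 0x0) (.leaf 0x0))) (.node 279 (.leaf 0x0) (.node 280 (.leaf 0x0) (.leaf 0x0)))) (.node 284 (.node 282 (.leaf 0x0) (.node 283 (.leaf 0x0) (.leaf 0x0))) (.node 285 (.leaf 0x0) (.node 286 (.leaf 0x0) (.leaf 0x0))))) (.node 293 (.node 290 (.node 288 (.leaf 0x0) (.node 289 (.leaf 0x0) (.leaf 0x0))) (.node 291 (.leaf 0x0) (.node 292 (.leaf 0x0) (.leaf 0x0)))) (.node 296 (.node 294 (.leaf 0x0) (.node 295 (.leaf 0x0) (.leaf 0x0))) (.node 298 (.node 297 (.leaf 0x0) (.leaf 0x0)) (.node 299 (.leaf 0x0) (.leaf 0x0))))))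

def dCS_21 : Store := (.node 275 dCS_19 dCS_20)

def dCS_22 : Store := (.node 250 dCS_18 dCS_21)

def dCS_23 : Store := (.node 312 (.node 306 (.node 303 (.node 301 (.leaf 0x0) (.node 302 (.leaf 0x0) (.leaf 0x0))) (.node 304 (.leaf 0x0) (.node 305 (.leaf 0x0) (.leaf 0x0)))) (.node 309 (.node 307 (.leaf 0x0) (.node 308 (.leaf 0x0) (.leaf 0x0))) (.node 310 (.leaf 0x0) (.node 311 (.leaf 0x0) (.leaf 0x0))))) (.node 318 (.node 315 (.node 313 (.leaf 0x102020300010006) (.node 314 (.leaf 0x0) (.leaf 0x102020300010006))) (.node 316 (.leaf 0x0) (.node 317 (.leaf 0x0) (.leaf 0x302010000030006)))) (.node 321 (.node 319 (.leaf 0x0) (.node 320 (.leaf 0x302010000030006) (.leaf 0x0))) (.node 323 (.node 322 (.leaf 0x0) (.leaf 0x0)) (.node 324 (.leaf 0x0) (.leaf 0x0))))))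

def dCS_24 : Store := (.node 337 (.node 331 (.node 328 (.node 326 (.leaf 0x0) (.node 327 (.leaf 0x0) (.leaf 0x0))) (.node 329 (.leaf 0x102020300010006) (.node 330 (.leaf 0x20101000102030007) (.leaf 0x102020300010006)))) (.node 334 (.node 332 (.leaf 0x20101000102030007) (.node 333 (.leaf 0x101000100030300000009) (.leaf 0x302010000030006))) (.node 335 (.leaf 0x101000100030300000009) (.node 336 (.leaf 0x302010000030006) (.leaf 0x0))))) (.node 343 (.node 340 (.node 338 (.leaf 0x0) (.node 339 (.leaf 0x0) (.leaf 0x0))) (.node 341 (.leaf 0x0) (.node 342 (.leaf 0x0) (.leaf 0x0)))) (.node 346 (.node 344 (.leaf 0x0) (.node 345 (.leaf 0x0) (.leaf 0x0))) (.node 348 (.node 347 (.leaf 0x0) (.leaf 0x203020101020203000009)) (.node 349 (.leaf 0x0) (.leaf 0x203020101020203000009))))))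

def dCS_25 : Store := (.node 325 dCS_23 dCS_24)

def dCS_26 : Store := (.node 362 (.node 356 (.node 353 (.node 351 (.leaf 0x10003020303000007) (.node 352 (.leaf 0x0) (.leaf 0x10003020303000007))) (.node 354 (.leaf 0x0) (.node 355 (.leaf 0x0) (.leaf 0x0)))) (.node 359 (.node 357 (.leaf 0x0) (.node 358 (.leaf 0x0) (.leaf 0x0))) (.node 360 (.leaf 0x0) (.node 361 (.leaf 0x0) (.leaf 0x0))))) (.node 368 (.node 365 (.node 363 (.leaf 0x0) (.node 364 (.leaf 0x0) (.leaf 0x0))) (.node 366 (.leaf 0x0) (.node 367 (.leaf 0x0) (.leaf 0x0)))) (.node 371 (.node 369 (.leaf 0x0) (.node 370 (.leaf 0x0) (.leaf 0x0))) (.node 373 (.node 372 (.leaf 0x0) (.leaf 0x0)) (.node 374 (.leaf 0x0) (.leaf 0x30202010100010008))))))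

def dCS_27 : Store := (.node 387 (.node 381 (.node 378 (.node 376 (.leaf 0x30202010100010008) (.node 377 (.leaf 0x0) (.leaf 0x0))) (.node 379 (.leaf 0x1000101020300000008) (.node 380 (.leaf 0x1000101020300000008) (.leaf 0x0)))) (.node 384 (.node 382 (.leaf 0x0) (.node 383 (.leaf 0x1000001020300030008) (.leaf 0x1000001020300030008))) (.node 385 (.leaf 0x0) (.node 386 (.leaf 0x0) (.leaf 0x1020100030202030008))))) (.node 393 (.node 390 (.node 388 (.leaf 0x1020100030202030008) (.node 389 (.leaf 0x0) (.leaf 0x0))) (.node 391 (.leaf 0x0) (.node 392 (.leaf 0x0) (.leaf 0x0)))) (.node 396 (.node 394 (.leaf 0x0) (.node 395 (.leaf 0x0) (.leaf 0x0))) (.node 398 (.node 397 (.leaf 0x1) (.leaf 0x1)) (.node 399 (.leaf 0x20001) (.leaf 0x20001))))))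

def dCS_28 : Store := (.node 375 dCS_26 dCS_27)

def dCS_29 : Store := (.node 350 dCS_25 dCS_28)

def dCS_30 : Store := (.node 300 dCS_22 dCS_29)

def dCS_31 : Store := (.node 200 dCS_15 dCS_30)

def dCS_32 : Store := (.node 412 (.node 406 (.node 403 (.node 401 (.leaf 0x0) (.node 402 (.leaf 0x0) (.leaf 0x0))) (.node 404 (.leaf 0x0) (.node 405 (.leaf 0x0) (.leaf 0x0)))) (.node 409 (.node 407 (.leaf 0x0) (.node 408 (.leaf 0x0) (.leaf 0x0))) (.node 410 (.leaf 0x0) (.node 411 (.leaf 0x0) (.leaf 0x0))))) (.node 418 (.node 415 (.node 413 (.leaf 0x0) (.node 414 (.leaf 0x20300030202010007) (.leaf 0x20300030202010007))) (.node 416 (.leaf 0x0) (.node 417 (.leaf 0x0) (.leaf 0x0)))) (.node 421 (.node 419 (.leaf 0x0) (.node 420 (.leaf 0x0) (.leaf 0x0))) (.node 423 (.node 422 (.leaf 0x20300030202010007) (.leaf 0x20300030202010007)) (.node 424 (.leaf 0x0) (.leaf 0x0))))))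

def dCS_33 : Store := (.node 437 (.node 431 (.node 428 (.node 426 (.leaf 0x0) (.node 427 (.leaf 0x201000100000006) (.leaf 0x201000100000006))) (.node 429 (.leaf 0x0) (.node 430 (.leaf 0x0) (.leaf 0x0)))) (.node 434 (.node 432 (.leaf 0x20300030203030007) (.node 433 (.leaf 0x20300030203030007) (.leaf 0x0))) (.node 435 (.leaf 0x0) (.node 436 (.leaf 0x20302030001000007) (.leaf 0x20302030001000007))))) (.node 443 (.node 440 (.node 438 (.leaf 0x0) (.node 439 (.leaf 0x0) (.leaf 0x0))) (.node 441 (.leaf 0x10001) (.node 442 (.leaf 0x10001) (.leaf 0x0)))) (.node 446 (.node 444 (.leaf 0x0) (.node 445 (.leaf 0x0) (.leaf 0x0))) (.node 448 (.node 447 (.leaf 0x0) (.leaf 0x0)) (.node 449 (.leaf 0x0) (.leaf 0x0))))))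

def dCS_34 : Store := (.node 425 dCS_32 dCS_33)

def dCS_35 : Store := (.node 462 (.node 456 (.node 453 (.node 451 (.leaf 0x0) (.node 452 (.leaf 0x0) (.leaf 0x0))) (.node 454 (.leaf 0x0) (.node 455 (.leaf 0x0) (.leaf 0x0)))) (.node 459 (.node 457 (.leaf 0x0) (.node 458 (.leaf 0x0) (.leaf 0x0))) (.node 460 (.leaf 0x0) (.node 461 (.leaf 0x0) (.leaf 0x0))))) (.node 468 (.node 465 (.node 463 (.leaf 0x10100010201000007) (.node 464 (.leaf 0x10100010201000007) (.leaf 0x1000005))) (.node 466 (.leaf 0x0) (.node 467 (.leaf 0x1000005) (.leaf 0x0)))) (.node 471 (.node 469 (.leaf 0x0) (.node 470 (.leaf 0x0) (.leaf 0x0))) (.node 473 (.node 472 (.leaf 0x0) (.leaf 0x30001)) (.node 474 (.leaf 0x30001) (.leaf 0x10102030003020007))))))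

def dCS_36 : Store := (.node 487 (.node 481 (.node 478 (.node 476 (.leaf 0x0) (.node 477 (.leaf 0x10102030003020007) (.leaf 0x0))) (.node 479 (.leaf 0x0) (.node 480 (.leaf 0x0) (.leaf 0x300010003030203020009)))) (.node 484 (.node 482 (.leaf 0x0) (.node 483 (.leaf 0x300010003030203020009) (.leaf 0x0))) (.node 485 (.leaf 0x101020300030006) (.node 486 (.leaf 0x101020300030006) (.leaf 0x0))))) (.node 493 (.node 490 (.node 488 (.leaf 0x0) (.node 489 (.leaf 0x0) (.leaf 0x0))) (.node 491 (.leaf 0x102010003020203000009) (.node 492 (.leaf 0x0) (.leaf 0x102010003020203000009)))) (.node 496 (.node 494 (.leaf 0x0) (.node 495 (.leaf 0x30201020302020007) (.leaf 0x0))) (.node 498 (.node 497 (.leaf 0x30201020302020007) (.leaf 0x0)) (.node 499 (.leaf 0x1000300010001000008) (.leaf 0x1000300010001000008))))))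

def dCS_37 : Store := (.node 475 dCS_35 dCS_36)

def dCS_38 : Store := (.node 450 dCS_34 dCS_37)

def dCS_39 : Store := (.node 512 (.node 506 (.node 503 (.node 501 (.leaf 0x0) (.node 502 (.leaf 0x0) (.leaf 0x0))) (.node 504 (.leaf 0x0) (.node 505 (.leaf 0x1000300010007) (.leaf 0x0)))) (.node 509 (.node 507 (.leaf 0x1000300010007) (.node 508 (.leaf 0x0) (.leaf 0x30000010201000007))) (.node 510 (.leaf 0x30000010201000007) (.node 511 (.leaf 0x0) (.leaf 0x0))))) (.node 518 (.node 515 (.node 513 (.leaf 0x0) (.node 514 (.leaf 0x0) (.leaf 0x0))) (.node 516 (.leaf 0x0) (.node 517 (.leaf 0x0) (.leaf 0x0)))) (.node 521 (.node 519 (.leaf 0x0) (.node 520 (.leaf 0x0) (.leaf 0x0))) (.node 523 (.node 522 (.leaf 0x0) (.leaf 0x1020100000006)) (.node 524 (.leaf 0x1020100000006) (.leaf 0x30000010201000007))))))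

def dCS_40 : Store := (.node 537 (.node 531 (.node 528 (.node 526 (.leaf 0x30000010201000007) (.node 527 (.leaf 0x101000100030300000009) (.leaf 0x101000100030300000009))) (.node 529 (.leaf 0x100030202010006) (.node 530 (.leaf 0x0) (.leaf 0x100030202010006)))) (.node 534 (.node 532 (.leaf 0x0) (.node 533 (.leaf 0x303000001020006) (.leaf 0x0))) (.node 535 (.leaf 0x303000001020006) (.node 536 (.leaf 0x0) (.leaf 0x20101000102030007))))) (.node 543 (.node 540 (.node 538 (.leaf 0x20101000102030007) (.node 539 (.leaf 0x30001010203020008) (.leaf 0x30001010203020008))) (.node 541 (.leaf 0x300000102030006) (.node 542 (.leaf 0x0) (.leaf 0x300000102030006)))) (.node 546 (.node 544 (.leaf 0x0) (.node 545 (.leaf 0x203020101020203000009) (.leaf 0x0))) (.node 548 (.node 547 (.leaf 0x0) (.leaf 0x0)) (.node 549 (.leaf 0x203020101020203000009) (.leaf 0x0))))))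

def dCS_41 : Store := (.node 525 dCS_39 dCS_40)

def dCS_42 : Store := (.node 562 (.node 556 (.node 553 (.node 551 (.leaf 0x10003020303000007) (.node 552 (.leaf 0x0) (.leaf 0x10003020303000007))) (.node 554 (.leaf 0x0) (.node 555 (.leaf 0x3020201010006) (.leaf 0x3020201010006)))) (.node 559 (.node 557 (.leaf 0x0) (.node 558 (.leaf 0x0) (.leaf 0x0))) (.node 560 (.leaf 0x0) (.node 561 (.leaf 0x3000100010007) (.leaf 0x3000100010007))))) (.node 568 (.node 565 (.node 563 (.leaf 0x20302030300030007) (.node 564 (.leaf 0x20302030300030007) (.leaf 0x0))) (.node 566 (.leaf 0x0) (.node 567 (.leaf 0x0) (.leaf 0x0)))) (.node 571 (.node 569 (.leaf 0x0) (.node 570 (.leaf 0x0) (.leaf 0x0))) (.node 573 (.node 572 (.leaf 0x0) (.leaf 0x0)) (.node 574 (.leaf 0x0) (.leaf 0x10201010001000007))))))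

def dCS_43 : Store := (.node 587 (.node 581 (.node 578 (.node 576 (.leaf 0x10201010001000007) (.node 577 (.leaf 0x0) (.leaf 0x0))) (.node 579 (.leaf 0x30203000003000007) (.node 580 (.leaf 0x30203000003000007) (.leaf 0x30000010003000007)))) (.node 584 (.node 582 (.leaf 0x30000010003000007) (.node 583 (.leaf 0x0) (.leaf 0x0))) (.node 585 (.leaf 0x102010003020203000009) (.node 586 (.leaf 0x102010003020203000009) (.leaf 0x0))))) (.node 593 (.node 590 (.node 588 (.leaf 0x0) (.node 589 (.leaf 0x3000303020302010008) (.leaf 0x3000303020302010008))) (.node 591 (.leaf 0x30000010201000007) (.node 592 (.leaf 0x30000010201000007) (.leaf 0x0)))) (.node 596 (.node 594 (.leaf 0x0) (.node 595 (.leaf 0x0) (.leaf 0x0))) (.node 598 (.node 597 (.leaf 0x10201000001010008) (.leaf 0x10201000001010008)) (.node 599 (.leaf 0x10102010004) (.leaf 0x10102010004))))))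

def dCS_44 : Store := (.node 575 dCS_42 dCS_43)

def dCS_45 : Store := (.node 550 dCS_41 dCS_44)

def dCS_46 : Store := (.node 500 dCS_38 dCS_45)

def dCS_47 : Store := (.node 612 (.node 606 (.node 603 (.node 601 (.leaf 0x0) (.node 602 (.leaf 0x0) (.leaf 0x0))) (.node 604 (.leaf 0x0) (.node 605 (.leaf 0x0) (.leaf 0x0)))) (.node 609 (.node 607 (.leaf 0x0) (.node 608 (.leaf 0x0) (.leaf 0x0))) (.node 610 (.leaf 0x0) (.node 611 (.leaf 0x30000010201000007) (.leaf 0x30000010201000007))))) (.node 618 (.node 615 (.node 613 (.leaf 0x0) (.node 614 (.leaf 0x202030203000006) (.leaf 0x202030203000006))) (.node 616 (.leaf 0x0) (.node 617 (.leaf 0x0) (.leaf 0x0)))) (.node 621 (.node 619 (.leaf 0x30000010201000007) (.node 620 (.leaf 0x30000010201000007) (.leaf 0x0))) (.node 623 (.node 622 (.leaf 0x20302010001000007) (.leaf 0x20302010001000007)) (.node 624 (.leaf 0x0) (.leaf 0x0))))))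

def dCS_48 : Store := (.node 637 (.node 631 (.node 628 (.node 626 (.leaf 0x0) (.node 627 (.leaf 0x0) (.leaf 0x0))) (.node 629 (.leaf 0x0) (.node 630 (.leaf 0x0) (.leaf 0x0)))) (.node 634 (.node 632 (.leaf 0x0) (.node 633 (.leaf 0x0) (.leaf 0x0))) (.node 635 (.leaf 0x0) (.node 636 (.leaf 0x0) (.leaf 0x0))))) (.node 643 (.node 640 (.node 638 (.leaf 0x0) (.node 639 (.leaf 0x0) (.leaf 0x0))) (.node 641 (.leaf 0x0) (.node 642 (.leaf 0x0) (.leaf 0x0)))) (.node 646 (.node 644 (.leaf 0x0) (.node 645 (.leaf 0x10100010201000007) (.leaf 0x0))) (.node 648 (.node 647 (.leaf 0x10100010201000007) (.leaf 0x0)) (.node 649 (.leaf 0x0) (.leaf 0x20300030203030007))))))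

def dCS_49 : Store := (.node 625 dCS_47 dCS_48)

def dCS_50 : Store := (.node 662 (.node 656 (.node 653 (.node 651 (.leaf 0x20300030203030007) (.node 652 (.leaf 0x0) (.leaf 0x0))) (.node 654 (.leaf 0x30001) (.node 655 (.leaf 0x0) (.leaf 0x30001)))) (.node 659 (.node 657 (.leaf 0x0) (.node 658 (.leaf 0x0) (.leaf 0x10001))) (.node 660 (.leaf 0x10001) (.node 661 (.leaf 0x0) (.leaf 0x0))))) (.node 668 (.node 665 (.node 663 (.leaf 0x0) (.node 664 (.leaf 0x0) (.leaf 0x0))) (.node 666 (.leaf 0x1000005) (.node 667 (.leaf 0x0) (.leaf 0x1000005)))) (.node 671 (.node 669 (.leaf 0x0) (.node 670 (.leaf 0x0) (.leaf 0x0))) (.node 673 (.node 672 (.leaf 0x0) (.leaf 0x0)) (.node 674 (.leaf 0x0) (.leaf 0x0))))))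

def dCS_51 : Store := (.node 687 (.node 681 (.node 678 (.node 676 (.leaf 0x10102030003020007) (.node 677 (.leaf 0x0) (.leaf 0x10102030003020007))) (.node 679 (.leaf 0x0) (.node 680 (.leaf 0x0) (.leaf 0x0)))) (.node 684 (.node 682 (.leaf 0x300010003030203020009) (.node 683 (.leaf 0x0) (.leaf 0x300010003030203020009))) (.node 685 (.leaf 0x102010003030006) (.node 686 (.leaf 0x102010003030006) (.leaf 0x0))))) (.node 693 (.node 690 (.node 688 (.leaf 0x0) (.node 689 (.leaf 0x0) (.leaf 0x0))) (.node 691 (.leaf 0x0) (.node 692 (.leaf 0x102010003020203000009) (.leaf 0x0)))) (.node 696 (.node 694 (.leaf 0x102010003020203000009) (.node 695 (.leaf 0x0) (.leaf 0x30201020302020007))) (.node 698 (.node 697 (.leaf 0x0) (.leaf 0x30201020302020007)) (.node 699 (.leaf 0x10001000300030008) (.leaf 0x10001000300030008))))))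

def dCS_52 : Store := (.node 675 dCS_50 dCS_51)

def dCS_53 : Store := (.node 650 dCS_49 dCS_52)

def dCS_54 : Store := (.node 712 (.node 706 (.node 703 (.node 701 (.leaf 0x0) (.node 702 (.leaf 0x0) (.leaf 0x0))) (.node 704 (.leaf 0x0) (.node 705 (.leaf 0x0) (.leaf 0x1000300010007)))) (.node 709 (.node 707 (.leaf 0x0) (.node 708 (.leaf 0x1000300010007) (.leaf 0x202030003020006))) (.node 710 (.leaf 0x202030003020006) (.node 711 (.leaf 0x0) (.leaf 0x0))))) (.node 718 (.node 715 (.node 713 (.leaf 0x0) (.node 714 (.leaf 0x0) (.leaf 0x0))) (.node 716 (.leaf 0x0) (.node 717 (.leaf 0x0) (.leaf 0x0)))) (.node 721 (.node 719 (.leaf 0x0) (.node 720 (.leaf 0x0) (.leaf 0x0))) (.node 723 (.node 722 (.leaf 0x0) (.leaf 0x20300030202010007)) (.node 724 (.leaf 0x20300030202010007) (.leaf 0x10003030201020008))))))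

def dCS_55 : Store := (.node 737 (.node 731 (.node 728 (.node 726 (.leaf 0x10003030201020008) (.node 727 (.leaf 0x101000100030300000009) (.leaf 0x101000100030300000009))) (.node 729 (.leaf 0x0) (.node 730 (.leaf 0x100030202010006) (.leaf 0x0)))) (.node 734 (.node 732 (.leaf 0x100030202010006) (.node 733 (.leaf 0x0) (.leaf 0x303000001020006))) (.node 735 (.leaf 0x0) (.node 736 (.leaf 0x303000001020006) (.leaf 0x20101000102030007))))) (.node 743 (.node 740 (.node 738 (.leaf 0x20101000102030007) (.node 739 (.leaf 0x20300030202010007) (.leaf 0x20300030202010007))) (.node 741 (.leaf 0x0) (.node 742 (.leaf 0x300000102030006) (.leaf 0x0)))) (.node 746 (.node 744 (.leaf 0x300000102030006) (.node 745 (.leaf 0x0) (.leaf 0x3020201010006))) (.node 748 (.node 747 (.leaf 0x3020201010006) (.leaf 0x203020101020203000009)) (.node 749 (.leaf 0x0) (.leaf 0x203020101020203000009))))))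

def dCS_56 : Store := (.node 725 dCS_54 dCS_55)

def dCS_57 : Store := (.node 762 (.node 756 (.node 753 (.node 751 (.leaf 0x0) (.node 752 (.leaf 0x10003020303000007) (.leaf 0x0))) (.node 754 (.leaf 0x10003020303000007) (.node 755 (.leaf 0x0) (.leaf 0x0)))) (.node 759 (.node 757 (.leaf 0x10201010001000007) (.node 758 (.leaf 0x10201010001000007) (.leaf 0x30203000003000007))) (.node 760 (.leaf 0x30203000003000007) (.node 761 (.leaf 0x0) (.leaf 0x0))))) (.node 768 (.node 765 (.node 763 (.leaf 0x0) (.node 764 (.leaf 0x0) (.leaf 0x0))) (.node 766 (.leaf 0x0) (.node 767 (.leaf 0x0) (.leaf 0x0)))) (.node 771 (.node 769 (.leaf 0x0) (.node 770 (.leaf 0x0) (.leaf 0x0))) (.node 773 (.node 772 (.leaf 0x0) (.leaf 0x300010003030203020009)) (.node 774 (.leaf 0x300010003030203020009) (.leaf 0x0))))))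

def dCS_58 : Store := (.node 787 (.node 781 (.node 778 (.node 776 (.leaf 0x0) (.node 777 (.leaf 0x20102030202010007) (.leaf 0x20102030202010007))) (.node 779 (.leaf 0x0) (.node 780 (.leaf 0x0) (.leaf 0x20300030202010007)))) (.node 784 (.node 782 (.leaf 0x20300030202010007) (.node 783 (.leaf 0x3000100010007) (.leaf 0x3000100010007))) (.node 785 (.leaf 0x3000100010102010008) (.node 786 (.leaf 0x3000100010102010008) (.leaf 0x20302030300030007))))) (.node 793 (.node 790 (.node 788 (.leaf 0x20302030300030007) (.node 789 (.leaf 0x0) (.leaf 0x0))) (.node 791 (.leaf 0x0) (.node 792 (.leaf 0x0) (.leaf 0x3030202030003020008)))) (.node 796 (.node 794 (.leaf 0x3030202030003020008) (.node 795 (.leaf 0x30003030004) (.leaf 0x30003030004))) (.node 798 (.node 797 (.leaf 0x0) (.leaf 0x0)) (.node 799 (.leaf 0x0) (.leaf 0x0))))))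

def dCS_59 : Store := (.node 775 dCS_57 dCS_58)

def dCS_60 : Store := (.node 750 dCS_56 dCS_59)

def dCS_61 : Store := (.node 700 dCS_53 dCS_60)

def dCS_62 : Store := (.node 600 dCS_46 dCS_61)

def dCS : Store := (.node 400 dCS_31 dCS_62)


end Cfsg.Agent.DCoset.HNLow
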