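import Cfsg.Agent.DCoset.HNLow.Data0
import Cfsg.Agent.DCoset.HNLow.Data1
import Cfsg.Agent.DCoset.HNLow.Data2
import Cfsg.Agent.DCoset.HNLow.Data3
import Cfsg.Agent.DCoset.HNLow.Data4
import Cfsg.Agent.DCoset.HNLow.Rel0
import Cfsg.Agent.DCoset.HNLow.Rel1
import Cfsg.Agent.DCoset.HNLow.Rel2
import Cfsg.Agent.DCoset.HNLow.Chains
import Cfsg.Agent.DCoset.LowerAct

/-! Generated by tools/dcoset/emit.py: the tables of the action. -/

set_option Elab.async false

namespace Cfsg.Agent.DCoset.HNLow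

open Cfsg.Agent.DCoset Cfsg.Agent.CosetCert

/-- The tables. -/
noncomputable def low : Low where
  n := 9
  nStab := nStab
  stabW m a := stabWS.get (Nat.add (Nat.mul m 7) a)
  nU := 4
  nP := 352
  ep := epS.get
  leftD g c := leftD (Nat.add (Nat.mul g 352) c)
  leftU g c := leftUS.get (Nat.add (Nat.mul g 352) c)
  nR := 33
  rM := rM
  rW := rWS.get
  rC := rC
  lJ m c := lJ (Nat.add (Nat.mul m 352) c)
  lS m c := lSS.get (Nat.add (Nat.mul m 352) c)
  lU m c := lUS.get (Nat.add (Nat.mul m 352) c)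
  sgD m c a := sgD (Nat.add (Nat.mul (Nat.add (Nat.mul m 352) c) 7) a)
  sgV m c a := sgVS.get (Nat.add (Nat.mul (Nat.add (Nat.mul m 352) c) 7) a)
  sgO m c a := sgOS.get (Nat.add (Nat.mul (Nat.add (Nat.mul m 352) c) 7) a)
  nW := nW
  wW j b := wWS.get (Nat.add (Nat.mul j 6) b)
  wS j b := wSS.get (Nat.add (Nat.mul j 6) b)
  hw := hwS.get
  inB p := Nat.blt p 4
  nT := 5
  piLet g t := Bool.rec (Bool.rec t (Nat.mod (Nat.mul 3 t) 5) (Nat.beq g 1)) (Nat.mod (Nat.mul 2 t) 5) (Nat.beq g 0)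
  mulT s t := Nat.mod (Nat.add s t) 5
  iM j t := iM (Nat.add (Nat.mul j 5) t)
  iW j t := iWS.get (Nat.add (Nat.mul j 5) t)
  cpS j b t := cpSS.get (Nat.add (Nat.mul (Nat.add (Nat.mul j 6) b) 5) t)
  mC j s t := mC (Nat.add (Nat.mul (Nat.add (Nat.mul j 5) s) 5) t)
  mU j s t := mUS.get (Nat.add (Nat.mul (Nat.add (Nat.mul j 5) s) 5) t)
  mS j s t := mSS.get (Nat.add (Nat.mul (Nat.add (Nat.mul j 5) s) 5) t)

/-- The tables for the relator. -/
noncomputable def lrel : LowRel where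
  nC := 4
  cW := cWS.get
  nD := 200
  dW := dWS.get
  dD g e := dD (Nat.add (Nat.mul g 200) e)
  dC g e := dCS.get (Nat.add (Nat.mul g 200) e)
  zW := 0x40001
  τ := 1
  len := 3
  hC j e i := hC (Nat.add (Nat.mul (Nat.add (Nat.mul j 200) e) 3) i)
  hU j e i := hUS.get (Nat.add (Nat.mul (Nat.add (Nat.mul j 200) e) 3) i)
  hS j e := hSS.get (Nat.add (Nat.mul j 200) e)

/-- The chain bounding the subgroup at the chosen root of node `m`. -/
noncomputable def closed (m : Nat) : Closed where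
  K := cK m
  nG l := cNG (Nat.add (Nat.mul m 7) l)
  gW l a := cGWS.get (Nat.add (Nat.mul (Nat.add (Nat.mul m 7) l) 6) a)
  size l := cSize (Nat.add (Nat.mul m 7) l)
  rep l i := cRepS.get (Nat.add (Nat.mul (Nat.add (Nat.mul m 7) l) 30) i)
  cD l i a := cCD (Nat.add (Nat.mul (Nat.add (Nat.mul (Nat.add (Nat.mul m 7) l) 30) i) 6) a)
  cH l i a := cCHS.get (Nat.add (Nat.mul (Nat.add (Nat.mul (Nat.add (Nat.mul m 7) l) 30) i) 6) a)

end Cfsg.Agent.DCoset.HNLow
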